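import Cfsg.Agent.Lib.Known.QuadClassify
import Cfsg.Agent.Lib.Classical.Symplectic.Geometry
import Cfsg.Agent.Lib.Classical.Symplectic.Matrix
import Cfsg.Agent.Lib.Classical.Unitary.Count
import Cfsg.Agent.Lib.Classical.Unitary.Matrix
import Cfsg.Prelude.Def_LieClassical

/-!
# Field-extension embeddings of classical groups
-/

set_option autoImplicit false

open Matrix Cfsg CfsgLib.Classical CfsgLib.Known.QuadClassify

namespace CfsgLib.Known.FieldExtension

/-- The field with `q` elements as the fixed field of the field with `q ^ 2` elements. -/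
theorem exists_embedding {K F : Type*} [Field K] [Fintype K] [Field F] [Fintype F] {q : ℕ}
    (hK : Fintype.card K = q ^ 2) (hF : Fintype.card F = q) :
    ∃ ι : F →+* K, ∀ x : K, x ^ q = x ↔ x ∈ ι.range := by
  classical
  haveI : Fintype (Herm.fixedSub (Herm.powHom hK)) := Fintype.ofFinite _
  let e : F ≃+* Herm.fixedSub (Herm.powHom hK) :=
    FiniteField.ringEquivOfCardEq (by rw [hF, ← Nat.card_eq_fintype_card, Herm.card_fixed_powHom hK])
  refine ⟨(Herm.fixedSub (Herm.powHom hK)).subtype.comp e.toRingHom, fun x => ⟨fun hx => ?_, ?_⟩⟩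
  · refine ⟨e.symm ⟨x, hx⟩, ?_⟩
    show (e (e.symm ⟨x, hx⟩) : K) = x
    rw [e.apply_symm_apply]
  · rintro ⟨b, rfl⟩
    exact (e b).2

theorem finrank_eq_two {K F : Type*} [Field K] [Fintype K] [Field F] [Fintype F] [Algebra F K] {q : ℕ}
    (hK : Fintype.card K = q ^ 2) (hF : Fintype.card F = q) : Module.finrank F K = 2 := by
  have h := Module.card_eq_pow_finrank (K := F) (V := K)
  rw [hK, hF] at h
  exact (Nat.pow_right_injective (hF ▸ Fintype.one_lt_card) h).symm

theorem finrank_space {K F : Type*} [Field K] [Fintype K] [Field F] [Fintype F] [Algebra F K] {q : ℕ}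
    (hK : Fintype.card K = q ^ 2) (hF : Fintype.card F = q) (ι : Type*) [Fintype ι] :
    Module.finrank F (ι → K) = 2 * Fintype.card ι := by
  rw [Module.finrank_pi_fintype, finrank_eq_two hK hF, Finset.sum_const, Finset.card_univ, smul_eq_mul, mul_comm]

variable {F : Type*} [Field F]

/-- A matrix group acting on `κ → K` by scalar restriction. -/
noncomputable def resHom {K : Type*} [Field K] [Algebra F K] (κ : Type*) [Fintype κ] [DecidableEq κ] :
    Matrix.GeneralLinearGroup κ K →* ((κ → K) ≃ₗ[F] (κ → K)) where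
  toFun g := ((LinearMap.GeneralLinearGroup.generalLinearEquiv K (κ → K))
    (Matrix.GeneralLinearGroup.toLin g)).restrictScalars F
  map_one' := by rw [map_one, map_one]; rfl
  map_mul' g h := by rw [map_mul, map_mul]; rfl

theorem resHom_apply {K : Type*} [Field K] [Algebra F K] {κ : Type*} [Fintype κ] [DecidableEq κ]
    (g : Matrix.GeneralLinearGroup κ K) (v : κ → K) :
    resHom (F := F) κ g v = (g : Matrix κ κ K) *ᵥ v := rfl

theorem resHom_injective {K : Type*} [Field K] [Algebra F K] {κ : Type*} [Fintype κ] [DecidableEq κ] :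
    Function.Injective (resHom (F := F) (K := K) κ) := by
  intro g h hgh
  refine Units.ext (Matrix.ext fun i j => ?_)
  have := congrFun (LinearEquiv.congr_fun hgh (Pi.single j 1)) i
  simpa [resHom_apply] using this

/-- An injective action by isometries of a non-degenerate alternating form lands in the symplectic group. -/
theorem exists_hom_symplectic {G V : Type*} [Group G] [AddCommGroup V] [Module F V] [FiniteDimensional F V]
    (B : LinearMap.BilinForm F V) (hA : B.IsAlt) (hB : B.Nondegenerate) {m : ℕ} (hd : Module.finrank F V = 2 * m)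
    (ρ : G →* (V ≃ₗ[F] V)) (hρ : Function.Injective ρ) (hpres : ∀ g u v, B (ρ g u) (ρ g v) = B u v) :
    ∃ φ : G →* ↥(Matrix.symplecticGroup (Fin m) F), Function.Injective φ := by
  obtain ⟨e, he⟩ := Symp.exists_isometry hA hB (Symp.sympBil_isAlt m F) (Symp.sympBil_nondegenerate m F)
    (by rw [Symp.finrank_sympSpace, hd])
  let ψ : G →* Symp.Sp (Symp.sympBil m F) :=
    { toFun := fun g => ⟨e.symm.trans ((ρ g).trans e), fun u v => by
        obtain ⟨a, rfl⟩ := e.surjective u
        obtain ⟨b, rfl⟩ := e.surjective v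
        simp [he, hpres]⟩
      map_one' := by ext v; simp
      map_mul' := fun g h => by ext v; simp }
  refine ⟨(Symp.symplecticEquiv m F).symm.toMonoidHom.comp ψ, (Symp.symplecticEquiv m F).symm.injective.comp ?_⟩
  intro g h hgh
  refine hρ (LinearEquiv.ext fun v => e.injective ?_)
  have h' := LinearEquiv.congr_fun (congrArg Subtype.val hgh) (e v)
  simpa [ψ] using h'

/-- An injective action by isometries of a quadratic space lands in the matrix isometry group. -/
theorem exists_hom_isometry {G V : Type*} [Group G] [AddCommGroup V] [Module F V] {ι : Type} [Fintype ι]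
    [DecidableEq ι] (Q : V → F) (Q₀ : (ι → F) → F) (e : (ι → F) ≃ₗ[F] V) (he : ∀ v, Q (e v) = Q₀ v)
    (ρ : G →* (V ≃ₗ[F] V)) (hρ : Function.Injective ρ) (hpres : ∀ g v, Q (ρ g v) = Q v) :
    ∃ φ : G →* ↥(Cfsg.isometryGroup F Q₀), Function.Injective φ := by
  let ψ : G →* Iso F (fun u _ : ι → F => Q₀ u) :=
    { toFun := fun g => ⟨e.trans ((ρ g).trans e.symm), fun u _ => by
        show Q₀ (e.symm (ρ g (e u))) = Q₀ u
        rw [← he, e.apply_symm_apply, hpres, he]⟩
      map_one' := by ext v; simp
      map_mul' := fun g h => by ext v; simp }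
  refine ⟨(preservingEquivIso (fun u _ : ι → F => Q₀ u)).symm.toMonoidHom.comp ψ,
    (preservingEquivIso (fun u _ : ι → F => Q₀ u)).symm.injective.comp ?_⟩
  intro g h hgh
  refine hρ (LinearEquiv.ext fun v => ?_)
  obtain ⟨a, rfl⟩ := e.surjective v
  have h' := LinearEquiv.congr_fun (congrArg Subtype.val hgh) a
  exact e.symm.injective h'

theorem exists_functional {V : Type*} [AddCommGroup V] [Module F V] {x y : V} (hy : y ∉ Submodule.span F {x}) :
    ∃ φ : V →ₗ[F] F, φ x = 0 ∧ φ y = 1 := by
  obtain ⟨φ, hφy, hφ⟩ := Submodule.exists_dual_map_eq_bot_of_notMem hy inferInstance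
  refine ⟨(φ y)⁻¹ • φ, ?_, by simp [hφy]⟩
  have : φ x = 0 := by
    rw [← Submodule.mem_bot (R := F), ← hφ]
    exact Submodule.mem_map_of_mem (Submodule.mem_span_singleton_self x)
  simp [this]

variable {K : Type*} [Field K] [Fintype K] [Fintype F] [Algebra F K] {q : ℕ}

/-- The form `φ (h(u,v))`. -/
noncomputable def traceForm (hK : Fintype.card K = q ^ 2) (hF : ∀ a : F, algebraMap F K a ^ q = algebraMap F K a)
    (φ : K →ₗ[F] F) (m : ℕ) : LinearMap.BilinForm F (Fin m → K) :=
  LinearMap.mk₂ F (fun u v => φ (hermForm m K q u v))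
    (fun u u' v => by rw [← map_add]; simp [hermForm, add_mul, Finset.sum_add_distrib])
    (fun a u v => by
      rw [← map_smul]
      simp [hermForm, Algebra.smul_def, Finset.mul_sum, mul_assoc])
    (fun u v v' => by
      rw [← map_add]
      congr 1
      simp only [hermForm, Pi.add_apply, ← Finset.sum_add_distrib]
      refine Finset.sum_congr rfl fun i _ => ?_
      rw [← mul_add, ← Herm.powHom_apply hK (v i + v' i), map_add, Herm.powHom_apply, Herm.powHom_apply])
    (fun a u v => by
      rw [← map_smul]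
      simp [hermForm, Algebra.smul_def, Finset.mul_sum, mul_pow, hF, mul_left_comm])

theorem traceForm_apply (hK : Fintype.card K = q ^ 2) (hF : ∀ a : F, algebraMap F K a ^ q = algebraMap F K a)
    (φ : K →ₗ[F] F) (m : ℕ) (u v : Fin m → K) : traceForm hK hF φ m u v = φ (hermForm m K q u v) := rfl

omit [Fintype F] [Algebra F K] in
theorem herm_smul_left (m : ℕ) (k : K) (u v : Fin m → K) : hermForm m K q (k • u) v = k * hermForm m K q u v := by
  simp [hermForm, Finset.mul_sum, mul_assoc]

omit [Fintype F] [Algebra F K] in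
theorem herm_conj (hK : Fintype.card K = q ^ 2) (m : ℕ) (u v : Fin m → K) :
    hermForm m K q u v ^ q = hermForm m K q v u := by
  show Herm.powHom hK (hermForm m K q u v) = _
  simp only [hermForm, map_sum, map_mul]
  refine Finset.sum_congr rfl fun i _ => ?_
  rw [← Herm.powHom_apply hK (v i), (Herm.powHom_isInvol hK).invol, Herm.powHom_apply]
  ring

omit [Fintype F] [Algebra F K] in
theorem herm_nondeg (hK : Fintype.card K = q ^ 2) {m : ℕ} {u : Fin m → K} (h : ∀ v, hermForm m K q u v = 0) :
    u = 0 := by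
  classical
  funext i
  have hi := h (Pi.single i 1)
  have hq : q ≠ 0 := by have := two_le_of_card_sq hK; omega
  simpa [hermForm, Pi.single_apply, ite_pow, hq] using hi

theorem gu_symplectic (hK : Fintype.card K = q ^ 2) (hF : Fintype.card F = q)
    (hι : ∀ x : K, x ^ q = x ↔ x ∈ (algebraMap F K).range) (m : ℕ) :
    ∃ φ : ↥(Cfsg.GU m K q) →* ↥(Matrix.symplecticGroup (Fin m) F), Function.Injective φ := by
  have hF' : ∀ a : F, algebraMap F K a ^ q = algebraMap F K a := fun a => (hι _).2 ⟨a, rfl⟩
  obtain ⟨y, hy⟩ : ∃ y : K, y ∉ Submodule.span F {(1 : K)} := by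
    by_contra hcon
    push Not at hcon
    have := Submodule.finrank_mono (show (⊤ : Submodule F K) ≤ Submodule.span F {(1 : K)} from fun x _ => hcon x)
    rw [finrank_top, finrank_span_singleton one_ne_zero, finrank_eq_two hK hF] at this
    omega
  obtain ⟨ℓ, hℓ1, hℓy⟩ := exists_functional hy
  have key : ∀ u, (∀ v, ℓ (hermForm m K q u v) = 0) → u = 0 := by
    refine fun u h => herm_nondeg hK fun v => ?_
    by_contra hc
    have := h ((y * (hermForm m K q u v)⁻¹) ^ q • v)
    have he : hermForm m K q u ((y * (hermForm m K q u v)⁻¹) ^ q • v) = y := by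
      rw [← herm_conj hK, herm_smul_left, mul_pow, herm_conj hK, ← pow_mul, ← sq, ← hK, FiniteField.pow_card]
      field_simp
    rw [he, hℓy] at this
    exact one_ne_zero this
  refine exists_hom_symplectic (traceForm hK hF' ℓ m) ?_ ⟨fun u h => key u h, fun u h => key u fun v => ?_⟩
    (finrank_space hK hF (Fin m) |>.trans (by rw [Fintype.card_fin]))
    ((resHom (Fin m)).comp (Cfsg.GU m K q).subtype) (resHom_injective.comp Subtype.val_injective)
    fun g u v => congrArg ℓ (g.2 u v)
  · intro u
    obtain ⟨a, ha⟩ := (hι _).1 (herm_conj hK m u u)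
    show ℓ (hermForm m K q u u) = 0
    rw [← ha, Algebra.algebraMap_eq_smul_one, map_smul, hℓ1, smul_zero]
  · have hvu := h v
    rw [traceForm_apply] at hvu
    obtain ⟨a, ha⟩ := (hι (hermForm m K q u v + hermForm m K q v u)).1 (by
      rw [← Herm.powHom_apply hK, map_add, Herm.powHom_apply, Herm.powHom_apply, herm_conj hK, herm_conj hK,
        add_comm])
    have hsum := congrArg ℓ ha
    rw [Algebra.algebraMap_eq_smul_one, map_smul, hℓ1, smul_zero, map_add, hvu, add_zero] at hsum
    exact hsum.symm

/-- The norm form `h(v,v)` as a quadratic space over the subfield. -/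
theorem gu_quadratic (hK : Fintype.card K = q ^ 2) (hF : Fintype.card F = q)
    (hι : ∀ x : K, x ^ q = x ↔ x ∈ (algebraMap F K).range) (m : ℕ) :
    ∃ (Q : QuadraticForm F (Fin m → K)), (QuadraticMap.polarBilin Q).Nondegenerate ∧
      (∀ g : ↥(Cfsg.GU m K q), ∀ v, Q (resHom (F := F) (Fin m) (g : Matrix.GeneralLinearGroup (Fin m) K) v) = Q v) ∧
      Nat.card {v : Fin m → K // Q v = 0} = Herm.normCount (Herm.powHom hK) m 0 := by
  have hF' : ∀ a : F, algebraMap F K a ^ q = algebraMap F K a := fun a => (hι _).2 ⟨a, rfl⟩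
  obtain ⟨ℓ, hℓ⟩ : ∃ ℓ : K →ₗ[F] F, ℓ 1 = 1 := by
    have h1 : (1 : K) ∉ Submodule.span F {(0 : K)} := by simp
    obtain ⟨ℓ, -, hℓ⟩ := exists_functional h1
    exact ⟨ℓ, hℓ⟩
  let Q : QuadraticForm F (Fin m → K) := LinearMap.BilinMap.toQuadraticMap (traceForm hK hF' ℓ m)
  have hQ : ∀ v, Q v = ℓ (hermForm m K q v v) := fun _ => rfl
  have hℓa : ∀ a : F, ℓ (algebraMap F K a) = a := fun a => by
    rw [Algebra.algebraMap_eq_smul_one, map_smul, hℓ, smul_eq_mul, mul_one]
  have hzero : ∀ v, Q v = 0 ↔ hermForm m K q v v = 0 := fun v => by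
    obtain ⟨a, ha⟩ := (hι _).1 (herm_conj hK m v v)
    rw [hQ, ← ha, hℓa]
    simp
  have hpol : ∀ u v, QuadraticMap.polarBilin Q u v = ℓ (hermForm m K q u v + hermForm m K q v u) := fun u v => by
    rw [QuadraticMap.polarBilin_apply_apply]
    simp only [Q, LinearMap.BilinMap.polar_toQuadraticMap, traceForm_apply, map_add]
  have key : ∀ u, (∀ v, QuadraticMap.polarBilin Q u v = 0) → u = 0 := by
    refine fun u h => herm_nondeg hK fun v => ?_
    by_contra hc
    obtain ⟨x, hx⟩ := (Herm.powHom_isInvol hK).exists_trace_ne_zero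
    rw [Herm.powHom_apply] at hx
    have h1 := h ((x * (hermForm m K q u v)⁻¹) ^ q • v)
    have he : hermForm m K q u ((x * (hermForm m K q u v)⁻¹) ^ q • v) = x := by
      rw [← herm_conj hK, herm_smul_left, mul_pow, herm_conj hK, ← pow_mul, ← sq, ← hK, FiniteField.pow_card]
      field_simp
    rw [hpol, he, ← herm_conj hK m u _, he] at h1
    obtain ⟨a, ha⟩ := (hι (x + x ^ q)).1 (by
      rw [← Herm.powHom_apply hK, ← Herm.powHom_apply hK, map_add, (Herm.powHom_isInvol hK).invol, add_comm])
    rw [← ha, hℓa] at h1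
    exact hx (by rw [← ha, h1, map_zero])
  refine ⟨Q, ⟨key, fun u h => key u fun v => ?_⟩, fun g v => congrArg ℓ (g.2 v v),
    Nat.card_congr (Equiv.subtypeEquivRight hzero)⟩
  rw [hpol, add_comm, ← hpol]
  exact h v

theorem minus_form_exists (k : ℕ) (a c : F) (hac : ∀ z₁ z₂ : F, z₁ ^ 2 + a * z₁ * z₂ + c * z₂ ^ 2 = 0 → z₁ = 0 ∧ z₂ = 0) :
    ∃ Q : QuadraticForm F ((Fin k ⊕ Fin k) ⊕ Fin 2 → F), ⇑Q = quadFormMinus k F a c ∧
      (QuadraticMap.polarBilin Q).Nondegenerate := by
  classical
  let Q : QuadraticForm F ((Fin k ⊕ Fin k) ⊕ Fin 2 → F) :=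
    QuadraticMap.ofPolar (quadFormMinus k F a c)
      (fun t z => by
        simp only [quadFormMinus, Pi.smul_apply, smul_eq_mul, mul_add, Finset.mul_sum]
        congr 1
        · exact Finset.sum_congr rfl fun i _ => by ring
        · ring)
      (fun x y z => by
        simp only [QuadraticMap.polar, polar_minus, Pi.add_apply, mul_add, add_mul, Finset.sum_add_distrib]
        ring)
      (fun t x z => by
        simp only [QuadraticMap.polar, polar_minus, smul_eq_mul, Pi.smul_apply]
        rw [mul_add t, Finset.mul_sum]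
        congr 1
        · exact Finset.sum_congr rfl fun i _ => by ring
        · ring)
  have hp : ∀ u v, QuadraticMap.polarBilin Q u v = _ := fun u v => polar_minus k a c u v
  have h4 : 4 * c - a ^ 2 ≠ 0 := by
    intro h
    by_cases h2 : (2 : F) = 0
    · haveI : CharP F 2 := CharTwo.of_one_ne_zero_of_two_eq_zero one_ne_zero h2
      have ha : a = 0 := by
        rw [show (4 : F) = 2 * 2 by norm_num, h2] at h
        simpa using h
      obtain ⟨r, hr⟩ := isSquare_of_charTwo' c
      exact one_ne_zero (hac r 1 (by rw [ha, hr]; linear_combination r * r * h2)).2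
    · exact one_ne_zero (hac (-a / 2) 1 (by field_simp; linear_combination h)).2
  have key : ∀ u, (∀ v, QuadraticMap.polarBilin Q u v = 0) → u = 0 := by
    intro u h
    have e0 := h (Pi.single (.inr 0) 1)
    have e1 := h (Pi.single (.inr 1) 1)
    simp [hp, Pi.single_apply] at e0 e1
    have z1 : u (.inr 1) = 0 := (mul_eq_zero.1 (show (4 * c - a ^ 2) * u (.inr 1) = 0 by
      linear_combination 2 * e1 - a * e0)).resolve_left h4
    have z0 : u (.inr 0) = 0 := by
      rw [z1] at e0 e1
      by_cases h2 : (2 : F) = 0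
      · have ha : a ≠ 0 := fun ha => h4 (by rw [ha, show (4 : F) = 2 * 2 by norm_num, h2]; ring)
        exact (mul_eq_zero.1 (show a * u (.inr 0) = 0 by linear_combination e1)).resolve_left ha
      · exact (mul_eq_zero.1 (show 2 * u (.inr 0) = 0 by linear_combination e0)).resolve_left h2
    funext x
    rcases x with (i | i) | i
    · have := h (Pi.single (.inl (.inr i)) 1)
      simpa [hp, Pi.single_apply] using this
    · have := h (Pi.single (.inl (.inl i)) 1)
      simpa [hp, Pi.single_apply] using this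
    · fin_cases i <;> assumption
  exact ⟨Q, rfl, ⟨key, fun u h => key u fun v => by
    rw [QuadraticMap.polarBilin_apply_apply, QuadraticMap.polar_comm, ← QuadraticMap.polarBilin_apply_apply]
    exact h v⟩⟩

end CfsgLib.Known.FieldExtension
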