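import Mathlib

/-! Coset data of `⟨(012), (345)⟩` in the alternating group of degree seven. -/

set_option autoImplicit false
set_option maxRecDepth 100000

namespace CfsgLib.Known.AltTriple

def repList : List (List ℕ) :=
  [[0,1,2,3,4,5,6], [0,1,2,3,5,6,4], [0,1,2,3,6,4,5], [0,1,2,4,6,5,3], [0,1,3,2,4,6,5], [0,1,3,2,5,4,6],
   [0,1,3,2,6,5,4], [0,1,3,4,5,6,2], [0,1,4,2,3,5,6], [0,1,4,2,5,6,3], [0,1,4,2,6,3,5], [0,1,4,3,6,5,2],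
   [0,1,5,2,3,6,4], [0,1,5,2,4,3,6], [0,1,5,2,6,4,3], [0,1,5,3,4,6,2], [0,1,6,2,3,4,5], [0,1,6,2,4,5,3],
   [0,1,6,2,5,3,4], [0,1,6,3,5,4,2], [0,2,1,3,4,6,5], [0,2,1,3,5,4,6], [0,2,1,3,6,5,4], [0,2,1,4,5,6,3],
   [0,2,3,1,4,5,6], [0,2,3,1,5,6,4], [0,2,3,1,6,4,5], [0,2,3,4,6,5,1], [0,2,4,1,3,6,5], [0,2,4,1,5,3,6],
   [0,2,4,1,6,5,3], [0,2,4,3,5,6,1], [0,2,5,1,3,4,6], [0,2,5,1,4,6,3], [0,2,5,1,6,3,4], [0,2,5,3,6,4,1],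
   [0,2,6,1,3,5,4], [0,2,6,1,4,3,5], [0,2,6,1,5,4,3], [0,2,6,3,4,5,1], [0,3,1,2,4,5,6], [0,3,1,2,5,6,4],
   [0,3,1,2,6,4,5], [0,3,1,4,6,5,2], [0,3,2,1,4,6,5], [0,3,2,1,5,4,6], [0,3,2,1,6,5,4], [0,3,2,4,5,6,1],
   [0,3,4,1,2,5,6], [0,3,4,1,5,6,2], [0,3,4,1,6,2,5], [0,3,4,2,6,5,1], [0,3,5,1,2,6,4], [0,3,5,1,4,2,6],
   [0,3,5,1,6,4,2], [0,3,5,2,4,6,1], [0,3,6,1,2,4,5], [0,3,6,1,4,5,2], [0,3,6,1,5,2,4], [0,3,6,2,5,4,1],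
   [0,4,1,2,3,6,5], [0,4,1,2,5,3,6], [0,4,1,2,6,5,3], [0,4,1,3,5,6,2], [0,4,2,1,3,5,6], [0,4,2,1,5,6,3],
   [0,4,2,1,6,3,5], [0,4,2,3,6,5,1], [0,4,3,1,2,6,5], [0,4,3,1,5,2,6], [0,4,3,1,6,5,2], [0,4,3,2,5,6,1],
   [0,4,5,1,2,3,6], [0,4,5,1,3,6,2], [0,4,5,1,6,2,3], [0,4,5,2,6,3,1], [0,4,6,1,2,5,3], [0,4,6,1,3,2,5],
   [0,4,6,1,5,3,2], [0,4,6,2,3,5,1], [0,5,1,2,3,4,6], [0,5,1,2,4,6,3], [0,5,1,2,6,3,4], [0,5,1,3,6,4,2],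
   [0,5,2,1,3,6,4], [0,5,2,1,4,3,6], [0,5,2,1,6,4,3], [0,5,2,3,4,6,1], [0,5,3,1,2,4,6], [0,5,3,1,4,6,2],
   [0,5,3,1,6,2,4], [0,5,3,2,6,4,1], [0,5,4,1,2,6,3], [0,5,4,1,3,2,6], [0,5,4,1,6,3,2], [0,5,4,2,3,6,1],
   [0,5,6,1,2,3,4], [0,5,6,1,3,4,2], [0,5,6,1,4,2,3], [0,5,6,2,4,3,1], [0,6,1,2,3,5,4], [0,6,1,2,4,3,5],
   [0,6,1,2,5,4,3], [0,6,1,3,4,5,2], [0,6,2,1,3,4,5], [0,6,2,1,4,5,3], [0,6,2,1,5,3,4], [0,6,2,3,5,4,1],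
   [0,6,3,1,2,5,4], [0,6,3,1,4,2,5], [0,6,3,1,5,4,2], [0,6,3,2,4,5,1], [0,6,4,1,2,3,5], [0,6,4,1,3,5,2],
   [0,6,4,1,5,2,3], [0,6,4,2,5,3,1], [0,6,5,1,2,4,3], [0,6,5,1,3,2,4], [0,6,5,1,4,3,2], [0,6,5,2,3,4,1],
   [1,2,3,0,4,6,5], [1,2,3,0,5,4,6], [1,2,3,0,6,5,4], [1,2,3,4,5,6,0], [1,2,4,0,3,5,6], [1,2,4,0,5,6,3],
   [1,2,4,0,6,3,5], [1,2,4,3,6,5,0], [1,2,5,0,3,6,4], [1,2,5,0,4,3,6], [1,2,5,0,6,4,3], [1,2,5,3,4,6,0],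
   [1,2,6,0,3,4,5], [1,2,6,0,4,5,3], [1,2,6,0,5,3,4], [1,2,6,3,5,4,0], [1,3,2,0,4,5,6], [1,3,2,0,5,6,4],
   [1,3,2,0,6,4,5], [1,3,2,4,6,5,0], [1,3,4,0,2,6,5], [1,3,4,0,5,2,6], [1,3,4,0,6,5,2], [1,3,4,2,5,6,0],
   [1,3,5,0,2,4,6], [1,3,5,0,4,6,2], [1,3,5,0,6,2,4], [1,3,5,2,6,4,0], [1,3,6,0,2,5,4], [1,3,6,0,4,2,5],
   [1,3,6,0,5,4,2], [1,3,6,2,4,5,0], [1,4,2,0,3,6,5], [1,4,2,0,5,3,6], [1,4,2,0,6,5,3], [1,4,2,3,5,6,0],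
   [1,4,3,0,2,5,6], [1,4,3,0,5,6,2], [1,4,3,0,6,2,5], [1,4,3,2,6,5,0], [1,4,5,0,2,6,3], [1,4,5,0,3,2,6],
   [1,4,5,0,6,3,2], [1,4,5,2,3,6,0], [1,4,6,0,2,3,5], [1,4,6,0,3,5,2], [1,4,6,0,5,2,3], [1,4,6,2,5,3,0],
   [1,5,2,0,3,4,6], [1,5,2,0,4,6,3], [1,5,2,0,6,3,4], [1,5,2,3,6,4,0], [1,5,3,0,2,6,4], [1,5,3,0,4,2,6],
   [1,5,3,0,6,4,2], [1,5,3,2,4,6,0], [1,5,4,0,2,3,6], [1,5,4,0,3,6,2], [1,5,4,0,6,2,3], [1,5,4,2,6,3,0],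
   [1,5,6,0,2,4,3], [1,5,6,0,3,2,4], [1,5,6,0,4,3,2], [1,5,6,2,3,4,0], [1,6,2,0,3,5,4], [1,6,2,0,4,3,5],
   [1,6,2,0,5,4,3], [1,6,2,3,4,5,0], [1,6,3,0,2,4,5], [1,6,3,0,4,5,2], [1,6,3,0,5,2,4], [1,6,3,2,5,4,0],
   [1,6,4,0,2,5,3], [1,6,4,0,3,2,5], [1,6,4,0,5,3,2], [1,6,4,2,3,5,0], [1,6,5,0,2,3,4], [1,6,5,0,3,4,2],
   [1,6,5,0,4,2,3], [1,6,5,2,4,3,0], [2,3,4,0,1,5,6], [2,3,4,0,5,6,1], [2,3,4,0,6,1,5], [2,3,4,1,6,5,0],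
   [2,3,5,0,1,6,4], [2,3,5,0,4,1,6], [2,3,5,0,6,4,1], [2,3,5,1,4,6,0], [2,3,6,0,1,4,5], [2,3,6,0,4,5,1],
   [2,3,6,0,5,1,4], [2,3,6,1,5,4,0], [2,4,3,0,1,6,5], [2,4,3,0,5,1,6], [2,4,3,0,6,5,1], [2,4,3,1,5,6,0],
   [2,4,5,0,1,3,6], [2,4,5,0,3,6,1], [2,4,5,0,6,1,3], [2,4,5,1,6,3,0], [2,4,6,0,1,5,3], [2,4,6,0,3,1,5],
   [2,4,6,0,5,3,1], [2,4,6,1,3,5,0], [2,5,3,0,1,4,6], [2,5,3,0,4,6,1], [2,5,3,0,6,1,4], [2,5,3,1,6,4,0],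
   [2,5,4,0,1,6,3], [2,5,4,0,3,1,6], [2,5,4,0,6,3,1], [2,5,4,1,3,6,0], [2,5,6,0,1,3,4], [2,5,6,0,3,4,1],
   [2,5,6,0,4,1,3], [2,5,6,1,4,3,0], [2,6,3,0,1,5,4], [2,6,3,0,4,1,5], [2,6,3,0,5,4,1], [2,6,3,1,4,5,0],
   [2,6,4,0,1,3,5], [2,6,4,0,3,5,1], [2,6,4,0,5,1,3], [2,6,4,1,5,3,0], [2,6,5,0,1,4,3], [2,6,5,0,3,1,4],
   [2,6,5,0,4,3,1], [2,6,5,1,3,4,0], [3,4,5,0,1,6,2], [3,4,5,0,2,1,6], [3,4,5,0,6,2,1], [3,4,5,1,2,6,0],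
   [3,4,6,0,1,2,5], [3,4,6,0,2,5,1], [3,4,6,0,5,1,2], [3,4,6,1,5,2,0], [3,5,4,0,1,2,6], [3,5,4,0,2,6,1],
   [3,5,4,0,6,1,2], [3,5,4,1,6,2,0], [3,5,6,0,1,4,2], [3,5,6,0,2,1,4], [3,5,6,0,4,2,1], [3,5,6,1,2,4,0],
   [3,6,4,0,1,5,2], [3,6,4,0,2,1,5], [3,6,4,0,5,2,1], [3,6,4,1,2,5,0], [3,6,5,0,1,2,4], [3,6,5,0,2,4,1],
   [3,6,5,0,4,1,2], [3,6,5,1,4,2,0], [4,5,6,0,1,2,3], [4,5,6,0,2,3,1], [4,5,6,0,3,1,2], [4,5,6,1,3,2,0],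
   [4,6,5,0,1,3,2], [4,6,5,0,2,1,3], [4,6,5,0,3,2,1], [4,6,5,1,2,3,0]]

def actX : List (ℕ × ℕ × ℕ) :=
  [(0,1,0), (1,1,0), (2,1,0), (3,1,0), (120,0,0), (121,0,0), (122,0,0), (123,0,0), (124,0,0), (125,0,0),
   (126,0,0), (127,0,0), (128,0,0), (129,0,0), (130,0,0), (131,0,0), (132,0,0), (133,0,0), (134,0,0), (135,0,0),
   (20,2,0), (21,2,0), (22,2,0), (23,2,0), (40,2,0), (41,2,0), (42,2,0), (43,2,0), (60,2,0), (61,2,0),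
   (62,2,0), (63,2,0), (80,2,0), (81,2,0), (82,2,0), (83,2,0), (100,2,0), (101,2,0), (102,2,0), (103,2,0),
   (136,0,0), (137,0,0), (138,0,0), (139,0,0), (4,1,0), (5,1,0), (6,1,0), (7,1,0), (141,0,2), (143,0,0),
   (140,0,1), (142,0,0), (146,0,2), (144,0,1), (147,0,0), (145,0,0), (149,0,2), (151,0,0), (148,0,1), (150,0,0),
   (152,0,0), (153,0,0), (154,0,0), (155,0,0), (8,1,0), (9,1,0), (10,1,0), (11,1,0), (158,0,2), (156,0,1),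
   (159,0,0), (157,0,0), (161,0,2), (163,0,0), (160,0,1), (162,0,0), (166,0,2), (164,0,1), (167,0,0), (165,0,0),
   (168,0,0), (169,0,0), (170,0,0), (171,0,0), (12,1,0), (13,1,0), (14,1,0), (15,1,0), (173,0,2), (175,0,0),
   (172,0,1), (174,0,0), (178,0,2), (176,0,1), (179,0,0), (177,0,0), (181,0,2), (183,0,0), (180,0,1), (182,0,0),
   (184,0,0), (185,0,0), (186,0,0), (187,0,0), (16,1,0), (17,1,0), (18,1,0), (19,1,0), (190,0,2), (188,0,1),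
   (191,0,0), (189,0,0), (193,0,2), (195,0,0), (192,0,1), (194,0,0), (198,0,2), (196,0,1), (199,0,0), (197,0,0),
   (44,2,0), (45,2,0), (46,2,0), (47,2,0), (64,2,0), (65,2,0), (66,2,0), (67,2,0), (84,2,0), (85,2,0),
   (86,2,0), (87,2,0), (104,2,0), (105,2,0), (106,2,0), (107,2,0), (24,1,0), (25,1,0), (26,1,0), (27,1,0),
   (202,0,2), (200,0,1), (203,0,0), (201,0,0), (205,0,2), (207,0,0), (204,0,1), (206,0,0), (210,0,2), (208,0,1),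
   (211,0,0), (209,0,0), (28,1,0), (29,1,0), (30,1,0), (31,1,0), (213,0,2), (215,0,0), (212,0,1), (214,0,0),
   (218,0,2), (216,0,1), (219,0,0), (217,0,0), (221,0,2), (223,0,0), (220,0,1), (222,0,0), (32,1,0), (33,1,0),
   (34,1,0), (35,1,0), (226,0,2), (224,0,1), (227,0,0), (225,0,0), (229,0,2), (231,0,0), (228,0,1), (230,0,0),
   (234,0,2), (232,0,1), (235,0,0), (233,0,0), (36,1,0), (37,1,0), (38,1,0), (39,1,0), (237,0,2), (239,0,0),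
   (236,0,1), (238,0,0), (242,0,2), (240,0,1), (243,0,0), (241,0,0), (245,0,2), (247,0,0), (244,0,1), (246,0,0),
   (48,0,0), (49,0,0), (50,0,0), (51,0,0), (52,0,0), (53,0,0), (54,0,0), (55,0,0), (56,0,0), (57,0,0),
   (58,0,0), (59,0,0), (68,0,0), (69,0,0), (70,0,0), (71,0,0), (72,0,0), (73,0,0), (74,0,0), (75,0,0),
   (76,0,0), (77,0,0), (78,0,0), (79,0,0), (88,0,0), (89,0,0), (90,0,0), (91,0,0), (92,0,0), (93,0,0),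
   (94,0,0), (95,0,0), (96,0,0), (97,0,0), (98,0,0), (99,0,0), (108,0,0), (109,0,0), (110,0,0), (111,0,0),
   (112,0,0), (113,0,0), (114,0,0), (115,0,0), (116,0,0), (117,0,0), (118,0,0), (119,0,0), (251,0,0), (249,0,2),
   (248,0,1), (250,0,2), (252,0,1), (254,0,2), (255,0,0), (253,0,1), (256,0,1), (258,0,2), (259,0,0), (257,0,1),
   (263,0,0), (261,0,2), (260,0,1), (262,0,2), (267,0,0), (265,0,2), (264,0,1), (266,0,2), (268,0,1), (270,0,2),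
   (271,0,0), (269,0,1), (272,0,1), (274,0,2), (275,0,0), (273,0,1), (279,0,0), (277,0,2), (276,0,1), (278,0,2)]

def actY : List (ℕ × ℕ × ℕ) :=
  [(0,0,1), (2,0,2), (3,0,0), (1,0,1), (9,0,0), (8,0,0), (10,0,0), (11,0,2), (13,0,0), (12,0,0),
   (14,0,0), (15,0,1), (4,0,0), (5,0,0), (6,0,0), (7,0,0), (17,0,0), (18,0,0), (16,0,0), (19,0,2),
   (23,0,0), (21,0,2), (20,0,1), (22,0,2), (29,0,0), (28,0,0), (30,0,0), (31,0,1), (33,0,0), (32,0,0),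
   (34,0,0), (35,0,2), (24,0,0), (25,0,0), (26,0,0), (27,0,0), (37,0,0), (38,0,0), (36,0,0), (39,0,1),
   (61,0,0), (60,0,0), (62,0,0), (63,0,1), (65,0,0), (64,0,0), (66,0,0), (67,0,2), (72,0,0), (73,0,0),
   (74,0,0), (75,0,0), (68,0,0), (69,0,0), (70,0,0), (71,0,0), (76,0,0), (78,0,0), (77,0,0), (79,0,0),
   (81,0,0), (80,0,0), (82,0,0), (83,0,2), (85,0,0), (84,0,0), (86,0,0), (87,0,1), (92,0,0), (93,0,0),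
   (94,0,0), (95,0,0), (88,0,0), (89,0,0), (90,0,0), (91,0,0), (96,0,0), (98,0,0), (97,0,0), (99,0,0),
   (40,0,0), (41,0,0), (42,0,0), (43,0,0), (44,0,0), (45,0,0), (46,0,0), (47,0,0), (48,0,0), (49,0,0),
   (50,0,0), (51,0,0), (52,0,0), (53,0,0), (54,0,0), (55,0,0), (56,0,0), (57,0,0), (58,0,0), (59,0,0),
   (101,0,0), (102,0,0), (100,0,0), (103,0,1), (105,0,0), (106,0,0), (104,0,0), (107,0,2), (112,0,0), (114,0,0),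
   (113,0,0), (115,0,0), (116,0,0), (118,0,0), (117,0,0), (119,0,0), (108,0,0), (109,0,0), (110,0,0), (111,0,0),
   (125,0,0), (124,0,0), (126,0,0), (127,0,2), (129,0,0), (128,0,0), (130,0,0), (131,0,1), (120,0,0), (121,0,0),
   (122,0,0), (123,0,0), (133,0,0), (134,0,0), (132,0,0), (135,0,2), (153,0,0), (152,0,0), (154,0,0), (155,0,1),
   (160,0,0), (161,0,0), (162,0,0), (163,0,0), (156,0,0), (157,0,0), (158,0,0), (159,0,0), (164,0,0), (166,0,0),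
   (165,0,0), (167,0,0), (169,0,0), (168,0,0), (170,0,0), (171,0,2), (176,0,0), (177,0,0), (178,0,0), (179,0,0),
   (172,0,0), (173,0,0), (174,0,0), (175,0,0), (180,0,0), (182,0,0), (181,0,0), (183,0,0), (136,0,0), (137,0,0),
   (138,0,0), (139,0,0), (140,0,0), (141,0,0), (142,0,0), (143,0,0), (144,0,0), (145,0,0), (146,0,0), (147,0,0),
   (148,0,0), (149,0,0), (150,0,0), (151,0,0), (185,0,0), (186,0,0), (184,0,0), (187,0,1), (192,0,0), (194,0,0),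
   (193,0,0), (195,0,0), (196,0,0), (198,0,0), (197,0,0), (199,0,0), (188,0,0), (189,0,0), (190,0,0), (191,0,0),
   (216,0,0), (217,0,0), (218,0,0), (219,0,0), (212,0,0), (213,0,0), (214,0,0), (215,0,0), (220,0,0), (222,0,0),
   (221,0,0), (223,0,0), (228,0,0), (229,0,0), (230,0,0), (231,0,0), (224,0,0), (225,0,0), (226,0,0), (227,0,0),
   (232,0,0), (234,0,0), (233,0,0), (235,0,0), (200,0,0), (201,0,0), (202,0,0), (203,0,0), (204,0,0), (205,0,0),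
   (206,0,0), (207,0,0), (208,0,0), (209,0,0), (210,0,0), (211,0,0), (240,0,0), (242,0,0), (241,0,0), (243,0,0),
   (244,0,0), (246,0,0), (245,0,0), (247,0,0), (236,0,0), (237,0,0), (238,0,0), (239,0,0), (248,1,0), (249,1,0),
   (250,1,0), (251,1,0), (272,0,0), (273,0,0), (274,0,0), (275,0,0), (256,2,0), (257,2,0), (258,2,0), (259,2,0),
   (264,2,0), (265,2,0), (266,2,0), (267,2,0), (276,0,0), (277,0,0), (278,0,0), (279,0,0), (252,1,0), (253,1,0),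
   (254,1,0), (255,1,0), (268,2,0), (269,2,0), (270,2,0), (271,2,0), (260,1,0), (261,1,0), (262,1,0), (263,1,0)]

end CfsgLib.Known.AltTriple
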