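import Mathlib
import Cfsg.Agent.Lib.Known.AltTripleData
import Cfsg.Agent.Lib.Schur.CertTransfer

/-!
# Triple covers of the alternating groups of degree six and seven

The bilinear cocycle of `⟨(012), (345)⟩` is transferred to the alternating group of degree seven.
-/

set_option autoImplicit false
set_option maxRecDepth 100000

namespace CfsgLib.Known.AltTriple

open CfsgLib.Schur.TransferCocycle

/-- `x ^ a * y ^ b` in one-line notation, for `x = (012)` and `y = (345)`. -/
def kap (a b : ℕ) : List ℕ :=
  [a % 3, (1 + a) % 3, (2 + a) % 3, 3 + b % 3, 3 + (1 + b) % 3, 3 + (2 + b) % 3, 6]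

/-- Composition of one-line notations. -/
def comp (p q : List ℕ) : List ℕ := q.map fun i => p.getD i 0

/-- A canonical name of the coset of a one-line notation. -/
def key (p : List ℕ) : List (List ℕ) :=
  let v := fun i => p.getD i 0
  let rot := fun a b c : ℕ => if a < b ∧ a < c then [a, b, c] else if b < c then [b, c, a] else [c, a, b]
  [rot (v 0) (v 1) (v 2), rot (v 3) (v 4) (v 5)]

def repI (i : ℕ) : List ℕ := repList.getD i []

def elts : List (List ℕ) := [kap 1 0, kap 0 1]

def act (n i : ℕ) : ℕ × ℕ × ℕ := ([actX, actY].getD n []).getD i (0, 0, 0)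

theorem elts_eq (n : Fin 2) : elts.getD n.val [] = if n = 0 then kap 1 0 else kap 0 1 := by
  fin_cases n <;> rfl

theorem repI_length : ∀ i : Fin 280, (repI i.val).length = 7 := by decide +kernel

theorem key_nodup : ((List.range 280).map fun i => key (repI i)).Nodup := by decide +kernel

theorem act_ok : ∀ n < 2, ((List.range 280).all fun i =>
    decide ((act n i).1 < 280 ∧ comp (elts.getD n []) (repI i) =
      comp (repI (act n i).1) (kap (act n i).2.1 (act n i).2.2))) = true := by decide +kernel

/-- Reading a one-line notation. -/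
def rd (p : List ℕ) (i : Fin 7) : Fin 7 := ⟨p.getD i.val 0 % 7, Nat.mod_lt _ (by norm_num)⟩

/-- Reading it backwards. -/
def rdInv (p : List ℕ) (i : Fin 7) : Fin 7 := ⟨p.idxOf i.val % 7, Nat.mod_lt _ (by norm_num)⟩

theorem rep_bij : ∀ k : Fin 280, (∀ i, rdInv (repI k.val) (rd (repI k.val) i) = i) ∧
    (∀ i, rd (repI k.val) (rdInv (repI k.val) i) = i) ∧ ∀ i : Fin 7, (repI k.val).getD i.val 0 < 7 := by
  decide +kernel

/-- The transversal as permutations. -/
def repP (k : Fin 280) : Equiv.Perm (Fin 7) :=
  ⟨rd (repI k.val), rdInv (repI k.val), (rep_bij k).1, (rep_bij k).2.1⟩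

theorem repP_apply (k : Fin 280) (i : Fin 7) : (repP k i).val = (repI k.val).getD i.val 0 :=
  Nat.mod_eq_of_lt ((rep_bij k).2.2 i)

theorem repP_sign : ∀ k, Equiv.Perm.sign (repP k) = 1 := by decide +kernel

/-- The three-cycle on the first three points. -/
def px : Equiv.Perm (Fin 7) := Equiv.swap 0 1 * Equiv.swap 1 2

/-- The three-cycle on the next three points. -/
def py : Equiv.Perm (Fin 7) := Equiv.swap 3 4 * Equiv.swap 4 5

/-- The inclusion of the elementary abelian group of order nine. -/
def emb (p : Multiplicative (ZMod 3 × ZMod 3)) : Equiv.Perm (Fin 7) :=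
  px ^ (Multiplicative.toAdd p).1.val * py ^ (Multiplicative.toAdd p).2.val

theorem emb_mul : ∀ p q, emb (p * q) = emb p * emb q := by decide +kernel

theorem emb_inj : ∀ p, emb p = 1 → p = 1 := by decide +kernel

theorem emb_sign : ∀ p, Equiv.Perm.sign (emb p) = 1 := by decide +kernel

theorem emb_apply : ∀ (p : Multiplicative (ZMod 3 × ZMod 3)) (i : Fin 7), (emb p i).val =
    (kap (Multiplicative.toAdd p).1.val (Multiplicative.toAdd p).2.val).getD i.val 0 := by decide +kernel

theorem kap_mod (a b : ℕ) : kap ((a : ZMod 3)).val ((b : ZMod 3)).val = kap a b := by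
  simp [kap, ZMod.val_natCast, Nat.add_mod]

/-- The alternating group of degree seven. -/
abbrev A7 : Type := alternatingGroup (Fin 7)

/-- The inclusion into the alternating group. -/
def embA : Multiplicative (ZMod 3 × ZMod 3) →* A7 :=
  MonoidHom.mk' (fun p => ⟨emb p, Equiv.Perm.mem_alternatingGroup.2 (emb_sign p)⟩)
    fun p q => Subtype.ext (emb_mul p q)

theorem embA_injective : Function.Injective embA :=
  (injective_iff_map_eq_one _).2 fun p h => emb_inj p (congrArg Subtype.val h)

/-- The elementary abelian Sylow subgroup. -/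
abbrev KK : Subgroup A7 := embA.range

/-- Its coordinates. -/
noncomputable def coords : KK →* Multiplicative (ZMod 3 × ZMod 3) :=
  (MonoidHom.ofInjective embA_injective).symm.toMonoidHom

theorem coords_embA (p : Multiplicative (ZMod 3 × ZMod 3)) (h : embA p ∈ KK) : coords ⟨embA p, h⟩ = p := by
  show (MonoidHom.ofInjective embA_injective).symm _ = p
  rw [MulEquiv.symm_apply_eq]
  rfl

/-- The transversal. -/
def rep (k : Fin 280) : A7 := ⟨repP k, Equiv.Perm.mem_alternatingGroup.2 (repP_sign k)⟩

theorem comp_getD (p q : List ℕ) {i : ℕ} (h : i < q.length) :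
    (comp p q).getD i 0 = p.getD (q.getD i 0) 0 := by
  simp [comp, List.getD_eq_getElem?_getD, List.getElem?_map, h]

theorem kap_length (a b : ℕ) : (kap a b).length = 7 := rfl

theorem mul_emb_apply (k : Fin 280) (p : Multiplicative (ZMod 3 × ZMod 3)) (i : Fin 7) :
    ((repP k * emb p) i).val =
      (comp (repI k.val) (kap (Multiplicative.toAdd p).1.val (Multiplicative.toAdd p).2.val)).getD i.val 0 := by
  rw [comp_getD _ _ (by rw [kap_length]; exact i.2), Equiv.Perm.mul_apply, repP_apply, emb_apply]

theorem key_comp_kap : ∀ k : Fin 280, ∀ a b : Fin 3,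
    key (comp (repI k.val) (kap a.val b.val)) = key (repI k.val) := by decide +kernel

theorem rep_injective : Function.Injective fun k => (QuotientGroup.mk (rep k) : A7 ⧸ KK) := by
  intro k l h
  obtain ⟨p, hp⟩ := (QuotientGroup.eq.1 h : (rep k)⁻¹ * rep l ∈ KK)
  have e : repP l = repP k * emb p := congrArg Subtype.val (show rep l = rep k * embA p by rw [hp]; group)
  have hl : repI l.val = comp (repI k.val) (kap (Multiplicative.toAdd p).1.val (Multiplicative.toAdd p).2.val) := by
    refine List.ext_getElem (by rw [repI_length, comp, List.length_map, kap_length]) fun i h1 h2 => ?_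
    have hi : i < 7 := by rw [repI_length] at h1; exact h1
    have := mul_emb_apply k p ⟨i, hi⟩
    rw [← e, repP_apply] at this
    rw [← List.getD_eq_getElem _ 0 h1, ← List.getD_eq_getElem _ 0 h2]
    exact this
  have hk := key_comp_kap k ⟨_, ZMod.val_lt (Multiplicative.toAdd p).1⟩ ⟨_, ZMod.val_lt (Multiplicative.toAdd p).2⟩
  rw [← hl] at hk
  exact (Fin.ext (List.inj_on_of_nodup_map key_nodup (List.mem_range.2 l.2) (List.mem_range.2 k.2) hk)).symm

theorem card_KK : Nat.card KK = 9 := by
  rw [← Nat.card_congr (MonoidHom.ofInjective embA_injective).toEquiv, Nat.card_congr Multiplicative.toAdd,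
    Nat.card_prod, Nat.card_zmod]

theorem card_A7 : Nat.card A7 = 2520 := by
  rw [nat_card_alternatingGroup, Nat.card_fin]
  decide

theorem rep_bijective : Function.Bijective fun k => (QuotientGroup.mk (rep k) : A7 ⧸ KK) := by
  refine rep_injective.bijective_of_nat_card_le ?_
  rw [Nat.card_fin, ← Subgroup.index_eq_card]
  have h := KK.card_mul_index
  rw [card_KK, card_A7] at h
  omega

/-- The bilinear cocycle. -/
def cocycle : Cocycle (Multiplicative (ZMod 3 × ZMod 3)) (ZMod 3) where
  f p q := (Multiplicative.toAdd p).1 * (Multiplicative.toAdd q).2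
  one_left p := by simp
  one_right p := by simp
  cocycle p q r := by simp only [toAdd_mul, Prod.fst_add, Prod.snd_add]; ring

/-- The transferred cocycle. -/
noncomputable def bigCocycle : Cocycle A7 (ZMod 3) := certCocycle coords rep rep_bijective cocycle

/-- The two recorded elements. -/
def gens (n : Fin 2) : Multiplicative (ZMod 3 × ZMod 3) :=
  Multiplicative.ofAdd (if n = 0 then (1, 0) else (0, 1))

theorem gens_kap : ∀ n : Fin 2, kap (Multiplicative.toAdd (gens n)).1.val (Multiplicative.toAdd (gens n)).2.val =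
    elts.getD n.val [] := by decide +kernel

/-- The target coset. -/
def tgt (n : Fin 2) (i : Fin 280) : Fin 280 := ⟨(act n.val i.val).1 % 280, Nat.mod_lt _ (by norm_num)⟩

/-- The transversal factor. -/
def crd (n : Fin 2) (i : Fin 280) : Multiplicative (ZMod 3 × ZMod 3) :=
  Multiplicative.ofAdd (((act n.val i.val).2.1 : ZMod 3), ((act n.val i.val).2.2 : ZMod 3))

theorem act_eq (n : Fin 2) (i : Fin 280) : embA (gens n) * rep i = rep (tgt n i) * embA (crd n i) := by
  have h := List.all_eq_true.1 (act_ok n.val n.2) i.val (List.mem_range.2 i.2)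
  simp only [decide_eq_true_eq] at h
  refine Subtype.ext (Equiv.ext fun k => Fin.ext ?_)
  show ((emb (gens n) * repP i) k).val = ((repP (tgt n i) * emb (crd n i)) k).val
  rw [mul_emb_apply, Equiv.Perm.mul_apply, emb_apply, repP_apply, gens_kap,
    ← comp_getD _ _ (by rw [repI_length]; exact k.2)]
  rw [h.2, show (tgt n i).val = (act n.val i.val).1 from Nat.mod_eq_of_lt h.1]
  simp only [crd, toAdd_ofAdd, kap_mod]

theorem value (a b : Fin 2) : bigCocycle.f (embA (gens a)) (embA (gens b)) =
    ∑ i : Fin 280, cocycle.f (crd a (tgt b i)) (crd b i) := by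
  refine cert_value coords rep rep_bijective cocycle (fun n => embA (gens n)) tgt crd (fun n i => ?_) a b
  have e : (rep (tgt n i))⁻¹ * embA (gens n) * rep i = embA (crd n i) := by
    rw [mul_assoc, act_eq, inv_mul_cancel_left]
  refine ⟨e ▸ MonoidHom.mem_range.2 ⟨_, rfl⟩, ?_⟩
  have hm : embA (crd n i) ∈ KK := MonoidHom.mem_range.2 ⟨_, rfl⟩
  exact (congrArg coords (Subtype.ext e : (⟨_, _⟩ : KK) = ⟨_, hm⟩)).trans (coords_embA _ hm)

/-- The commutator value. -/
def term (i : Fin 280) : ZMod 3 :=
  cocycle.f (crd 0 (tgt 1 i)) (crd 1 i) - cocycle.f (crd 1 (tgt 0 i)) (crd 0 i)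

theorem term_sum : ((List.finRange 280).map term).sum ≠ 0 := by decide +kernel

theorem witness : bigCocycle.f (embA (gens 0)) (embA (gens 1)) - bigCocycle.f (embA (gens 1)) (embA (gens 0)) ≠ 0 := by
  rw [value, value, ← Finset.sum_sub_distrib, Fin.sum_univ_def]
  exact term_sum

theorem gens_commute : embA (gens 0) * embA (gens 1) = embA (gens 1) * embA (gens 0) := by
  rw [← map_mul, ← map_mul, mul_comm]

theorem closure_eq_top {a : ZMod 3} (ha : a ≠ 0) : AddSubgroup.closure ({a} : Set (ZMod 3)) = ⊤ := by
  have key : ∀ a b : ZMod 3, a ≠ 0 → (a * b).val • a = b := by decide +kernel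
  refine eq_top_iff.2 fun b _ => ?_
  rw [← key a b ha]
  exact AddSubgroup.nsmul_mem _ (AddSubgroup.subset_closure (Set.mem_singleton a)) _

theorem stem_pullback {H : Type} [Group H] (φ : H →* A7) (hφ : Function.Injective φ) (x y : H)
    (hx : φ x = embA (gens 0)) (hy : φ y = embA (gens 1)) :
    Cfsg.IsStemExtension (Ext.proj : Ext (bigCocycle.pullback φ) →* H) := by
  refine Ext.isStem_of_witness {bigCocycle.f (φ x) (φ y) - bigCocycle.f (φ y) (φ x)} ?_
    (closure_eq_top (by rw [hx, hy]; exact witness))
  rintro a rfl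
  exact ⟨x, y, hφ (by rw [map_mul, map_mul, hx, hy, gens_commute]), rfl⟩

end CfsgLib.Known.AltTriple
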