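import Mathlib
import Cfsg.Agent.Lib.Char.Exceptional.AltMultiplierBound
import Cfsg.Agent.Lib.Char.Exceptional.SpinCover
import Cfsg.Agent.Lib.Known.AltTriple
import Cfsg.Agent.Lib.Schur.Multiplier
import Cfsg.Agent.Lib.Schur.StemProduct

/-! The Schur multipliers of the alternating groups of degree six and seven. -/

set_option autoImplicit false

namespace CfsgLib.Known.AltSixSeven

open Equiv CfsgLib.Char.Exceptional.AltMultiplier CfsgLib.Schur.TransferCocycle

universe u v

variable {Γ : Type u} [Group Γ] [Finite Γ]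

omit [Finite Γ] in
theorem finite_le_of_pow {c : Γ} {m : ℕ} (h : c ^ m = 1) : Nat.card (Subgroup.zpowers c) ∣ m := by
  rw [Nat.card_zpowers]; exact orderOf_dvd_of_pow_eq_one h

/-- The order of the kernel from its prime parts. -/
theorem card_dvd_of_primes {Q : Type v} [Group Q] (σ : Γ →* Q) (N : ℕ)
    (h : ∀ p : ℕ, p.Prime → ∀ k : ℕ, ∃ c : Γ, (∀ z ∈ σ.ker, z ^ p ^ k = 1 → z ∈ Subgroup.zpowers c) ∧
      orderOf c ∣ N) : Nat.card σ.ker ∣ N := by
  refine (Nat.dvd_iff_prime_pow_dvd_dvd N (Nat.card σ.ker)).2 fun p k hp hk => ?_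
  haveI := Fact.mk hp
  obtain ⟨H, hH⟩ := Sylow.exists_subgroup_card_pow_prime p hk
  obtain ⟨c, hc, hcN⟩ := h p hp k
  have hle : H.map σ.ker.subtype ≤ Subgroup.zpowers c := by
    rintro _ ⟨z, hz, rfl⟩
    refine hc _ z.2 ?_
    have h1 : (⟨z, hz⟩ : H) ^ p ^ k = 1 := hH ▸ pow_card_eq_one'
    exact congrArg Subtype.val (congrArg Subtype.val h1)
  have := Subgroup.card_dvd_of_le hle
  rw [Subgroup.card_map_of_injective (Subgroup.subtype_injective _), hH, Nat.card_zpowers] at this
  exact this.trans hcN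

theorem other_prime {p : ℕ} (hp : p.Prime) (h2 : p ≠ 2) (h3 : p ≠ 3) (h5 : p ≠ 5) (h7 : p ≠ 7)
    {a b c d : ℕ} : ¬ p ∣ 2 ^ a * 3 ^ b * 5 ^ c * 7 ^ d := by
  intro h
  rcases hp.dvd_mul.1 h with h | h
  · rcases hp.dvd_mul.1 h with h | h
    · rcases hp.dvd_mul.1 h with h | h
      · exact h2 ((Nat.prime_dvd_prime_iff_eq hp Nat.prime_two).1 (hp.dvd_of_dvd_pow h))
      · exact h3 ((Nat.prime_dvd_prime_iff_eq hp Nat.prime_three).1 (hp.dvd_of_dvd_pow h))
    · exact h5 ((Nat.prime_dvd_prime_iff_eq hp (by norm_num)).1 (hp.dvd_of_dvd_pow h))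
  · exact h7 ((Nat.prime_dvd_prime_iff_eq hp (by norm_num)).1 (hp.dvd_of_dvd_pow h))

theorem bound_six_card (σ : Γ →* alternatingGroup (Fin 6))
    (hs : Function.Surjective σ) (hc : σ.ker ≤ Subgroup.center Γ) (hd : σ.ker ≤ commutator Γ) :
    Nat.card σ.ker ∣ 6 := by
  have hcard : Nat.card (alternatingGroup (Fin 6)) = 360 := by rw [card_alt 6 (by norm_num)]; decide
  refine card_dvd_of_primes σ 6 fun p hp k => ?_
  rcases eq_or_ne p 2 with rfl | hp2
  · let x := ev (Equiv.swap (0 : Fin 6) 1 * Equiv.swap 1 2 * Equiv.swap 2 3 * Equiv.swap 4 5) (by decide +kernel)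
    let y := ev (Equiv.swap (0 : Fin 6) 2 * Equiv.swap 4 5) (sign_two (by decide) (by decide))
    have hd8 := pow_dvd_card_closure (x := x) (y := y) (p := 2) (k := 1) (by decide +kernel) (by decide +kernel)
      (by decide +kernel) ⟨3, by decide +kernel⟩ (by decide +kernel)
    obtain ⟨c, hc2, hz⟩ := exists_zpowers_of_dihedral σ hs hc hd (x := x) (y := y) (by decide +kernel)
      (by decide +kernel) (by decide +kernel) Nat.prime_two (not_dvd_index hd8 (by rw [hcard]; decide))
    exact ⟨c, fun z hzk h => hz z hzk k h, (orderOf_dvd_of_pow_eq_one hc2).trans (by norm_num)⟩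
  rcases eq_or_ne p 3 with rfl | hp3
  · let x := ev (Equiv.swap (0 : Fin 6) 1 * Equiv.swap 1 2) (sign_two (by decide) (by decide))
    let y := ev (Equiv.swap (3 : Fin 6) 4 * Equiv.swap 4 5) (sign_two (by decide) (by decide))
    haveI := Fact.mk hp
    have hd9 := pow_dvd_card_closure (x := x) (y := y) (p := 3) (k := 0) (by decide +kernel) (by decide +kernel)
      (by decide +kernel) ⟨1, by decide +kernel⟩ (by decide +kernel)
    obtain ⟨c, hc3, -, hz⟩ := exists_zpowers_of_comm σ hs hc hd (x := x) (y := y) (by decide +kernel) (k := 3)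
      (by decide +kernel) hp (not_dvd_index hd9 (by rw [hcard]; decide))
    exact ⟨c, fun z hzk h => hz z hzk k h, (orderOf_dvd_of_pow_eq_one hc3).trans (by norm_num)⟩
  refine ⟨1, fun z hzk h => ?_, by simp⟩
  rcases eq_or_ne p 5 with rfl | hp5
  · haveI := Fact.mk hp
    let x := ev (Equiv.swap (0 : Fin 6) 1 * Equiv.swap 1 2 * Equiv.swap 2 3 * Equiv.swap 3 4) (by decide +kernel)
    rw [eq_one_of_cyclic σ hs hc hd x hp (not_dvd_index (dvd_card_zpowers (x := x) (p := 5)
      (by decide +kernel) (by decide +kernel)) (by rw [hcard]; decide)) hzk (k := k) h]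
    exact one_mem _
  · rw [eq_one_of_cyclic σ hs hc hd 1 hp (not_dvd_index (one_dvd _) (by
      rw [hcard, Nat.div_one, show 360 = 2 ^ 3 * 3 ^ 2 * 5 ^ 1 * 7 ^ 0 from rfl]
      rcases eq_or_ne p 7 with rfl | hp7
      · decide
      · exact other_prime hp hp2 hp3 hp5 hp7)) hzk (k := k) h]
    exact one_mem _

theorem bound_seven_card (σ : Γ →* alternatingGroup (Fin 7))
    (hs : Function.Surjective σ) (hc : σ.ker ≤ Subgroup.center Γ) (hd : σ.ker ≤ commutator Γ) :
    Nat.card σ.ker ∣ 6 := by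
  have hcard : Nat.card (alternatingGroup (Fin 7)) = 2520 := by rw [card_alt 7 (by norm_num)]; decide
  refine card_dvd_of_primes σ 6 fun p hp k => ?_
  rcases eq_or_ne p 2 with rfl | hp2
  · obtain ⟨c, hc2, hz⟩ := two_part_seven σ hs hc hd
    exact ⟨c, fun z hzk h => hz z hzk k h, (orderOf_dvd_of_pow_eq_one hc2).trans (by norm_num)⟩
  rcases eq_or_ne p 3 with rfl | hp3
  · let x := ev (Equiv.swap (0 : Fin 7) 1 * Equiv.swap 1 2) (sign_two (by decide) (by decide))
    let y := ev (Equiv.swap (3 : Fin 7) 4 * Equiv.swap 4 5) (sign_two (by decide) (by decide))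
    haveI := Fact.mk hp
    have hd9 := pow_dvd_card_closure (x := x) (y := y) (p := 3) (k := 0) (by decide +kernel) (by decide +kernel)
      (by decide +kernel) ⟨1, by decide +kernel⟩ (by decide +kernel)
    obtain ⟨c, hc3, -, hz⟩ := exists_zpowers_of_comm σ hs hc hd (x := x) (y := y) (by decide +kernel) (k := 3)
      (by decide +kernel) hp (not_dvd_index hd9 (by rw [hcard]; decide))
    exact ⟨c, fun z hzk h => hz z hzk k h, (orderOf_dvd_of_pow_eq_one hc3).trans (by norm_num)⟩
  refine ⟨1, fun z hzk h => ?_, by simp⟩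
  rcases eq_or_ne p 5 with rfl | hp5
  · haveI := Fact.mk hp
    let x := ev (Equiv.swap (0 : Fin 7) 1 * Equiv.swap 1 2 * Equiv.swap 2 3 * Equiv.swap 3 4) (by decide +kernel)
    rw [eq_one_of_cyclic σ hs hc hd x hp (not_dvd_index (dvd_card_zpowers (x := x) (p := 5)
      (by decide +kernel) (by decide +kernel)) (by rw [hcard]; decide)) hzk (k := k) h]
    exact one_mem _
  rcases eq_or_ne p 7 with rfl | hp7
  · haveI := Fact.mk hp
    let x := ev (Equiv.swap (0 : Fin 7) 1 * Equiv.swap 1 2 * Equiv.swap 2 3 * Equiv.swap 3 4 *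
      Equiv.swap 4 5 * Equiv.swap 5 6) (by decide +kernel)
    rw [eq_one_of_cyclic σ hs hc hd x hp (not_dvd_index (dvd_card_zpowers (x := x) (p := 7)
      (by decide +kernel) (by decide +kernel)) (by rw [hcard]; decide)) hzk (k := k) h]
    exact one_mem _
  · rw [eq_one_of_cyclic σ hs hc hd 1 hp (not_dvd_index (one_dvd _) (by
      rw [hcard, Nat.div_one, show 2520 = 2 ^ 3 * 3 ^ 2 * 5 ^ 1 * 7 ^ 1 from rfl]
      exact other_prime hp hp2 hp3 hp5 hp7)) hzk (k := k) h]
    exact one_mem _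

/-- A stem extension with kernel of order two. -/
theorem exists_double {n : ℕ} (hn : 4 ≤ n) : ∃ (Δ : Type) (_ : Group Δ) (τ : Δ →* alternatingGroup (Fin n)),
    Cfsg.IsStemExtension τ ∧ Nat.card τ.ker = 2 := by
  obtain ⟨Δ, i1, i2, z, hzc, hz2, hzd, hN, ⟨e⟩⟩ :=
    CfsgLib.Char.Exceptional.SpinCover.exists_double_cover hn
  refine ⟨Δ, i1, e.toMonoidHom.comp (QuotientGroup.mk' (Subgroup.zpowers z)), ?_⟩
  have hker : (e.toMonoidHom.comp (QuotientGroup.mk' (Subgroup.zpowers z))).ker = Subgroup.zpowers z := by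
    ext x
    simp [MonoidHom.mem_ker]
  refine ⟨⟨e.surjective.comp (QuotientGroup.mk'_surjective _), ?_, ?_⟩, ?_⟩
  · rw [hker, Subgroup.zpowers_le]; exact hzc
  · rw [hker, Subgroup.zpowers_le]; exact hzd
  · rw [hker, Nat.card_zpowers, hz2]

/-- Assembly from an injection into degree seven, a double cover and a bound. -/
theorem hasMultiplier {n : ℕ} (hn : 4 ≤ n) (φ : alternatingGroup (Fin n) →* AltTriple.A7)
    (hφ : Function.Injective φ) (x y : alternatingGroup (Fin n))
    (hx : φ x = AltTriple.embA (AltTriple.gens 0)) (hy : φ y = AltTriple.embA (AltTriple.gens 1))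
    (hbound : ∀ (Γ : Type) [Group Γ] [Finite Γ] (σ : Γ →* alternatingGroup (Fin n)),
      Cfsg.IsStemExtension σ → Nat.card σ.ker ∣ 6) :
    Cfsg.HasCyclicSchurMultiplier (alternatingGroup (Fin n)) 6 := by
  obtain ⟨Δ, iΔ, τ, hτ, hτ2⟩ := exists_double hn
  have h3 := AltTriple.stem_pullback φ hφ x y hx hy
  set ρ : Ext (AltTriple.bigCocycle.pullback φ) →* alternatingGroup (Fin n) := Ext.proj with hρ
  have hρ3 : Nat.card ρ.ker = 3 := by
    rw [hρ, Nat.card_congr Ext.kerEquiv.toEquiv, Nat.card_congr Multiplicative.toAdd, Nat.card_zmod]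
  haveI := Fact.mk Nat.prime_two
  haveI := Fact.mk Nat.prime_three
  haveI : IsCyclic τ.ker := isCyclic_of_prime_card hτ2
  haveI : IsCyclic ρ.ker := isCyclic_of_prime_card hρ3
  haveI : Finite τ.ker := Nat.finite_of_card_ne_zero (by omega)
  haveI : Finite ρ.ker := Nat.finite_of_card_ne_zero (by omega)
  have hcop : Nat.Coprime (Nat.card τ.ker) (Nat.card ρ.ker) := by rw [hτ2, hρ3]; decide
  haveI : IsCyclic (τ.ker × ρ.ker) := (Group.isCyclic_prod_iff).2 ⟨inferInstance, inferInstance, hcop⟩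
  refine CfsgLib.Schur.hasSchurMultiplier_of_witness (CfsgLib.Schur.fibreMap τ ρ)
    (CfsgLib.Schur.isStemExtension_fibreProduct τ ρ hτ h3 hcop)
    ((CfsgLib.Schur.fibreKerEquiv τ ρ).trans (mulEquivOfCyclicCardEq (by
      rw [Nat.card_prod, hτ2, hρ3, Nat.card_congr Multiplicative.toAdd, Nat.card_zmod]))) fun Γ _ _ σ hσ => ?_
  rw [Nat.card_congr Multiplicative.toAdd, Nat.card_zmod]
  exact Nat.le_of_dvd (by norm_num) (hbound Γ σ hσ)

/-- The inclusion of degree six into degree seven. -/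
def sixToSeven : alternatingGroup (Fin 6) →* AltTriple.A7 where
  toFun g := ⟨g.1.extendDomain (Fin.castLEquiv (show 6 ≤ 7 by norm_num)), by
    rw [Equiv.Perm.mem_alternatingGroup, Equiv.Perm.sign_extendDomain]; exact g.2⟩
  map_one' := Subtype.ext (Equiv.Perm.extendDomain_one _)
  map_mul' a b := Subtype.ext (Equiv.Perm.extendDomain_mul _ _ _).symm

theorem multiplier_six : Cfsg.HasCyclicSchurMultiplier (alternatingGroup (Fin 6)) 6 :=
  hasMultiplier (by norm_num) sixToSeven
    (fun a b h => Subtype.ext (Equiv.Perm.extendDomainHom_injective _ (congrArg Subtype.val h)))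
    (ev (Equiv.swap (0 : Fin 6) 1 * Equiv.swap 1 2) (sign_two (by decide) (by decide)))
    (ev (Equiv.swap (3 : Fin 6) 4 * Equiv.swap 4 5) (sign_two (by decide) (by decide)))
    (by decide +kernel) (by decide +kernel) fun _ _ _ σ h => bound_six_card σ h.1 h.2.1 h.2.2

theorem multiplier_seven : Cfsg.HasCyclicSchurMultiplier (alternatingGroup (Fin 7)) 6 :=
  hasMultiplier (by norm_num) (MonoidHom.id _) Function.injective_id _ _ rfl rfl
    fun _ _ _ σ h => bound_seven_card σ h.1 h.2.1 h.2.2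

end CfsgLib.Known.AltSixSeven
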