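import Mathlib
import Cfsg.Prelude.Def_KGroupFacts

/-!
# Transport of Schur multipliers along isomorphisms
-/

set_option autoImplicit false

namespace CfsgLib.Known

universe u v

theorem stem_comp {Γ G H : Type u} [Group Γ] [Group G] [Group H] {σ : Γ →* G} (h : Cfsg.IsStemExtension σ)
    (e : G ≃* H) : Cfsg.IsStemExtension (e.toMonoidHom.comp σ) ∧ (e.toMonoidHom.comp σ).ker = σ.ker := by
  have hk : (e.toMonoidHom.comp σ).ker = σ.ker := by ext; simp
  exact ⟨⟨e.surjective.comp h.1, hk ▸ h.2.1, hk ▸ h.2.2⟩, hk⟩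

/-- isomorphic groups have the same multiplier -/
theorem hasSchurMultiplier_congr {G H : Type u} [Group G] [Group H] (e : G ≃* H) {A : Type v} [CommGroup A]
    (h : Cfsg.HasSchurMultiplier G A) : Cfsg.HasSchurMultiplier H A := by
  obtain ⟨⟨Γ, i1, i2, σ, hσ, ⟨f⟩⟩, hB⟩ := h
  refine ⟨⟨Γ, i1, i2, _, (stem_comp hσ e).1, ⟨(MulEquiv.subgroupCongr (stem_comp hσ e).2).trans f⟩⟩,
    fun Δ _ _ τ hτ => ?_⟩
  obtain ⟨hs, hk⟩ := stem_comp hτ e.symm
  obtain ⟨π, hπ⟩ := hB Δ _ hs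
  exact ⟨(MulEquiv.subgroupCongr hk).toMonoidHom.comp π, (MulEquiv.subgroupCongr hk).surjective.comp hπ⟩

end CfsgLib.Known
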