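import Cfsg.Agent.Lib.Classical.SL2Structure
import Cfsg.Agent.Lib.Schur.Corestriction
import Cfsg.Agent.Lib.Schur.Multiplier
import Cfsg.Agent.Lib.Schur.Dihedral
import Cfsg.Agent.Lib.Schur.TwoGen

/-!
# The Schur multiplier of `SL(2, q)` away from the exceptional fields
-/

set_option autoImplicit false

namespace CfsgLib.Known.SL2Mult

open Matrix
open scoped MatrixGroups commutatorElement

variable {F : Type*} [Field F]

/-- upper unitriangular elements -/
def uu : Multiplicative F →* SL(2, F) where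
  toFun t := ⟨!![1, t.toAdd; 0, 1], by simp [Matrix.det_fin_two]⟩
  map_one' := Subtype.ext (by
    show !![1, (1 : Multiplicative F).toAdd; 0, 1] = (1 : Matrix (Fin 2) (Fin 2) F)
    rw [toAdd_one, Matrix.one_fin_two])
  map_mul' a b := Subtype.ext (by
    show !![1, (a * b).toAdd; 0, 1] = !![1, a.toAdd; 0, 1] * !![1, b.toAdd; 0, 1]
    rw [toAdd_mul, Matrix.mul_fin_two]
    simp [add_comm])

theorem uu_injective : Function.Injective (uu (F := F)) := fun a b h =>
  Multiplicative.toAdd.injective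
    (congrArg (fun g : SL(2, F) => (g : Matrix (Fin 2) (Fin 2) F) 0 1) h :)

/-- diagonal elements -/
def dg (c : Fˣ) : SL(2, F) := ⟨!![(c : F), 0; 0, ((c⁻¹ : Fˣ) : F)], by simp [Matrix.det_fin_two]⟩

theorem dg_conj (c : Fˣ) (t : F) :
    dg c * uu (Multiplicative.ofAdd t) = uu (Multiplicative.ofAdd ((c : F) * c * t)) * dg c := by
  refine Subtype.ext ?_
  show !![(c : F), 0; 0, ((c⁻¹ : Fˣ) : F)] * !![1, t; 0, 1] =
    !![1, (c : F) * c * t; 0, 1] * !![(c : F), 0; 0, ((c⁻¹ : Fˣ) : F)]
  rw [Matrix.mul_fin_two, Matrix.mul_fin_two]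
  simp only [Units.val_inv_eq_inv_val]
  ext i j
  fin_cases i <;> fin_cases j <;> simp <;> field_simp

section Pairing

variable {Γ : Type*} [Group Γ] (σ : Γ →* SL(2, F)) (hs : Function.Surjective σ)
  (hc : σ.ker ≤ Subgroup.center Γ)
include hs hc

/-- lifts of the upper unitriangular group commute when squares contain a good split of one -/
theorem lifts_commute_of_split {x y : F} (hx : x ≠ 0) (hy : y ≠ 0) (h1 : x * x + y * y = 1)
    (h2 : x * x * (y * y) ≠ 1) {a b : Γ} (ha : σ a ∈ (uu (F := F)).range) (hb : σ b ∈ (uu (F := F)).range) :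
    Commute a b := by
  obtain ⟨A, hA⟩ : ∃ A : F → Γ, ∀ t, σ (A t) = uu (Multiplicative.ofAdd t) :=
    ⟨fun t => Function.surjInv hs (uu (Multiplicative.ofAdd t)), fun t => Function.surjInv_eq hs _⟩
  have hcongr : ∀ {a a' b b' : Γ}, σ a = σ a' → σ b = σ b' → ⁅a, b⁆ = ⁅a', b'⁆ := by
    intro a a' b b' ha hb
    obtain ⟨z, hz, rfl⟩ : ∃ z ∈ Subgroup.center Γ, a = a' * z :=
      ⟨a'⁻¹ * a, hc (by rw [MonoidHom.mem_ker, map_mul, map_inv, ha, inv_mul_cancel]), by group⟩
    obtain ⟨w, hw, rfl⟩ : ∃ w ∈ Subgroup.center Γ, b = b' * w :=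
      ⟨b'⁻¹ * b, hc (by rw [MonoidHom.mem_ker, map_mul, map_inv, hb, inv_mul_cancel]), by group⟩
    simp only [commutatorElement_def, _root_.mul_inv_rev]
    have hzc := Subgroup.mem_center_iff.1 hz
    have hwc := Subgroup.mem_center_iff.1 hw
    calc a' * z * (b' * w) * (z⁻¹ * a'⁻¹) * (w⁻¹ * b'⁻¹)
        = a' * (z * (b' * w)) * z⁻¹ * a'⁻¹ * w⁻¹ * b'⁻¹ := by group
      _ = a' * ((b' * w) * z) * z⁻¹ * a'⁻¹ * w⁻¹ * b'⁻¹ := by rw [hzc]
      _ = a' * b' * (w * a'⁻¹) * w⁻¹ * b'⁻¹ := by group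
      _ = a' * b' * (a'⁻¹ * w) * w⁻¹ * b'⁻¹ := by rw [hwc]
      _ = a' * b' * a'⁻¹ * b'⁻¹ := by group
  obtain ⟨f, hf⟩ : ∃ f : F → F → Γ, f = fun t u => ⁅A t, A u⁆ := ⟨_, rfl⟩
  have hker : ∀ t u, f t u ∈ Subgroup.center Γ := fun t u => hc (by
    rw [MonoidHom.mem_ker, hf, map_commutatorElement, hA, hA, commutatorElement_eq_one_iff_mul_comm,
      ← map_mul (uu (F := F)), ← map_mul (uu (F := F)), mul_comm])
  have hr : ∀ t u u', f t u * f t u' = f t (u + u') := by
    intro t u u'
    have hz := Subgroup.mem_center_iff.1 (hker t u') (A u)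
    rw [hf] at hz ⊢
    simp only at hz ⊢
    rw [hcongr (rfl : σ (A t) = σ (A t)) (b := A (u + u')) (b' := A u * A u') (by simp only [map_mul, hA]; rw [← map_mul (uu (F := F)), ← ofAdd_add]),
      show ⁅A t, A u * A u'⁆ = ⁅A t, A u⁆ * (A u * ⁅A t, A u'⁆ * (A u)⁻¹) by
        simp only [commutatorElement_def]; group, hz, mul_inv_cancel_right]
  have hinv : ∀ t u, (f t u)⁻¹ = f u t := fun t u => by rw [hf]; exact commutatorElement_inv _ _
  have hl : ∀ t t' u, f t u * f t' u = f (t + t') u := fun t t' u => by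
    rw [← hinv u t, ← hinv u t', ← _root_.mul_inv_rev, hr, hinv, add_comm]
  have hscale : ∀ (c : Fˣ) (t u : F), f ((c : F) * c * t) ((c : F) * c * u) = f t u := by
    intro c t u
    obtain ⟨g, hg⟩ := hs (dg c)
    have e : ∀ t, σ (A ((c : F) * c * t)) = σ (g * A t * g⁻¹) := fun t => by
      rw [map_mul, map_mul, map_inv, hg, hA, hA, dg_conj, mul_inv_cancel_right]
    have hz := Subgroup.mem_center_iff.1 (hker t u) g
    rw [hf] at hz ⊢
    simp only at hz ⊢
    rw [hcongr (e t) (e u), show ⁅g * A t * g⁻¹, g * A u * g⁻¹⁆ = g * ⁅A t, A u⁆ * g⁻¹ by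
      simp only [commutatorElement_def]; group, hz, mul_inv_cancel_right]
  have key : ∀ t u, f t u = 1 := by
    intro t u
    have e1 : ∀ (c : Fˣ) (v : F), f ((c : F) * c * t) v = f t (v / ((c : F) * c)) := fun c v => by
      rw [← hscale c t (v / ((c : F) * c)), mul_div_cancel₀ _ (mul_ne_zero c.ne_zero c.ne_zero)]
    have hs' : ∀ v, f t v = f t (v / (x * x) + v / (y * y)) := fun v => by
      have := e1 (Units.mk0 x hx) v
      have h' := e1 (Units.mk0 y hy) v
      simp only [Units.val_mk0] at this h'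
      rw [← hr, ← this, ← h', hl, ← add_mul, h1, one_mul]
    obtain ⟨d, hd⟩ : ∃ d, d = 1 / (x * x) + 1 / (y * y) - 1 := ⟨_, rfl⟩
    have hxx := mul_ne_zero hx hx
    have hyy := mul_ne_zero hy hy
    have hd0 : d ≠ 0 := by
      intro h0
      apply h2
      rw [hd, sub_eq_zero, div_add_div _ _ hxx hyy, div_eq_one_iff_eq (mul_ne_zero hxx hyy)] at h0
      rw [← h0]; linear_combination h1
    have h3 := hs' (u / d)
    rw [show u / d / (x * x) + u / d / (y * y) = u / d + u by
      rw [show u / d / (x * x) + u / d / (y * y) = u / d * (d + 1) by rw [hd]; ring, mul_add, mul_one,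
        div_mul_cancel₀ _ hd0, add_comm], ← hr] at h3
    exact mul_eq_left.1 h3.symm
  obtain ⟨t, ht⟩ := ha
  obtain ⟨u, hu⟩ := hb
  rw [← commutatorElement_eq_one_iff_commute, hcongr (a' := A t.toAdd) (b' := A u.toAdd)
    (by rw [hA, ← ht]; rfl) (by rw [hA, ← hu]; rfl)]
  have := key t.toAdd u.toAdd
  rwa [hf] at this

end Pairing

theorem exists_split [Fintype F] (h : 16 ≤ Fintype.card F ∨ ((2 : F) = 0 ∧ 5 ≤ Fintype.card F)) :
    ∃ x y : F, x ≠ 0 ∧ y ≠ 0 ∧ x * x + y * y = 1 ∧ x * x * (y * y) ≠ 1 := by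
  classical
  by_cases h2 : (2 : F) = 0
  · have h5 : 5 ≤ Fintype.card F := h.elim (fun h => le_trans (by norm_num) h) fun h => h.2
    by_contra hcon
    push Not at hcon
    have hbad : ∀ a : F, a = 0 ∨ 1 - a = 0 ∨ a * (1 - a) = 1 := by
      intro a
      rcases eq_or_ne a 0 with ha | ha
      · exact Or.inl ha
      rcases eq_or_ne (1 - a) 0 with hb | hb
      · exact Or.inr (Or.inl hb)
      have h' := hcon a (1 - a) ha hb (by linear_combination (a * a - a) * h2)
      refine Or.inr (Or.inr (sub_eq_zero.1 (mul_self_eq_zero.1 ?_)))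
      linear_combination h' - (a * (1 - a) - 1) * h2
    by_cases hroot : ∃ a0 : F, a0 * (1 - a0) = 1
    · obtain ⟨a0, ha0⟩ := hroot
      have hsub : Finset.univ ⊆ ({0, 1, a0, 1 - a0} : Finset F) := fun a _ => by
        simp only [Finset.mem_insert, Finset.mem_singleton]
        rcases hbad a with h | h | h
        · exact Or.inl h
        · exact Or.inr (Or.inl (sub_eq_zero.1 h).symm)
        · rcases mul_eq_zero.1 (show (a - a0) * (a - (1 - a0)) = 0 by linear_combination ha0 - h) with e | e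
          · exact Or.inr (Or.inr (Or.inl (sub_eq_zero.1 e)))
          · exact Or.inr (Or.inr (Or.inr (sub_eq_zero.1 e)))
      have h' := (Finset.card_le_card hsub).trans Finset.card_le_four
      rw [Finset.card_univ] at h'
      omega
    · have hsub : Finset.univ ⊆ ({0, 1} : Finset F) := fun a _ => by
        simp only [Finset.mem_insert, Finset.mem_singleton]
        rcases hbad a with h | h | h
        · exact Or.inl h
        · exact Or.inr (sub_eq_zero.1 h).symm
        · exact absurd ⟨a, h⟩ hroot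
      have h' := (Finset.card_le_card hsub).trans Finset.card_le_two
      rw [Finset.card_univ] at h'
      omega
  · have h16 : 16 ≤ Fintype.card F := h.resolve_right fun h => h2 h.1
    let P : Polynomial F := Polynomial.X * (1 - Polynomial.X ^ 2) * (1 + Polynomial.X ^ 2) *
      ((1 + Polynomial.X ^ 2) ^ 4 - 4 * Polynomial.X ^ 2 * (1 - Polynomial.X ^ 2) ^ 2)
    have hdeg : P.natDegree ≤ 13 := by
      show (Polynomial.X * (1 - Polynomial.X ^ 2) * (1 + Polynomial.X ^ 2) *
        ((1 + Polynomial.X ^ 2) ^ 4 - 4 * Polynomial.X ^ 2 * (1 - Polynomial.X ^ 2) ^ 2) : Polynomial F).natDegree ≤ 13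
      compute_degree
    have hP : P ≠ 0 := by
      intro hP
      have e : (Polynomial.X * ((1 - Polynomial.X ^ 2) * (1 + Polynomial.X ^ 2) *
          ((1 + Polynomial.X ^ 2) ^ 4 - 4 * Polynomial.X ^ 2 * (1 - Polynomial.X ^ 2) ^ 2)) : Polynomial F) = 0 := by
        rw [← hP]; ring
      have e' := (mul_eq_zero.1 e).resolve_left Polynomial.X_ne_zero
      have := congrArg (Polynomial.eval 0) e'
      simp at this
    obtain ⟨t, -, ht⟩ := Finset.exists_mem_notMem_of_card_lt_card (s := P.roots.toFinset) (t := Finset.univ)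
      (by
        rw [Finset.card_univ]
        exact lt_of_le_of_lt ((Multiset.toFinset_card_le _).trans (Polynomial.card_roots' P)) (by omega))
    rw [Multiset.mem_toFinset, Polynomial.mem_roots hP, Polynomial.IsRoot.def] at ht
    simp only [P, Polynomial.eval_mul, Polynomial.eval_sub, Polynomial.eval_add, Polynomial.eval_pow,
      Polynomial.eval_X, Polynomial.eval_one, Polynomial.eval_ofNat, mul_ne_zero_iff] at ht
    obtain ⟨⟨⟨ht0, hm⟩, hp⟩, hf⟩ := ht
    refine ⟨2 * t / (1 + t ^ 2), (1 - t ^ 2) / (1 + t ^ 2), div_ne_zero (mul_ne_zero h2 ht0) hp,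
      div_ne_zero hm hp, ?_, fun e => hf ?_⟩
    · field_simp; ring
    · field_simp at e
      linear_combination -e

theorem hasCyclicSchurMultiplier_one_congr {Q : Type*} [Group Q] [Finite Q] {R : Type*} [Group R]
    (e : Q ≃* R) (h : Cfsg.HasCyclicSchurMultiplier Q 1) : Cfsg.HasCyclicSchurMultiplier R 1 := by
  have : Finite R := Finite.of_equiv _ e.toEquiv
  refine CfsgLib.Schur.hasCyclicSchurMultiplier_one_of_forall fun Γ _ _ σ hσ => ?_
  have hk : ((e.symm : R →* Q).comp σ).ker = σ.ker := by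
    ext g; simp
  obtain ⟨hs, hc, hd⟩ := hσ
  have h' := CfsgLib.Schur.hasCyclicSchurMultiplier_one_iff.1 h
  have := CfsgLib.Schur.card_inf_le (ξ := (e.symm : R →* Q).comp σ) (e.symm.surjective.comp hs) (hk ▸ hc)
  rw [hk, inf_eq_left.2 hd, h', Subgroup.card_bot] at this
  exact (Subgroup.card_le_one_iff_eq_bot _).1 this

/-- if a subgroup has trivial multiplier, the index kills the kernel of a stem extension -/
theorem pow_index_eq_one {Q : Type*} [Group Q] {Γ : Type*} [Group Γ] [Finite Γ] (σ : Γ →* Q)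
    (hσ : Cfsg.IsStemExtension σ) (U : Subgroup Q)
    (hU : ∀ (z : Γ) (h : z ∈ U.comap σ), z ∈ σ.ker → (⟨z, h⟩ : U.comap σ) ∈ commutator (U.comap σ) → z = 1)
    {z : Γ} (hz : z ∈ σ.ker) : z ^ U.index = 1 := by
  obtain ⟨hs, hc, hd⟩ := hσ
  obtain ⟨h, hmem⟩ := CfsgLib.Schur.pow_index_mem_commutator (U.comap σ) (hc hz) (hd hz)
  revert h hmem
  rw [Subgroup.index_comap_of_surjective _ hs]
  intro h hmem
  exact hU _ h (pow_mem hz _) hmem

theorem trivial_of_mult {Q : Type*} [Group Q] {Γ : Type*} [Group Γ] [Finite Γ] (σ : Γ →* Q)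
    (hσ : Cfsg.IsStemExtension σ) (U : Subgroup Q) [Finite U] (hM : Cfsg.HasCyclicSchurMultiplier U 1) (z : Γ)
    (h : z ∈ U.comap σ) (hz : z ∈ σ.ker) (hcom : (⟨z, h⟩ : U.comap σ) ∈ commutator (U.comap σ)) : z = 1 := by
  obtain ⟨hs, hc, -⟩ := hσ
  let ξ : U.comap σ →* U := (σ.comp (U.comap σ).subtype).codRestrict U fun x => x.2
  have hξs : Function.Surjective ξ := fun u => by
    obtain ⟨g, hg⟩ := hs u
    exact ⟨⟨g, by rw [Subgroup.mem_comap, hg]; exact u.2⟩, Subtype.ext hg⟩
  have hξc : ξ.ker ≤ Subgroup.center (U.comap σ) := fun x hx => by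
    have hxk : (x : Γ) ∈ σ.ker := MonoidHom.mem_ker.2 (congrArg Subtype.val (MonoidHom.mem_ker.1 hx))
    exact Subgroup.mem_center_iff.2 fun y => Subtype.ext (Subgroup.mem_center_iff.1 (hc hxk) _)
  have := CfsgLib.Schur.card_inf_le hξs hξc
  rw [CfsgLib.Schur.hasCyclicSchurMultiplier_one_iff.1 hM, Subgroup.card_bot,
    Subgroup.card_le_one_iff_eq_bot] at this
  have hm : (⟨z, h⟩ : U.comap σ) ∈ ξ.ker ⊓ commutator (U.comap σ) :=
    ⟨Subtype.ext (MonoidHom.mem_ker.1 hz), hcom⟩
  rw [this, Subgroup.mem_bot] at hm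
  exact congrArg Subtype.val hm

theorem hasCyclicSchurMultiplier_SL_two [Fintype F] (h4 : Fintype.card F ≠ 4) (h9 : Fintype.card F ≠ 9) :
    Cfsg.HasCyclicSchurMultiplier SL(2, F) 1 := by
  classical
  refine CfsgLib.Schur.hasCyclicSchurMultiplier_one_of_forall fun Γ _ _ σ hσ => (Subgroup.eq_bot_iff_forall _).2 fun z hz => ?_
  obtain ⟨p, k, hp, hk, hpk⟩ : ∃ p k : ℕ, p.Prime ∧ 0 < k ∧ CharP F p ∧ Fintype.card F = p ^ k := by
    obtain ⟨p, hchar⟩ := CharP.exists F
    obtain ⟨k, hp, hk⟩ := FiniteField.card F p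
    exact ⟨p, k, hp, k.2, hchar, hk⟩
  obtain ⟨hchar, hcard⟩ := hpk
  have := Fact.mk hp
  rw [← orderOf_eq_one_iff]
  by_contra hne
  obtain ⟨r, hr, hrz⟩ := Nat.exists_prime_and_dvd hne
  have := Fact.mk hr
  have key : ∃ U : Subgroup SL(2, F), ¬ r ∣ U.index ∧
      ∀ (z : Γ) (h : z ∈ U.comap σ), z ∈ σ.ker → (⟨z, h⟩ : U.comap σ) ∈ commutator (U.comap σ) → z = 1 := by
    by_cases hrp : r = p
    · subst hrp
      have hcardU : Nat.card (uu (F := F)).range = Fintype.card F := by
        rw [← Nat.card_congr (MonoidHom.ofInjective uu_injective).toEquiv, Nat.card_eq_fintype_card]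
        exact Fintype.card_multiplicative F
      refine ⟨(uu (F := F)).range, ?_, ?_⟩
      · intro hdvd
        have h1 := Subgroup.card_mul_index (uu (F := F)).range
        rw [hcardU, CfsgLib.Classical.Two.card_SL_two] at h1
        rw [Nat.eq_of_mul_eq_mul_left (Fintype.card_pos) h1] at hdvd
        exact CfsgLib.Classical.Two.not_dvd_card_sq_sub_one r hdvd
      by_cases hk1 : k = 1
      · subst hk1
        rw [pow_one] at hcard
        have : IsCyclic (uu (F := F)).range := isCyclic_of_prime_card (hcardU.trans hcard)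
        exact fun z h hzk hc => trivial_of_mult σ hσ _
          (CfsgLib.Schur.hasCyclicSchurMultiplier_one_of_isCyclic _) z h hzk hc
      · obtain ⟨x, y, hx, hy, h1, h2⟩ := exists_split (F := F) (by
          have h2k : 2 ≤ k := by omega
          by_cases hr2 : r = 2
          · subst hr2
            refine Or.inr ⟨by exact_mod_cast CharP.cast_eq_zero F 2, ?_⟩
            rcases (show k = 2 ∨ 3 ≤ k by omega) with rfl | h3
            · exact absurd hcard h4
            · have := Nat.pow_le_pow_right (show 1 ≤ 2 by norm_num) h3; omega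
          · refine Or.inl ?_
            rcases (show r = 3 ∨ 5 ≤ r by
              have := hr.two_le
              rcases hr.eq_two_or_odd with h | h <;> omega) with rfl | h5
            · rcases (show k = 2 ∨ 3 ≤ k by omega) with rfl | h3
              · exact absurd hcard h9
              · have := Nat.pow_le_pow_right (show 1 ≤ 3 by norm_num) h3; omega
            · have := Nat.pow_le_pow_left h5 k
              have := Nat.pow_le_pow_right (show 1 ≤ 5 by norm_num) h2k
              omega)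
        intro z h _ hc
        have hab : commutator ((uu (F := F)).range.comap σ) = ⊥ := by
          rw [commutator_def, Subgroup.commutator_eq_bot_iff_le_centralizer]
          intro a _
          rw [Subgroup.mem_centralizer_iff]
          intro b _
          exact Subtype.ext (lifts_commute_of_split σ hσ.1 hσ.2.1 hx hy h1 h2 b.2 a.2).eq
        rw [hab, Subgroup.mem_bot] at hc
        exact congrArg Subtype.val hc
    · obtain ⟨R⟩ : Nonempty (Sylow r SL(2, F)) := inferInstance
      refine ⟨R, Sylow.not_dvd_index R, fun z h hzk hc => trivial_of_mult σ hσ _ ?_ z h hzk hc⟩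
      by_cases hr2 : r = 2
      · subst hr2
        obtain ⟨n, hn, ⟨e⟩⟩ := CfsgLib.Classical.Two.sylow_two_quaternion (p := p) (F := F) (Ne.symm hrp)
          (MonoidHom.id SL(2, F)) Function.injective_id
          (Matrix.SpecialLinearGroup.map (ZMod.castHom dvd_rfl F))
          (fun a b h => Subtype.ext (by
            ext i j
            have := congrArg (fun g : SL(2, F) => (g : Matrix (Fin 2) (Fin 2) F) i j) h
            exact (ZMod.castHom_injective F) this)) R
        refine hasCyclicSchurMultiplier_one_congr e.symm ?_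
        refine CfsgLib.Schur.hasCyclicSchurMultiplier_one_of_forall fun Δ _ _ τ hτ => ?_
        obtain ⟨c, hle, hc'⟩ := CfsgLib.Schur.ker_le_of_dihedral_type hτ
          (CfsgLib.Schur.quaternion_gen (2 ^ n)) (CfsgLib.Schur.quaternion_rel (2 ^ n)) (2 ^ n)
          (CfsgLib.Schur.quaternion_central hτ) (2 ^ n) (CfsgLib.Schur.quaternion_dvd (2 ^ n))
        rw [hc'] at hle
        simpa using hle
      · have := CfsgLib.Classical.Two.isCyclic_sylow_odd p r hr2 hrp R
        exact CfsgLib.Schur.hasCyclicSchurMultiplier_one_of_isCyclic _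
  obtain ⟨U, hU1, hU2⟩ := key
  exact hU1 (hrz.trans (orderOf_dvd_of_pow_eq_one (pow_index_eq_one σ hσ U hU2 hz)))

end CfsgLib.Known.SL2Mult
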