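import Cfsg.Agent.Lib.Classical.Quad.OmegaIndex

/-!
# Membership in `Ω` by parity and spinor norm; transitivity corrections
-/

set_option autoImplicit false

namespace CfsgLib.Known.OmegaCriterion

open QuadraticMap (polar polarBilin)
open CfsgLib.Classical.Quad

variable {F : Type*} [Field F]

section General

variable {V : Type*} [AddCommGroup V] [Module F V] [FiniteDimensional F V] {Q : QuadraticForm F V}

/-- The parity of an isometry. -/
noncomputable def par (g : OQ Q) : ZMod 2 := (Module.finrank F (mov g) : ZMod 2)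

theorem invariants_eq (g : OQ Q) : invariants g = (Multiplicative.ofAdd (par g), spinor g) := rfl

theorem invariants_eq_one_iff (g : OQ Q) : invariants g = 1 ↔ par g = 0 ∧ spinor g = 1 := by
  rw [invariants_eq, Prod.mk_eq_one, ofAdd_eq_one]

theorem par_mul (hQ : (polarBilin Q).Nondegenerate) (hR : reflGroup Q = ⊤) (g h : OQ Q) :
    par (g * h) = par g + par h := by
  have e := congrArg (fun p => Multiplicative.toAdd p.1) (invariants_mul hQ hR g h)
  exact e

theorem spinor_mul (hQ : (polarBilin Q).Nondegenerate) (hR : reflGroup Q = ⊤) (g h : OQ Q) :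
    spinor (g * h) = spinor g * spinor h :=
  congrArg Prod.snd (invariants_mul hQ hR g h)

theorem par_refl_mul (hQ : (polarBilin Q).Nondegenerate) (g : OQ Q) {v : V} (hv : Q v ≠ 0) :
    par (refl hv * g) = par g + 1 := by
  have e := congrArg (fun p => Multiplicative.toAdd p.1) (invariants_refl_mul hQ g hv)
  exact e.trans (add_comm _ _)

theorem spinor_refl_mul (hQ : (polarBilin Q).Nondegenerate) (g : OQ Q) {v : V} (hv : Q v ≠ 0) :
    spinor (refl hv * g) = sqc (Q v) * spinor g :=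
  congrArg Prod.snd (invariants_refl_mul hQ g hv)

theorem par_one (hQ : (polarBilin Q).Nondegenerate) : par (1 : OQ Q) = 0 :=
  congrArg (fun p => Multiplicative.toAdd p.1) (invariants_one hQ)

theorem spinor_one (hQ : (polarBilin Q).Nondegenerate) : spinor (1 : OQ Q) = 1 :=
  congrArg Prod.snd (invariants_one hQ)

theorem par_refl (hQ : (polarBilin Q).Nondegenerate) {v : V} (hv : Q v ≠ 0) : par (refl hv) = 1 := by
  rw [← mul_one (refl hv), par_refl_mul hQ, par_one hQ, zero_add]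

theorem spinor_refl (hQ : (polarBilin Q).Nondegenerate) {v : V} (hv : Q v ≠ 0) :
    spinor (refl hv) = sqc (Q v) := by
  rw [← mul_one (refl hv), spinor_refl_mul hQ, spinor_one hQ, mul_one]

theorem eq_one_of_finrank_mov (g : OQ Q) (h : Module.finrank F (mov g) = 0) : g = 1 := by
  refine Subtype.ext (LinearEquiv.ext fun z => ?_)
  have : movMap g z ∈ mov g := ⟨z, rfl⟩
  rw [Submodule.finrank_eq_zero.1 h, Submodule.mem_bot, movMap_apply, sub_eq_zero] at this
  exact this.symm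

theorem mem_commutator_iff [Finite F] (hQ : (polarBilin Q).Nondegenerate) (hR : reflGroup Q = ⊤)
    (g : OQ Q) : g ∈ commutator (OQ Q) ↔ par g = 0 ∧ spinor g = 1 := by
  rw [← invariants_eq_one_iff]
  by_cases hn : 2 ≤ Module.finrank F V
  · rw [← ker_invHom_eq_commutator hQ hR hn]
    rfl
  · refine ⟨fun h => MonoidHom.mem_ker.1 (Abelianization.commutator_subset_ker (invHom hQ hR) h), fun h => ?_⟩
    have h2 := ((invariants_eq_one_iff g).1 h).1
    have hle := (Submodule.finrank_le (mov g)).trans (Nat.le_of_lt_succ (not_le.1 hn))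
    have h0 : Module.finrank F (mov g) = 0 := by
      rcases Nat.le_one_iff_eq_zero_or_eq_one.1 hle with h0 | h0
      · exact h0
      · rw [par, h0] at h2
        exact absurd h2 (by decide)
    rw [eq_one_of_finrank_mov g h0]
    exact one_mem _

theorem spinor_of_two_eq_zero [Finite F] (h2 : (2 : F) = 0) (g : OQ Q) : spinor g = 1 := by
  obtain ⟨hs, -⟩ := Nat.card_eq_one_iff_unique.1 (card_sqClass_of_two_eq_zero (F := F) h2)
  exact hs.elim _ _

theorem sqc_mul_self (x : F) : sqc x * sqc x = 1 := sqClass_mul_self _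

/-- A reflection stabilises a subspace containing its centre, or perpendicular to it. -/
theorem refl_map_eq {W : Submodule F V} {v : V} (hv : Q v ≠ 0)
    (h : v ∈ W ∨ ∀ u ∈ W, polar Q u v = 0) :
    W.map (((refl hv : OQ Q) : V ≃ₗ[F] V) : V →ₗ[F] V) = W := by
  refine Submodule.eq_of_le_of_finrank_eq ?_ (LinearEquiv.finrank_map_eq _ W)
  rintro _ ⟨z, hz, rfl⟩
  show ((refl hv : OQ Q) : V ≃ₗ[F] V) z ∈ W
  rw [refl_apply]
  rcases h with h | h
  · exact W.sub_mem hz (W.smul_mem _ h)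
  · rw [h z hz, mul_zero, zero_smul, sub_zero]
    exact hz

theorem map_mul_eq (g h : OQ Q) (U : Submodule F V) :
    U.map ((((g * h : OQ Q)) : V ≃ₗ[F] V) : V →ₗ[F] V) =
      (U.map ((h : V ≃ₗ[F] V) : V →ₗ[F] V)).map ((g : V ≃ₗ[F] V) : V →ₗ[F] V) :=
  (Submodule.map_comp ((h : V ≃ₗ[F] V) : V →ₗ[F] V) ((g : V ≃ₗ[F] V) : V →ₗ[F] V) U)

/-- The dilation as a product of two reflections. -/
theorem exists_dil (hQ : (polarBilin Q).Nondegenerate) {w w' : V} (hw : Q w = 0) (hw' : Q w' = 0)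
    (h : polar Q w w' = 1) {d : F} (hd : d ≠ 0) :
    ∃ g : OQ Q, (∀ z, (g : V ≃ₗ[F] V) z =
      z + ((d - 1) * polar Q z w') • w + ((d⁻¹ - 1) * polar Q z w) • w') ∧
      par g = 0 ∧ spinor g = sqc d := by
  have hq : ∀ c : F, Q (w + (-c) • w') = -c := fun c => by
    rw [apply_add, apply_smul, polar_smul_right', hw, hw', h]; ring
  have h1 : Q (w + (-1 : F) • w') ≠ 0 := by rw [hq]; simp
  have h2 : Q (w + (-d) • w') ≠ 0 := by rw [hq]; simpa
  refine ⟨refl h1 * refl h2, fun z => ?_, ?_, ?_⟩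
  · rw [refl_mul_refl_apply, refl_apply, refl_apply, hq, hq]
    have hw'w : polar Q w' w = 1 := by rw [QuadraticMap.polar_comm]; exact h
    simp only [polar_add_right', polar_smul_right', QuadraticMap.polar_sub_left, polar_smul_left',
      polar_add_left', polar_self', hw, hw', h, hw'w]
    match_scalars <;> field_simp <;> ring
  · rw [par_refl_mul hQ, par_refl hQ]
    decide
  · rw [spinor_refl_mul hQ, spinor_refl hQ, hq, hq, ← sqc_mul (by simp) (neg_ne_zero.2 hd)]
    congr 1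
    ring

end General

section Matrices

variable {ι : Type} [Fintype ι] [DecidableEq ι] {Q : QuadraticForm F (ι → F)}

theorem mem_Omega_iff_commutator (g : ↥(Cfsg.isometryGroup F ⇑Q)) :
    g ∈ Cfsg.Omega F ⇑Q ↔ oEquiv Q g ∈ commutator (OQ Q) := by
  have e : (commutator (Cfsg.isometryGroup F (⇑Q))).map (oEquiv Q).toMonoidHom = commutator (OQ Q) := by
    rw [commutator_def, commutator_def, Subgroup.map_commutator,
      Subgroup.map_top_of_surjective _ (oEquiv Q).surjective]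
  rw [← e]
  exact ⟨fun h => Subgroup.mem_map_of_mem _ h, fun ⟨x, hx, he⟩ => (oEquiv Q).injective he ▸ hx⟩

theorem mem_Omega_iff [Finite F] (hQ : (polarBilin Q).Nondegenerate)
    (hex : (∃ c : F, c ≠ 0 ∧ c ≠ 1) ∨ Fintype.card ι ≠ 4) (g : ↥(Cfsg.isometryGroup F ⇑Q)) :
    g ∈ Cfsg.Omega F ⇑Q ↔ par (oEquiv Q g) = 0 ∧ spinor (oEquiv Q g) = 1 := by
  rw [mem_Omega_iff_commutator, mem_commutator_iff hQ (reflGroup_pi_eq_top hQ hex)]

/-- An element of `OQ Q` with prescribed matrix. -/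
theorem oEquiv_eq_of_mulVec (g : ↥(Cfsg.isometryGroup F ⇑Q)) (s : OQ Q)
    (h : ∀ z, ((g : Matrix.GeneralLinearGroup ι F) : Matrix ι ι F).mulVec z = (s : (ι → F) ≃ₗ[F] (ι → F)) z) :
    oEquiv Q g = s :=
  Subtype.ext (LinearEquiv.ext fun z => (oEquiv_apply Q g z).trans (h z))

/-- The predicate `some element of Ω has matrix M`, given an isometry acting as `M`. -/
theorem exists_mem_Omega_iff [Finite F] (hQ : (polarBilin Q).Nondegenerate)
    (hex : (∃ c : F, c ≠ 0 ∧ c ≠ 1) ∨ Fintype.card ι ≠ 4) (M : Matrix ι ι F) (s : OQ Q)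
    (h : ∀ z, M.mulVec z = (s : (ι → F) ≃ₗ[F] (ι → F)) z) :
    (∃ g : ↥(Cfsg.isometryGroup F ⇑Q), g ∈ Cfsg.Omega F ⇑Q ∧
      ((g : Matrix.GeneralLinearGroup ι F) : Matrix ι ι F) = M) ↔ par s = 0 ∧ spinor s = 1 := by
  have hM : (((oEquiv Q).symm s : Cfsg.isometryGroup F ⇑Q) : Matrix.GeneralLinearGroup ι F).val = M := by
    refine Matrix.toLin'.injective (LinearMap.ext fun z => ?_)
    rw [Matrix.toLin'_apply, Matrix.toLin'_apply, ← oEquiv_apply Q, MulEquiv.apply_symm_apply, h]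
  constructor
  · rintro ⟨g, hg, rfl⟩
    rw [← oEquiv_eq_of_mulVec g s h]
    exact (mem_Omega_iff hQ hex g).1 hg
  · intro hs
    refine ⟨(oEquiv Q).symm s, (mem_Omega_iff hQ hex _).2 ?_, hM⟩
    rwa [MulEquiv.apply_symm_apply]

theorem map_mulVecLin (g : ↥(Cfsg.isometryGroup F ⇑Q)) (U : Submodule F (ι → F)) :
    U.map (Matrix.mulVecLin ((g : Matrix.GeneralLinearGroup ι F) : Matrix ι ι F)) =
      U.map (((oEquiv Q g : OQ Q) : (ι → F) ≃ₗ[F] (ι → F)) : (ι → F) →ₗ[F] (ι → F)) :=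
  congrArg (fun f => Submodule.map f U) (LinearMap.ext fun _ => rfl)

/-- Correct an isometry into `Ω` by the stabiliser of the image. -/
theorem exists_omega_map_eq [Finite F] (hQ : (polarBilin Q).Nondegenerate)
    (hex : (∃ c : F, c ≠ 0 ∧ c ≠ 1) ∨ Fintype.card ι ≠ 4) {U W : Submodule F (ι → F)} (g₀ : OQ Q)
    (hg₀ : U.map ((g₀ : (ι → F) ≃ₗ[F] (ι → F)) : (ι → F) →ₗ[F] (ι → F)) = W)
    (hstab : ∀ (p : ZMod 2) (s : SqClass F), ∃ h : OQ Q,
      W.map ((h : (ι → F) ≃ₗ[F] (ι → F)) : (ι → F) →ₗ[F] (ι → F)) = W ∧ par h = p ∧ spinor h = s) :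
    ∃ g : ↥(Cfsg.isometryGroup F ⇑Q), g ∈ Cfsg.Omega F ⇑Q ∧
      U.map (Matrix.mulVecLin ((g : Matrix.GeneralLinearGroup ι F) : Matrix ι ι F)) = W := by
  have hR := reflGroup_pi_eq_top hQ hex
  obtain ⟨h, hW, hp, hs⟩ := hstab (par g₀) (spinor g₀)
  refine ⟨(oEquiv Q).symm (h * g₀), (mem_Omega_iff hQ hex _).2 ?_, ?_⟩
  · rw [MulEquiv.apply_symm_apply, par_mul hQ hR, spinor_mul hQ hR, hp, hs]
    exact ⟨CharTwo.add_self_eq_zero _, sqClass_mul_self _⟩
  · rw [map_mulVecLin, MulEquiv.apply_symm_apply, map_mul_eq, hg₀, hW]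

theorem exists_list (hQ : (polarBilin Q).Nondegenerate) : ∀ vs : List (ι → F), (∀ v ∈ vs, Q v ≠ 0) →
    (vs.map fun v => Q v).prod ≠ 0 ∧ ∃ s : OQ Q,
      (∀ z, (vs.map fun v => Cfsg.reflectionMatrix ⇑Q v).prod.mulVec z = (s : (ι → F) ≃ₗ[F] (ι → F)) z) ∧
      par s = (vs.length : ZMod 2) ∧ spinor s = sqc (vs.map fun v => Q v).prod
  | [], _ => ⟨one_ne_zero, 1, fun z => by simp, by simpa using par_one hQ, by
      simpa [sqc_one] using spinor_one hQ⟩
  | v :: vs, h => by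
    obtain ⟨h0, s, hs, hp, hsp⟩ := exists_list hQ vs fun u hu => h u (List.mem_cons_of_mem _ hu)
    have hv := h v List.mem_cons_self
    refine ⟨by rw [List.map_cons, List.prod_cons]; exact mul_ne_zero hv h0, refl hv * s, fun z => ?_, ?_, ?_⟩
    · rw [List.map_cons, List.prod_cons, ← Matrix.mulVec_mulVec, hs, reflectionMatrix_mulVec]
      rfl
    · rw [par_refl_mul hQ, hp, List.length_cons, Nat.cast_succ]
    · rw [spinor_refl_mul hQ, hsp, List.map_cons, List.prod_cons, sqc_mul hv h0]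

theorem refl_pair_swap {e f : ι} (hef : e ≠ f) (hQe : Q (Pi.single e 1) = 0) (hQf : Q (Pi.single f 1) = 0)
    (he : ∀ z, polar Q z (Pi.single e 1) = z f) (hf : ∀ z, polar Q z (Pi.single f 1) = z e) :
    ∀ c : F, c ≠ 0 → Q (Pi.single e 1 + c • Pi.single f 1) = c ∧
      ∀ (hv : Q (Pi.single e 1 + c • Pi.single f 1) ≠ 0) (z : ι → F) (l : ι),
        ((refl hv : OQ Q) : (ι → F) ≃ₗ[F] (ι → F)) z l =
          if l = e then -(c⁻¹ * z f) else if l = f then -(c * z e) else z l := by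
  intro c hc
  have hq : Q (Pi.single e 1 + c • Pi.single f 1) = c := by
    rw [apply_add, apply_smul, polar_smul_right', hQe, hQf, hf, Pi.single_eq_same]
    ring
  refine ⟨hq, fun hv z l => ?_⟩
  rw [refl_apply, hq, polar_add_right', polar_smul_right', he, hf]
  by_cases h1 : l = e
  · subst h1
    simp [Pi.single_eq_of_ne hef]
    field_simp
    ring
  · by_cases h2 : l = f
    · subst h2
      simp [h1, Pi.single_eq_of_ne h1]
      field_simp
      ring
    · simp [h1, h2, Pi.single_eq_of_ne h1, Pi.single_eq_of_ne h2]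

/-- Negation of `k` hyperbolic pairs of coordinates. -/
theorem exists_negPairs (hQ : (polarBilin Q).Nondegenerate) :
    ∀ (k : ℕ) (e f : Fin k → ι), Function.Injective (Sum.elim e f) →
      (∀ j, Q (Pi.single (e j) 1) = 0 ∧ Q (Pi.single (f j) 1) = 0 ∧
        (∀ z, polar Q z (Pi.single (e j) 1) = z (f j)) ∧ ∀ z, polar Q z (Pi.single (f j) 1) = z (e j)) →
      ∃ g : OQ Q, (∀ z l, ((∃ j, e j = l ∨ f j = l) → (g : (ι → F) ≃ₗ[F] (ι → F)) z l = -(z l)) ∧
        ((¬ ∃ j, e j = l ∨ f j = l) → (g : (ι → F) ≃ₗ[F] (ι → F)) z l = z l)) ∧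
        par g = 0 ∧ spinor g = sqc ((-1 : F) ^ k) := by
  intro k
  induction k with
  | zero =>
    intro e f _ _
    exact ⟨1, fun z l => ⟨fun ⟨j, _⟩ => j.elim0, fun _ => rfl⟩, par_one hQ, by
      rw [pow_zero, sqc_one, spinor_one hQ]⟩
  | succ k ih =>
    intro e f hinj hpair
    obtain ⟨g, hg, hp, hs⟩ := ih (e ∘ Fin.castSucc) (f ∘ Fin.castSucc) (by
      intro a b h
      rcases a with a | a <;> rcases b with b | b
      · exact congrArg Sum.inl (Fin.castSucc_injective _ (Sum.inl_injective (hinj (a₁ := Sum.inl a.castSucc) (a₂ := Sum.inl b.castSucc) h)))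
      · exact absurd (hinj (a₁ := Sum.inl a.castSucc) (a₂ := Sum.inr b.castSucc) h) Sum.inl_ne_inr
      · exact absurd (hinj (a₁ := Sum.inr a.castSucc) (a₂ := Sum.inl b.castSucc) h) Sum.inr_ne_inl
      · exact congrArg Sum.inr (Fin.castSucc_injective _ (Sum.inr_injective (hinj (a₁ := Sum.inr a.castSucc) (a₂ := Sum.inr b.castSucc) h))))
      fun j => hpair j.castSucc
    set a := e (Fin.last k) with ha
    set b := f (Fin.last k) with hb
    obtain ⟨h1, h2, h3, h4⟩ := hpair (Fin.last k)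
    have hab : a ≠ b := fun h => Sum.inl_ne_inr (hinj (a₁ := Sum.inl (Fin.last k)) (a₂ := Sum.inr (Fin.last k)) h)
    obtain ⟨hq1, hr1⟩ := refl_pair_swap hab h1 h2 h3 h4 1 one_ne_zero
    obtain ⟨hq2, hr2⟩ := refl_pair_swap hab h1 h2 h3 h4 (-1) (neg_ne_zero.2 one_ne_zero)
    have hv1 : Q (Pi.single a 1 + (1 : F) • Pi.single b 1) ≠ 0 := by rw [hq1]; exact one_ne_zero
    have hv2 : Q (Pi.single a 1 + (-1 : F) • Pi.single b 1) ≠ 0 := by rw [hq2]; simp
    have hne : ∀ (j : Fin k) l, (e j.castSucc = l ∨ f j.castSucc = l) → l ≠ a ∧ l ≠ b := by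
      intro j l hl
      have hj : j.castSucc ≠ Fin.last k := Fin.castSucc_ne_last j
      rcases hl with rfl | rfl
      · exact ⟨fun h => hj (Sum.inl_injective (hinj (a₁ := Sum.inl j.castSucc) (a₂ := Sum.inl (Fin.last k)) h)),
          fun h => Sum.inl_ne_inr (hinj (a₁ := Sum.inl j.castSucc) (a₂ := Sum.inr (Fin.last k)) h)⟩
      · exact ⟨fun h => Sum.inr_ne_inl (hinj (a₁ := Sum.inr j.castSucc) (a₂ := Sum.inl (Fin.last k)) h),
          fun h => hj (Sum.inr_injective (hinj (a₁ := Sum.inr j.castSucc) (a₂ := Sum.inr (Fin.last k)) h))⟩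
    have hab' : ∀ l, l = a ∨ l = b → ∀ z, (g : (ι → F) ≃ₗ[F] (ι → F)) z l = z l := fun l hl z =>
      (hg z l).2 fun ⟨j, hj⟩ => hl.elim (hne j l hj).1 (hne j l hj).2
    refine ⟨refl hv1 * (refl hv2 * g), fun z l => ?_, ?_, ?_⟩
    · have happ : ((refl hv1 * (refl hv2 * g) : OQ Q) : (ι → F) ≃ₗ[F] (ι → F)) z l =
          if l = a ∨ l = b then -(z l) else (g : (ι → F) ≃ₗ[F] (ι → F)) z l := by
        show ((refl hv1 : OQ Q) : (ι → F) ≃ₗ[F] (ι → F)) (((refl hv2 : OQ Q) : (ι → F) ≃ₗ[F] (ι → F))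
          ((g : (ι → F) ≃ₗ[F] (ι → F)) z)) l = _
        by_cases hl1 : l = a
        · subst hl1
          simp only [hr1 hv1, hr2 hv2]
          simp [Ne.symm hab, hab' _ (Or.inl rfl)]
        · by_cases hl2 : l = b
          · subst hl2
            simp only [hr1 hv1, hr2 hv2]
            simp [hl1, hab' _ (Or.inr rfl)]
          · simp only [hr1 hv1, hr2 hv2]
            simp [hl1, hl2]
      rw [happ]
      refine ⟨fun ⟨j, hj⟩ => ?_, fun hno => ?_⟩
      · rcases Fin.eq_castSucc_or_eq_last j with ⟨j, rfl⟩ | rfl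
        · rw [if_neg (fun h => h.elim (hne j l hj).1 (hne j l hj).2)]
          exact (hg z l).1 ⟨j, hj⟩
        · rw [if_pos (hj.imp Eq.symm Eq.symm)]
      · rw [if_neg fun h => hno ⟨Fin.last k, h.imp Eq.symm Eq.symm⟩]
        exact (hg z l).2 fun ⟨j, hj⟩ => hno ⟨j.castSucc, hj⟩
    · rw [par_refl_mul hQ, par_refl_mul hQ, hp]
      decide
    · rw [spinor_refl_mul hQ, spinor_refl_mul hQ, hs, hq1, hq2, sqc_one, one_mul,
        ← sqc_mul (neg_ne_zero.2 one_ne_zero) (pow_ne_zero _ (neg_ne_zero.2 one_ne_zero)), pow_succ']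

end Matrices

end CfsgLib.Known.OmegaCriterion
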