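import Cfsg.Agent.Lib.Known.SL2Char.Unipotent
import Cfsg.Agent.Lib.Recog.PrimeGraph
import Cfsg.Agent.Lib.Classical.SL2Sylow

/-!
# Class sizes of `SL₂` and `PSL₂` over finite fields
-/

set_option autoImplicit false

namespace CfsgLib.Known.SL2ClassSizes

open Matrix CfsgLib.PLocal.SLTwo CfsgLib.SL2Char

variable {F : Type*} [Field F]

theorem tr_neg (x : S2 F) : tr (-x) = -tr x := by simp [tr]; ring

theorem tr_inv (x : S2 F) : tr x⁻¹ = tr x := by simp only [tr, i00, i11]; ring

/-- Conjugacy normal forms. -/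
theorem cases_conj (g : S2 F) :
    (g = 1 ∨ g = -1) ∨ (∃ (h : S2 F) (b : F), b ≠ 0 ∧ (h * g * h⁻¹ = U b ∨ h * g * h⁻¹ = -U b)) ∨
    (∃ (h : S2 F) (a : Fˣ), (a : F) ^ 2 ≠ 1 ∧ h * g * h⁻¹ = diagS a) ∨
    Elliptic (g : Matrix (Fin 2) (Fin 2) F) := by
  by_cases he : Elliptic (g : Matrix (Fin 2) (Fin 2) F)
  · exact Or.inr (Or.inr (Or.inr he))
  obtain ⟨c, v, hv, hgv⟩ : ∃ (c : F) (v : Fin 2 → F), v ≠ 0 ∧ (g : Matrix (Fin 2) (Fin 2) F).mulVec v = c • v := by
    unfold Elliptic at he
    push Not at he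
    exact he
  -- a frame starting with the eigenvector
  obtain ⟨k, hk⟩ : ∃ k : S2 F, k.1 0 0 = v 0 ∧ k.1 1 0 = v 1 := by
    by_cases h0 : v 0 = 0
    · have h1 : v 1 ≠ 0 := fun h => hv (funext fun i => by fin_cases i <;> assumption)
      exact ⟨⟨!![v 0, -(v 1)⁻¹; v 1, 0], by simp [Matrix.det_fin_two_of, h1]⟩, rfl, rfl⟩
    · exact ⟨⟨!![v 0, 0; v 1, (v 0)⁻¹], by simp [Matrix.det_fin_two_of, h0]⟩, rfl, rfl⟩
  have e0 := congrFun hgv 0
  have e1 := congrFun hgv 1
  simp [Matrix.mulVec, dotProduct, Fin.sum_univ_two] at e0 e1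
  set y := k⁻¹ * g * k with hy
  have hy10 : y.1 1 0 = 0 := by
    simp only [hy, m10, m11, m00, m01, i10, i11, hk.1, hk.2]
    linear_combination -(v 1) * e0 + (v 0) * e1
  have hd := det2 y
  rw [hy10, mul_zero, sub_zero] at hd
  have ha : y.1 0 0 ≠ 0 := left_ne_zero_of_mul_eq_one hd
  have hgy : k⁻¹ * g * k⁻¹⁻¹ = y := by rw [inv_inv]
  by_cases hsq : y.1 0 0 ^ 2 = 1
  · have hs : y.1 1 1 = y.1 0 0 := mul_left_cancel₀ ha (by rw [hd, ← sq, hsq])
    rcases sq_eq_one_iff.1 hsq with h1 | h1
    · have hyU : y = U (y.1 0 1) := ext2 (by simp [h1]) rfl (by simp [hy10]) (by simp [hs, h1])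
      by_cases hb : y.1 0 1 = 0
      · rw [hb, U_zero] at hyU
        left; left
        rw [← hgy, inv_inv] at hyU
        calc g = k * (k⁻¹ * g * k) * k⁻¹ := by group
          _ = 1 := by rw [hyU, mul_one, mul_inv_cancel]
      · exact Or.inr (Or.inl ⟨k⁻¹, y.1 0 1, hb, Or.inl (by rw [hgy]; exact hyU)⟩)
    · have hyU : y = -U (-(y.1 0 1)) := ext2 (by simp [h1]) (by simp) (by simp [hy10]) (by simp [hs, h1])
      by_cases hb : y.1 0 1 = 0
      · rw [hb, neg_zero, U_zero] at hyU
        left; right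
        rw [← hgy, inv_inv] at hyU
        calc g = k * (k⁻¹ * g * k) * k⁻¹ := by group
          _ = -1 := by rw [hyU, mul_neg, mul_one, neg_mul, mul_inv_cancel]
      · exact Or.inr (Or.inl ⟨k⁻¹, _, neg_ne_zero.2 hb, Or.inr (by rw [hgy]; exact hyU)⟩)
  · -- kill the corner by a unitriangular element
    set t := y.1 0 1 / (y.1 0 0 - y.1 1 1)
    have hne : y.1 0 0 - y.1 1 1 ≠ 0 := fun h => hsq (by
      rw [sq]; nth_rewrite 2 [sub_eq_zero.1 h]; exact hd)
    refine Or.inr (Or.inr (Or.inl ⟨U t * k⁻¹, Units.mk0 _ ha, by simpa using hsq, ?_⟩))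
    rw [show U t * k⁻¹ * g * (U t * k⁻¹)⁻¹ = U t * y * (U t)⁻¹ by rw [hy]; group, U_inv]
    have ht : t * (y.1 0 0 - y.1 1 1) = y.1 0 1 := div_mul_cancel₀ _ hne
    refine ext2 ?_ ?_ ?_ ?_ <;> simp [m00, m01, m10, m11, hy10]
    · linear_combination -ht
    · exact eq_inv_of_mul_eq_one_left (by linear_combination hd)

/-- The class size in a group. -/
noncomputable def cs {G : Type*} [Group G] (g : G) : ℕ := (Subgroup.centralizer ({g} : Set G)).index

theorem cs_conj {G : Type*} [Group G] (h g : G) : cs (h * g * h⁻¹) = cs g := by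
  rw [cs, cs, ← map_conj_centralizer h g]
  exact Subgroup.index_map_of_bijective (MulAut.conj h).bijective _

theorem cs_equiv {G H : Type*} [Group G] [Group H] (e : G ≃* H) (g : G) : cs (e g) = cs g := by
  rw [cs, cs]
  have : Subgroup.centralizer ({e g} : Set H) = (Subgroup.centralizer ({g} : Set G)).map e.toMonoidHom := by
    ext y
    rw [Subgroup.mem_map_equiv, Subgroup.mem_centralizer_singleton_iff, Subgroup.mem_centralizer_singleton_iff]
    refine ⟨fun h => e.injective ?_, fun h => ?_⟩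
    · simpa using h
    · simpa using congrArg e h
  rw [this]
  exact Subgroup.index_map_of_bijective e.bijective _

variable [Fintype F]

theorem cs_mul_card (x : S2 F) :
    cs x * Nat.card (Subgroup.centralizer ({x} : Set (S2 F))) =
      Fintype.card F * (Fintype.card F ^ 2 - 1) := by
  rw [cs, Subgroup.index_mul_card]
  exact CfsgLib.Classical.Two.card_SL_two

theorem card_diagS {a : Fˣ} (ha : (a : F) ^ 2 ≠ 1) :
    Nat.card (Subgroup.centralizer ({diagS a} : Set (S2 F))) = Fintype.card F - 1 := by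
  rw [card_centralizer_diag (d := diagS a) rfl rfl ha, Nat.card_eq_fintype_card]

theorem sq_sub_one (q : ℕ) : q ^ 2 - 1 = (q + 1) * (q - 1) := by rw [← Nat.sq_sub_sq, one_pow]

theorem cs_even [CharP F 2] (x : S2 F) :
    (x = 1 ∧ cs x = 1) ∨ cs x = Fintype.card F ^ 2 - 1 ∨ cs x = Fintype.card F * (Fintype.card F + 1) ∨
      cs x = Fintype.card F * (Fintype.card F - 1) := by
  have hneg : (-1 : S2 F) = 1 := ext2 (by simp [CharTwo.neg_eq]) (by simp) (by simp) (by simp [CharTwo.neg_eq])
  have hpos : 0 < Fintype.card F := Fintype.card_pos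
  have hq1 : 0 < Fintype.card F - 1 := Nat.sub_pos_of_lt Fintype.one_lt_card
  rcases cases_conj x with h | ⟨h, b, hb, hc⟩ | ⟨h, a, ha, hc⟩ | he
  · left
    rw [hneg, or_self] at h
    subst h
    exact ⟨rfl, by rw [cs, Subgroup.index_eq_one]; exact eq_top_iff.2 fun y _ =>
      Subgroup.mem_centralizer_singleton_iff.2 (by rw [mul_one, one_mul])⟩
  · have hc' : h * x * h⁻¹ = U b := hc.elim id fun h2 => by
      rw [h2, ← mul_one (U b), ← mul_neg, hneg]
    have h1 := cs_mul_card (U b : S2 F)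
    rw [← hc', cs_conj, hc', card_centralizer_U hb, card_sqrt_one_even, one_mul, Nat.card_eq_fintype_card,
      mul_comm (Fintype.card F)] at h1
    exact Or.inr (Or.inl (Nat.eq_of_mul_eq_mul_right hpos h1))
  · have h1 := cs_mul_card (diagS a)
    rw [← hc, cs_conj, hc, card_diagS ha, sq_sub_one, ← mul_assoc] at h1
    exact Or.inr (Or.inr (Or.inl (Nat.eq_of_mul_eq_mul_right hq1 h1)))
  · have h1 := cs_mul_card x
    rw [card_centralizer_SL he, sq_sub_one, mul_comm (Fintype.card F + 1), ← mul_assoc] at h1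
    exact Or.inr (Or.inr (Or.inr (Nat.eq_of_mul_eq_mul_right (by omega) h1)))

theorem range_even [CharP F 2] (h4 : 4 ≤ Fintype.card F) :
    Set.range (fun g : S2 F => cs g) = {1, Fintype.card F * (Fintype.card F - 1), Fintype.card F ^ 2 - 1,
      Fintype.card F * (Fintype.card F + 1)} := by
  ext s
  simp only [Set.mem_range, Set.mem_insert_iff, Set.mem_singleton_iff]
  constructor
  · rintro ⟨g, rfl⟩
    rcases cs_even g with ⟨-, h⟩ | h | h | h <;> simp [h]
  · have hq1 : 0 < Fintype.card F - 1 := by omega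
    rintro (rfl | rfl | rfl | rfl)
    · exact ⟨1, by rw [cs, Subgroup.index_eq_one]; exact eq_top_iff.2 fun y _ =>
        Subgroup.mem_centralizer_singleton_iff.2 (by rw [mul_one, one_mul])⟩
    · obtain ⟨x, hx⟩ := exists_elliptic_SL (F := F)
      have h1 := cs_mul_card x
      rw [card_centralizer_SL hx, sq_sub_one, mul_comm (Fintype.card F + 1), ← mul_assoc] at h1
      exact ⟨x, Nat.eq_of_mul_eq_mul_right (by omega) h1⟩
    · have h1 := cs_mul_card (U 1 : S2 F)
      rw [card_centralizer_U one_ne_zero, card_sqrt_one_even, one_mul, Nat.card_eq_fintype_card,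
        mul_comm (Fintype.card F)] at h1
      exact ⟨U 1, Nat.eq_of_mul_eq_mul_right (by omega) h1⟩
    · obtain ⟨a, ha⟩ := exists_unit_sq_ne_one (F := F) (by omega)
      have h1 := cs_mul_card (diagS a)
      rw [card_diagS ha, sq_sub_one, ← mul_assoc] at h1
      exact ⟨diagS a, Nat.eq_of_mul_eq_mul_right hq1 h1⟩

/-! ### Odd characteristic -/

/-- The preimage of a centralizer in `PSL₂`. -/
def pre (x : S2 F) : Subgroup (S2 F) :=
  (Subgroup.centralizer ({(QuotientGroup.mk x : Matrix.ProjectiveSpecialLinearGroup (Fin 2) F)} :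
    Set (Matrix.ProjectiveSpecialLinearGroup (Fin 2) F))).comap (QuotientGroup.mk' (Subgroup.center (S2 F)))

omit [Fintype F] in
theorem mem_center_iff' (z : S2 F) : z ∈ Subgroup.center (S2 F) ↔ z = 1 ∨ z = -1 := by
  refine ⟨fun h => ?_, ?_⟩
  · refine scalar_cases fun hns => hns ?_
    obtain ⟨r, -, hr⟩ := Matrix.SpecialLinearGroup.mem_center_iff.1 h
    rw [← hr]
    simp
  · rintro (rfl | rfl)
    · exact one_mem _
    · exact Subgroup.mem_center_iff.2 fun g => commute_neg_one g

omit [Fintype F] in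
theorem mem_pre {x y : S2 F} : y ∈ pre x ↔ y * x * y⁻¹ = x ∨ y * x * y⁻¹ = -x := by
  rw [pre, Subgroup.mem_comap, Subgroup.mem_centralizer_singleton_iff, ← mul_inv_eq_iff_eq_mul]
  show (QuotientGroup.mk (y * x * y⁻¹) : Matrix.ProjectiveSpecialLinearGroup (Fin 2) F) = QuotientGroup.mk x ↔ _
  rw [eq_comm, QuotientGroup.eq, mem_center_iff']
  constructor
  · rintro (h | h)
    · left; exact (inv_mul_eq_one.1 h).symm
    · right; rw [inv_mul_eq_iff_eq_mul.1 h, mul_neg, mul_one]
  · rintro (h | h)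
    · left; rw [h, inv_mul_cancel]
    · right; rw [h, mul_neg, inv_mul_cancel]

theorem cs_psl_mul (x : S2 F) :
    cs (QuotientGroup.mk x : Matrix.ProjectiveSpecialLinearGroup (Fin 2) F) * Nat.card (pre x) =
      Fintype.card F * (Fintype.card F ^ 2 - 1) := by
  rw [cs, ← Subgroup.index_comap_of_surjective _
    (QuotientGroup.mk'_surjective (Subgroup.center (S2 F))), ← pre, Subgroup.index_mul_card]
  exact CfsgLib.Classical.Two.card_SL_two

omit [Fintype F] in
theorem centralizer_le_pre (x : S2 F) : Subgroup.centralizer ({x} : Set (S2 F)) ≤ pre x := fun y hy =>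
  mem_pre.2 (Or.inl (mul_inv_eq_iff_eq_mul.2 (Subgroup.mem_centralizer_singleton_iff.1 hy)))

omit [Fintype F] in
theorem pre_eq (h2 : (2 : F) ≠ 0) {x : S2 F} (hx : tr x ≠ 0) :
    pre x = Subgroup.centralizer ({x} : Set (S2 F)) := by
  refine le_antisymm (fun y hy => ?_) (centralizer_le_pre x)
  rcases mem_pre.1 hy with h | h
  · exact Subgroup.mem_centralizer_singleton_iff.2 (mul_inv_eq_iff_eq_mul.1 h)
  · have := tr_conj x y
    rw [h, tr_neg] at this
    exact absurd ((mul_eq_zero.1 (show (2 : F) * tr x = 0 by linear_combination -this)).resolve_left h2) hx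

theorem card_pre_two (h2 : (2 : F) ≠ 0) {x : S2 F} {w : S2 F}
    (hw : w * x * w⁻¹ = -x) : Nat.card (pre x) = 2 * Nat.card (Subgroup.centralizer ({x} : Set (S2 F))) := by
  have hwC : w ∉ Subgroup.centralizer ({x} : Set (S2 F)) := fun h => by
    rw [Subgroup.mem_centralizer_singleton_iff] at h
    rw [h, mul_inv_cancel_right] at hw
    have e : ∀ i j, (2 : F) * x.1 i j = 0 := fun i j => by
      have := congrArg (fun z : S2 F => z.1 i j) hw
      simp at this
      linear_combination this
    have hd := det2 x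
    simp [(mul_eq_zero.1 (e 0 0)).resolve_left h2, (mul_eq_zero.1 (e 0 1)).resolve_left h2] at hd
  have hidx : ((Subgroup.centralizer ({x} : Set (S2 F))).subgroupOf (pre x)).index = 2 := by
    refine Subgroup.index_eq_two_iff.2 ⟨⟨w, mem_pre.2 (Or.inr hw)⟩, fun b => ?_⟩
    simp only [Subgroup.mem_subgroupOf, Subgroup.coe_mul]
    by_cases hb : (b : S2 F) ∈ Subgroup.centralizer ({x} : Set (S2 F))
    · exact Or.inr ⟨hb, fun h => hwC (by simpa using mul_mem (inv_mem hb) h)⟩
    · refine Or.inl ⟨?_, hb⟩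
      have hb' := (mem_pre.1 b.2).resolve_left fun h =>
        hb (Subgroup.mem_centralizer_singleton_iff.2 (mul_inv_eq_iff_eq_mul.1 h))
      rw [Subgroup.mem_centralizer_singleton_iff, ← mul_inv_eq_iff_eq_mul]
      calc (b : S2 F) * w * x * ((b : S2 F) * w)⁻¹ = b * (w * x * w⁻¹) * (b : S2 F)⁻¹ := by group
        _ = x := by rw [hw, mul_neg, neg_mul, hb', neg_neg]
  rw [← ((Subgroup.centralizer ({x} : Set (S2 F))).subgroupOf (pre x)).index_mul_card, hidx,
    Nat.card_congr (Subgroup.subgroupOfEquivOfLe (centralizer_le_pre x)).toEquiv]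

theorem cs_U_odd (h2 : (2 : F) ≠ 0) {b : F} (hb : b ≠ 0) :
    cs (QuotientGroup.mk (U b) : Matrix.ProjectiveSpecialLinearGroup (Fin 2) F) =
      (Fintype.card F ^ 2 - 1) / 2 := by
  have h1 := cs_psl_mul (U b : S2 F)
  rw [pre_eq h2 (by simpa [tr, one_add_one_eq_two] using h2), card_centralizer_U hb, card_sqrt_one_odd h2,
    Nat.card_eq_fintype_card, ← mul_assoc, mul_comm (Fintype.card F) (Fintype.card F ^ 2 - 1)] at h1
  have h3 := Nat.eq_of_mul_eq_mul_right Fintype.card_pos h1
  rw [← h3, Nat.mul_div_cancel _ two_pos]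

omit [Fintype F] in
theorem mk_neg (x : S2 F) :
    (QuotientGroup.mk (-x) : Matrix.ProjectiveSpecialLinearGroup (Fin 2) F) = QuotientGroup.mk x := by
  rw [QuotientGroup.eq, mem_center_iff']
  right
  refine inv_mul_eq_iff_eq_mul.2 ?_
  rw [neg_mul, mul_neg, mul_one, neg_neg]

/-- split values -/
theorem cs_diag_odd (h2 : (2 : F) ≠ 0) {a : Fˣ} (ha : (a : F) ^ 2 ≠ 1) :
    ((a : F) ^ 2 ≠ -1 → cs (QuotientGroup.mk (diagS a) : Matrix.ProjectiveSpecialLinearGroup (Fin 2) F) =
        Fintype.card F * (Fintype.card F + 1)) ∧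
    ((a : F) ^ 2 = -1 → cs (QuotientGroup.mk (diagS a) : Matrix.ProjectiveSpecialLinearGroup (Fin 2) F) =
        Fintype.card F * (Fintype.card F + 1) / 2) := by
  have h1 := cs_psl_mul (diagS a)
  have htr : tr (diagS a) * (a : F) = (a : F) ^ 2 + 1 := by
    simp only [tr, diagS00, diagS11, add_mul, Units.inv_mul, sq]
  have hq1 : 0 < Fintype.card F - 1 := Nat.sub_pos_of_lt Fintype.one_lt_card
  constructor
  · intro h
    rw [pre_eq h2 (fun h0 => h (by rw [h0, zero_mul] at htr; linear_combination -htr)), card_diagS ha,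
      sq_sub_one, ← mul_assoc] at h1
    exact Nat.eq_of_mul_eq_mul_right hq1 h1
  · intro h
    have h0 : tr (diagS a) = 0 := by
      rw [h, neg_add_cancel] at htr
      exact (mul_eq_zero.1 htr).resolve_right a.ne_zero
    have hinv : (diagS a)⁻¹ = -(diagS a) := by
      simp only [tr, diagS00, diagS11, Units.val_inv_eq_inv_val] at h0
      refine ext2 ?_ ?_ ?_ ?_ <;> simp [i00, i01, i10, i11, Units.val_inv_eq_inv_val]
      · linear_combination h0
      · linear_combination h0
    rw [card_pre_two h2 (w := weylS) ((weylS_conj_diag (d := diagS a) rfl rfl).trans hinv),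
      card_diagS ha, sq_sub_one, ← mul_assoc, ← mul_assoc] at h1
    rw [← Nat.eq_of_mul_eq_mul_right hq1 h1, Nat.mul_div_cancel _ two_pos]

/-- nonsplit values -/
theorem cs_elliptic_odd (h2 : (2 : F) ≠ 0) {x : S2 F} (hx : Elliptic (x : Matrix (Fin 2) (Fin 2) F)) :
    (tr x ≠ 0 → cs (QuotientGroup.mk x : Matrix.ProjectiveSpecialLinearGroup (Fin 2) F) =
        Fintype.card F * (Fintype.card F - 1)) ∧
    (tr x = 0 → cs (QuotientGroup.mk x : Matrix.ProjectiveSpecialLinearGroup (Fin 2) F) =
        Fintype.card F * (Fintype.card F - 1) / 2) := by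
  have h1 := cs_psl_mul x
  constructor
  · intro h
    rw [pre_eq h2 h, card_centralizer_SL hx, sq_sub_one, mul_comm (Fintype.card F + 1), ← mul_assoc] at h1
    exact Nat.eq_of_mul_eq_mul_right (by omega) h1
  · intro h
    obtain ⟨w, hw⟩ := exists_conj_SL (y := -x) hx (by rw [tr_neg, h, neg_zero])
    rw [card_pre_two h2 hw, card_centralizer_SL hx, sq_sub_one, mul_comm (Fintype.card F + 1), ← mul_assoc,
      ← mul_assoc] at h1
    rw [← Nat.eq_of_mul_eq_mul_right (by omega) h1, Nat.mul_div_cancel _ two_pos]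

omit [Fintype F] in
/-- `-1` is the square `a ^ 2` exactly when `x² = -1` has a solution. -/
theorem elliptic_tr_zero {x : S2 F} (h : tr x = 0) :
    Elliptic (x : Matrix (Fin 2) (Fin 2) F) ↔ ∀ c : F, c * c ≠ -1 := by
  rw [elliptic_iff, ← tr_eq_trace, h, x.2]
  exact forall_congr' fun c => not_congr ⟨fun e => by linear_combination e, fun e => by linear_combination e⟩

theorem range_odd (hodd : ¬ 2 ∣ Fintype.card F) (h7 : 7 ≤ Fintype.card F) :
    (Fintype.card F % 4 = 1 →
      Set.range (fun g : Matrix.ProjectiveSpecialLinearGroup (Fin 2) F => cs g) =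
        {1, (Fintype.card F ^ 2 - 1) / 2, Fintype.card F * (Fintype.card F + 1) / 2,
          Fintype.card F * (Fintype.card F - 1), Fintype.card F * (Fintype.card F + 1)}) ∧
    (Fintype.card F % 4 = 3 →
      Set.range (fun g : Matrix.ProjectiveSpecialLinearGroup (Fin 2) F => cs g) =
        {1, (Fintype.card F ^ 2 - 1) / 2, Fintype.card F * (Fintype.card F - 1) / 2,
          Fintype.card F * (Fintype.card F + 1), Fintype.card F * (Fintype.card F - 1)}) := by
  classical
  have hch : ringChar F ≠ 2 := fun h => hodd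
    (Nat.dvd_of_mod_eq_zero (FiniteField.even_card_iff_char_two.1 h))
  have h2 : (2 : F) ≠ 0 := Ring.two_ne_zero hch
  have hone : cs (1 : Matrix.ProjectiveSpecialLinearGroup (Fin 2) F) = 1 := by
    rw [cs, Subgroup.index_eq_one]
    exact eq_top_iff.2 fun y _ => Subgroup.mem_centralizer_singleton_iff.2 (by rw [mul_one, one_mul])
  -- every value occurs in the list
  have hval : ∀ g : S2 F, cs (QuotientGroup.mk g : Matrix.ProjectiveSpecialLinearGroup (Fin 2) F) = 1 ∨
      cs (QuotientGroup.mk g : Matrix.ProjectiveSpecialLinearGroup (Fin 2) F) = (Fintype.card F ^ 2 - 1) / 2 ∨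
      cs (QuotientGroup.mk g : Matrix.ProjectiveSpecialLinearGroup (Fin 2) F) =
        Fintype.card F * (Fintype.card F + 1) ∨
      (cs (QuotientGroup.mk g : Matrix.ProjectiveSpecialLinearGroup (Fin 2) F) =
        Fintype.card F * (Fintype.card F + 1) / 2 ∧ IsSquare (-1 : F)) ∨
      cs (QuotientGroup.mk g : Matrix.ProjectiveSpecialLinearGroup (Fin 2) F) =
        Fintype.card F * (Fintype.card F - 1) ∨
      (cs (QuotientGroup.mk g : Matrix.ProjectiveSpecialLinearGroup (Fin 2) F) =
        Fintype.card F * (Fintype.card F - 1) / 2 ∧ ¬ IsSquare (-1 : F)) := by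
    intro g
    rcases cases_conj g with h | ⟨h, b, hb, hc⟩ | ⟨h, a, ha, hc⟩ | he
    · left
      rw [show (QuotientGroup.mk g : Matrix.ProjectiveSpecialLinearGroup (Fin 2) F) = 1 from
        (QuotientGroup.eq_one_iff g).2 ((mem_center_iff' g).2 h), hone]
    · right; left
      rw [← cs_conj (QuotientGroup.mk h) (QuotientGroup.mk g), ← QuotientGroup.mk_inv, ← QuotientGroup.mk_mul,
        ← QuotientGroup.mk_mul]
      rcases hc with hc | hc
      · rw [hc, cs_U_odd h2 hb]
      · rw [hc, mk_neg, cs_U_odd h2 hb]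
    · right; right
      rw [← cs_conj (QuotientGroup.mk h) (QuotientGroup.mk g), ← QuotientGroup.mk_inv, ← QuotientGroup.mk_mul,
        ← QuotientGroup.mk_mul, hc]
      by_cases h' : (a : F) ^ 2 = -1
      · exact Or.inr (Or.inl ⟨(cs_diag_odd h2 ha).2 h', (a : F), by rw [← sq, h']⟩)
      · exact Or.inl ((cs_diag_odd h2 ha).1 h')
    · right; right; right; right
      by_cases h' : tr g = 0
      · refine Or.inr ⟨(cs_elliptic_odd h2 he).2 h', ?_⟩
        rintro ⟨c, hc⟩
        exact (elliptic_tr_zero h').1 he c hc.symm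
      · exact Or.inl ((cs_elliptic_odd h2 he).1 h')
  -- elements realising the values
  have hU := cs_U_odd h2 (one_ne_zero : (1 : F) ≠ 0)
  obtain ⟨a, ha⟩ : ∃ a : Fˣ, (a : F) ^ 2 ≠ 1 ∧ (a : F) ^ 2 ≠ -1 := by
    obtain ⟨a, ha⟩ := IsCyclic.exists_ofOrder_eq_natCard (α := Fˣ)
    rw [Nat.card_units, Nat.card_eq_fintype_card] at ha
    refine ⟨a, fun h => ?_, fun h => ?_⟩
    · have h' := orderOf_le_of_pow_eq_one two_pos (Units.ext (by simpa using h) : a ^ 2 = 1)
      omega
    · have h' := orderOf_le_of_pow_eq_one (n := 4) (by norm_num)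
        (Units.ext (by rw [Units.val_pow_eq_pow_val, Units.val_one, show 4 = 2 * 2 from rfl, pow_mul, h]; ring) : a ^ 4 = 1)
      omega
  obtain ⟨x, hx, hx0⟩ : ∃ x : S2 F, Elliptic (x : Matrix (Fin 2) (Fin 2) F) ∧ tr x ≠ 0 := by
    obtain ⟨y, hy⟩ := exists_elliptic_SL (F := F)
    by_contra hcon
    push Not at hcon
    have hC := card_centralizer_SL hy
    have hsub : (Subgroup.centralizer ({y} : Set (S2 F)) : Set (S2 F)) ⊆ {1, -1, y, -y} := by
      intro z hz
      by_cases hz' : NonScalar z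
      · have hze : Elliptic (z : Matrix (Fin 2) (Fin 2) F) := by
          obtain ⟨t, s, e00, e01, e10, e11⟩ := exists_affine (nonScalar_of_elliptic hy)
            (Subgroup.mem_centralizer_singleton_iff.1 hz).symm
          have hts : t ≠ 0 := by
            rintro rfl
            exact hz' ⟨by rw [e01, zero_mul], by rw [e10, zero_mul], by rw [e00, e11]; ring⟩
          have : (z : Matrix (Fin 2) (Fin 2) F) = s • 1 + t • (y : Matrix (Fin 2) (Fin 2) F) := by
            ext i j
            fin_cases i <;> fin_cases j <;> simp [e00, e01, e10, e11] <;> ring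
          rw [this]
          exact hy.affine hts
        obtain ⟨t, s, e00, e01, e10, e11⟩ := exists_affine (nonScalar_of_elliptic hy)
          (Subgroup.mem_centralizer_singleton_iff.1 hz).symm
        have hz0 := hcon z hze
        have hy0 := hcon y hy
        simp only [tr] at hz0 hy0
        rw [e00, e11] at hz0
        have hs : s = 0 := (mul_eq_zero.1 (show (2 : F) * s = 0 by linear_combination hz0 - t * hy0)).resolve_left h2
        have hd := det2 z
        rw [e00, e01, e10, e11, hs] at hd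
        have ht : t * t = 1 := by linear_combination hd - (t * t) * det2 y
        rcases mul_self_eq_one_iff.1 ht with rfl | rfl
        · right; right; left
          exact ext2 (by rw [e00, hs]; ring) (by rw [e01]; ring) (by rw [e10]; ring) (by rw [e11, hs]; ring)
        · right; right; right
          refine ext2 ?_ ?_ ?_ ?_ <;> simp [e00, e01, e10, e11, hs]
      · rcases scalar_cases hz' with rfl | rfl
        · exact Or.inl rfl
        · exact Or.inr (Or.inl rfl)
    have h4 := Set.ncard_le_ncard hsub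
    rw [← Nat.card_coe_set_eq] at h4
    have h5 : ({1, -1, y, -y} : Set (S2 F)).ncard ≤ 4 := by
      refine le_trans (Set.ncard_insert_le _ _) (Nat.succ_le_succ ?_)
      refine le_trans (Set.ncard_insert_le _ _) (Nat.succ_le_succ ?_)
      refine le_trans (Set.ncard_insert_le _ _) (Nat.succ_le_succ ?_)
      rw [Set.ncard_singleton]
    have : Nat.card (Subgroup.centralizer ({y} : Set (S2 F))) ≤ 4 := le_trans h4 h5
    omega
  constructor <;> intro hmod <;> ext s <;>
    simp only [Set.mem_range, Set.mem_insert_iff, Set.mem_singleton_iff]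
  · have hsq : IsSquare (-1 : F) := FiniteField.isSquare_neg_one_iff.2 (by omega)
    constructor
    · rintro ⟨g, rfl⟩
      obtain ⟨g, rfl⟩ := QuotientGroup.mk_surjective g
      rcases hval g with h | h | h | ⟨h, -⟩ | h | ⟨-, h⟩
      all_goals first
        | exact absurd hsq h
        | simp [h]
    · rintro (rfl | rfl | rfl | rfl | rfl)
      · exact ⟨1, hone⟩
      · exact ⟨_, hU⟩
      · obtain ⟨c, hc⟩ := hsq
        have hc0 : c ≠ 0 := by rintro rfl; simp at hc
        exact ⟨_, (cs_diag_odd h2 (a := Units.mk0 c hc0) (by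
          simp only [Units.val_mk0, sq, ← hc]
          exact fun e => h2 (by linear_combination -e))).2 (by simp only [Units.val_mk0, sq, hc])⟩
      · exact ⟨_, (cs_elliptic_odd h2 hx).1 hx0⟩
      · exact ⟨_, (cs_diag_odd h2 ha.1).1 ha.2⟩
  · have hsq : ¬ IsSquare (-1 : F) := fun h => (FiniteField.isSquare_neg_one_iff.1 h) hmod
    constructor
    · rintro ⟨g, rfl⟩
      obtain ⟨g, rfl⟩ := QuotientGroup.mk_surjective g
      rcases hval g with h | h | h | ⟨-, h⟩ | h | ⟨h, -⟩
      all_goals first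
        | exact absurd h hsq
        | simp [h]
    · rintro (rfl | rfl | rfl | rfl | rfl)
      · exact ⟨1, hone⟩
      · exact ⟨_, hU⟩
      · let w : S2 F := ⟨!![0, -1; 1, 0], by simp [Matrix.det_fin_two_of]⟩
        have hw : tr w = 0 := by simp [tr, w]
        exact ⟨_, (cs_elliptic_odd h2 ((elliptic_tr_zero hw).2 fun c hc => hsq ⟨c, hc.symm⟩)).2 hw⟩
      · exact ⟨_, (cs_diag_odd h2 ha.1).1 ha.2⟩
      · exact ⟨_, (cs_elliptic_odd h2 hx).1 hx0⟩

end CfsgLib.Known.SL2ClassSizes
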