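import Cfsg.Agent.Lib.Known.SuzukiMultiplier
import Cfsg.Agent.Lib.Known.AutPSL.Structure

/-!
# The automorphisms of the Suzuki groups are inner times field automorphisms
-/

set_option autoImplicit false

namespace CfsgLib.Known.SuzukiAut

open CfsgLib.Lie.Suzuki CfsgLib.Known.SuzukiMult

universe u

variable {F : Type u} [Field F] [Fintype F] [CharP F 2] {m : ℕ} (hF : Fintype.card F = 2 ^ (2 * m + 1))

local notation "p∞" => pt F m none
local notation "p₀" => pt F m (some ((0 : F), (0 : F)))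

omit [Fintype F] in
theorem th_comm (γ : F ≃+* F) (x : F) : th F m (γ x) = γ (th F m x) := by
  rw [th_apply, th_apply, map_pow]

theorem map_mem (γ : F ≃+* F) (g : Cfsg.Sz F m) :
    Matrix.SpecialLinearGroup.map (γ : F →+* F) (g : Matrix.SpecialLinearGroup (Fin 4) F) ∈ Cfsg.Sz F m := by
  refine mem_sz_of fun o => ?_
  have hp : ∀ o : Option (F × F), γ ∘ pvec (th F m) o = pvec (th F m) (o.map fun p => (γ p.1, γ p.2)) := by
    intro o
    rcases o with _ | ⟨x, y⟩ <;> funext i <;> fin_cases i <;>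
      simp [pvec, fQ, th_comm, map_add, map_mul, map_pow]
  obtain ⟨o', ho'⟩ : ∃ o' : Option (F × F), o = o'.map fun p : F × F => (γ p.1, γ p.2) := by
    rcases o with _ | ⟨x, y⟩
    · exact ⟨none, rfl⟩
    · exact ⟨some (γ.symm x, γ.symm y), by simp⟩
  obtain ⟨o'', ho''⟩ := (pt F m).surjective (g • pt F m o')
  obtain ⟨c, hc⟩ := of_smul_pt g ho''.symm
  refine ⟨o''.map fun p => (γ p.1, γ p.2), γ c, ?_⟩
  rw [ho', ← hp, ← hp]
  funext i
  have h := congrArg γ (congrFun hc i)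
  simp only [Matrix.mulVec, dotProduct, map_sum, map_mul, Pi.smul_apply, smul_eq_mul] at h
  simpa [Matrix.mulVec, dotProduct] using h

/-- field automorphisms -/
noncomputable def fa (γ : F ≃+* F) : MulAut (Cfsg.Sz F m) where
  toFun g := ⟨_, map_mem γ g⟩
  invFun g := ⟨_, map_mem γ.symm g⟩
  left_inv g := by ext i j; simp
  right_inv g := by ext i j; simp
  map_mul' g h := Subtype.ext (map_mul (Matrix.SpecialLinearGroup.map (γ : F →+* F))
    (g : Matrix.SpecialLinearGroup (Fin 4) F) (h : Matrix.SpecialLinearGroup (Fin 4) F))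

/-- the homomorphism of field automorphisms -/
noncomputable def faHom : (F ≃+* F) →* MulAut (Cfsg.Sz F m) :=
  MonoidHom.mk' fa fun γ δ => MulEquiv.ext fun g => Subtype.ext (Subtype.ext (Matrix.ext fun i j => rfl))

theorem fa_uS (γ : F ≃+* F) (a b : F) : fa γ (uS hF a b) = uS hF (γ a) (γ b) := by
  refine Subtype.ext (Subtype.ext (Matrix.ext fun i j => ?_))
  show γ (uM (th F m) a b i j) = uM (th F m) (γ a) (γ b) i j
  fin_cases i <;> fin_cases j <;> simp [uM, fQ, th_comm]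

theorem fa_tS (γ : F ≃+* F) (t : Fˣ) : fa γ (tS hF t) = tS hF (Units.map (γ : F →* F) t) := by
  refine Subtype.ext (Subtype.ext (Matrix.ext fun i j => ?_))
  show γ (tM (th F m) (t : F) i j) = tM (th F m) (γ (t : F)) i j
  fin_cases i <;> fin_cases j <;> simp [tM, th_comm]

include hF in
theorem card_ge_eight (hm : 1 ≤ m) : 8 ≤ Fintype.card F := by
  rw [hF]
  exact le_trans (by norm_num) (Nat.pow_le_pow_right (show 1 ≤ 2 by norm_num) (show 3 ≤ 2 * m + 1 by omega))

theorem fix_tS (hm : 1 ≤ m) {t : Fˣ} (ht : t ≠ 1) {x : Cfsg.suzukiOvoid F m} (hx : tS hF t • x = x) :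
    x = p∞ ∨ x = p₀ := by
  by_contra h
  push Not at h
  have h1 : tS hF t = 1 := eq_one_of_fix hF hm (a := p∞) (b := p₀) (c := x) (by simp) (Ne.symm h.2) (Ne.symm h.1)
    (tS_none hF t) (tS_zero hF t) hx
  exact ht ((uS_tS_inj hF (a := 0) (b := 0) (a' := 0) (b' := 0) (t' := 1) (by rw [h1, map_one])).2.2)

theorem fix_uS {x : Cfsg.suzukiOvoid F m} (hx : uS hF 0 1 • x = x) : x = p∞ := by
  obtain ⟨_ | ⟨a, b⟩, rfl⟩ := (pt F m).surjective x
  · rfl
  · rw [uS_some, EmbeddingLike.apply_eq_iff_eq, Option.some.injEq, Prod.mk.injEq] at hx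
    simp at hx

include hF in
theorem point_eq_of_stab {x y : Cfsg.suzukiOvoid F m} (h : ∀ g : Cfsg.Sz F m, g • x = x → g • y = y) : x = y := by
  have := pretransitive hF
  obtain ⟨g, rfl⟩ := MulAction.exists_smul_eq (Cfsg.Sz F m) (p∞) x
  have h1 : g⁻¹ • y = p∞ := fix_uS hF (by
    have := h (g * uS hF 0 1 * g⁻¹) (by rw [mul_smul, mul_smul, inv_smul_smul, uS_none])
    rw [mul_smul, mul_smul, smul_eq_iff_eq_inv_smul] at this
    exact this)
  rw [← h1, smul_inv_smul]

/-- elements of `U` are the conjugation invariant part of the stabiliser -/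
theorem conj_UU_mem (hm : 1 ≤ m) {g x : Cfsg.Sz F m} (hg : g • p∞ = p∞) (hx : x ∈ UU hF) :
    g * x * g⁻¹ ∈ UU hF := by
  obtain ⟨a, b, t, rfl⟩ := stab_inf hF hm hg
  obtain ⟨c, d, rfl⟩ := hx
  rw [show uS hF a b * tS hF t * uS hF c d * (uS hF a b * tS hF t)⁻¹ =
    uS hF a b * (tS hF t * uS hF c d * (tS hF t)⁻¹) * (uS hF a b)⁻¹ by group, tS_uS, mul_inv_cancel_right]
  exact mul_mem (mul_mem ⟨a, b, rfl⟩ ⟨_, _, rfl⟩) (inv_mem ⟨a, b, rfl⟩)

theorem mem_stab_of_normalises {g : Cfsg.Sz F m} (h : ∀ x ∈ UU hF, g⁻¹ * x * g ∈ UU hF) : g • p∞ = p∞ := by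
  refine fix_uS hF ?_
  obtain ⟨a, b, hab⟩ := h _ ⟨0, 1, rfl⟩
  have hfix : (g⁻¹ * uS hF 0 1 * g) • p∞ = p∞ := by rw [hab, uS_none]
  rw [mul_smul, mul_smul, inv_smul_eq_iff] at hfix
  exact hfix

include hF in
theorem alpha_surj {c : F} (hc : c ≠ 0) : ∃ t : Fˣ, (t : F) ^ 2 / th F m t = c := by
  have hinj : Function.Injective fun t : Fˣ =>
      Units.mk0 ((t : F) ^ 2 / th F m t) (div_ne_zero (pow_ne_zero _ t.ne_zero) (θ_ne_zero t.ne_zero)) := by
    intro t s h
    have h' : (t : F) ^ 2 / th F m t = (s : F) ^ 2 / th F m s := congrArg Units.val h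
    have hu : ((t : F) / s) ^ 2 = th F m ((t : F) / s) := by
      have := θ_ne_zero (θ := th F m) t.ne_zero
      have := θ_ne_zero (θ := th F m) s.ne_zero
      have := s.ne_zero
      rw [map_div₀]
      field_simp at h' ⊢
      linear_combination h'
    have hne : (t : F) / s ≠ 0 := div_ne_zero t.ne_zero s.ne_zero
    have h2 := congrArg (th F m) hu
    rw [map_pow, th_tits hF, ← hu] at h2
    have h3 : ((t : F) / s) ^ 2 = 1 := mul_left_cancel₀ (pow_ne_zero 2 hne) (by rw [mul_one, ← sq, h2])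
    have h4 : (t : F) / s = 1 := frobenius_inj F 2 (by simp only [frobenius_def]; rw [one_pow]; exact h3)
    exact Units.ext ((div_eq_one_iff_eq s.ne_zero).1 h4)
  obtain ⟨t, ht⟩ := (Finite.injective_iff_surjective.1 hinj) (Units.mk0 c hc)
  exact ⟨t, congrArg Units.val ht⟩

theorem apply_inv (φ : MulAut (Cfsg.Sz F m)) (g : Cfsg.Sz F m) : φ⁻¹ (φ g) = g := φ.symm_apply_apply g

theorem exists_fix_UU (hm : 1 ≤ m) (φ : MulAut (Cfsg.Sz F m)) :
    ∃ g : Cfsg.Sz F m, ∀ x ∈ UU hF, (MulAut.conj g * φ) x ∈ UU hF := by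
  have : Fact (Nat.Prime 2) := ⟨Nat.prime_two⟩
  have hc : Nat.card (UU hF) = 2 ^ ((2 * m + 1) * 2) := by rw [card_UU, hF, ← pow_mul]
  have hidx : ¬ 2 ∣ (UU hF).index := by
    have h1 := Subgroup.card_mul_index (UU hF)
    rw [card_UU, nat_card hF hm, mul_assoc] at h1
    rw [Nat.eq_of_mul_eq_mul_left (by positivity) h1]
    have h2 : 2 ∣ Fintype.card F := by rw [hF]; exact dvd_pow_self 2 (by omega)
    have h3 := card_ge_eight hF hm
    intro hd
    rcases (Nat.prime_two.dvd_mul).1 hd with h | h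
    · have : 2 ∣ Fintype.card F ^ 2 := dvd_pow h2 two_ne_zero
      omega
    · omega
  let P := (IsPGroup.of_card hc).toSylow hidx
  have hP : (P : Subgroup (Cfsg.Sz F m)) = UU hF := rfl
  have hc' : Nat.card ((UU hF).map (φ : Cfsg.Sz F m →* Cfsg.Sz F m)) = 2 ^ ((2 * m + 1) * 2) := by
    rw [← hc]; exact (Nat.card_congr ((UU hF).equivMapOfInjective _ φ.injective).toEquiv).symm
  obtain ⟨Q, hQ⟩ := (IsPGroup.of_card hc').exists_le_sylow
  obtain ⟨g, hg⟩ := MulAction.exists_smul_eq (Cfsg.Sz F m) Q P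
  refine ⟨g, fun x hx => ?_⟩
  rw [← hP, ← hg, Sylow.coe_subgroup_smul]
  exact Subgroup.smul_mem_pointwise_smul _ (MulAut.conj g) _ (hQ ⟨x, hx, rfl⟩)

theorem exists_fix_torus (hm : 1 ≤ m) (φ : MulAut (Cfsg.Sz F m)) (h : ∀ x ∈ UU hF, φ x ∈ UU hF) :
    ∃ g : Cfsg.Sz F m, (∀ x ∈ UU hF, (MulAut.conj g * φ) x ∈ UU hF) ∧ ∀ t, ∃ t', (MulAut.conj g * φ) (tS hF t) = tS hF t' := by
  have hbij : ∀ y ∈ UU hF, ∃ x ∈ UU hF, φ x = y := by
    intro y hy
    obtain ⟨⟨x, hx⟩, e⟩ := (Finite.injective_iff_surjective.1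
      (fun a b e => Subtype.ext (φ.injective (congrArg Subtype.val e)) :
        Function.Injective fun a : UU hF => (⟨φ a, h a a.2⟩ : UU hF))) ⟨y, hy⟩
    exact ⟨x, hx, congrArg Subtype.val e⟩
  have hB : ∀ b : Cfsg.Sz F m, b • p∞ = p∞ → φ b • p∞ = p∞ := fun b hb => mem_stab_of_normalises hF fun y hy => by
    obtain ⟨x, hx, rfl⟩ := hbij y hy
    rw [← map_inv, ← map_mul, ← map_mul]
    refine h _ ?_
    have := conj_UU_mem hF hm (g := b⁻¹) (inv_smul_eq_iff.2 hb.symm) hx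
    rwa [inv_inv] at this
  classical
  have h8 := card_ge_eight hF hm
  have hq : Nat.card Fˣ = Fintype.card F - 1 := by rw [Nat.card_units, Nat.card_eq_fintype_card]
  obtain ⟨r, hr, hrd⟩ := Nat.exists_prime_and_dvd (show Fintype.card F - 1 ≠ 1 by omega)
  have := Fact.mk hr
  obtain ⟨t0, ht0⟩ := exists_prime_orderOf_dvd_card' r (hq ▸ hrd)
  have ht1 : t0 ≠ 1 := fun e => hr.one_lt.ne' (by rw [← ht0, e, orderOf_one])
  have hr2 : r ≠ 2 := fun e => by
    have h2 : 2 ∣ Fintype.card F := by rw [hF]; exact dvd_pow_self 2 (by omega)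
    have : 2 ∣ Fintype.card F - 1 := e ▸ hrd
    omega
  have hinjt : Function.Injective (tS hF) := fun a b e => (uS_tS_inj hF (a := 0) (b := 0) (a' := 0) (b' := 0)
    (by rw [e])).2.2
  let Z := Subgroup.zpowers (φ (tS hF t0))
  have hZc : Nat.card Z = r := by
    rw [Nat.card_zpowers, MulEquiv.orderOf_eq, orderOf_injective _ hinjt, ht0]
  have hmod := (IsPGroup.of_card (show Nat.card Z = r ^ 1 by rw [pow_one, hZc])).card_modEq_card_fixedPoints
    (Cfsg.suzukiOvoid F m)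
  obtain ⟨x, hx, hxne⟩ : ∃ x, φ (tS hF t0) • x = x ∧ x ≠ p∞ := by
    by_contra hcon
    push Not at hcon
    have hset : MulAction.fixedPoints Z (Cfsg.suzukiOvoid F m) = {p∞} := by
      refine Set.Subset.antisymm (fun x hx => hcon x (hx ⟨_, Subgroup.mem_zpowers _⟩)) ?_
      rintro _ rfl ⟨z, hz⟩
      obtain ⟨k, rfl⟩ := hz
      show (φ (tS hF t0)) ^ k • p∞ = p∞
      rw [← map_zpow, ← map_zpow]
      exact hB _ (tS_none hF _)
    rw [hset, Nat.card_congr (pt F m).symm, Finite.card_option, Nat.card_prod, Nat.card_eq_fintype_card (α := F),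
      Nat.card_eq_fintype_card (α := ({p∞} : Set (Cfsg.suzukiOvoid F m))), Set.card_singleton] at hmod
    have h1 : r ∣ Fintype.card F * Fintype.card F := by
      have := (Nat.modEq_iff_dvd' (by omega)).1 hmod.symm
      simpa using this
    have h2 : r ∣ Fintype.card F := (or_self _).mp (hr.dvd_mul.1 h1)
    have h3 := Nat.dvd_sub h2 hrd
    rw [show Fintype.card F - (Fintype.card F - 1) = 1 by omega] at h3
    exact hr.not_dvd_one h3
  obtain ⟨_ | ⟨a, b⟩, rfl⟩ := (pt F m).surjective x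
  · exact absurd rfl hxne
  refine ⟨(uS hF a b)⁻¹, fun y hy => mul_mem (mul_mem (inv_mem ⟨a, b, rfl⟩) (h y hy))
    (inv_mem (inv_mem ⟨a, b, rfl⟩)), fun t => ?_⟩
  have hfix : φ (tS hF t) • pt F m (some (a, b)) = pt F m (some (a, b)) := by
    by_contra hne
    have hx' : φ (tS hF t0) • (φ (tS hF t) • pt F m (some (a, b))) = φ (tS hF t) • pt F m (some (a, b)) := by
      rw [← mul_smul, ← map_mul, ← map_mul, mul_comm t0, map_mul, map_mul, mul_smul, hx]
    have hne' : φ (tS hF t) • pt F m (some (a, b)) ≠ p∞ := fun e => hxne (by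
      rw [← hB _ (tS_none hF t)] at e
      exact MulAction.injective _ e)
    have h1 := eq_one_of_fix hF hm (g := φ (tS hF t0)) (a := p∞) (b := pt F m (some (a, b)))
      (c := φ (tS hF t) • pt F m (some (a, b))) (Ne.symm hxne) (Ne.symm hne) (Ne.symm hne')
      (hB _ (tS_none hF t0)) hx hx'
    exact ht1 (hinjt ((map_eq_one_iff φ φ.injective).1 h1 |>.trans (map_one _).symm))
  refine stab_two hF hm ?_ ?_
  · show ((uS hF a b)⁻¹ * φ (tS hF t) * ((uS hF a b)⁻¹)⁻¹) • p∞ = p∞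
    rw [inv_inv, mul_smul, mul_smul, uS_none, hB _ (tS_none hF t), inv_smul_eq_iff, uS_none]
  · show ((uS hF a b)⁻¹ * φ (tS hF t) * ((uS hF a b)⁻¹)⁻¹) • p₀ = p₀
    rw [inv_inv, mul_smul, mul_smul, uS_zero, hfix, inv_smul_eq_iff, uS_zero]

theorem map_ZZ (φ : MulAut (Cfsg.Sz F m)) (h : ∀ x ∈ UU hF, φ x ∈ UU hF) (b : F) :
    ∃ b', φ (uS hF 0 b) = uS hF 0 b' := by
  obtain ⟨a, c, e⟩ := h _ ⟨0, b, rfl⟩
  have h2 : φ (uS hF 0 b) * φ (uS hF 0 b) = 1 := by
    rw [← map_mul, uS_mul, add_self', add_self', map_zero, zero_mul, add_zero, uS_zero_zero, map_one]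
  rw [e, uS_mul, add_self', add_self', zero_add] at h2
  obtain ⟨-, h3, -⟩ := uS_tS_inj hF (a := 0) (b := th F m a * a) (a' := 0) (b' := 0) (t := 1) (t' := 1)
    (by rw [h2, uS_zero_zero])
  rcases mul_eq_zero.1 h3 with h4 | h4
  · exact ⟨c, by rw [e, (map_eq_zero _).1 h4]⟩
  · exact ⟨c, by rw [e, h4]⟩

theorem exists_field (hm : 1 ≤ m) (φ : MulAut (Cfsg.Sz F m)) (h : ∀ x ∈ UU hF, φ x ∈ UU hF)
    (ht : ∀ t, ∃ t', φ (tS hF t) = tS hF t') :
    ∃ (γ : F ≃+* F) (g : Cfsg.Sz F m), (∀ b, φ (uS hF 0 b) = (MulAut.conj g * fa (m := m) γ) (uS hF 0 b)) ∧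
      (∀ t, φ (tS hF t) = (MulAut.conj g * fa (m := m) γ) (tS hF t)) ∧
      ∀ x ∈ UU hF, (MulAut.conj g * fa (m := m) γ)⁻¹ (φ x) ∈ UU hF := by
  choose τ hτ using ht
  choose f hf using map_ZZ hF φ h
  have hinj : ∀ {a b a' b' : F}, uS hF a b = uS hF a' b' → a = a' ∧ b = b' := fun {a b a' b'} e =>
    let ⟨e1, e2, _⟩ := uS_tS_inj hF (a := a) (b := b) (a' := a') (b' := b') (t := 1) (t' := 1) (by rw [e])
    ⟨e1, e2⟩
  have hadd : ∀ x y, f (x + y) = f x + f y := fun x y => (hinj (a := 0) (a' := 0) (by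
    rw [← hf, show uS hF 0 (x + y) = uS hF 0 x * uS hF 0 y by rw [uS_mul]; simp, map_mul, hf, hf, uS_mul]; simp)).2
  have hscale : ∀ (t : Fˣ) b, f (th F m t * b) = th F m (τ t) * f b := by
    intro t b
    have e : tS hF t * uS hF 0 b * (tS hF t)⁻¹ = uS hF 0 (th F m t * b) := by
      rw [tS_uS, mul_inv_cancel_right, mul_zero]
    have := congrArg φ e
    rw [map_mul, map_mul, map_inv, hf, hτ, tS_uS, mul_inv_cancel_right, hf, mul_zero] at this
    exact (hinj this).2.symm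
  have hfinj : Function.Injective f := fun x y e => (hinj (φ.injective (by rw [hf, hf, e]))).2
  have hf0 : f 0 = 0 := by simpa using hadd 0 0
  have hc : f 1 ≠ 0 := fun e => one_ne_zero (hfinj (e.trans hf0.symm))
  obtain ⟨t0, ht0⟩ := (th_bij (F := F) (m := m)).2 (f 1)
  have ht00 : t0 ≠ 0 := by rintro rfl; exact hc (by rw [← ht0, map_zero])
  have hmulf : ∀ x y, f (x * y) = f x * f y / f 1 := by
    intro x y
    rcases eq_or_ne x 0 with rfl | hx
    · simp [hf0]
    obtain ⟨s, hs⟩ := (th_bij (F := F) (m := m)).2 x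
    have hs0 : s ≠ 0 := by rintro rfl; exact hx (by rw [← hs, map_zero])
    have h1 := hscale (Units.mk0 s hs0) y
    have h2 := hscale (Units.mk0 s hs0) 1
    rw [Units.val_mk0, hs] at h1 h2
    rw [mul_one] at h2
    rw [h1, h2]
    field_simp
  let e : F →+* F :=
    { toFun := fun x => f x / f 1
      map_one' := div_self hc
      map_mul' := fun x y => by rw [hmulf]; field_simp
      map_zero' := by rw [hf0, zero_div]
      map_add' := fun x y => by rw [hadd, add_div] }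
  let γ : F ≃+* F := RingEquiv.ofBijective e (Finite.injective_iff_bijective.1 e.injective)
  refine ⟨γ, tS hF (Units.mk0 t0 ht00), fun b => ?_, fun t => ?_, fun x hx => ?_⟩
  · show φ (uS hF 0 b) = tS hF _ * fa γ (uS hF 0 b) * (tS hF _)⁻¹
    rw [fa_uS, map_zero, tS_uS, mul_inv_cancel_right, mul_zero, hf, Units.val_mk0, ht0]
    congr 1
    exact (mul_div_cancel₀ _ hc).symm
  · show φ (tS hF t) = tS hF _ * fa γ (tS hF t) * (tS hF _)⁻¹
    rw [fa_tS, ← map_mul, ← map_inv, ← map_mul, mul_comm (Units.mk0 t0 ht00), mul_inv_cancel_right, hτ]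
    congr 1
    refine Units.ext ((th_bij (F := F) (m := m)).1 ?_)
    show th F m (τ t : F) = th F m (γ (t : F))
    rw [th_comm]
    show _ = f (th F m (t : F)) / f 1
    have := hscale t 1
    rw [mul_one] at this
    rw [this]; field_simp
  · obtain ⟨a, b, hab⟩ := h x hx
    refine ⟨γ.symm ((t0 ^ 2 / th F m t0)⁻¹ * a), γ.symm ((th F m t0)⁻¹ * b), (MulAut.conj (tS hF (Units.mk0 t0 ht00)) * fa γ).injective ?_⟩
    rw [MulAut.apply_inv_self]
    show φ x = tS hF _ * fa γ (uS hF _ _) * (tS hF _)⁻¹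
    rw [fa_uS, γ.apply_symm_apply, γ.apply_symm_apply, tS_uS, mul_inv_cancel_right, hab, Units.val_mk0]
    have := θ_ne_zero (θ := th F m) ht00
    congr 1 <;> field_simp

theorem eq_one_of_fix_torus (hm : 1 ≤ m) (ψ : MulAut (Cfsg.Sz F m)) (h : ∀ x ∈ UU hF, ψ x ∈ UU hF)
    (hz : ∀ b, ψ (uS hF 0 b) = uS hF 0 b) (ht : ∀ t, ψ (tS hF t) = tS hF t) : ψ = 1 := by
  choose μ ν hμ using fun a => h _ ⟨a, 0, rfl⟩
  have hinj : ∀ {a b a' b' : F}, uS hF a b = uS hF a' b' → a = a' ∧ b = b' := fun {a b a' b'} e =>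
    let ⟨e1, e2, _⟩ := uS_tS_inj hF (a := a) (b := b) (a' := a') (b' := b') (t := 1) (t' := 1) (by rw [e])
    ⟨e1, e2⟩
  have hscale : ∀ (t : Fˣ) a, μ ((t : F) ^ 2 / th F m t * a) = (t : F) ^ 2 / th F m t * μ a ∧
      ν ((t : F) ^ 2 / th F m t * a) = th F m t * ν a := by
    intro t a
    have e : tS hF t * uS hF a 0 * (tS hF t)⁻¹ = uS hF ((t : F) ^ 2 / th F m t * a) 0 := by
      rw [tS_uS, mul_inv_cancel_right, mul_zero]
    have := congrArg ψ e
    rw [map_mul, map_mul, map_inv, hμ, ht, tS_uS, mul_inv_cancel_right, hμ] at this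
    exact ⟨(hinj this).1.symm, (hinj this).2.symm⟩
  have hμ1 : μ 1 = 1 := by
    have h2 : ψ (uS hF 1 0 * uS hF 1 0) = uS hF 0 1 := by
      rw [uS_mul, add_self', add_self', map_one, one_mul, zero_add, hz]
    rw [map_mul, hμ, uS_mul, add_self', add_self', zero_add] at h2
    have h3 := (hinj h2).2
    have h4 := congrArg (th F m) h3
    rw [map_mul, th_tits hF, map_one] at h4
    have h6 : μ 1 ≠ 0 := fun e => by rw [e, mul_zero] at h3; exact zero_ne_one h3
    exact mul_right_cancel₀ (mul_ne_zero (θ_ne_zero h6) h6)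
      (show μ 1 * (th F m (μ 1) * μ 1) = 1 * (th F m (μ 1) * μ 1) by linear_combination h4 - h3)
  have hμa : ∀ a, a ≠ 0 → μ a = a := fun a ha => by
    obtain ⟨t, hta⟩ := alpha_surj hF ha
    have := (hscale t 1).1
    simp only [hμ1, mul_one, hta] at this
    exact this
  have hν1 : ν 1 = 0 := by
    classical
    by_contra hne
    have h8 := card_ge_eight hF hm
    obtain ⟨x, -, hx⟩ := Finset.exists_mem_notMem_of_card_lt_card (s := ({0, 1} : Finset F)) (t := Finset.univ)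
      (lt_of_le_of_lt Finset.card_le_two (by rw [Finset.card_univ]; omega))
    simp only [Finset.mem_insert, Finset.mem_singleton, not_or] at hx
    obtain ⟨hx0, hx1⟩ := hx
    obtain ⟨s, hs⟩ := (th_bij (F := F) (m := m)).2 x
    have hs0 : s ≠ 0 := by rintro rfl; exact hx0 (by rw [← hs, map_zero])
    obtain ⟨α, hα⟩ : ∃ α, α = s ^ 2 / th F m s := ⟨_, rfl⟩
    have hα0 : α ≠ 0 := by rw [hα]; exact div_ne_zero (pow_ne_zero _ hs0) (θ_ne_zero hs0)
    have hα1 : α + 1 ≠ 0 := by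
      intro e
      apply hx1
      rw [hα] at e
      have hθ0 := θ_ne_zero (θ := th F m) hs0
      field_simp at e
      have e' : s ^ 2 = th F m s := by linear_combination e - th F m s * add_self' (1 : F)
      have e2 := congrArg (th F m) e'
      rw [map_pow, th_tits hF, ← e'] at e2
      have e3 : s ^ 2 = 1 := mul_left_cancel₀ (pow_ne_zero 2 hs0) (by rw [mul_one, ← sq, e2])
      rw [← hs, ← e', e3]
    obtain ⟨t'', ht''⟩ := alpha_surj hF hα1
    have hsum : ν (α + 1) = ν α + ν 1 := by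
      have e : uS hF α 0 * uS hF 1 0 = uS hF (α + 1) 0 * uS hF 0 (th F m α) := by
        rw [uS_mul, uS_mul]; simp
      have := congrArg ψ e
      rw [map_mul, map_mul, hμ, hμ, hμ, hz, uS_mul, uS_mul, hμa α hα0, hμ1] at this
      have e2 := (hinj this).2
      linear_combination -e2
    have h1 := (hscale t'' 1).2
    have h2 := (hscale (Units.mk0 s hs0) 1).2
    rw [mul_one, ht''] at h1
    rw [mul_one, Units.val_mk0, ← hα, hs] at h2
    rw [h1, h2] at hsum
    have h3 : th F m (t'' : F) = x + 1 := mul_right_cancel₀ hne (by rw [hsum]; ring)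
    have hts : (t'' : F) = s + 1 := (th_bij (F := F) (m := m)).1 (by rw [h3, map_add, map_one, hs])
    rw [hts, hα, map_add, map_one, hs] at ht''
    have hx1' : x + 1 ≠ 0 := fun e => hx1 (by linear_combination e - add_self' (1 : F))
    field_simp at ht''
    have e4 : x ^ 2 + s ^ 2 = 0 := by linear_combination -ht'' + x * s * add_self' (1 : F)
    have e5 : x = s := frobenius_inj F 2 (by
      simp only [frobenius_def]; linear_combination e4 - s ^ 2 * add_self' (1 : F))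
    have e6 := congrArg (th F m) hs
    rw [th_tits hF, e5, hs, e5] at e6
    have e7 : s = 1 := mul_left_cancel₀ hs0 (by rw [mul_one, ← sq]; exact e6)
    exact hx1 (e5.trans e7)
  have hU : ∀ x ∈ UU hF, ψ x = x := by
    rintro _ ⟨a, b, rfl⟩
    rw [uS_split hF a b, map_mul, hz, hμ]
    congr 1
    rcases eq_or_ne a 0 with rfl | ha
    · rw [← hμ, hz]
    · obtain ⟨t, hta⟩ := alpha_surj hF ha
      have := (hscale t 1).2
      rw [mul_one, hta, hν1, mul_zero] at this
      rw [this, hμa a ha]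
  have hB : ∀ g : Cfsg.Sz F m, g • p∞ = p∞ → ψ g = g := fun g hg => by
    obtain ⟨a, b, t, rfl⟩ := stab_inf hF hm hg
    rw [map_mul, hU _ ⟨a, b, rfl⟩, ht]
  have hw : ψ (wS hF) • p∞ = p₀ := by
    obtain ⟨t1, ht1⟩ : ∃ t : Fˣ, t ≠ 1 := by
      classical
      have h8 := card_ge_eight hF hm
      refine Fintype.exists_ne_of_one_lt_card ?_ 1
      rw [Fintype.card_units]; omega
    have h0 : ((wS hF)⁻¹ * tS hF t1 * wS hF) • p∞ = p∞ := by
      rw [mul_smul, mul_smul, wS_none, tS_zero, inv_smul_eq_iff, wS_none]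
    have h1 := hB _ h0
    rw [map_mul, map_mul, map_inv, ht] at h1
    rw [← h1, mul_smul, mul_smul, inv_smul_eq_iff] at h0
    rcases fix_tS hF hm ht1 h0 with h2 | h2
    · have h3 := hB _ h2
      have : wS hF • p∞ = p∞ := by
        rw [show wS hF = ψ (wS hF) from (ψ.injective h3).symm]
        exact h2
      rw [wS_none] at this
      simp at this
    · exact h2
  have hp : ∀ p : Cfsg.suzukiOvoid F m, ∀ g : Cfsg.Sz F m, g • p = p → ψ g • p = p := by
    intro p g hg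
    obtain ⟨_ | ⟨a, b⟩, rfl⟩ := (pt F m).surjective p
    · rw [hB g hg, hg]
    · have h0 : ((uS hF a b * wS hF)⁻¹ * g * (uS hF a b * wS hF)) • p∞ = p∞ := by
        rw [mul_smul, mul_smul, mul_smul (uS hF a b) (wS hF) p∞, wS_none, uS_zero, hg, inv_smul_eq_iff, mul_smul,
          wS_none, uS_zero]
      have h1 := hB _ h0
      rw [map_mul, map_mul, map_inv, map_mul, hU _ ⟨a, b, rfl⟩] at h1
      rw [← h1, mul_smul, mul_smul, inv_smul_eq_iff, mul_smul, hw, uS_zero] at h0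
      exact h0
  refine MulEquiv.ext fun g => ?_
  have := faithful hF hm
  refine eq_of_smul_eq_smul fun p : Cfsg.suzukiOvoid F m => ?_
  refine (point_eq_of_stab hF fun s hs => ?_).symm
  show s • (ψ g • p) = ψ g • p
  obtain ⟨⟨s', hs'⟩, e⟩ := (Finite.injective_iff_surjective.1
    (fun a b e => Subtype.ext (ψ.injective (congrArg Subtype.val e)) :
      Function.Injective fun a : MulAction.stabilizer (Cfsg.Sz F m) (g • p) =>
        (⟨ψ a, hp _ _ a.2⟩ : MulAction.stabilizer (Cfsg.Sz F m) (g • p)))) ⟨s, hs⟩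
  have e' : ψ s' = s := congrArg Subtype.val e
  have h1 := hp p (g⁻¹ * s' * g) (by rw [mul_smul, mul_smul, MulAction.mem_stabilizer_iff.1 hs', inv_smul_smul])
  rw [map_mul, map_mul, map_inv, e', mul_smul, mul_smul, inv_smul_eq_iff] at h1
  exact h1

include hF in
theorem exists_inner_field (hm : 1 ≤ m) (φ : MulAut (Cfsg.Sz F m)) :
    ∃ (γ : F ≃+* F) (g : Cfsg.Sz F m), φ = MulAut.conj g * fa γ := by
  obtain ⟨g1, h1⟩ := exists_fix_UU hF hm φ
  obtain ⟨g2, h2, h2'⟩ := exists_fix_torus hF hm _ h1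
  obtain ⟨γ, g3, h3, h3', h3''⟩ := exists_field hF hm _ h2 h2'
  have := eq_one_of_fix_torus hF hm ((MulAut.conj g3 * fa γ)⁻¹ * (MulAut.conj g2 * (MulAut.conj g1 * φ))) h3''
    (fun b => by rw [MulAut.mul_apply, h3, MulAut.inv_apply_self])
    (fun t => by rw [MulAut.mul_apply, h3', MulAut.inv_apply_self])
  refine ⟨γ, g1⁻¹ * g2⁻¹ * g3, ?_⟩
  rw [inv_mul_eq_one] at this
  rw [map_mul, map_mul, map_inv, map_inv, mul_assoc _ (MulAut.conj g3), this]
  group

include hF in
theorem card_out (hm : 1 ≤ m) : Nat.card (Cfsg.Out (Cfsg.Sz F m)) = 2 * m + 1 := by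
  have : Fact (Nat.Prime 2) := ⟨Nat.prime_two⟩
  rw [← (CfsgLib.Known.AutPSL.card_ringAut hF (by omega : 1 ≤ 2 * m + 1)).1]
  refine (Nat.card_eq_of_bijective ((QuotientGroup.mk' (Cfsg.Inn (Cfsg.Sz F m))).comp faHom) ⟨?_, ?_⟩).symm
  · rw [injective_iff_map_eq_one]
    intro γ hγ
    rw [MonoidHom.comp_apply, QuotientGroup.mk'_apply, QuotientGroup.eq_one_iff] at hγ
    obtain ⟨g, hg⟩ := hγ
    have hcj : ∀ x, g * x * g⁻¹ = fa γ x := fun x => DFunLike.congr_fun hg x
    have hUinv : ∀ x ∈ UU hF, g⁻¹ * x * g ∈ UU hF := by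
      rintro _ ⟨a, b, rfl⟩
      refine ⟨γ.symm a, γ.symm b, ?_⟩
      have := hcj (uS hF (γ.symm a) (γ.symm b))
      rw [fa_uS, γ.apply_symm_apply, γ.apply_symm_apply] at this
      rw [← this]; group
    have h1 := mem_stab_of_normalises hF hUinv
    obtain ⟨a, b, t, rfl⟩ := stab_inf hF hm h1
    have h0 : uS hF a b • p₀ = p₀ := by
      obtain ⟨t1, ht1⟩ : ∃ t : Fˣ, t ≠ 1 := by
        classical
        have h8 := card_ge_eight hF hm
        refine Fintype.exists_ne_of_one_lt_card ?_ 1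
        rw [Fintype.card_units]; omega
      have h2 := hcj (tS hF t1)
      rw [fa_tS] at h2
      have h3 : (uS hF a b * tS hF t * tS hF t1 * (uS hF a b * tS hF t)⁻¹) • p₀ = p₀ := by rw [h2, tS_zero]
      rw [mul_smul, mul_smul, smul_eq_iff_eq_inv_smul] at h3
      rcases fix_tS hF hm ht1 h3 with h4 | h4
      · rw [inv_smul_eq_iff, mul_smul, tS_none, uS_none] at h4
        simp at h4
      · rw [inv_smul_eq_iff, mul_smul, tS_zero] at h4
        exact h4.symm
    rw [uS_zero, EmbeddingLike.apply_eq_iff_eq, Option.some.injEq, Prod.mk.injEq] at h0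
    obtain ⟨rfl, rfl⟩ := h0
    rw [uS_zero_zero, one_mul] at hcj
    refine RingEquiv.ext fun b => ?_
    have hb : ∀ b, th F m t * b = γ b := fun b => by
      have := hcj (uS hF 0 b)
      rw [tS_uS, mul_inv_cancel_right, fa_uS, mul_zero, map_zero] at this
      exact (uS_tS_inj hF (a := 0) (b := th F m t * b) (a' := 0) (b' := γ b) (t := 1) (t' := 1)
        (by rw [this])).2.1
    have := hb 1
    rw [mul_one, map_one] at this
    show γ b = b
    rw [← hb b, this, one_mul]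
  · intro x
    obtain ⟨φ, rfl⟩ := QuotientGroup.mk'_surjective _ x
    obtain ⟨γ, g, rfl⟩ := exists_inner_field hF hm φ
    refine ⟨γ, ?_⟩
    rw [MonoidHom.comp_apply, map_mul,
      show (QuotientGroup.mk' (Cfsg.Inn (Cfsg.Sz F m))) (MulAut.conj g) = 1 from
        (QuotientGroup.eq_one_iff _).2 ⟨g, rfl⟩, one_mul]
    rfl

end CfsgLib.Known.SuzukiAut
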