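import Cfsg.Agent.Lib.Known.SemisimpleDet

/-!
# Semisimple classes of `GL n F`: conjugacy is equality of characteristic polynomials
-/

set_option autoImplicit false

open Polynomial

namespace CfsgLib.Known.SemisimpleClass

universe u

variable {F : Type u} [Field F]

theorem dvd_minpoly_of_dvd_charpoly {V : Type*} [AddCommGroup V] [Module F V] [FiniteDimensional F V]
    (x : Module.End F V) {f : F[X]} (hf : Irreducible f) (h : f ∣ x.charpoly) : f ∣ minpoly F x := by
  classical
  haveI : Fact (Irreducible f) := ⟨hf⟩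
  let b := Module.finBasis F V
  set A := LinearMap.toMatrixAlgEquiv b x with hA
  have hcp : A.charpoly = x.charpoly := LinearMap.charpoly_toMatrix x b
  have hmp : aeval A (minpoly F x) = 0 := by
    rw [hA, aeval_algHom_apply, minpoly.aeval, map_zero]
  let i : F →+* AdjoinRoot f := algebraMap F (AdjoinRoot f)
  let M := A.map i
  have hroot : M.charpoly.IsRoot (AdjoinRoot.root f) := by
    rw [show M.charpoly = A.charpoly.map i from Matrix.charpoly_map A i, hcp, IsRoot.def, eval_map,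
      show eval₂ i (AdjoinRoot.root f) x.charpoly = aeval (AdjoinRoot.root f) x.charpoly from rfl,
      AdjoinRoot.aeval_eq, AdjoinRoot.mk_eq_zero]
    exact h
  rw [← Matrix.mem_spectrum_iff_isRoot_charpoly, ← Matrix.spectrum_toLin',
    ← Module.End.hasEigenvalue_iff_mem_spectrum] at hroot
  obtain ⟨v, hv⟩ := hroot.exists_hasEigenvector
  have h1 := Module.End.aeval_apply_of_hasEigenvector (p := (minpoly F x).map i) hv
  have h2 : aeval M ((minpoly F x).map i) = 0 := by
    rw [aeval_def, eval₂_map]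
    have h3 := congrArg (i.mapMatrix : Matrix _ _ F →+* Matrix _ _ (AdjoinRoot f)) hmp
    rw [aeval_def, hom_eval₂, map_zero] at h3
    rw [← h3]
    congr 1
    refine RingHom.ext fun c => Matrix.ext fun a b => ?_
    by_cases hab : a = b <;> simp [Matrix.algebraMap_matrix_apply, hab, M]
  rw [show Matrix.toLin' M = Matrix.toLinAlgEquiv' M from rfl, aeval_algHom_apply, h2, map_zero,
    LinearMap.zero_apply, eq_comm, smul_eq_zero] at h1
  have h4 := h1.resolve_right hv.2
  rw [eval_map, show eval₂ i (AdjoinRoot.root f) (minpoly F x) = aeval (AdjoinRoot.root f) (minpoly F x) from rfl,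
    AdjoinRoot.aeval_eq, AdjoinRoot.mk_eq_zero] at h4
  exact h4

/-- An irreducible factor of the characteristic polynomial splits off a field summand. -/
theorem exists_split {V : Type*} [AddCommGroup V] [Module F V] [FiniteDimensional F V]
    (x : Module.End F V) {N : ℕ} (hN : x ^ N = 1) (hNF : (N : F) ≠ 0) {f : F[X]} (hfm : f.Monic)
    (hf : Irreducible f) (hfx : f ∣ x.charpoly) :
    ∃ (W : Submodule F V) (x' : Module.End F W) (e : (AdjoinRoot f × W) ≃ₗ[F] V),
      (∀ w : W, (x' w : V) = x w) ∧ x' ^ N = 1 ∧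
      x = e.conj (LinearMap.prodMap (Algebra.lmul F (AdjoinRoot f) (AdjoinRoot.root f)) x') ∧
      x.charpoly = f * x'.charpoly ∧ Module.finrank F W + f.natDegree = Module.finrank F V := by
  classical
  haveI : Fact (Irreducible f) := ⟨hf⟩
  have hN0 : 0 < N := Nat.pos_of_ne_zero fun h => hNF (by rw [h, Nat.cast_zero])
  obtain ⟨u, hu⟩ := dvd_minpoly_of_dvd_charpoly x hf hfx
  have hint : IsIntegral F x := Algebra.IsIntegral.isIntegral x
  obtain ⟨v, hv0, hfv⟩ : ∃ v : V, v ≠ 0 ∧ aeval x f v = 0 := by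
    have hu0 : aeval x u ≠ 0 := by
      intro h
      have hne : u ≠ 0 := fun h0 => minpoly.ne_zero hint (by rw [hu, h0, mul_zero])
      have h1 := natDegree_le_of_dvd (minpoly.dvd F x h) hne
      rw [hu, natDegree_mul hf.ne_zero hne] at h1
      have := hf.natDegree_pos
      omega
    obtain ⟨w, hw⟩ : ∃ w, aeval x u w ≠ 0 := by
      by_contra hcon
      push Not at hcon
      exact hu0 (LinearMap.ext hcon)
    refine ⟨aeval x u w, hw, ?_⟩
    rw [← Module.End.mul_apply, ← map_mul, ← hu, minpoly.aeval]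
    rfl
  let pb := AdjoinRoot.powerBasis hf.ne_zero
  haveI : FiniteDimensional F (AdjoinRoot f) := pb.finite
  let evalv : F[X] →ₗ[F] V := (LinearMap.applyₗ v).comp (aeval x).toLinearMap
  have hev : ∀ p, evalv p = aeval x p v := fun _ => rfl
  have hwell : ∀ p q : F[X], AdjoinRoot.mk f p = AdjoinRoot.mk f q → evalv p = evalv q := by
    intro p q h
    obtain ⟨w, hw⟩ := AdjoinRoot.mk_eq_mk.1 h
    rw [← sub_eq_zero, ← map_sub, hw, mul_comm, hev, map_mul, Module.End.mul_apply, hfv, map_zero]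
  obtain ⟨ι, hι⟩ : ∃ ι : AdjoinRoot f →ₗ[F] V, ∀ p, ι (AdjoinRoot.mk f p) = evalv p := by
    choose r hr using AdjoinRoot.mk_surjective (g := f)
    refine ⟨{ toFun := fun y => evalv (r y), map_add' := fun y z => ?_, map_smul' := fun c y => ?_ },
      fun p => hwell _ _ (hr _)⟩
    · rw [← map_add]
      exact hwell _ _ (by rw [hr, map_add, hr, hr])
    · rw [RingHom.id_apply, ← map_smul]
      exact hwell _ _ (by rw [hr, ← AdjoinRoot.smul_mk, hr])
  have hinj : Function.Injective ι := by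
    rw [injective_iff_map_eq_zero]
    intro y hy
    obtain ⟨p, rfl⟩ := AdjoinRoot.mk_surjective y
    rw [hι, hev] at hy
    rw [AdjoinRoot.mk_eq_zero]
    by_contra hcon
    obtain ⟨s, t, hst⟩ := hf.coprime_iff_not_dvd.2 hcon
    have h1 := LinearMap.congr_fun (congrArg (aeval x) hst) v
    simp [map_add, map_mul, hfv, hy] at h1
    exact hv0 h1.symm
  have hroot : ∀ y : AdjoinRoot f, x (ι y) = ι (AdjoinRoot.root f * y) := by
    intro y
    obtain ⟨r, rfl⟩ := AdjoinRoot.mk_surjective y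
    rw [hι, ← AdjoinRoot.mk_X, ← map_mul, hι, hev, hev, map_mul, Module.End.mul_apply, aeval_X]
  set W₀ := LinearMap.range ι
  have hW0 : ∀ (i : ℕ), ∀ w ∈ W₀, (x ^ i) w ∈ W₀ := by
    intro i
    induction i with
    | zero => exact fun w hw => hw
    | succ i ih =>
      rintro _ ⟨y, rfl⟩
      rw [pow_succ, Module.End.mul_apply, hroot]
      exact ih _ ⟨_, rfl⟩
  obtain ⟨W', hW'⟩ := Submodule.exists_isCompl W₀
  let π0 : Module.End F V := W₀.subtype.comp (W₀.projectionOnto W' hW')
  have hπ0mem : ∀ w, π0 w ∈ W₀ := fun w => (W₀.projectionOnto W' hW' w).2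
  have hπ0fix : ∀ w ∈ W₀, π0 w = w := fun w hw => by
    show ((W₀.projectionOnto W' hW' w : W₀) : V) = w
    rw [Submodule.projectionOnto_apply_left hW' ⟨w, hw⟩]
  let S : Module.End F V := ∑ i ∈ Finset.range N, x ^ i * π0 * x ^ (N - i)
  have hSx : S * x = x * S := by
    have hterm : ∀ i ∈ Finset.range N, x ^ i * π0 * x ^ (N - i) * x = x ^ i * π0 * x ^ (N - i + 1) :=
      fun i _ => by rw [mul_assoc (x ^ i * π0), ← pow_succ]
    have hterm2 : ∀ i ∈ Finset.range N, x * (x ^ i * π0 * x ^ (N - i)) =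
        x ^ (i + 1) * π0 * x ^ (N - (i + 1) + 1) := by
      intro i hi
      rw [← mul_assoc, ← mul_assoc, ← pow_succ', show N - (i + 1) + 1 = N - i by
        have := Finset.mem_range.1 hi; omega]
    rw [Finset.sum_mul, Finset.mul_sum, Finset.sum_congr rfl hterm, Finset.sum_congr rfl hterm2]
    obtain ⟨M, rfl⟩ : ∃ M, N = M + 1 := ⟨N - 1, by omega⟩
    rw [Finset.sum_range_succ' (fun i => x ^ i * π0 * x ^ (M + 1 - i + 1)),
      Finset.sum_range_succ (fun i => x ^ (i + 1) * π0 * x ^ (M + 1 - (i + 1) + 1))]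
    congr 1
    simp only [hN, Nat.sub_self, pow_zero, one_mul, Nat.sub_zero]
    rw [pow_succ x (M + 1), hN, one_mul, zero_add, pow_one]
  let π : Module.End F V := (N : F)⁻¹ • S
  have hπx : π * x = x * π := by simp only [π, smul_mul_assoc, mul_smul_comm, hSx]
  have hπmem : ∀ w, π w ∈ W₀ := fun w => by
    simp only [π, S, LinearMap.smul_apply, LinearMap.sum_apply, Module.End.mul_apply]
    exact W₀.smul_mem _ (W₀.sum_mem fun i _ => hW0 i _ (hπ0mem _))
  have hπfix : ∀ w ∈ W₀, π w = w := fun w hw => by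
    simp only [π, S, LinearMap.smul_apply, LinearMap.sum_apply, Module.End.mul_apply]
    rw [Finset.sum_congr rfl (g := fun _ => w) fun i hi => ?_]
    · rw [Finset.sum_const, Finset.card_range, ← Nat.cast_smul_eq_nsmul F, inv_smul_smul₀ hNF]
    · rw [hπ0fix _ (hW0 _ w hw), ← Module.End.mul_apply, ← pow_add,
        Nat.add_sub_cancel' (Finset.mem_range.1 hi).le, hN]
      rfl
  have hP : LinearMap.IsProj W₀ π := ⟨hπmem, hπfix⟩
  set W := LinearMap.ker π
  have hxW : ∀ w ∈ W, x w ∈ W := fun w hw => by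
    rw [LinearMap.mem_ker, ← Module.End.mul_apply, hπx, Module.End.mul_apply, LinearMap.mem_ker.1 hw, map_zero]
  let x' : Module.End F W := x.restrict hxW
  let e : (AdjoinRoot f × W) ≃ₗ[F] V :=
    ((LinearEquiv.ofInjective ι hinj).prodCongr (LinearEquiv.refl F W)).trans
      (Submodule.prodEquivOfIsCompl W₀ W hP.isCompl)
  have he : ∀ y w, e (y, w) = ι y + (w : V) := fun y w => by
    simp [e, Submodule.coe_prodEquivOfIsCompl']
  have hconj : x = e.conj (LinearMap.prodMap (Algebra.lmul F (AdjoinRoot f) (AdjoinRoot.root f)) x') := by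
    refine LinearMap.ext fun z => ?_
    obtain ⟨⟨y, w⟩, rfl⟩ := e.surjective z
    rw [LinearEquiv.conj_apply_apply, e.symm_apply_apply, LinearMap.prodMap_apply, he, he, map_add, hroot]
    rfl
  have hx'N : x' ^ N = 1 := by
    refine LinearMap.ext fun w => Subtype.ext ?_
    have : ∀ k : ℕ, ∀ w : W, (((x' ^ k) w : W) : V) = (x ^ k) w := by
      intro k
      induction k with
      | zero => intro w; rfl
      | succ k ih => intro w; rw [pow_succ, pow_succ, Module.End.mul_apply, Module.End.mul_apply, ih]; rfl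
    rw [this, hN]
    rfl
  have hcp : (Algebra.lmul F (AdjoinRoot f) (AdjoinRoot.root f)).charpoly = f := by
    rw [← LinearMap.charpoly_toMatrix _ pb.basis]
    have h := charpoly_leftMulMatrix pb
    simp only [pb, AdjoinRoot.powerBasis_gen, AdjoinRoot.minpoly_root hf.ne_zero, hfm.leadingCoeff, inv_one,
      map_one, mul_one] at h
    exact h
  refine ⟨W, x', e, fun w => rfl, hx'N, hconj, ?_, ?_⟩
  · conv_lhs => rw [hconj]
    rw [LinearEquiv.charpoly_conj, LinearMap.charpoly_prodMap, hcp]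
  · rw [← e.finrank_eq, Module.finrank_prod, pb.finrank, show pb.dim = f.natDegree from rfl, add_comm]

/-- Semisimple endomorphisms with equal characteristic polynomials are similar. -/
theorem exists_equiv (n : ℕ) : ∀ (V V' : Type u) [AddCommGroup V] [Module F V] [FiniteDimensional F V]
    [AddCommGroup V'] [Module F V'] [FiniteDimensional F V'] (x : Module.End F V) (y : Module.End F V')
    (N : ℕ), x ^ N = 1 → y ^ N = 1 → (N : F) ≠ 0 → x.charpoly = y.charpoly → Module.finrank F V = n →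
    ∃ e : V ≃ₗ[F] V', y = e.conj x := by
  induction n using Nat.strong_induction_on with
  | _ n ih =>
    intro V V' _ _ _ _ _ _ x y N hx hy hNF hc hn
    have hn' : Module.finrank F V' = n := by
      rw [← LinearMap.charpoly_natDegree y, ← hc, LinearMap.charpoly_natDegree, hn]
    rcases Nat.eq_zero_or_pos n with h0 | h0
    · haveI := Module.finrank_zero_iff.1 (hn.trans h0)
      haveI := Module.finrank_zero_iff.1 (hn'.trans h0)
      exact ⟨LinearEquiv.ofFinrankEq V V' (hn.trans hn'.symm), LinearMap.ext fun z => Subsingleton.elim _ _⟩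
    obtain ⟨f, hfm, hf, hfd⟩ := Polynomial.exists_monic_irreducible_factor x.charpoly
      (fun hu => by
        have := natDegree_eq_zero_of_isUnit hu
        rw [LinearMap.charpoly_natDegree, hn] at this
        omega)
    obtain ⟨W, x', e, -, hx', hxe, hxc, hxd⟩ := exists_split x hx hNF hfm hf hfd
    obtain ⟨W', y', e', -, hy', hye, hyc, hyd⟩ := exists_split y hy hNF hfm hf (hc ▸ hfd)
    have hc' : x'.charpoly = y'.charpoly := mul_left_cancel₀ hf.ne_zero (hxc.symm.trans (hc.trans hyc))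
    have := hf.natDegree_pos
    obtain ⟨g, hg⟩ := ih (Module.finrank F W) (by omega) W W' x' y' N hx' hy' hNF hc' rfl
    refine ⟨e.symm.trans (((LinearEquiv.refl F (AdjoinRoot f)).prodCongr g).trans e'), ?_⟩
    rw [hye, hxe, hg]
    refine LinearMap.ext fun z => ?_
    obtain ⟨⟨a, b⟩, rfl⟩ := e'.surjective z
    simp [LinearEquiv.conj_apply_apply]

/-- Elements of order prime to `p` with the same characteristic polynomial are conjugate. -/
theorem isConj_of_charpoly_eq {p : ℕ} [Fact p.Prime] [CharP F p] {n : ℕ} (g h : GL (Fin n) F)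
    (hg : (orderOf g).Coprime p) (hh : (orderOf h).Coprime p)
    (hc : (g : Matrix (Fin n) (Fin n) F).charpoly = (h : Matrix (Fin n) (Fin n) F).charpoly) : IsConj g h := by
  classical
  let A := Matrix.toLinAlgEquiv' (R := F) (n := Fin n)
  set N := orderOf g * orderOf h
  have hNF : (N : F) ≠ 0 := by
    rw [Ne, CharP.cast_eq_zero_iff F p]
    intro hdvd
    have hcop : N.Coprime p := Nat.Coprime.mul_left hg hh
    exact (Fact.out : p.Prime).ne_one (Nat.eq_one_of_dvd_one (hcop.symm ▸ Nat.dvd_gcd (dvd_refl p) hdvd))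
  have hpow : ∀ k : GL (Fin n) F, orderOf k ∣ N → A (k : Matrix (Fin n) (Fin n) F) ^ N = 1 := fun k hk => by
    rw [← map_pow, ← Units.val_pow_eq_pow_val, orderOf_dvd_iff_pow_eq_one.1 hk, Units.val_one, map_one]
  obtain ⟨e, he⟩ := exists_equiv n (Fin n → F) (Fin n → F) (A g) (A h) N (hpow g (dvd_mul_right _ _))
    (hpow h (dvd_mul_left _ _)) hNF (by
      show (Matrix.toLin' (g : Matrix (Fin n) (Fin n) F)).charpoly = (Matrix.toLin' (h : Matrix (Fin n) (Fin n) F)).charpoly
      rw [Matrix.charpoly_toLin', Matrix.charpoly_toLin', hc]) (Module.finrank_fin_fun F)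
  set E : Module.End F (Fin n → F) := (e : (Fin n → F) →ₗ[F] (Fin n → F))
  have hE : IsUnit E := (Module.End.isUnit_iff E).2 e.bijective
  obtain ⟨c, hcval⟩ := hE.map A.symm
  refine ⟨toUnits c, Units.ext (A.injective ?_)⟩
  rw [Units.val_mul, Units.val_mul, map_mul, map_mul]
  show A (c : Matrix (Fin n) (Fin n) F) * _ = _ * A (c : Matrix (Fin n) (Fin n) F)
  rw [hcval, A.apply_symm_apply, he]
  refine LinearMap.ext fun z => ?_
  simp [E, LinearEquiv.conj_apply_apply]

theorem charpoly_coeff_zero_ne {n : ℕ} (g : GL (Fin n) F) :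
    (g : Matrix (Fin n) (Fin n) F).charpoly.coeff 0 ≠ 0 := by
  intro h
  have := Matrix.det_eq_sign_charpoly_coeff (g : Matrix (Fin n) (Fin n) F)
  rw [h, mul_zero] at this
  exact (Matrix.GeneralLinearGroup.det g).ne_zero this

variable [Fintype F]

/-- A product of monic irreducibles with non-zero constant term is the characteristic polynomial of a
semisimple endomorphism. -/
theorem exists_semisimple_matrix (s : Multiset F[X]) :
    (∀ f ∈ s, f.Monic ∧ Irreducible f ∧ f.coeff 0 ≠ 0) →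
    ∃ (d : ℕ) (A : Matrix (Fin d) (Fin d) F) (N : ℕ), A.charpoly = s.prod ∧ A ^ N = 1 ∧ (N : F) ≠ 0 := by
  classical
  induction s using Multiset.induction_on with
  | empty =>
    exact fun _ => ⟨0, 1, 1, by rw [Multiset.prod_zero]; exact Matrix.charpoly_isEmpty, one_pow 1,
      by rw [Nat.cast_one]; exact one_ne_zero⟩
  | cons f s ih =>
    intro h
    obtain ⟨hfm, hf, hf0⟩ := h f (Multiset.mem_cons_self f s)
    obtain ⟨d, A, N, hA, hAN, hNF⟩ := ih fun g hg => h g (Multiset.mem_cons_of_mem hg)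
    haveI : Fact (Irreducible f) := ⟨hf⟩
    let pb := AdjoinRoot.powerBasis hf.ne_zero
    haveI : FiniteDimensional F (AdjoinRoot f) := pb.finite
    haveI : Finite (AdjoinRoot f) := Module.finite_of_finite F
    haveI : Fintype (AdjoinRoot f) := Fintype.ofFinite _
    set B := Algebra.leftMulMatrix pb.basis (AdjoinRoot.root f)
    have hB : B.charpoly = f := by
      have h := charpoly_leftMulMatrix pb
      simp only [pb, AdjoinRoot.powerBasis_gen, AdjoinRoot.minpoly_root hf.ne_zero, hfm.leadingCoeff, inv_one,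
        map_one, mul_one] at h
      exact h
    have hroot0 : AdjoinRoot.root f ≠ 0 := by
      intro h0
      have := AdjoinRoot.eval₂_root f
      rw [h0, eval₂_at_zero] at this
      exact hf0 ((map_eq_zero (AdjoinRoot.of f)).1 this)
    set M := Fintype.card (AdjoinRoot f) - 1
    have hBM : B ^ M = 1 := by
      rw [← map_pow, FiniteField.pow_card_sub_one_eq_one _ hroot0, map_one]
    have hMF : (M : F) ≠ 0 := by
      intro h0
      have h1 := congrArg (algebraMap F (AdjoinRoot f)) h0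
      rw [map_natCast, map_zero, Nat.cast_sub Fintype.card_pos, Nat.cast_one, FiniteField.cast_card_eq_zero,
        zero_sub, neg_eq_zero] at h1
      exact one_ne_zero h1
    let e : Fin pb.dim ⊕ Fin d ≃ Fin (pb.dim + d) := finSumFinEquiv
    refine ⟨pb.dim + d, Matrix.reindexAlgEquiv F F e (Matrix.fromBlocks B 0 0 A), M * N, ?_, ?_, ?_⟩
    · show (Matrix.reindex e e _).charpoly = _
      rw [Matrix.charpoly_reindex, Matrix.charpoly_fromBlocks_zero₁₂, hB, hA, Multiset.prod_cons]
    · rw [← map_pow]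
      have hpow : ∀ k : ℕ, (Matrix.fromBlocks B 0 0 A) ^ k = Matrix.fromBlocks (B ^ k) 0 0 (A ^ k) := by
        intro k
        induction k with
        | zero => simp [Matrix.fromBlocks_one]
        | succ k ih => rw [pow_succ, ih, Matrix.fromBlocks_multiply]; simp [pow_succ]
      rw [hpow, pow_mul, hBM, one_pow, mul_comm, pow_mul, hAN, one_pow, Matrix.fromBlocks_one, map_one]
    · rw [Nat.cast_mul]
      exact mul_ne_zero hMF hNF

theorem exists_semisimple {p : ℕ} [Fact p.Prime] [CharP F p] {n : ℕ} (χ : F[X]) (hχ : χ.Monic)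
    (hn : χ.natDegree = n) (h0 : χ.coeff 0 ≠ 0) :
    ∃ g : GL (Fin n) F, (orderOf g).Coprime p ∧ (g : Matrix (Fin n) (Fin n) F).charpoly = χ := by
  classical
  obtain ⟨d, A, N, hA, hAN, hNF⟩ := exists_semisimple_matrix
    (UniqueFactorizationMonoid.normalizedFactors χ) fun f hf => by
    have hirr := UniqueFactorizationMonoid.irreducible_of_normalized_factor f hf
    refine ⟨?_, hirr, fun h => h0 ?_⟩
    · rw [← UniqueFactorizationMonoid.normalize_normalized_factor f hf]
      exact monic_normalize hirr.ne_zero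
    · obtain ⟨c, rfl⟩ := UniqueFactorizationMonoid.dvd_of_mem_normalizedFactors hf
      rw [mul_coeff_zero, h, zero_mul]
  rw [UniqueFactorizationMonoid.prod_normalizedFactors_eq hχ.ne_zero, hχ.normalize_eq_self] at hA
  obtain rfl : d = n := by
    rw [← hn, ← hA, Matrix.charpoly_natDegree_eq_dim, Fintype.card_fin]
  have hN0 : N ≠ 0 := fun h => hNF (by rw [h, Nat.cast_zero])
  let g : GL (Fin d) F := Units.ofPowEqOne A N hAN hN0
  refine ⟨g, ?_, hA⟩
  have hdvd : orderOf g ∣ N := orderOf_dvd_of_pow_eq_one (Units.ext (by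
    rw [Units.val_pow_eq_pow_val]; exact hAN))
  refine Nat.Coprime.coprime_dvd_left hdvd ?_
  rw [Nat.coprime_comm, (Fact.out : p.Prime).coprime_iff_not_dvd, ← CharP.cast_eq_zero_iff F p]
  exact hNF

/-- Monic polynomials of degree `m + 1` with constant term in a given set. -/
theorem card_monic_coeff_zero (m : ℕ) (S : Set F) :
    Nat.card {χ : F[X] // (χ.Monic ∧ χ.natDegree = m + 1) ∧ χ.coeff 0 ∈ S} =
      Nat.card S * Fintype.card F ^ m := by
  classical
  let e : {χ : F[X] // χ.Monic ∧ χ.natDegree = m + 1} ≃ (Fin (m + 1) → F) :=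
    (monicEquivDegreeLT (m + 1)).trans (degreeLTEquiv F (m + 1)).toEquiv
  have he : ∀ χ : {χ : F[X] // χ.Monic ∧ χ.natDegree = m + 1}, e χ 0 = χ.1.coeff 0 := by
    intro χ
    show (χ.1.eraseLead).coeff 0 = _
    rw [eraseLead_coeff, if_neg (by rw [χ.2.2]; omega)]
  have e1 : {χ : F[X] // (χ.Monic ∧ χ.natDegree = m + 1) ∧ χ.coeff 0 ∈ S} ≃ {v : Fin (m + 1) → F // v 0 ∈ S} :=
    (Equiv.subtypeSubtypeEquivSubtypeInter (fun χ : F[X] => χ.Monic ∧ χ.natDegree = m + 1)
      (fun χ => χ.coeff 0 ∈ S)).symm.trans (e.subtypeEquiv fun χ => by rw [he])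
  let e2 : {v : Fin (m + 1) → F // v 0 ∈ S} ≃ S × (Fin m → F) :=
    { toFun := fun v => (⟨v.1 0, v.2⟩, Fin.tail v.1)
      invFun := fun x => ⟨Fin.cons x.1.1 x.2, by simp⟩
      left_inv := fun v => Subtype.ext (Fin.cons_self_tail v.1)
      right_inv := fun x => by simp }
  rw [Nat.card_congr (e1.trans e2), Nat.card_prod, Nat.card_fun, Nat.card_fin, Nat.card_eq_fintype_card (α := F)]

theorem gl_card {p : ℕ} [Fact p.Prime] [CharP F p] {n : ℕ} (hn : 1 ≤ n) :
    Nat.card {c : ConjClasses (GL (Fin n) F) // ∃ g : GL (Fin n) F, ConjClasses.mk g = c ∧ (orderOf g).Coprime p} =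
      (Fintype.card F - 1) * Fintype.card F ^ (n - 1) := by
  classical
  obtain ⟨m, rfl⟩ : ∃ m, n = m + 1 := ⟨n - 1, by omega⟩
  have hcs : Nat.card ({0}ᶜ : Set F) = Fintype.card F - 1 := by
    rw [Nat.card_eq_fintype_card, Fintype.card_compl_set]
    simp
  rw [Nat.add_sub_cancel, ← hcs, ← card_monic_coeff_zero m]
  choose g hg hgp using fun c : {c : ConjClasses (GL (Fin (m + 1)) F) //
    ∃ g : GL (Fin (m + 1)) F, ConjClasses.mk g = c ∧ (orderOf g).Coprime p} => c.2
  refine Nat.card_congr (Equiv.ofBijective (fun c => ⟨(g c : Matrix (Fin (m + 1)) (Fin (m + 1)) F).charpoly,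
    ⟨Matrix.charpoly_monic _, by rw [Matrix.charpoly_natDegree_eq_dim, Fintype.card_fin]⟩,
    charpoly_coeff_zero_ne (g c)⟩) ⟨fun c c' h => ?_, fun χ => ?_⟩)
  · apply Subtype.ext
    rw [← hg c, ← hg c']
    exact ConjClasses.mk_eq_mk_iff_isConj.2 (isConj_of_charpoly_eq _ _ (hgp c) (hgp c') (congrArg Subtype.val h))
  · obtain ⟨x, hx, hxc⟩ := exists_semisimple (p := p) χ.1 χ.2.1.1 χ.2.1.2 χ.2.2
    refine ⟨⟨ConjClasses.mk x, x, rfl, hx⟩, Subtype.ext ?_⟩
    obtain ⟨k, hk⟩ := ConjClasses.mk_eq_mk_iff_isConj.1 (hg ⟨ConjClasses.mk x, x, rfl, hx⟩)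
    rw [← hxc]
    have h1 := congrArg (fun y : GL (Fin (m + 1)) F => (y : Matrix (Fin (m + 1)) (Fin (m + 1)) F)) (mul_inv_eq_iff_eq_mul.2 hk.eq).symm
    simp only [Units.val_mul] at h1
    rw [h1, Matrix.charpoly_mul_comm, ← mul_assoc, Units.inv_mul, one_mul]

theorem sl_isConj {p : ℕ} [Fact p.Prime] [CharP F p] {n : ℕ} (g h : Matrix.SpecialLinearGroup (Fin n) F)
    (hg : (orderOf g).Coprime p) (hh : (orderOf h).Coprime p)
    (hc : (g : Matrix (Fin n) (Fin n) F).charpoly = (h : Matrix (Fin n) (Fin n) F).charpoly) : IsConj g h := by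
  have hord : ∀ x : Matrix.SpecialLinearGroup (Fin n) F,
      orderOf (Matrix.SpecialLinearGroup.toGL x) = orderOf x :=
    fun x => orderOf_injective _ Matrix.SpecialLinearGroup.toGL_injective x
  obtain ⟨c, hcc⟩ := isConj_of_charpoly_eq (Matrix.SpecialLinearGroup.toGL g) (Matrix.SpecialLinearGroup.toGL h)
    (by rwa [hord]) (by rwa [hord]) hc
  obtain ⟨k, hk1, hk2⟩ := SemisimpleDet.exists_conj_det_one (Matrix.SpecialLinearGroup.toGL g) (c : GL (Fin n) F)
    (by rwa [hord])
  rw [isConj_iff]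
  let y : Matrix.SpecialLinearGroup (Fin n) F := ⟨(k : Matrix (Fin n) (Fin n) F), hk1⟩
  refine ⟨y, Matrix.SpecialLinearGroup.toGL_injective ?_⟩
  rw [map_mul, map_mul, map_inv,
    show Matrix.SpecialLinearGroup.toGL y = k from Units.ext rfl, hk2, mul_inv_eq_iff_eq_mul]
  exact hcc.eq

theorem sl_card {p : ℕ} [Fact p.Prime] [CharP F p] {n : ℕ} (hn : 1 ≤ n) :
    Nat.card {c : ConjClasses (Matrix.SpecialLinearGroup (Fin n) F) //
      ∃ g : Matrix.SpecialLinearGroup (Fin n) F, ConjClasses.mk g = c ∧ (orderOf g).Coprime p} =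
      Fintype.card F ^ (n - 1) := by
  classical
  obtain ⟨m, rfl⟩ : ∃ m, n = m + 1 := ⟨n - 1, by omega⟩
  have h1 : Nat.card ({(-1 : F) ^ (m + 1)} : Set F) = 1 := by simp
  have h2 : Fintype.card F ^ m = Nat.card ({(-1 : F) ^ (m + 1)} : Set F) * Fintype.card F ^ m := by
    rw [h1, one_mul]
  rw [Nat.add_sub_cancel, h2, ← card_monic_coeff_zero m]
  have hdet : ∀ A : Matrix (Fin (m + 1)) (Fin (m + 1)) F, A.det = 1 ↔ A.charpoly.coeff 0 = (-1) ^ (m + 1) := by
    intro A
    rw [Matrix.det_eq_sign_charpoly_coeff, Fintype.card_fin]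
    constructor
    · intro h
      calc A.charpoly.coeff 0 = (-1) ^ (m + 1) * ((-1) ^ (m + 1) * A.charpoly.coeff 0) := by
            rw [← mul_assoc, ← pow_add, Even.neg_one_pow ⟨m + 1, rfl⟩, one_mul]
        _ = _ := by rw [h, mul_one]
    · intro h
      rw [h, ← pow_add, Even.neg_one_pow ⟨m + 1, rfl⟩]
  choose g hg hgp using fun c : {c : ConjClasses (Matrix.SpecialLinearGroup (Fin (m + 1)) F) //
    ∃ g : Matrix.SpecialLinearGroup (Fin (m + 1)) F, ConjClasses.mk g = c ∧ (orderOf g).Coprime p} => c.2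
  refine Nat.card_congr (Equiv.ofBijective (fun c => ⟨(g c : Matrix (Fin (m + 1)) (Fin (m + 1)) F).charpoly,
    ⟨Matrix.charpoly_monic _, by rw [Matrix.charpoly_natDegree_eq_dim, Fintype.card_fin]⟩,
    (hdet _).1 (g c).2⟩) ⟨fun c c' h => ?_, fun χ => ?_⟩)
  · apply Subtype.ext
    rw [← hg c, ← hg c']
    exact ConjClasses.mk_eq_mk_iff_isConj.2 (sl_isConj _ _ (hgp c) (hgp c') (congrArg Subtype.val h))
  · obtain ⟨x, hx, hxc⟩ := exists_semisimple (p := p) χ.1 χ.2.1.1 χ.2.1.2 (by
      rw [show χ.1.coeff 0 = (-1) ^ (m + 1) from χ.2.2]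
      exact pow_ne_zero _ (neg_ne_zero.2 one_ne_zero))
    have hxd : (x : Matrix (Fin (m + 1)) (Fin (m + 1)) F).det = 1 := (hdet _).2 (hxc ▸ χ.2.2)
    let y : Matrix.SpecialLinearGroup (Fin (m + 1)) F := ⟨_, hxd⟩
    have hy : (orderOf y).Coprime p := by
      rw [← orderOf_injective _ Matrix.SpecialLinearGroup.toGL_injective y,
        show Matrix.SpecialLinearGroup.toGL y = x from Units.ext rfl]
      exact hx
    refine ⟨⟨ConjClasses.mk y, y, rfl, hy⟩, Subtype.ext ?_⟩
    obtain ⟨k, hk⟩ := ConjClasses.mk_eq_mk_iff_isConj.1 (hg ⟨ConjClasses.mk y, y, rfl, hy⟩)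
    rw [← hxc]
    show _ = (y : Matrix (Fin (m + 1)) (Fin (m + 1)) F).charpoly
    conv_rhs => rw [← mul_inv_eq_iff_eq_mul.2 hk.eq]
    simp only [Matrix.SpecialLinearGroup.coe_mul]
    rw [mul_assoc, Matrix.charpoly_mul_comm, mul_assoc, ← Matrix.SpecialLinearGroup.coe_mul, inv_mul_cancel,
      Matrix.SpecialLinearGroup.coe_one, mul_one]

end CfsgLib.Known.SemisimpleClass
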