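import Mathlib

/-!
# A square matrix over a field is similar to its transpose
-/

set_option autoImplicit false

open Polynomial Matrix
open scoped DirectSum

namespace CfsgLib.Known.TransposeSimilar

variable {F : Type*} [Field F]

theorem coeff_top_smul_nondeg {g : F[X]} (hg : g.Monic) (P : F[X])
    (h : ∀ Q : F[X], ((P * Q) %ₘ g).coeff (g.natDegree - 1) = 0) : g ∣ P := by
  by_contra hP
  set r := P %ₘ g
  have hr : r ≠ 0 := fun h0 => hP ((modByMonic_eq_zero_iff_dvd hg).1 h0)
  have hne1 : g ≠ 1 := fun h1 => hP (h1 ▸ one_dvd P)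
  have hlt : r.natDegree < g.natDegree := natDegree_modByMonic_lt _ hg hne1
  have h1 := h (X ^ (g.natDegree - 1 - r.natDegree))
  have h2 : (P * X ^ (g.natDegree - 1 - r.natDegree)) %ₘ g = r * X ^ (g.natDegree - 1 - r.natDegree) := by
    have hdeg : (r * X ^ (g.natDegree - 1 - r.natDegree)).degree < g.degree := by
      rw [degree_mul, degree_X_pow, degree_eq_natDegree hr, degree_eq_natDegree hg.ne_zero, ← Nat.cast_add,
        Nat.cast_lt]
      omega
    rw [← (modByMonic_eq_self_iff hg).2 hdeg]
    apply Polynomial.modByMonic_eq_of_dvd_sub hg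
    rw [← sub_mul]
    refine dvd_mul_of_dvd_left ?_ _
    rw [← modByMonic_eq_zero_iff_dvd hg, sub_modByMonic,
      (modByMonic_eq_self_iff hg).2 (degree_modByMonic_lt _ hg), sub_self]
  rw [h2, coeff_mul_X_pow', if_pos (Nat.sub_le _ _),
    show g.natDegree - 1 - (g.natDegree - 1 - r.natDegree) = r.natDegree by omega] at h1
  exact hr (leadingCoeff_eq_zero.1 h1)

/-- An endomorphism is self-adjoint for a non-degenerate bilinear form. -/
theorem exists_form {V : Type*} [AddCommGroup V] [Module F V] [FiniteDimensional F V] (T : Module.End F V) :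
    ∃ B : V →ₗ[F] V →ₗ[F] F, (∀ u, (∀ v, B u v = 0) → u = 0) ∧ ∀ u v, B (T u) v = B u (T v) := by
  classical
  let φ := Module.AEval'.of T
  have htor : Module.IsTorsion F[X] (Module.AEval' T) :=
    Module.AEval.isTorsion_of_finiteDimensional _ _ _
  obtain ⟨I, _, p, hp, e, ⟨Φ⟩⟩ := Module.equiv_directSum_of_isTorsion htor
  let g : I → F[X] := fun i => normalize (p i ^ e i)
  have hg : ∀ i, (g i).Monic := fun i => monic_normalize (pow_ne_zero _ (hp i).ne_zero)
  have hmem : ∀ i (P : F[X]), P ∈ F[X] ∙ p i ^ e i ↔ g i ∣ P := fun i P => by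
    rw [Submodule.mem_span_singleton, show g i = normalize (p i ^ e i) from rfl,
      ← (associated_normalize (p i ^ e i)).dvd_iff_dvd_left]
    simp only [dvd_iff_exists_eq_mul_left, smul_eq_mul, eq_comm]
  -- the form on each summand
  let pre : ∀ i, F[X] →ₗ[F] F[X] →ₗ[F] F := fun i =>
    LinearMap.mk₂ F (fun P Q => ((P * Q) %ₘ g i).coeff ((g i).natDegree - 1))
      (fun P P' Q => by rw [add_mul, add_modByMonic, coeff_add])
      (fun c P Q => by rw [smul_mul_assoc, smul_modByMonic, coeff_smul, smul_eq_mul])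
      (fun P Q Q' => by rw [mul_add, add_modByMonic, coeff_add])
      (fun c P Q => by rw [mul_smul_comm, smul_modByMonic, coeff_smul, smul_eq_mul])
  have hpre : ∀ i P P' Q, g i ∣ P - P' → pre i P Q = pre i P' Q := fun i P P' Q h => by
    show ((P * Q) %ₘ g i).coeff _ = ((P' * Q) %ₘ g i).coeff _
    rw [Polynomial.modByMonic_eq_of_dvd_sub (hg i) (by rw [← sub_mul]; exact dvd_mul_of_dvd_left h Q)]
  have hsymm : ∀ i P Q, pre i P Q = pre i Q P := fun i P Q => by
    show ((P * Q) %ₘ g i).coeff _ = ((Q * P) %ₘ g i).coeff _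
    rw [mul_comm]
  have hrepr : ∀ i (z : F[X] ⧸ (F[X] ∙ p i ^ e i)), ∃ P : F[X], Submodule.Quotient.mk P = z :=
    fun i z => Submodule.Quotient.mk_surjective _ z
  choose rep hrep using hrepr
  have hkey : ∀ i P P', (Submodule.Quotient.mk P : F[X] ⧸ (F[X] ∙ p i ^ e i)) = Submodule.Quotient.mk P' →
      g i ∣ P - P' := by
    intro i P P' h
    rw [Submodule.Quotient.eq, hmem] at h
    exact h
  let comp : ∀ i, V → F[X] := fun i v => rep i ((Φ (φ v)) i)
  have hadd : ∀ i u v, g i ∣ comp i (u + v) - (comp i u + comp i v) := fun i u v => hkey i _ _ (by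
    simp only [comp, Submodule.Quotient.mk_add, hrep, map_add, DirectSum.add_apply])
  have hsmul : ∀ i (c : F) v, g i ∣ comp i (c • v) - c • comp i v := fun i c v => hkey i _ _ (by
    rw [Polynomial.smul_eq_C_mul, ← smul_eq_mul, Submodule.Quotient.mk_smul, hrep, hrep, map_smul,
      ← algebraMap_smul F[X] c (φ v), map_smul]
    rfl)
  have hT : ∀ i v, g i ∣ comp i (T v) - X * comp i v := fun i v => hkey i _ _ (by
    rw [← smul_eq_mul, Submodule.Quotient.mk_smul, hrep, hrep,
      show φ (T v) = (X : F[X]) • φ v from (Module.AEval'.X_smul_of T v).symm, map_smul]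
    rfl)
  let B : V →ₗ[F] V →ₗ[F] F := LinearMap.mk₂ F (fun u v => ∑ i, pre i (comp i u) (comp i v))
    (fun u u' v => by
      rw [← Finset.sum_add_distrib]
      exact Finset.sum_congr rfl fun i _ => by rw [hpre i _ _ _ (hadd i u u'), map_add, LinearMap.add_apply])
    (fun c u v => by
      rw [Finset.smul_sum]
      exact Finset.sum_congr rfl fun i _ => by rw [hpre i _ _ _ (hsmul i c u), map_smul, LinearMap.smul_apply])
    (fun u v v' => by
      rw [← Finset.sum_add_distrib]
      exact Finset.sum_congr rfl fun i _ => by rw [hsymm, hpre i _ _ _ (hadd i v v'), hsymm, map_add])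
    (fun c u v => by
      rw [Finset.smul_sum]
      exact Finset.sum_congr rfl fun i _ => by rw [hsymm, hpre i _ _ _ (hsmul i c v), hsymm, map_smul])
  refine ⟨B, fun u hu => ?_, fun u v => ?_⟩
  · apply φ.injective
    apply Φ.injective
    rw [map_zero, map_zero]
    refine DirectSum.ext_component F[X] fun i => ?_
    show (Φ (φ u)) i = 0
    rw [← hrep i ((Φ (φ u)) i), Submodule.Quotient.mk_eq_zero, hmem]
    refine coeff_top_smul_nondeg (hg i) _ fun Q => ?_
    obtain ⟨v, hv⟩ : ∃ v, Φ (φ v) = DirectSum.of _ i (Submodule.Quotient.mk Q) := by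
      obtain ⟨w, hw⟩ := Φ.surjective (DirectSum.of _ i (Submodule.Quotient.mk Q))
      exact ⟨φ.symm w, by rw [φ.apply_symm_apply, hw]⟩
    have h1 := hu v
    simp only [B, LinearMap.mk₂_apply] at h1
    rw [Finset.sum_eq_single i] at h1
    · rw [hsymm, hpre i (comp i v) Q _ ?_, hsymm] at h1
      · exact h1
      · apply hkey
        simp only [comp, hrep, hv, DirectSum.of_eq_same]
    · intro j _ hj
      rw [hsymm, hpre j (comp j v) 0 _ ?_, map_zero, LinearMap.zero_apply]
      apply hkey
      simp only [comp, hrep, hv, DirectSum.of_eq_of_ne _ _ _ hj, Submodule.Quotient.mk_zero]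
    · intro h
      exact absurd (Finset.mem_univ i) h
  · simp only [B, LinearMap.mk₂_apply]
    refine Finset.sum_congr rfl fun i _ => ?_
    rw [hpre i _ _ _ (hT i u), hsymm i (comp i u) (comp i (T v)), hpre i _ _ _ (hT i v)]
    show ((X * comp i u * comp i v) %ₘ g i).coeff _ = ((X * comp i v * comp i u) %ₘ g i).coeff _
    rw [mul_right_comm]

theorem isConj_transpose {n : ℕ} (A : Matrix (Fin n) (Fin n) F) : IsConj A A.transpose := by
  classical
  obtain ⟨B, hnd, hB⟩ := exists_form (Matrix.toLin' A)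
  set P : Matrix (Fin n) (Fin n) F := Matrix.of fun i j => B (Pi.single i 1) (Pi.single j 1) with hP
  have hBP : ∀ u v : Fin n → F, B u v = u ⬝ᵥ P *ᵥ v := by
    intro u v
    conv_lhs => rw [← Finset.univ_sum_single u, ← Finset.univ_sum_single v]
    simp only [map_sum, LinearMap.sum_apply, Matrix.mulVec, dotProduct, Finset.mul_sum]
    rw [Finset.sum_comm]
    refine Finset.sum_congr rfl fun i _ => Finset.sum_congr rfl fun j _ => ?_
    rw [show (Pi.single i (u i) : Fin n → F) = u i • Pi.single i 1 by rw [← Pi.single_smul, smul_eq_mul, mul_one],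
      show (Pi.single j (v j) : Fin n → F) = v j • Pi.single j 1 by rw [← Pi.single_smul, smul_eq_mul, mul_one],
      map_smul, map_smul, LinearMap.smul_apply, smul_eq_mul, smul_eq_mul, hP, Matrix.of_apply]
    ring
  have hdet : P.det ≠ 0 := by
    intro h0
    obtain ⟨u, hu0, hu⟩ := Matrix.exists_vecMul_eq_zero_iff.2 h0
    exact hu0 (hnd u fun v => by rw [hBP, Matrix.dotProduct_mulVec, hu, zero_dotProduct])
  have hPA : Aᵀ * P = P * A := by
    ext i j
    have h := hB (Pi.single i 1) (Pi.single j 1)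
    rw [Matrix.toLin'_apply, Matrix.toLin'_apply, hBP, hBP, Matrix.mulVec_mulVec,
      Matrix.dotProduct_mulVec (v := Pi.single i 1), Matrix.dotProduct_mulVec, ← Matrix.vecMul_transpose,
      Matrix.vecMul_vecMul, ← Matrix.dotProduct_mulVec, ← Matrix.dotProduct_mulVec, single_dotProduct, one_mul,
      single_dotProduct, one_mul, Matrix.mulVec_single_one, Matrix.mulVec_single_one] at h
    simpa using h
  exact ⟨Matrix.GeneralLinearGroup.mk'' P (isUnit_iff_ne_zero.2 hdet), hPA.symm⟩

end CfsgLib.Known.TransposeSimilar
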