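import Cfsg.Prelude.Def_LieTypeDatum

/-!
# Counting the `K`-classes in an `H`-class, and index computations in finite cyclic groups
-/

set_option autoImplicit false

namespace CfsgLib.Known.ClassSplit

section Conj

variable {X : Type*} [Group X]

theorem isConjUnder_refl (H : Subgroup X) (x : X) : Cfsg.IsConjUnder H x x :=
  ⟨1, H.one_mem, by group⟩

theorem isConjUnder_symm {H : Subgroup X} {x y : X} (h : Cfsg.IsConjUnder H x y) :
    Cfsg.IsConjUnder H y x := by
  obtain ⟨k, hk, rfl⟩ := h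
  exact ⟨k⁻¹, H.inv_mem hk, by group⟩

theorem isConjUnder_trans {H : Subgroup X} {x y z : X} (h : Cfsg.IsConjUnder H x y)
    (h' : Cfsg.IsConjUnder H y z) : Cfsg.IsConjUnder H x z := by
  obtain ⟨k, hk, rfl⟩ := h
  obtain ⟨l, hl, rfl⟩ := h'
  exact ⟨l * k, H.mul_mem hl hk, by group⟩

theorem isConjUnder_conj_iff (H : Subgroup X) [H.Normal] (a x y : X) :
    Cfsg.IsConjUnder H (a * x * a⁻¹) (a * y * a⁻¹) ↔ Cfsg.IsConjUnder H x y := by
  constructor
  · rintro ⟨k, hk, hy⟩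
    refine ⟨a⁻¹ * k * a⁻¹⁻¹, ‹H.Normal›.conj_mem k hk a⁻¹, ?_⟩
    calc y = a⁻¹ * (a * y * a⁻¹) * a := by group
      _ = _ := by rw [hy]; group
  · rintro ⟨k, hk, rfl⟩
    exact ⟨a * k * a⁻¹, ‹H.Normal›.conj_mem k hk a, by group⟩

theorem mem_inf_centralizer_iff (H : Subgroup X) (x g : X) :
    g ∈ H ⊓ Subgroup.centralizer {x} ↔ g ∈ H ∧ g * x = x * g := by
  rw [Subgroup.mem_inf, Subgroup.mem_centralizer_singleton_iff]

/-- Conjugation carries the centralizer of `x` in a normal subgroup to that of the conjugate. -/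
theorem nonempty_centralizer_conj (H : Subgroup X) [H.Normal] (a x : X) :
    Nonempty (↥(H ⊓ Subgroup.centralizer {x}) ≃* ↥(H ⊓ Subgroup.centralizer {a * x * a⁻¹})) := by
  have hmap : ∀ (a x : X) g, g ∈ H ⊓ Subgroup.centralizer {x} →
      a * g * a⁻¹ ∈ H ⊓ Subgroup.centralizer {a * x * a⁻¹} := by
    intro a x g hg
    rw [mem_inf_centralizer_iff] at hg ⊢
    refine ⟨‹H.Normal›.conj_mem g hg.1 a, ?_⟩
    calc a * g * a⁻¹ * (a * x * a⁻¹) = a * (g * x) * a⁻¹ := by group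
      _ = a * (x * g) * a⁻¹ := by rw [hg.2]
      _ = _ := by group
  refine ⟨{ toFun := fun g => ⟨a * g * a⁻¹, hmap a x g g.2⟩
            invFun := fun g => ⟨a⁻¹ * g * a⁻¹⁻¹, by
              have h := hmap a⁻¹ _ g g.2
              rwa [show a⁻¹ * (a * x * a⁻¹) * a⁻¹⁻¹ = x by group] at h⟩
            left_inv := fun g => Subtype.ext (by simp [mul_assoc])
            right_inv := fun g => Subtype.ext (by simp [mul_assoc])
            map_mul' := fun g h => Subtype.ext (by simp [mul_assoc]) }⟩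

theorem splitClassCount_conj (H K : Subgroup X) [H.Normal] [K.Normal] (a x : X) :
    Cfsg.splitClassCount H K (a * x * a⁻¹) = Cfsg.splitClassCount H K x := by
  let e : {y : X // Cfsg.IsConjUnder H x y} ≃ {y : X // Cfsg.IsConjUnder H (a * x * a⁻¹) y} :=
    { toFun := fun y => ⟨a * y * a⁻¹, (isConjUnder_conj_iff H a x y).2 y.2⟩
      invFun := fun y => ⟨a⁻¹ * y * a, by
        rw [← isConjUnder_conj_iff H a]
        simpa [mul_assoc] using y.2⟩
      left_inv := fun y => Subtype.ext (by simp [mul_assoc])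
      right_inv := fun y => Subtype.ext (by simp [mul_assoc]) }
  exact (Nat.card_congr (Quot.congr e fun y z => (isConjUnder_conj_iff K a y.1 z.1).symm)).symm

/-- The number of `K`-classes in the class of `x` under the image of `Φ`. -/
theorem splitClassCount_eq_index {G : Type*} [Group G] (Φ : G →* X) (K : Subgroup X) [K.Normal]
    (hK : K ≤ Φ.range) (x : X) :
    Cfsg.splitClassCount Φ.range K x =
      (K.comap Φ ⊔ (Subgroup.centralizer {x}).comap Φ).index := by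
  set C := (Subgroup.centralizer {x}).comap Φ
  set r : {y : X // Cfsg.IsConjUnder Φ.range x y} → {y : X // Cfsg.IsConjUnder Φ.range x y} → Prop :=
    fun y z => Cfsg.IsConjUnder K y.1 z.1
  have hequiv : Equivalence r :=
    ⟨fun y => isConjUnder_refl K y.1, isConjUnder_symm, isConjUnder_trans⟩
  let orb : G → Quot r := fun g => Quot.mk r ⟨Φ g * x * (Φ g)⁻¹, Φ g, ⟨g, rfl⟩, rfl⟩
  have horb : ∀ g h : G, orb g = orb h ↔ g⁻¹ * h ∈ K.comap Φ ⊔ C := by
    intro g h
    refine (hequiv.quot_mk_eq_iff _ _).trans ⟨?_, ?_⟩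
    · rintro ⟨k, hk, he⟩
      obtain ⟨l, rfl⟩ := hK hk
      have hl : g⁻¹ * l * g ∈ K.comap Φ := by
        simpa [Subgroup.mem_comap] using ‹K.Normal›.conj_mem _ hk (Φ g)⁻¹
      rw [show g⁻¹ * h = g⁻¹ * l * g * ((l * g)⁻¹ * h) by group]
      refine Subgroup.mul_mem _ (Subgroup.mem_sup_left hl) (Subgroup.mem_sup_right ?_)
      show Φ ((l * g)⁻¹ * h) ∈ Subgroup.centralizer {x}
      rw [Subgroup.mem_centralizer_singleton_iff, map_mul, map_inv, map_mul]
      have he' : Φ h * x * (Φ h)⁻¹ = Φ l * (Φ g * x * (Φ g)⁻¹) * (Φ l)⁻¹ := he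
      calc (Φ l * Φ g)⁻¹ * Φ h * x = (Φ l * Φ g)⁻¹ * (Φ h * x * (Φ h)⁻¹) * Φ h := by group
        _ = (Φ l * Φ g)⁻¹ * (Φ l * (Φ g * x * (Φ g)⁻¹) * (Φ l)⁻¹) * Φ h := by rw [he']
        _ = _ := by group
    · intro hm
      haveI : (K.comap Φ).Normal := Subgroup.Normal.comap ‹_› Φ
      obtain ⟨k, hk, c, hc, hkc⟩ := Subgroup.mem_sup_of_normal_left.1 hm
      refine ⟨Φ (g * k * g⁻¹), by simpa using ‹K.Normal›.conj_mem _ hk (Φ g), ?_⟩
      have hc' : Φ c * x = x * Φ c := Subgroup.mem_centralizer_singleton_iff.1 hc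
      have hh : h = g * k * g⁻¹ * g * c := by
        rw [show g * k * g⁻¹ * g * c = g * (k * c) by group, hkc]; group
      subst hh
      simp only [map_mul, map_inv]
      calc _ = Φ g * Φ k * (Φ c * x) * ((Φ c)⁻¹ * (Φ k)⁻¹ * (Φ g)⁻¹) := by group
        _ = Φ g * Φ k * (x * Φ c) * ((Φ c)⁻¹ * (Φ k)⁻¹ * (Φ g)⁻¹) := by rw [hc']
        _ = _ := by group
  let f : G ⧸ (K.comap Φ ⊔ C) → Quot r :=
    Quotient.lift orb fun g h hgh => (horb g h).2 (QuotientGroup.leftRel_apply.1 hgh)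
  show Nat.card (Quot r) = Nat.card (G ⧸ (K.comap Φ ⊔ C))
  refine (Nat.card_congr (Equiv.ofBijective f ⟨?_, ?_⟩)).symm
  · rintro ⟨g⟩ ⟨h⟩ hgh
    exact QuotientGroup.eq.2 ((horb g h).1 hgh)
  · rintro ⟨y, k, hk, rfl⟩
    obtain ⟨g, rfl⟩ := hk
    exact ⟨QuotientGroup.mk g, rfl⟩

/-- `M` is determined by its image under `det` when it contains the kernel. -/
theorem index_eq_index_map {G A : Type*} [Group G] [Group A] (d : G →* A)
    (hd : Function.Surjective d) (M : Subgroup G) (hM : d.ker ≤ M) : M.index = (M.map d).index :=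
  (Subgroup.index_map_eq _ hd hM).symm

end Conj

section Cyclic

variable {A : Type*} [CommGroup A]

theorem range_pow_sup_range_pow (k l : ℕ) :
    (powMonoidHom k : A →* A).range ⊔ (powMonoidHom l : A →* A).range =
      (powMonoidHom (Nat.gcd k l) : A →* A).range := by
  refine le_antisymm (sup_le ?_ ?_) ?_
  · rintro _ ⟨a, rfl⟩
    obtain ⟨c, hc⟩ := Nat.gcd_dvd_left k l
    refine ⟨a ^ c, ?_⟩
    show (a ^ c) ^ Nat.gcd k l = a ^ k
    rw [← pow_mul, mul_comm, ← hc]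
  · rintro _ ⟨a, rfl⟩
    obtain ⟨c, hc⟩ := Nat.gcd_dvd_right k l
    refine ⟨a ^ c, ?_⟩
    show (a ^ c) ^ Nat.gcd k l = a ^ l
    rw [← pow_mul, mul_comm, ← hc]
  · rintro _ ⟨a, rfl⟩
    refine Subgroup.mem_sup.2 ⟨(a ^ Nat.gcdA k l) ^ k, ⟨_, rfl⟩, (a ^ Nat.gcdB k l) ^ l, ⟨_, rfl⟩, ?_⟩
    show _ = a ^ Nat.gcd k l
    simp only [← zpow_natCast, ← zpow_mul, ← zpow_add]
    rw [Nat.gcd_eq_gcd_ab, mul_comm (Nat.gcdA k l), mul_comm (Nat.gcdB k l)]

/-- In a finite cyclic group the subgroup of order `d` is a power range. -/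
theorem ker_pow_eq_range_pow [Finite A] [IsCyclic A] {d e : ℕ} (h : d * e = Nat.card A) :
    (powMonoidHom d : A →* A).ker = (powMonoidHom e : A →* A).range := by
  have hpos : 0 < Nat.card A := Nat.card_pos
  have hd : 0 < d := Nat.pos_of_ne_zero fun h0 => by rw [h0, zero_mul] at h; omega
  have he : 0 < e := Nat.pos_of_ne_zero fun h0 => by rw [h0, mul_zero] at h; omega
  have hle : (powMonoidHom e : A →* A).range ≤ (powMonoidHom d : A →* A).ker := by
    rintro _ ⟨a, rfl⟩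
    show (a ^ e) ^ d = 1
    rw [← pow_mul, mul_comm, h, pow_card_eq_one']
  refine (Subgroup.eq_of_le_of_card_ge hle (le_of_eq ?_)).symm
  have h1 := (powMonoidHom e : A →* A).ker.card_mul_index
  rw [Subgroup.index_ker, IsCyclic.card_powMonoidHom_ker,
    Nat.gcd_eq_right ⟨d, by rw [← h, mul_comm]⟩] at h1
  rw [IsCyclic.card_powMonoidHom_ker, Nat.gcd_eq_right ⟨e, h.symm⟩]
  apply Nat.eq_of_mul_eq_mul_left he
  rw [h1, mul_comm, h]

theorem index_range_pow [Finite A] [IsCyclic A] (k : ℕ) :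
    (powMonoidHom k : A →* A).range.index = Nat.gcd (Nat.card A) k := by
  rw [Subgroup.index_range, IsCyclic.card_powMonoidHom_ker]

end Cyclic

end CfsgLib.Known.ClassSplit
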