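import Cfsg.Agent.Lib.Known.Transvections

/-!
# Centralizers of regular unipotents and of transvections in `GL n F`
-/

set_option autoImplicit false

open Matrix

namespace CfsgLib.Known.UnipotentCentralizer

variable {F : Type*} [Field F]

theorem finrank_range_pow_ge {V : Type*} [AddCommGroup V] [Module F V] [FiniteDimensional F V]
    (T : Module.End F V) (hT : Module.finrank F (LinearMap.ker T) ≤ 1) (k : ℕ) :
    Module.finrank F V ≤ Module.finrank F (LinearMap.range (T ^ k)) + k := by
  induction k with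
  | zero => rw [pow_zero, Module.End.one_eq_id, LinearMap.range_id, finrank_top, add_zero]
  | succ k ih =>
    have h := LinearMap.finrank_range_add_finrank_ker (T.domRestrict (LinearMap.range (T ^ k)))
    have hr : LinearMap.range (T.domRestrict (LinearMap.range (T ^ k))) = LinearMap.range (T ^ (k + 1)) := by
      rw [LinearMap.range_domRestrict, pow_succ', Module.End.mul_eq_comp, LinearMap.range_comp]
    have hk : Module.finrank F (LinearMap.ker (T.domRestrict (LinearMap.range (T ^ k)))) ≤ 1 := by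
      refine le_trans ?_ hT
      let i : LinearMap.ker (T.domRestrict (LinearMap.range (T ^ k))) →ₗ[F] LinearMap.ker T :=
        LinearMap.codRestrict _ ((LinearMap.range (T ^ k)).subtype.comp (Submodule.subtype _)) fun x => x.2
      refine LinearMap.finrank_le_finrank_of_injective (f := i) fun a b hab => ?_
      exact Subtype.ext (Subtype.ext (congrArg Subtype.val hab :))
    rw [hr] at h
    omega

theorem linearIndependent_iterate {V : Type*} [AddCommGroup V] [Module F V] (T : Module.End F V) {n : ℕ}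
    (hn : T ^ n = 0) {v : V} (hv : (T ^ (n - 1)) v ≠ 0) :
    LinearIndependent F fun i : Fin n => (T ^ (i : ℕ)) v := by
  classical
  rw [Fintype.linearIndependent_iff]
  intro c hc
  by_contra hcon
  push Not at hcon
  obtain ⟨i0, hi0⟩ := hcon
  obtain ⟨i, hi, hmin⟩ := Finset.exists_min_image (Finset.univ.filter fun i => c i ≠ 0) id ⟨i0, by simp [hi0]⟩
  simp only [Finset.mem_filter, Finset.mem_univ, true_and, id] at hi hmin
  have h := congrArg (T ^ (n - 1 - (i : ℕ))) hc
  rw [map_sum, map_zero, Finset.sum_eq_single i] at h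
  · rw [map_smul, ← Module.End.mul_apply, ← pow_add, Nat.sub_add_cancel (by omega)] at h
    exact hv ((smul_eq_zero.1 h).resolve_left hi)
  · intro l _ hl
    rcases eq_or_ne (c l) 0 with h0 | h0
    · rw [h0, zero_smul, map_zero]
    · have hlt : (i : ℕ) < l := lt_of_le_of_ne (hmin l h0) fun h' => hl (Fin.ext h'.symm)
      obtain ⟨e, he⟩ := Nat.exists_eq_add_of_le (show n ≤ n - 1 - (i : ℕ) + l by omega)
      rw [map_smul, ← Module.End.mul_apply, ← pow_add, he, pow_add, hn, zero_mul, LinearMap.zero_apply, smul_zero]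
  · intro hh
    exact absurd (Finset.mem_univ i) hh

theorem regular_card [Fintype F] {n : ℕ} (hn : 1 ≤ n) (u : GL (Fin n) F)
    (hnil : ((u : Matrix (Fin n) (Fin n) F) - 1) ^ n = 0)
    (hreg : ((u : Matrix (Fin n) (Fin n) F) - 1).rank = n - 1) :
    Nat.card ↥(Subgroup.centralizer ({u} : Set (GL (Fin n) F))) =
      (Fintype.card F - 1) * Fintype.card F ^ (n - 1) := by
  classical
  haveI : Nonempty (Fin n) := ⟨⟨0, hn⟩⟩
  let A := Matrix.toLinAlgEquiv' (R := F) (n := Fin n)
  set N := (u : Matrix (Fin n) (Fin n) F) - 1 with hN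
  set T := A N with hT
  have hTn : T ^ n = 0 := by rw [hT, ← map_pow, hnil, map_zero]
  have hfin : Module.finrank F (Fin n → F) = n := Module.finrank_fin_fun F
  have hrange : Module.finrank F (LinearMap.range T) = n - 1 := hreg
  have hker : Module.finrank F (LinearMap.ker T) ≤ 1 := by
    have := LinearMap.finrank_range_add_finrank_ker T
    omega
  have hne : T ^ (n - 1) ≠ 0 := by
    intro h
    have := finrank_range_pow_ge T hker (n - 1)
    rw [h, LinearMap.range_zero, finrank_bot, hfin] at this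
    omega
  obtain ⟨v, hv⟩ : ∃ v, (T ^ (n - 1)) v ≠ 0 := by
    by_contra hcon
    push Not at hcon
    exact hne (LinearMap.ext hcon)
  let mkB : ∀ w, (T ^ (n - 1)) w ≠ 0 → Module.Basis (Fin n) F (Fin n → F) := fun w hw =>
    basisOfLinearIndependentOfCardEqFinrank (linearIndependent_iterate T hTn hw) (by rw [Fintype.card_fin, hfin])
  have hmkB : ∀ w hw (i : Fin n), mkB w hw i = (T ^ (i : ℕ)) w := fun w hw i => by simp [mkB]
  have hmemC : ∀ g : GL (Fin n) F, g ∈ Subgroup.centralizer ({u} : Set (GL (Fin n) F)) ↔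
      Commute (A g) T := by
    intro g
    rw [Subgroup.mem_centralizer_singleton_iff, Units.ext_iff, Units.val_mul, Units.val_mul, hT]
    show _ ↔ A g * A N = A N * A g
    rw [← map_mul, ← map_mul, A.injective.eq_iff, hN, mul_sub, sub_mul, mul_one, one_mul, sub_left_inj]
  let ev : ↥(Subgroup.centralizer ({u} : Set (GL (Fin n) F))) → {w : Fin n → F // (T ^ (n - 1)) w ≠ 0} :=
    fun g => ⟨A (g : GL (Fin n) F) v, by
      rw [← Module.End.mul_apply, ← (((hmemC g).1 g.2).pow_right (n - 1)).eq, Module.End.mul_apply]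
      intro h
      refine hv ?_
      have h2 := congrArg (A (((g : GL (Fin n) F)⁻¹ : GL (Fin n) F) : Matrix (Fin n) (Fin n) F)) h
      rwa [← Module.End.mul_apply, ← map_mul, Units.inv_mul, map_one, Module.End.one_apply, map_zero] at h2⟩
  have hev : Function.Bijective ev := by
    constructor
    · intro g g' h
      have h' : A (g : GL (Fin n) F) v = A (g' : GL (Fin n) F) v := congrArg Subtype.val h
      refine Subtype.ext (Units.ext (A.injective ((mkB v hv).ext fun i => ?_)))
      rw [hmkB v hv, ← Module.End.mul_apply, (((hmemC g).1 g.2).pow_right (i : ℕ)).eq, ← Module.End.mul_apply,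
        (((hmemC g').1 g'.2).pow_right (i : ℕ)).eq, Module.End.mul_apply, Module.End.mul_apply, h']
    · rintro ⟨w, hw⟩
      let S : Module.End F (Fin n → F) := ((mkB v hv).equiv (mkB w hw) (Equiv.refl _)).toLinearMap
      have hS : ∀ i : Fin n, S ((T ^ (i : ℕ)) v) = (T ^ (i : ℕ)) w := fun i => by
        rw [← hmkB v hv, ← hmkB w hw]
        exact (mkB v hv).equiv_apply i (mkB w hw) (Equiv.refl _)
      have hSpow : ∀ k : ℕ, S ((T ^ k) v) = (T ^ k) w := fun k => by
        rcases Nat.lt_or_ge k n with hk | hk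
        · exact hS ⟨k, hk⟩
        · obtain ⟨e, rfl⟩ := Nat.exists_eq_add_of_le hk
          rw [pow_add, hTn, zero_mul, LinearMap.zero_apply, LinearMap.zero_apply, map_zero]
      have hcomm : Commute S T := (mkB v hv).ext fun i => by
        rw [Module.End.mul_apply, Module.End.mul_apply, hmkB v hv, hS, ← Module.End.mul_apply T, ← pow_succ', hSpow,
          pow_succ', Module.End.mul_apply]
      have hunit : IsUnit (A.symm S) := by
        have : IsUnit S := (Module.End.isUnit_iff S).2 ((mkB v hv).equiv (mkB w hw) (Equiv.refl _)).bijective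
        exact this.map A.symm
      obtain ⟨g, hg⟩ := hunit
      have hgS : A (g : Matrix (Fin n) (Fin n) F) = S := by rw [hg, A.apply_symm_apply]
      refine ⟨⟨g, (hmemC g).2 (hgS.symm ▸ hcomm)⟩, Subtype.ext ?_⟩
      show A (g : Matrix (Fin n) (Fin n) F) v = w
      rw [hgS]
      simpa using hS ⟨0, hn⟩
  rw [Nat.card_congr (Equiv.ofBijective ev hev), Nat.card_eq_fintype_card, Fintype.card_subtype_compl,
    Fintype.card_fun, Fintype.card_fin]
  have hker2 : Fintype.card {w : Fin n → F // (T ^ (n - 1)) w = 0} = Fintype.card F ^ (n - 1) := by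
    have h1 : Module.finrank F (LinearMap.range (T ^ (n - 1))) ≤ 1 := by
      refine le_trans (Submodule.finrank_mono ?_) hker
      rintro _ ⟨w, rfl⟩
      rw [LinearMap.mem_ker, ← Module.End.mul_apply, ← pow_succ', Nat.sub_add_cancel hn, hTn, LinearMap.zero_apply]
    have h2 := finrank_range_pow_ge T hker (n - 1)
    have h3 := LinearMap.finrank_range_add_finrank_ker (T ^ (n - 1))
    have h4 : Module.finrank F (LinearMap.ker (T ^ (n - 1))) = n - 1 := by omega
    conv_rhs => rw [← h4, ← Nat.card_eq_fintype_card (α := F), ← Module.natCard_eq_pow_finrank]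
    rw [← Nat.card_eq_fintype_card]
    exact Nat.card_congr (Equiv.subtypeEquivRight fun w => LinearMap.mem_ker.symm)
  rw [hker2]
  obtain ⟨e, rfl⟩ : ∃ e, n = e + 1 := ⟨n - 1, by omega⟩
  rw [Nat.add_sub_cancel, pow_succ', Nat.sub_mul, one_mul]

theorem transvection_card [Fintype F] {n : ℕ} (hn : 2 ≤ n) (t : GL (Fin n) F)
    (ht : Cfsg.IsTransvection (t : Matrix (Fin n) (Fin n) F)) :
    Nat.card ↥(Subgroup.centralizer ({t} : Set (GL (Fin n) F))) =
      Fintype.card F ^ (2 * n - 3) * (Fintype.card F - 1) *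
        ∏ i : Fin (n - 2), (Fintype.card F ^ (n - 2) - Fintype.card F ^ (i : ℕ)) := by
  classical
  obtain ⟨k, rfl⟩ : ∃ k, n = k + 2 := ⟨n - 2, by omega⟩
  let e : Fin (k + 2) ≃ ((Unit ⊕ Fin k) ⊕ Unit) := (Fintype.equivFinOfCardEq (by simp; omega)).symm
  let i0 : Fin (k + 2) := e.symm (Sum.inl (Sum.inl ()))
  let i1 : Fin (k + 2) := e.symm (Sum.inr ())
  obtain ⟨P, hP⟩ := Transvections.exists_conj_std (i0 := i0) (i1 := i1) (by simp [i0, i1]) (t : Matrix (Fin (k + 2)) (Fin (k + 2)) F) ht
  let R := Matrix.reindexAlgEquiv F F e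
  let E : Matrix ((Unit ⊕ Fin k) ⊕ Unit) ((Unit ⊕ Fin k) ⊕ Unit) F := vecMulVec (Pi.single (Sum.inl (Sum.inl ())) 1) (Pi.single (Sum.inr ()) 1)
  have hstd : R (Transvections.std i0 i1) = 1 + E := by
    rw [Transvections.std, map_add, map_one]
    congr 1
    ext a b
    show vecMulVec (Pi.single i0 1) (Pi.single i1 1) (e.symm a) (e.symm b) = E a b
    simp [Matrix.vecMulVec_apply, i0, i1, E, Pi.single_apply]
  have hEl : ∀ (M : Matrix ((Unit ⊕ Fin k) ⊕ Unit) ((Unit ⊕ Fin k) ⊕ Unit) F) a b, (M * E) a b = if b = Sum.inr () then M a (Sum.inl (Sum.inl ())) else 0 := by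
    intro M a b
    simp [Matrix.mul_apply, E, Matrix.vecMulVec_apply, Pi.single_apply]
  have hEr : ∀ (M : Matrix ((Unit ⊕ Fin k) ⊕ Unit) ((Unit ⊕ Fin k) ⊕ Unit) F) a b, (E * M) a b = if a = Sum.inl (Sum.inl ()) then M (Sum.inr ()) b else 0 := by
    intro M a b
    simp [Matrix.mul_apply, E, Matrix.vecMulVec_apply, Pi.single_apply]
  -- the parametrisation
  let blk : Fˣ × (Fin k → F) × (Fin k → F) × F × GL (Fin k) F → Matrix ((Unit ⊕ Fin k) ⊕ Unit) ((Unit ⊕ Fin k) ⊕ Unit) F := fun x =>
    Matrix.fromBlocks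
      (Matrix.fromBlocks ((x.1 : F) • 1) (Matrix.of fun _ j => x.2.1 j) 0 (x.2.2.2.2 : Matrix (Fin k) (Fin k) F))
      (Matrix.of fun a _ => Sum.elim (fun _ => x.2.2.2.1) x.2.2.1 a) 0 ((x.1 : F) • 1)
  have hblkdet : ∀ x, (blk x).det ≠ 0 := fun x => by
    show (Matrix.fromBlocks _ _ _ _).det ≠ 0
    rw [Matrix.det_fromBlocks_zero₂₁, Matrix.det_fromBlocks_zero₂₁, Matrix.det_smul, Matrix.det_one, mul_one,
      Fintype.card_unit, pow_one]
    exact mul_ne_zero (mul_ne_zero x.1.ne_zero (GeneralLinearGroup.det x.2.2.2.2).ne_zero) x.1.ne_zero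
  have hblkcomm : ∀ x, blk x * E = E * blk x := fun x => by
    ext a b
    rw [hEl, hEr]
    rcases a with (⟨⟩ | a) | ⟨⟩ <;> rcases b with (⟨⟩ | b) | ⟨⟩ <;> simp [blk]
  let S := {M : Matrix ((Unit ⊕ Fin k) ⊕ Unit) ((Unit ⊕ Fin k) ⊕ Unit) F // M.det ≠ 0 ∧ M * E = E * M}
  let φ : Fˣ × (Fin k → F) × (Fin k → F) × F × GL (Fin k) F → S := fun x => ⟨blk x, hblkdet x, hblkcomm x⟩
  have hφ : Function.Bijective φ := by
    constructor
    · intro w w' h
      obtain ⟨c, x, y, z, G⟩ := w
      obtain ⟨c', x', y', z', G'⟩ := w'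
      have h' : blk _ = blk _ := congrArg Subtype.val h
      obtain ⟨h11, hyz, -, -⟩ := Matrix.fromBlocks_inj.1 h'
      obtain ⟨hc, hx, -, hG⟩ := Matrix.fromBlocks_inj.1 h11
      have hc' : c = c' := Units.ext (by simpa using congrFun₂ hc () ())
      have hx' : x = x' := funext fun j => by simpa using congrFun₂ hx () j
      have hy' : y = y' := funext fun j => by simpa using congrFun₂ hyz (Sum.inr j) ()
      have hz' : z = z' := by simpa using congrFun₂ hyz (Sum.inl ()) ()
      have hG' : G = G' := Units.ext hG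
      rw [hc', hx', hy', hz', hG']
    · rintro ⟨M, hdet, hME⟩
      have hcomm : ∀ a b, (M * E) a b = (E * M) a b := fun a b => by rw [hME]
      have key : ∀ a : ((Unit ⊕ Fin k) ⊕ Unit), M a (Sum.inl (Sum.inl ())) = if a = Sum.inl (Sum.inl ()) then M (Sum.inr ()) (Sum.inr ()) else 0 := by
        intro a
        have := hcomm a (Sum.inr ())
        rw [hEl, hEr, if_pos rfl] at this
        exact this
      have key2 : ∀ b : ((Unit ⊕ Fin k) ⊕ Unit), b ≠ Sum.inr () → M (Sum.inr ()) b = 0 := by
        intro b hb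
        have := hcomm (Sum.inl (Sum.inl ())) b
        rw [hEl, hEr, if_pos rfl, if_neg hb] at this
        exact this.symm
      set c := M (Sum.inr ()) (Sum.inr ())
      set G := (M.toBlocks₁₁.toBlocks₂₂) with hG
      have hM : M = Matrix.fromBlocks
          (Matrix.fromBlocks (c • 1) (Matrix.of fun _ j => M (Sum.inl (Sum.inl ())) (Sum.inl (Sum.inr j))) 0 G)
          (Matrix.of fun a _ => Sum.elim (fun _ => M (Sum.inl (Sum.inl ())) (Sum.inr ())) (fun j => M (Sum.inl (Sum.inr j)) (Sum.inr ())) a)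
          0 (c • 1) := by
        ext a b
        rcases a with (⟨⟩ | a) | ⟨⟩ <;> rcases b with (⟨⟩ | b) | ⟨⟩ <;>
          simp [key, key2, G, Matrix.toBlocks₁₁, Matrix.toBlocks₂₂, c]
      have hdet' := hdet
      rw [hM, Matrix.det_fromBlocks_zero₂₁, Matrix.det_fromBlocks_zero₂₁] at hdet'
      simp only [Matrix.det_smul, Matrix.det_one, mul_one, Fintype.card_unit, pow_one] at hdet'
      have hc0 : c ≠ 0 := right_ne_zero_of_mul hdet'
      have hG0 : G.det ≠ 0 := right_ne_zero_of_mul (left_ne_zero_of_mul hdet')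
      exact ⟨(Units.mk0 c hc0, _, _, _, GeneralLinearGroup.mk'' G (isUnit_iff_ne_zero.2 hG0)), Subtype.ext hM.symm⟩
  -- centralizer ≃ S
  let C := Subgroup.centralizer ({t} : Set (GL (Fin (k + 2)) F))
  have hPP : ((P⁻¹ : GL (Fin (k + 2)) F) : Matrix (Fin (k + 2)) (Fin (k + 2)) F) * (t : Matrix (Fin (k + 2)) (Fin (k + 2)) F) * (P : Matrix (Fin (k + 2)) (Fin (k + 2)) F) =
      Transvections.std i0 i1 := by rw [mul_assoc, hP, ← mul_assoc, Units.inv_mul, one_mul]
  have hmem : ∀ g : GL (Fin (k + 2)) F, g ∈ C ↔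
      R ((P⁻¹ * g * P : GL (Fin (k + 2)) F) : Matrix (Fin (k + 2)) (Fin (k + 2)) F) * E =
        E * R ((P⁻¹ * g * P : GL (Fin (k + 2)) F) : Matrix (Fin (k + 2)) (Fin (k + 2)) F) := by
    intro g
    rw [Subgroup.mem_centralizer_singleton_iff]
    set X := R ((P⁻¹ * g * P : GL (Fin (k + 2)) F) : Matrix (Fin (k + 2)) (Fin (k + 2)) F)
    rw [← add_right_inj X (b := X * E), show X + X * E = X * (1 + E) by rw [mul_add, mul_one],
      show X + E * X = (1 + E) * X by rw [add_mul, one_mul], ← hstd, ← map_mul, ← map_mul, R.injective.eq_iff,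
      ← hPP]
    simp only [← Units.val_mul, Units.val_inj]
    constructor <;> intro h
    · calc _ = P⁻¹ * (g * t) * P := by group
        _ = P⁻¹ * (t * g) * P := by rw [h]
        _ = _ := by group
    · calc g * t = P * (P⁻¹ * g * P * (P⁻¹ * t * P)) * P⁻¹ := by group
        _ = P * (P⁻¹ * t * P * (P⁻¹ * g * P)) * P⁻¹ := by rw [h]
        _ = t * g := by group
  let ψ : C → S := fun g' => let g : GL (Fin (k + 2)) F := g'
    ⟨R ((P⁻¹ * g * P : GL (Fin (k + 2)) F) : Matrix (Fin (k + 2)) (Fin (k + 2)) F), by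
    show (Matrix.reindex e e _).det ≠ 0
    rw [Matrix.det_reindex_self]
    exact (GeneralLinearGroup.det (P⁻¹ * g * P)).ne_zero, (hmem g).1 g'.2⟩
  have hψ : Function.Bijective ψ := by
    constructor
    · intro g g' h
      have h1 := Units.ext (R.injective (congrArg Subtype.val h))
      exact Subtype.ext (mul_left_cancel (mul_right_cancel h1))
    · rintro ⟨M, hdet, hME⟩
      have hd : IsUnit (R.symm M).det := by
        show IsUnit (Matrix.reindex e.symm e.symm M).det
        rw [Matrix.det_reindex_self]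
        exact isUnit_iff_ne_zero.2 hdet
      set g := GeneralLinearGroup.mk'' (R.symm M) hd
      have hg : R ((P⁻¹ * (P * g * P⁻¹) * P : GL (Fin (k + 2)) F) : Matrix (Fin (k + 2)) (Fin (k + 2)) F) = M := by
        rw [show P⁻¹ * (P * g * P⁻¹) * P = g by group]
        exact R.apply_symm_apply M
      exact ⟨⟨P * g * P⁻¹, (hmem _).2 (by rw [hg]; exact hME)⟩, Subtype.ext hg⟩
  rw [Nat.card_congr (Equiv.ofBijective ψ hψ), ← Nat.card_congr (Equiv.ofBijective φ hφ), Nat.card_prod,
    Nat.card_prod, Nat.card_prod, Nat.card_prod, Matrix.card_GL_field, Nat.card_units, Nat.card_fun,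
    Nat.card_eq_fintype_card, Nat.card_fin, Nat.add_sub_cancel, show 2 * (k + 2) - 3 = k + k + 1 by omega,
    pow_add, pow_add, pow_one]
  ring

end CfsgLib.Known.UnipotentCentralizer
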