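import Cfsg.Agent.Lib.Known.Jordan
import Cfsg.Agent.Lib.Known.UnipotentCentralizer
import Cfsg.Agent.Lib.Known.ClassSplit

/-!
# Unipotent classes of `GL n F` and `SL n F`
-/

set_option autoImplicit false

open Matrix Polynomial

namespace CfsgLib.Known.UnipotentClasses

variable {F : Type*} [Field F] {n : ℕ}

/-- The endomorphism `g - 1`. -/
noncomputable def toT (g : Matrix (Fin n) (Fin n) F) : Module.End F (Fin n → F) :=
  Matrix.toLinAlgEquiv' (g - 1)

theorem toT_pow (g : Matrix (Fin n) (Fin n) F) (k : ℕ) :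
    toT g ^ k = Matrix.toLinAlgEquiv' ((g - 1) ^ k) := (map_pow _ _ _).symm

theorem rank_pow (g : Matrix (Fin n) (Fin n) F) (k : ℕ) :
    ((g - 1) ^ k).rank = Module.finrank F (LinearMap.range (toT g ^ k)) := by rw [toT_pow]; rfl

/-- Unipotent elements with equal rank profiles are conjugate. -/
theorem isConj_of_rank (g h : GL (Fin n) F) (hg : IsNilpotent ((g : Matrix (Fin n) (Fin n) F) - 1))
    (hh : IsNilpotent ((h : Matrix (Fin n) (Fin n) F) - 1))
    (hr : ∀ k, (((g : Matrix (Fin n) (Fin n) F) - 1) ^ k).rank = (((h : Matrix (Fin n) (Fin n) F) - 1) ^ k).rank) :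
    IsConj g h := by
  classical
  let A := Matrix.toLinAlgEquiv' (R := F) (n := Fin n)
  obtain ⟨e, he⟩ := Jordan.exists_conj n (toT (g : Matrix (Fin n) (Fin n) F)) (toT (h : Matrix (Fin n) (Fin n) F))
    (hg.map A) (hh.map A) (Module.finrank_fin_fun F) (fun k => by rw [← rank_pow, ← rank_pow, hr k])
  set E : Module.End F (Fin n → F) := (e : (Fin n → F) →ₗ[F] (Fin n → F))
  obtain ⟨c, hc⟩ := ((Module.End.isUnit_iff E).2 e.bijective).map A.symm
  refine ⟨toUnits c, Units.ext (A.injective ?_)⟩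
  rw [Units.val_mul, Units.val_mul, map_mul, map_mul]
  show A (c : Matrix (Fin n) (Fin n) F) * _ = _ * A (c : Matrix (Fin n) (Fin n) F)
  rw [hc, A.apply_symm_apply]
  refine LinearMap.ext fun v => ?_
  have hv := he v
  simp only [toT, map_sub, map_one, LinearMap.sub_apply, Module.End.one_apply, map_sub] at hv
  show e (A (g : Matrix (Fin n) (Fin n) F) v) = A (h : Matrix (Fin n) (Fin n) F) (e v)
  exact (sub_left_inj.1 hv).symm

theorem rank_conj (P : GL (Fin n) F) (M : Matrix (Fin n) (Fin n) F) :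
    ((P : Matrix (Fin n) (Fin n) F) * M * ((P⁻¹ : GL (Fin n) F) : Matrix (Fin n) (Fin n) F)).rank = M.rank := by
  rw [Matrix.rank_mul_eq_left_of_isUnit_det _ _ ((Matrix.isUnit_iff_isUnit_det _).1 (P⁻¹).isUnit),
    Matrix.rank_mul_eq_right_of_isUnit_det _ _ ((Matrix.isUnit_iff_isUnit_det _).1 P.isUnit)]

theorem rank_pow_of_isConj {g h : GL (Fin n) F} (hc : IsConj g h) (k : ℕ) :
    (((g : Matrix (Fin n) (Fin n) F) - 1) ^ k).rank = (((h : Matrix (Fin n) (Fin n) F) - 1) ^ k).rank := by
  obtain ⟨c, rfl⟩ := isConj_iff.1 hc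
  have hk : ∀ k, ((((c * g * c⁻¹ : GL (Fin n) F)) : Matrix (Fin n) (Fin n) F) - 1) ^ k =
      (c : Matrix (Fin n) (Fin n) F) * ((g : Matrix (Fin n) (Fin n) F) - 1) ^ k *
        ((c⁻¹ : GL (Fin n) F) : Matrix (Fin n) (Fin n) F) := by
    intro k
    induction k with
    | zero => rw [pow_zero, pow_zero, mul_one, Units.mul_inv]
    | succ k ih =>
      rw [pow_succ, pow_succ, ih, Units.val_mul, Units.val_mul]
      simp only [mul_sub, sub_mul, mul_one, one_mul, mul_assoc, Units.inv_mul_cancel_left]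
  rw [hk, rank_conj]

theorem gl_orderOf_eq_prime_iff {p : ℕ} [Fact p.Prime] [CharP F p] (g : GL (Fin n) F) :
    orderOf g = p ↔ g ≠ 1 ∧ ((g : Matrix (Fin n) (Fin n) F) - 1) ^ p = 0 := by
  rcases Nat.eq_zero_or_pos n with rfl | hn
  · have hg : g = 1 := Units.ext (Subsingleton.elim _ _)
    simp only [hg, ne_eq, not_true, false_and, iff_false, orderOf_one]
    exact (Fact.out : p.Prime).ne_one.symm
  haveI : Nonempty (Fin n) := ⟨⟨0, hn⟩⟩
  have hs : ((g : Matrix (Fin n) (Fin n) F) - 1) ^ p = ((g ^ p : GL (Fin n) F) : Matrix (Fin n) (Fin n) F) - 1 := by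
    rw [sub_pow_char_of_commute (p := p) (h := Commute.one_right _), one_pow, Units.val_pow_eq_pow_val]
  rw [orderOf_eq_prime_iff, hs, sub_eq_zero]
  constructor
  · rintro ⟨h1, h2⟩
    exact ⟨h2, by rw [h1]; rfl⟩
  · rintro ⟨h1, h2⟩
    exact ⟨Units.ext h2, h1⟩

/-- A unipotent with prescribed blocks. -/
theorem exists_unipotent (μ : Multiset ℕ) (hμ : μ.sum = n) :
    ∃ g : GL (Fin n) F, IsNilpotent ((g : Matrix (Fin n) (Fin n) F) - 1) ∧
      ∀ k, (((g : Matrix (Fin n) (Fin n) F) - 1) ^ k).rank = Jordan.prof μ k := by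
  subst hμ
  obtain ⟨T, hT, hTp⟩ := Jordan.exists_of_blocks (F := F) μ
  let A := Matrix.toLinAlgEquiv' (R := F) (n := Fin μ.sum)
  have hnil : IsNilpotent (A.symm T) := hT.map A.symm
  obtain ⟨g, hg⟩ := (hnil.isUnit_one_add)
  have hg1 : (g : Matrix (Fin μ.sum) (Fin μ.sum) F) - 1 = A.symm T := by rw [hg, add_sub_cancel_left]
  refine ⟨g, hg1 ▸ hnil, fun k => ?_⟩
  rw [rank_pow, ← hTp, show toT (g : Matrix (Fin μ.sum) (Fin μ.sum) F) = T from by
    rw [toT, hg1]; exact A.apply_symm_apply T]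

theorem exists_blocks (g : GL (Fin n) F) (hg : IsNilpotent ((g : Matrix (Fin n) (Fin n) F) - 1)) :
    ∃ μ : Multiset ℕ, (∀ a ∈ μ, 0 < a) ∧ μ.sum = n ∧
      ∀ k, (((g : Matrix (Fin n) (Fin n) F) - 1) ^ k).rank = Jordan.prof μ k := by
  obtain ⟨μ, h1, h2, h3⟩ := Jordan.exists_blocks n (toT (g : Matrix (Fin n) (Fin n) F))
    (hg.map (Matrix.toLinAlgEquiv' (R := F) (n := Fin n))) (Module.finrank_fin_fun F)
  exact ⟨μ, h1, h2, fun k => by rw [rank_pow, h3]⟩

theorem prof_eq_zero_iff (μ : Multiset ℕ) (k : ℕ) : Jordan.prof μ k = 0 ↔ ∀ a ∈ μ, a ≤ k := by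
  induction μ using Multiset.induction_on with
  | empty => simp [Jordan.prof]
  | cons a μ ih => rw [Jordan.prof_cons, Nat.add_eq_zero_iff, ih]; simp [Nat.sub_eq_zero_iff_le]

theorem rank_eq_zero_iff' (M : Matrix (Fin n) (Fin n) F) : M.rank = 0 ↔ M = 0 := by
  constructor
  · intro h
    have h1 : LinearMap.range M.mulVecLin = ⊥ := Submodule.finrank_eq_zero.1 h
    rw [LinearMap.range_eq_bot] at h1
    exact Matrix.toLin'.injective (by rw [map_zero]; exact h1)
  · rintro rfl; exact Matrix.rank_zero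

/-- Classes of elements of order `p` correspond to partitions with parts at most `p`, not all one. -/
theorem gl_order_p_class_count [Fintype F] {p : ℕ} [Fact p.Prime] [CharP F p] :
    Nat.card {C : ConjClasses (GL (Fin n) F) // ∃ g : GL (Fin n) F, ConjClasses.mk g = C ∧ orderOf g = p} =
      (Finset.univ.filter (fun μ : Nat.Partition n => ∀ a ∈ μ.parts, a ≤ p)).card - 1 := by
  classical
  have hp : 1 ≤ p := (Fact.out : p.Prime).one_lt.le
  let one : Nat.Partition n := Nat.Partition.ofSums n (Multiset.replicate n 1) (by simp)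
  have hone : one.parts = Multiset.replicate n 1 := by
    simp only [one, Nat.Partition.ofSums_parts]
    exact Multiset.filter_eq_self.2 fun a ha => by rw [Multiset.eq_of_mem_replicate ha]; exact one_ne_zero
  have honly : ∀ μ : Nat.Partition n, (∀ a ∈ μ.parts, a ≤ 1) → μ = one := by
    intro μ h
    refine Nat.Partition.ext ?_
    rw [hone]
    have h1 : ∀ a ∈ μ.parts, a = 1 := fun a ha => le_antisymm (h a ha) (μ.parts_pos ha)
    have h2 := Multiset.eq_replicate_card.2 h1
    have h3 := μ.parts_sum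
    rw [h2, Multiset.sum_replicate, smul_eq_mul, mul_one] at h3
    rw [h2, h3]
  have hmem : one ∈ Finset.univ.filter (fun μ : Nat.Partition n => ∀ a ∈ μ.parts, a ≤ p) := by
    simp only [Finset.mem_filter, Finset.mem_univ, true_and, hone]
    intro a ha
    rw [Multiset.eq_of_mem_replicate ha]
    exact hp
  rw [← Finset.card_erase_of_mem hmem, ← Nat.card_eq_finsetCard]
  let S := {C : ConjClasses (GL (Fin n) F) // ∃ g : GL (Fin n) F, ConjClasses.mk g = C ∧ orderOf g = p}
  choose rep hrep hrepo using fun C : S => C.2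
  have hnil : ∀ g : GL (Fin n) F, orderOf g = p → IsNilpotent ((g : Matrix (Fin n) (Fin n) F) - 1) :=
    fun g hg => ⟨p, ((gl_orderOf_eq_prime_iff g).1 hg).2⟩
  choose μ hμpos hμsum hμprof using fun C : S => exists_blocks (rep C) (hnil _ (hrepo C))
  have hle : ∀ C : S, ∀ a ∈ μ C, a ≤ p := fun C => by
    rw [← prof_eq_zero_iff, ← hμprof, rank_eq_zero_iff']
    exact ((gl_orderOf_eq_prime_iff _).1 (hrepo C)).2
  refine Nat.card_congr (Equiv.ofBijective
    (fun C => ⟨⟨μ C, fun {a} ha => hμpos C a ha, hμsum C⟩, Finset.mem_erase.2 ⟨?_, ?_⟩⟩) ⟨fun C D h => ?_, fun ν => ?_⟩)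
  · intro h
    apply ((gl_orderOf_eq_prime_iff _).1 (hrepo C)).1
    have h1 : Jordan.prof (μ C) 1 = 0 := by
      rw [prof_eq_zero_iff, show μ C = one.parts from congrArg Nat.Partition.parts h, hone]
      intro a ha
      exact (Multiset.eq_of_mem_replicate ha).le
    rw [← hμprof, pow_one, rank_eq_zero_iff', sub_eq_zero] at h1
    exact Units.ext h1
  · simp only [Finset.mem_filter, Finset.mem_univ, true_and]
    exact hle C
  · have h' : μ C = μ D := congrArg (fun x => x.1.parts) h
    apply Subtype.ext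
    rw [← hrep C, ← hrep D]
    exact ConjClasses.mk_eq_mk_iff_isConj.2 (isConj_of_rank _ _ (hnil _ (hrepo C)) (hnil _ (hrepo D))
      fun k => by rw [hμprof, hμprof, h'])
  · obtain ⟨ν, hν⟩ := ν
    rw [Finset.mem_erase, Finset.mem_filter] at hν
    obtain ⟨g, hg, hgp⟩ := exists_unipotent (F := F) ν.parts ν.parts_sum
    have hord : orderOf g = p := by
      rw [gl_orderOf_eq_prime_iff]
      refine ⟨?_, ?_⟩
      · rintro rfl
        refine hν.1 (honly ν ?_)
        rw [← prof_eq_zero_iff, ← hgp]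
        simp
      · rw [← rank_eq_zero_iff', hgp, prof_eq_zero_iff]
        exact hν.2.2
    let C : S := ⟨ConjClasses.mk g, g, rfl, hord⟩
    refine ⟨C, Subtype.ext (Nat.Partition.ext ?_)⟩
    show μ C = ν.parts
    exact Jordan.prof_injective (hμpos C) (fun a ha => ν.parts_pos ha) fun k => by
      rw [← hμprof, ← hgp]
      exact rank_pow_of_isConj (ConjClasses.mk_eq_mk_iff_isConj.1 (hrep C)) k

/-- `SL`-conjugacy from `GL`-conjugacy, given enough determinants in the centralizer. -/
theorem sl_isConj_of_det (a b : Matrix.SpecialLinearGroup (Fin n) F)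
    (h : IsConj (Matrix.SpecialLinearGroup.toGL a) (Matrix.SpecialLinearGroup.toGL b))
    (hdet : ∀ d : Fˣ, ∃ z : GL (Fin n) F, z * Matrix.SpecialLinearGroup.toGL a = Matrix.SpecialLinearGroup.toGL a * z ∧
      Matrix.GeneralLinearGroup.det z = d) : IsConj a b := by
  obtain ⟨c, hc⟩ := isConj_iff.1 h
  obtain ⟨z, hz, hzd⟩ := hdet (Matrix.GeneralLinearGroup.det c)⁻¹
  have hd : ((c * z : GL (Fin n) F) : Matrix (Fin n) (Fin n) F).det = 1 := by
    have := congrArg Units.val (show Matrix.GeneralLinearGroup.det (c * z) = 1 by rw [map_mul, hzd, mul_inv_cancel])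
    simpa using this
  let y : Matrix.SpecialLinearGroup (Fin n) F := ⟨_, hd⟩
  refine isConj_iff.2 ⟨y, Matrix.SpecialLinearGroup.toGL_injective ?_⟩
  rw [map_mul, map_mul, map_inv, show Matrix.SpecialLinearGroup.toGL y = c * z from Units.ext rfl, ← hc,
    _root_.mul_inv_rev, mul_assoc c z, hz]
  group

/-- Involutions of `SL n F` in characteristic two are classified by the rank of `a - 1`. -/
theorem sl_involution_isConj_iff [Finite F] [CharP F 2] (a b : Matrix.SpecialLinearGroup (Fin n) F)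
    (ha : orderOf a = 2) (hb : orderOf b = 2) :
    IsConj a b ↔ ((a : Matrix (Fin n) (Fin n) F) - 1).rank = ((b : Matrix (Fin n) (Fin n) F) - 1).rank := by
  haveI : Fact (Nat.Prime 2) := ⟨Nat.prime_two⟩
  have hto : ∀ x : Matrix.SpecialLinearGroup (Fin n) F, orderOf (Matrix.SpecialLinearGroup.toGL x) = orderOf x :=
    fun x => orderOf_injective _ Matrix.SpecialLinearGroup.toGL_injective x
  obtain ⟨hne, hsq⟩ := (gl_orderOf_eq_prime_iff _).1 ((hto a).trans ha)
  obtain ⟨-, hsq'⟩ := (gl_orderOf_eq_prime_iff _).1 ((hto b).trans hb)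
  constructor
  · intro h
    have := rank_pow_of_isConj (g := Matrix.SpecialLinearGroup.toGL a) (h := Matrix.SpecialLinearGroup.toGL b)
      (MonoidHom.map_isConj Matrix.SpecialLinearGroup.toGL h) 1
    simpa using this
  · intro hr
    refine sl_isConj_of_det a b (isConj_of_rank _ _ ⟨2, hsq⟩ ⟨2, hsq'⟩ fun k => ?_) fun d => ?_
    · rcases k with _ | _ | k
      · simp
      · simpa using hr
      · rw [show k + 1 + 1 = k + 2 from rfl, pow_add, hsq, pow_add, hsq', mul_zero, mul_zero]
    · obtain ⟨e, he⟩ := isSquare_of_charTwo' ((d : F))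
      let A := Matrix.toLinAlgEquiv' (R := F) (n := Fin n)
      have hT1 : toT ((Matrix.SpecialLinearGroup.toGL a : GL (Fin n) F) : Matrix (Fin n) (Fin n) F) ^ (1 + 1) = 0 := by
        rw [toT_pow, hsq, map_zero]
      have hT0 : toT ((Matrix.SpecialLinearGroup.toGL a : GL (Fin n) F) : Matrix (Fin n) (Fin n) F) ^ 1 ≠ 0 := by
        rw [toT_pow, pow_one, Ne, map_eq_zero_iff _ A.injective, sub_eq_zero]
        exact fun h => hne (Units.ext h)
      obtain ⟨Z, hZ, hZd⟩ := Jordan.exists_commute_det _ hT1 hT0 e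
      have hdet : (A.symm Z).det = (d : F) := by
        rw [← LinearMap.det_toLin', show Matrix.toLin' (A.symm Z) = Z from A.apply_symm_apply Z, hZd, he, sq]
      refine ⟨Matrix.GeneralLinearGroup.mk'' (A.symm Z) (by rw [hdet]; exact Units.isUnit _),
        Units.ext (A.injective ?_), Units.ext hdet⟩
      rw [Units.val_mul, Units.val_mul, map_mul, map_mul]
      show A (A.symm Z) * _ = _ * A (A.symm Z)
      rw [A.apply_symm_apply]
      have h' : Z * (A ((Matrix.SpecialLinearGroup.toGL a : GL (Fin n) F) : Matrix (Fin n) (Fin n) F) - 1) =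
          (A ((Matrix.SpecialLinearGroup.toGL a : GL (Fin n) F) : Matrix (Fin n) (Fin n) F) - 1) * Z := by
        simpa [toT, A] using hZ
      rw [mul_sub, sub_mul, mul_one, one_mul] at h'
      exact sub_left_inj.1 h'

/-- The determinant of an element commuting with a regular nilpotent is an `n`-th power. -/
theorem det_commute_regular (hn : 1 ≤ n) (T S : Module.End F (Fin n → F)) (hT : T ^ n = 0) (hne : T ^ (n - 1) ≠ 0)
    (hST : Commute S T) : ∃ a : F, LinearMap.det S = a ^ n := by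
  classical
  haveI : Nonempty (Fin n) := ⟨⟨0, hn⟩⟩
  obtain ⟨v, hv⟩ : ∃ v, (T ^ (n - 1)) v ≠ 0 := by
    by_contra hcon
    push Not at hcon
    exact hne (LinearMap.ext hcon)
  let b : Module.Basis (Fin n) F (Fin n → F) := basisOfLinearIndependentOfCardEqFinrank
    (UnipotentCentralizer.linearIndependent_iterate T hT hv) (by rw [Fintype.card_fin, Module.finrank_fin_fun])
  have hb : ∀ i : Fin n, b i = (T ^ (i : ℕ)) v := fun i => by simp [b]
  let P : F[X] := ∑ i : Fin n, C (b.repr (S v) i) * X ^ (i : ℕ)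
  have hP : aeval T P v = S v := by
    conv_rhs => rw [← b.sum_repr (S v)]
    simp [P, map_sum, hb, Algebra.smul_def]
  have hcomm : Commute (aeval T P) T := by
    have := congrArg (aeval T) (mul_comm P X)
    rw [map_mul, map_mul, aeval_X] at this
    exact this
  have hS : S = aeval T P := by
    refine b.ext fun i => ?_
    rw [hb, ← Module.End.mul_apply, (hST.pow_right _).eq, ← Module.End.mul_apply (aeval T P),
      (hcomm.pow_right _).eq, Module.End.mul_apply, Module.End.mul_apply, hP]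
  refine ⟨P.eval 0, ?_⟩
  obtain ⟨R, hR⟩ : X ∣ P - C (P.eval 0) := by rw [X_dvd_iff]; simp [coeff_zero_eq_eval_zero]
  set N := T * aeval T R
  have hSd : S = P.eval 0 • (1 : Module.End F (Fin n → F)) + N := by
    rw [hS, show P = C (P.eval 0) + X * R by rw [← hR]; ring, map_add, aeval_C, map_mul, aeval_X,
      Algebra.algebraMap_eq_smul_one]
    simp [N]
  have hN : IsNilpotent N := Commute.isNilpotent_mul_right (by
    have := congrArg (aeval T) (mul_comm X R)
    rw [map_mul, map_mul, aeval_X] at this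
    exact this) ⟨n, hT⟩
  have hchar : (-N).charpoly = X ^ n := by
    have := IsNilpotent.charpoly_eq_X_pow_finrank hN.neg
    rwa [Module.finrank_fin_fun] at this
  have hev := congrArg (Polynomial.eval (P.eval 0)) hchar
  rw [LinearMap.eval_charpoly, Polynomial.eval_pow, Polynomial.eval_X] at hev
  rw [hSd, ← hev]
  congr 1
  rw [sub_neg_eq_add, Algebra.algebraMap_eq_smul_one]

/-- Regular unipotents form one class of `GL` splitting into `gcd (n, q - 1)` classes of `SL`. -/
theorem sl_regular_count [Fintype F] (hn : 2 ≤ n) :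
    Nat.card {C : ConjClasses (Matrix.SpecialLinearGroup (Fin n) F) // ∃ u : Matrix.SpecialLinearGroup (Fin n) F,
      ConjClasses.mk u = C ∧ ((u : Matrix (Fin n) (Fin n) F) - 1) ^ n = 0 ∧
        ((u : Matrix (Fin n) (Fin n) F) - 1).rank = n - 1} = Nat.gcd n (Fintype.card F - 1) := by
  classical
  obtain ⟨u₀, hu₀, hu₀p⟩ := exists_unipotent (F := F) (n := n) {n} (by simp)
  have hprof : ∀ k, (((u₀ : Matrix (Fin n) (Fin n) F) - 1) ^ k).rank = n - k := fun k => by
    rw [hu₀p]; simp [Jordan.prof]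
  -- every regular unipotent has this profile
  have hreg : ∀ g : GL (Fin n) F, ((g : Matrix (Fin n) (Fin n) F) - 1) ^ n = 0 →
      ((g : Matrix (Fin n) (Fin n) F) - 1).rank = n - 1 → IsConj u₀ g := by
    intro g hg hgr
    refine isConj_of_rank _ _ hu₀ ⟨n, hg⟩ fun k => ?_
    obtain ⟨μ, hpos, hsum, hp⟩ := exists_blocks g ⟨n, hg⟩
    have h1 : Jordan.prof μ 1 = n - 1 := by rw [← hp, pow_one, hgr]
    have h0 := Jordan.prof_eq_succ_add μ 0
    rw [Jordan.prof_zero_arg, hsum, zero_add, h1, Multiset.countP_eq_card.2 hpos] at h0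
    obtain ⟨a, rfl⟩ := Multiset.card_eq_one.1 (show Multiset.card μ = 1 by omega)
    rw [hprof, hp]
    rw [Multiset.sum_singleton] at hsum
    simp [Jordan.prof, hsum]
  have hu₀d : Matrix.GeneralLinearGroup.det u₀ = 1 := by
    apply Units.ext
    have hN := hu₀.neg
    have hc := Matrix.isNilpotent_charpoly_sub_pow_of_isNilpotent hN
    have h' : (u₀ : Matrix (Fin n) (Fin n) F).det = 1 := by
      let A := Matrix.toLinAlgEquiv' (R := F) (n := Fin n)
      have hA : IsNilpotent (-(toT (u₀ : Matrix (Fin n) (Fin n) F))) := (hu₀.map A).neg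
      have hcp := IsNilpotent.charpoly_eq_X_pow_finrank hA
      have hev := congrArg (Polynomial.eval (1 : F)) hcp
      rw [LinearMap.eval_charpoly, map_one, Polynomial.eval_pow, Polynomial.eval_X, one_pow, sub_neg_eq_add] at hev
      rw [← hev, ← LinearMap.det_toLin']
      congr 1
      simp [toT, Matrix.toLinAlgEquiv'_apply]
      ext; simp
    simpa using h'
  let u₀' : Matrix.SpecialLinearGroup (Fin n) F := ⟨_, congrArg Units.val hu₀d⟩
  have hu₀' : Matrix.SpecialLinearGroup.toGL u₀' = u₀ := Units.ext rfl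
  let M : Subgroup Fˣ := (powMonoidHom n : Fˣ →* Fˣ).range
  let S := {C : ConjClasses (Matrix.SpecialLinearGroup (Fin n) F) // ∃ u : Matrix.SpecialLinearGroup (Fin n) F,
      ConjClasses.mk u = C ∧ ((u : Matrix (Fin n) (Fin n) F) - 1) ^ n = 0 ∧
        ((u : Matrix (Fin n) (Fin n) F) - 1).rank = n - 1}
  -- a conjugate of `u₀` as an element of `SL`
  have hconjd : ∀ g : GL (Fin n) F, ((g * u₀ * g⁻¹ : GL (Fin n) F) : Matrix (Fin n) (Fin n) F).det = 1 := fun g => by
    have : Matrix.GeneralLinearGroup.det (g * u₀ * g⁻¹) = 1 := by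
      rw [map_mul, map_mul, map_inv, hu₀d, mul_one, mul_inv_cancel]
    rw [← Matrix.GeneralLinearGroup.val_det_apply, this]
    rfl
  have hconjS : ∀ g : GL (Fin n) F,
      ((((g * u₀ * g⁻¹ : GL (Fin n) F) : Matrix (Fin n) (Fin n) F) - 1) ^ n = 0) ∧
      (((g * u₀ * g⁻¹ : GL (Fin n) F) : Matrix (Fin n) (Fin n) F) - 1).rank = n - 1 := fun g => by
    have hc : IsConj u₀ (g * u₀ * g⁻¹) := isConj_iff.2 ⟨g, rfl⟩
    refine ⟨?_, ?_⟩
    · rw [← rank_eq_zero_iff', ← rank_pow_of_isConj hc, hprof, Nat.sub_self]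
    · have := rank_pow_of_isConj hc 1
      rw [pow_one, pow_one] at this
      rw [← this, ← pow_one ((u₀ : Matrix (Fin n) (Fin n) F) - 1), hprof]
  let mkSL : GL (Fin n) F → Matrix.SpecialLinearGroup (Fin n) F := fun g => ⟨_, hconjd g⟩
  let cls : GL (Fin n) F → S := fun g =>
    ⟨ConjClasses.mk (mkSL g), mkSL g, rfl, hconjS g⟩
  have hcls : Function.Surjective cls := by
    rintro ⟨C, u, rfl, hu1, hu2⟩
    obtain ⟨g, hg⟩ := isConj_iff.1 (hreg (Matrix.SpecialLinearGroup.toGL u) hu1 hu2)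
    refine ⟨g, Subtype.ext ?_⟩
    show ConjClasses.mk _ = ConjClasses.mk u
    congr 1
    exact Subtype.ext (congrArg Units.val hg)
  have hrel : ∀ g h, cls g = cls h ↔
      (QuotientGroup.mk (Matrix.GeneralLinearGroup.det g) : Fˣ ⧸ M) =
        QuotientGroup.mk (Matrix.GeneralLinearGroup.det h) := by
    intro g h
    rw [QuotientGroup.eq, Subtype.ext_iff]
    show ConjClasses.mk (mkSL g) = ConjClasses.mk (mkSL h) ↔ _
    rw [ConjClasses.mk_eq_mk_iff_isConj, isConj_iff]
    constructor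
    · rintro ⟨s, hs⟩
      have hs' := congrArg Matrix.SpecialLinearGroup.toGL hs
      rw [map_mul, map_mul, map_inv] at hs'
      have hs'' : (h⁻¹ * (Matrix.SpecialLinearGroup.toGL s * g)) * u₀ = u₀ * (h⁻¹ * (Matrix.SpecialLinearGroup.toGL s * g)) := by
        have e1 : Matrix.SpecialLinearGroup.toGL s * (g * u₀ * g⁻¹) * (Matrix.SpecialLinearGroup.toGL s)⁻¹ =
            h * u₀ * h⁻¹ := by
          rw [show Matrix.SpecialLinearGroup.toGL (mkSL g) = g * u₀ * g⁻¹ from Units.ext rfl,
            show Matrix.SpecialLinearGroup.toGL (mkSL h) = h * u₀ * h⁻¹ from Units.ext rfl] at hs'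
          exact hs'
        calc (h⁻¹ * (Matrix.SpecialLinearGroup.toGL s * g)) * u₀
            = h⁻¹ * (Matrix.SpecialLinearGroup.toGL s * (g * u₀ * g⁻¹) * (Matrix.SpecialLinearGroup.toGL s)⁻¹) *
                (Matrix.SpecialLinearGroup.toGL s * g) := by group
          _ = h⁻¹ * (h * u₀ * h⁻¹) * (Matrix.SpecialLinearGroup.toGL s * g) := by rw [e1]
          _ = u₀ * (h⁻¹ * (Matrix.SpecialLinearGroup.toGL s * g)) := by group
      set z := h⁻¹ * (Matrix.SpecialLinearGroup.toGL s * g)
      let A := Matrix.toLinAlgEquiv' (R := F) (n := Fin n)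
      obtain ⟨a, ha⟩ := det_commute_regular (by omega) (toT (u₀ : Matrix (Fin n) (Fin n) F)) (A z)
        (by rw [toT_pow, (rank_eq_zero_iff' (((u₀ : Matrix (Fin n) (Fin n) F) - 1) ^ n)).1 (by rw [hprof, Nat.sub_self]), map_zero])
        (by
          rw [toT_pow, Ne, map_eq_zero_iff _ A.injective, ← rank_eq_zero_iff', hprof]
          omega)
        (by
          show A (z : Matrix (Fin n) (Fin n) F) * A _ = A _ * A (z : Matrix (Fin n) (Fin n) F)
          rw [← map_mul, ← map_mul]
          congr 1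
          rw [mul_sub, sub_mul, mul_one, one_mul]
          congr 1
          exact congrArg Units.val hs'')
      have hzd : (z : Matrix (Fin n) (Fin n) F).det = a ^ n := by rw [← LinearMap.det_toLin']; exact ha
      have ha0 : a ≠ 0 := fun h0 => (Matrix.GeneralLinearGroup.det z).ne_zero (by
        show (z : Matrix (Fin n) (Fin n) F).det = 0
        rw [hzd, h0, zero_pow (by omega)])
      have hzu : Matrix.GeneralLinearGroup.det z = Units.mk0 a ha0 ^ n := Units.ext hzd
      have hsd : Matrix.GeneralLinearGroup.det (Matrix.SpecialLinearGroup.toGL s) = 1 := Units.ext s.2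
      have : (Matrix.GeneralLinearGroup.det g)⁻¹ * Matrix.GeneralLinearGroup.det h = (Units.mk0 a ha0 ^ n)⁻¹ := by
        rw [← hzu]
        simp [z, hsd, mul_comm]
      rw [this]
      exact M.inv_mem ⟨_, rfl⟩
    · rintro ⟨a, ha⟩
      rw [powMonoidHom_apply] at ha
      let zc : GL (Fin n) F := Matrix.GeneralLinearGroup.scalar (Fin n) a
      have hzc : zc * u₀ = u₀ * zc := Units.ext ((Matrix.scalar_commute (a : F) (Commute.all _) (u₀ : Matrix (Fin n) (Fin n) F)).eq)
      have hd : ((h * zc⁻¹ * g⁻¹ : GL (Fin n) F) : Matrix (Fin n) (Fin n) F).det = 1 := by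
        have hzd : Matrix.GeneralLinearGroup.det zc = a ^ n := Units.ext (by simp [zc])
        have : Matrix.GeneralLinearGroup.det (h * zc⁻¹ * g⁻¹) = 1 := by
          rw [map_mul, map_mul, map_inv, map_inv, hzd, ha]
          simp [mul_comm, mul_left_comm]
        simpa using congrArg Units.val this
      let y : Matrix.SpecialLinearGroup (Fin n) F := ⟨_, hd⟩
      refine ⟨y, Matrix.SpecialLinearGroup.toGL_injective ?_⟩
      rw [map_mul, map_mul, map_inv, show Matrix.SpecialLinearGroup.toGL y = h * zc⁻¹ * g⁻¹ from Units.ext rfl]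
      rw [show Matrix.SpecialLinearGroup.toGL (mkSL g) = g * u₀ * g⁻¹ from Units.ext rfl,
        show Matrix.SpecialLinearGroup.toGL (mkSL h) = h * u₀ * h⁻¹ from Units.ext rfl]
      have : h * zc⁻¹ * g⁻¹ * (g * u₀ * g⁻¹) * (h * zc⁻¹ * g⁻¹)⁻¹ = h * (zc⁻¹ * (u₀ * zc)) * h⁻¹ := by group
      rw [this, ← hzc, inv_mul_cancel_left]
  have hdsurj : Function.Surjective fun g : GL (Fin n) F =>
      (QuotientGroup.mk (Matrix.GeneralLinearGroup.det g) : Fˣ ⧸ M) := by
    intro x
    obtain ⟨d, rfl⟩ := QuotientGroup.mk_surjective x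
    obtain ⟨g, rfl⟩ : ∃ g : GL (Fin n) F, Matrix.GeneralLinearGroup.det g = d := by
      let D : Matrix (Fin n) (Fin n) F := Matrix.diagonal (Function.update 1 ⟨0, by omega⟩ (d : F))
      have hD : D.det = (d : F) := by simp [D, Finset.prod_update_of_mem]
      exact ⟨Matrix.GeneralLinearGroup.mk'' D (by rw [hD]; exact d.isUnit), Units.ext hD⟩
    exact ⟨g, rfl⟩
  let e : S ≃ Fˣ ⧸ M := Equiv.ofBijective
    (fun C => QuotientGroup.mk (Matrix.GeneralLinearGroup.det (Function.surjInv hcls C))) ⟨fun C D h => by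
      rw [← Function.surjInv_eq hcls C, ← Function.surjInv_eq hcls D]
      exact (hrel _ _).2 h, fun x => by
      obtain ⟨g, rfl⟩ := hdsurj x
      exact ⟨cls g, (hrel _ _).1 (Function.surjInv_eq hcls _)⟩⟩
  rw [show Nat.card S = Nat.card (Fˣ ⧸ M) from Nat.card_congr e, ← Subgroup.index_eq_card,
    ClassSplit.index_range_pow, Nat.card_units, Nat.card_eq_fintype_card, Nat.gcd_comm]

end CfsgLib.Known.UnipotentClasses
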