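import Mathlib

/-!
# Symmetric bilinear forms in characteristic two
-/

set_option autoImplicit false

namespace CfsgLib.Known.CharTwoForms

variable {F V : Type*} [Field F] [Finite F] [CharP F 2] [AddCommGroup V] [Module F V]
  [FiniteDimensional F V]

theorem exists_family (B : LinearMap.BilinForm F V) (hS : B.IsSymm) (n : ℕ) :
    ∀ W : Submodule F V, Module.finrank F W = n → (∀ x ∈ W, x ≠ 0 → ∃ y ∈ W, B x y ≠ 0) →
      (n = 0 ∨ ∃ v ∈ W, B v v ≠ 0) →
      ∃ e : Fin n → V, (∀ i, e i ∈ W) ∧ ∀ i j, B (e i) (e j) = if i = j then 1 else 0 := by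
  induction n with
  | zero => exact fun W _ _ _ => ⟨Fin.elim0, fun i => i.elim0, fun i => i.elim0⟩
  | succ n ih =>
    intro W hW hnd hna
    obtain ⟨u, huW, hu⟩ := hna.resolve_left (Nat.succ_ne_zero n)
    obtain ⟨b, hb⟩ := FiniteField.isSquare_of_char_two (ringChar.eq F 2) (B u u)
    have hb0 : b ≠ 0 := fun h => hu (by rw [hb, h, zero_mul])
    have hsymm : ∀ x y, B x y = B y x := fun x y => hS.eq x y
    -- some vector of norm one whose orthogonal is not alternating
    obtain ⟨v, hvW, hv, hgood⟩ : ∃ v ∈ W, B v v = 1 ∧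
        (n = 0 ∨ ∃ w ∈ W, B v w = 0 ∧ B w w ≠ 0) := by
      have hv0 : B (b⁻¹ • u) (b⁻¹ • u) = 1 := by
        simp only [map_smul, LinearMap.smul_apply, smul_eq_mul, hb]
        field_simp
      have hv0W0 : b⁻¹ • u ∈ W := W.smul_mem _ huW
      obtain ⟨v0, hv0W, hv0⟩ : ∃ v0 ∈ W, B v0 v0 = 1 := ⟨_, hv0W0, hv0⟩
      by_cases halt : ∃ w ∈ W, B v0 w = 0 ∧ B w w ≠ 0
      · exact ⟨v0, hv0W, hv0, Or.inr halt⟩
      push Not at halt
      rcases Nat.eq_zero_or_pos n with rfl | hn
      · exact ⟨v0, hv0W, hv0, Or.inl rfl⟩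
      obtain ⟨x, hxW, hx0, hxv⟩ : ∃ x ∈ W, x ≠ 0 ∧ B v0 x = 0 := by
        by_contra hcon
        push Not at hcon
        have hinj : Function.Injective ((B v0).domRestrict W) := by
          rw [injective_iff_map_eq_zero]
          intro x hx
          by_contra hx0
          exact hcon x x.2 (fun h => hx0 (Subtype.ext h)) hx
        have := LinearMap.finrank_le_finrank_of_injective hinj
        rw [hW, Module.finrank_self] at this
        omega
      obtain ⟨y, hyW, hxy⟩ := hnd x hxW hx0
      set y1 := y - B v0 y • v0 with hy1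
      have hy1W : y1 ∈ W := W.sub_mem hyW (W.smul_mem _ hv0W)
      have hy1v : B v0 y1 = 0 := by
        rw [hy1, map_sub, map_smul, hv0, smul_eq_mul, mul_one, sub_self]
      have hxy1 : B x y1 = B x y := by
        rw [hy1, map_sub, map_smul, hsymm x v0, hxv, smul_zero, sub_zero]
      set f := (B x y1)⁻¹ • y1 with hf
      have hfW : f ∈ W := W.smul_mem _ hy1W
      have hvf : B v0 f = 0 := by rw [hf, map_smul, hy1v, smul_zero]
      have hxf : B x f = 1 := by
        rw [hf, map_smul, smul_eq_mul, inv_mul_cancel₀ (hxy1 ▸ hxy)]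
      refine ⟨v0 + x, W.add_mem hv0W hxW, ?_, Or.inr ⟨f + v0, W.add_mem hfW hv0W, ?_, ?_⟩⟩
      · simp only [map_add, LinearMap.add_apply, hv0, hxv, hsymm x v0, halt x hxW hxv, add_zero, zero_add]
      · simp only [map_add, LinearMap.add_apply, hvf, hxf, hv0, hsymm x v0, hxv, zero_add, add_zero]
        exact CharTwo.add_self_eq_zero 1
      · simp only [map_add, LinearMap.add_apply, hsymm f v0, hvf, halt f hfW hvf, hv0, zero_add, add_zero]
        exact one_ne_zero
    let W' := W ⊓ LinearMap.ker (B v)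
    have hdec : ∀ y ∈ W, y - B v y • v ∈ W' := fun y hy =>
      ⟨W.sub_mem hy (W.smul_mem _ hvW), by
        show B v (y - B v y • v) = 0
        rw [map_sub, map_smul, hv, smul_eq_mul, mul_one, sub_self]⟩
    have hW' : Module.finrank F W' = n := by
      have hv0 : v ≠ 0 := fun h => by simp [h] at hv
      have hsup : W' ⊔ (F ∙ v) = W := by
        refine le_antisymm (sup_le inf_le_left ((Submodule.span_singleton_le_iff_mem _ _).2 hvW)) fun y hy => ?_
        rw [← sub_add_cancel y (B v y • v)]
        exact Submodule.add_mem_sup (hdec y hy) (Submodule.mem_span_singleton.2 ⟨_, rfl⟩)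
      have hinf : W' ⊓ (F ∙ v) = ⊥ := by
        rw [eq_bot_iff]
        rintro x ⟨hx, hx'⟩
        obtain ⟨c, rfl⟩ := Submodule.mem_span_singleton.1 hx'
        have := hx.2
        simp only [SetLike.mem_coe, LinearMap.mem_ker, map_smul, hv, smul_eq_mul, mul_one] at this
        simp [this]
      have h := Submodule.finrank_sup_add_finrank_inf_eq W' (F ∙ v)
      rw [hsup, hinf, finrank_bot, hW, finrank_span_singleton hv0] at h
      omega
    have hnd' : ∀ x ∈ W', x ≠ 0 → ∃ y ∈ W', B x y ≠ 0 := by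
      intro x hx hx0
      obtain ⟨y, hy, hxy⟩ := hnd x hx.1 hx0
      refine ⟨_, hdec y hy, ?_⟩
      rwa [map_sub, map_smul, hsymm x v, show B v x = 0 from hx.2, smul_zero, sub_zero]
    obtain ⟨e, he, horth⟩ := ih W' hW' hnd'
      (hgood.imp id fun ⟨w, hw, h0, h1⟩ => ⟨w, ⟨hw, h0⟩, h1⟩)
    refine ⟨Fin.cons v e, fun i => ?_, fun i j => ?_⟩
    · refine Fin.cases ?_ (fun k => ?_) i
      · simpa using hvW
      · simpa using (he k).1
    · refine Fin.cases ?_ (fun k => ?_) i <;> refine Fin.cases ?_ (fun l => ?_) j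
      · simpa using hv
      · rw [Fin.cons_zero, Fin.cons_succ, show B v (e l) = 0 from (he l).2, if_neg (Fin.succ_ne_zero l).symm]
      · rw [Fin.cons_zero, Fin.cons_succ, hsymm, show B v (e k) = 0 from (he k).2, if_neg (Fin.succ_ne_zero k)]
      · simpa [Fin.succ_inj] using horth k l

/-- A non-alternating non-degenerate symmetric form has an orthonormal basis. -/
theorem exists_orthonormal {n : ℕ} (hV : Module.finrank F V = n) (B : LinearMap.BilinForm F V)
    (hS : B.IsSymm) (hB : B.Nondegenerate) (hna : ∃ v : V, B v v ≠ 0) :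
    ∃ b : Module.Basis (Fin n) F V, ∀ i j, B (b i) (b j) = if i = j then 1 else 0 := by
  classical
  obtain ⟨e, -, he⟩ := exists_family B hS n ⊤ (by rw [finrank_top, hV]) (fun x _ hx => by
    by_contra hcon
    push Not at hcon
    exact hx (hB.1 x fun y => hcon y Submodule.mem_top))
    (Or.inr (let ⟨v, hv⟩ := hna; ⟨v, Submodule.mem_top, hv⟩))
  have hli : LinearIndependent F e := by
    rw [Fintype.linearIndependent_iff]
    intro c hc i
    have := congrArg (B (e i)) hc
    simpa [map_sum, he, mul_ite] using this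
  have hcard : Fintype.card (Fin n) = Module.finrank F V := by rw [Fintype.card_fin, hV]
  rcases Nat.eq_zero_or_pos n with rfl | hn
  · obtain ⟨v, hv⟩ := hna
    haveI := Module.finrank_zero_iff.1 hV
    exact absurd (by rw [Subsingleton.elim v 0, map_zero]) hv
  haveI : Nonempty (Fin n) := ⟨⟨0, hn⟩⟩
  exact ⟨basisOfLinearIndependentOfCardEqFinrank hli hcard, fun i j => by
    simp [coe_basisOfLinearIndependentOfCardEqFinrank, he]⟩

end CfsgLib.Known.CharTwoForms
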