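import Cfsg.Agent.Lib.Known.SemisimpleClass

/-!
# Classes of semisimple elements of prime order in `GL n F`
-/

set_option autoImplicit false

open Polynomial UniqueFactorizationMonoid

namespace CfsgLib.Known.SemisimplePrimeOrder

universe u

variable {F : Type u} [Field F] [Fintype F]

/-- Multiplicity vectors bounded in total by `k`. -/
theorem card_le_sum (I : Type*) [Fintype I] (k : ℕ) :
    Nat.card {a : I → ℕ // ∑ i, a i ≤ k} = Nat.choose (k + Fintype.card I) (Fintype.card I) := by
  classical
  let e : {a : I → ℕ // ∑ i, a i ≤ k} ≃ {P : Option I → ℕ // ∑ i, P i = k} :=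
    { toFun := fun a => ⟨fun o => o.elim (k - ∑ i, a.1 i) a.1, by
        rw [Fintype.sum_option]; simp only [Option.elim_none, Option.elim_some]; omega⟩
      invFun := fun P => ⟨fun i => P.1 (some i), by
        show ∑ i, P.1 (some i) ≤ k
        have h := P.2
        rw [Fintype.sum_option] at h
        omega⟩
      left_inv := fun a => rfl
      right_inv := fun P => Subtype.ext (funext fun o => by
        rcases o with _ | i
        · have h := P.2
          rw [Fintype.sum_option] at h
          simp only [Option.elim_none]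
          omega
        · rfl) }
  rw [Nat.card_congr (e.trans (Sym.equivNatSumOfFintype (Option I) k).symm), Nat.card_eq_fintype_card,
    Sym.card_sym_eq_choose, Fintype.card_option]
  rw [show Fintype.card I + 1 + k - 1 = k + Fintype.card I by omega, ← Nat.choose_symm (Nat.le_add_right k _),
    Nat.add_sub_cancel_left]

open scoped Classical in
/-- A semisimple element whose characteristic factors divide `X ^ r - 1` has order dividing `r`. -/
theorem pow_eq_one_of_factors {p : ℕ} [Fact p.Prime] [CharP F p] {n r : ℕ} (hr : 0 < r) (g : GL (Fin n) F)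
    (hg : (orderOf g).Coprime p)
    (hfac : ∀ f ∈ normalizedFactors (g : Matrix (Fin n) (Fin n) F).charpoly, f ∣ X ^ r - 1) : g ^ r = 1 := by
  classical
  rcases Nat.eq_zero_or_pos n with rfl | hn
  · exact Units.ext (Subsingleton.elim _ _)
  haveI : Nonempty (Fin n) := ⟨⟨0, hn⟩⟩
  set M := (g : Matrix (Fin n) (Fin n) F)
  have hN : ((orderOf g : ℕ) : F) ≠ 0 := by
    rw [Ne, CharP.cast_eq_zero_iff F p]
    intro h
    exact (Fact.out : p.Prime).ne_one (Nat.eq_one_of_dvd_one (hg.symm ▸ Nat.dvd_gcd (dvd_refl p) h))
  have hsq : Squarefree (minpoly F M) := by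
    refine Squarefree.squarefree_of_dvd (minpoly.dvd F M ?_) ((X_pow_sub_one_separable_iff.2 hN).squarefree)
    rw [map_sub, map_pow, aeval_X, map_one, ← Units.val_pow_eq_pow_val, pow_orderOf_eq_one, Units.val_one, sub_self]
  have hne : minpoly F M ≠ 0 := minpoly.ne_zero (Algebra.IsIntegral.isIntegral M)
  have hdvd : minpoly F M ∣ X ^ r - 1 := by
    have hle : normalizedFactors (minpoly F M) ≤ normalizedFactors M.charpoly :=
      (dvd_iff_normalizedFactors_le_normalizedFactors hne M.charpoly_monic.ne_zero).1 (Matrix.minpoly_dvd_charpoly M)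
    have hX : (X ^ r - 1 : F[X]) ≠ 0 := by simpa using X_pow_sub_C_ne_zero hr (1 : F)
    rw [dvd_iff_normalizedFactors_le_normalizedFactors hne hX, Multiset.le_iff_count]
    intro f
    by_cases hf : f ∈ normalizedFactors (minpoly F M)
    · rw [Multiset.count_eq_one_of_mem ((squarefree_iff_nodup_normalizedFactors hne).1 hsq) hf,
        Nat.one_le_iff_ne_zero, Multiset.count_ne_zero]
      obtain ⟨f', hf', hass⟩ := exists_mem_normalizedFactors_of_dvd hX (irreducible_of_normalized_factor f hf)
        (hfac f (Multiset.mem_of_le hle hf))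
      have h1 := normalize_normalized_factor f hf
      have h2 := normalize_normalized_factor f' hf'
      have := normalize_eq_normalize hass.dvd hass.symm.dvd
      rw [h1, h2] at this
      exact this ▸ hf'
    · rw [Multiset.count_eq_zero_of_notMem hf]; exact Nat.zero_le _
  obtain ⟨c, hc⟩ := hdvd
  have h0 := congrArg (aeval M) hc
  rw [map_sub, map_pow, aeval_X, map_one, map_mul, minpoly.aeval, zero_mul, sub_eq_zero] at h0
  exact Units.ext (by rw [Units.val_pow_eq_pow_val, Units.val_one]; exact h0)

theorem class_count {p q : ℕ} [Fact p.Prime] [CharP F p] (hF : Fintype.card F = q) (n r i t : ℕ) (hr : r.Prime)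
    (hrp : r ≠ p) (hi : i = orderOf (q : ZMod r)) (ht : t * i = r - 1) :
    Nat.card {C : ConjClasses (GL (Fin n) F) // ∃ g : GL (Fin n) F, ConjClasses.mk g = C ∧ orderOf g = r} =
      Nat.choose (n / i + t) t - 1 := by
  classical
  haveI : Fact r.Prime := ⟨hr⟩
  obtain ⟨f₀, hf₀, hq⟩ := FiniteField.card F p
  have hcop : p.Coprime r := (Nat.coprime_primes Fact.out hr).2 (Ne.symm hrp)
  have hord : orderOf (ZMod.unitOfCoprime _ (hcop.pow_left (f₀ : ℕ))) = i := by
    rw [← orderOf_units, ZMod.coe_unitOfCoprime, hi, ← hF, hq]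
  have hi0 : 0 < i := hord ▸ orderOf_pos _
  have hrF : (r : F) ≠ 0 := by
    rw [Ne, CharP.cast_eq_zero_iff F p]
    exact fun h => hrp ((Nat.prime_dvd_prime_iff_eq Fact.out hr).1 h).symm
  set Φ := normalizedFactors (cyclotomic r F) with hΦ
  have hΦdeg : ∀ f ∈ Φ, f.natDegree = i := fun f hf => by
    rw [natDegree_of_mem_normalizedFactors_cyclotomic hq hcop hf, hord]
  have hΦcard : Φ.toFinset.card = t := by
    rw [hΦ, normalizedFactors_cyclotomic_card hq hcop, hord, Nat.totient_prime hr, ← ht, Nat.mul_div_cancel _ hi0]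
  have hΦmonic : ∀ f ∈ Φ, f.Monic := fun f hf => by
    rw [← normalize_normalized_factor f hf]
    exact monic_normalize (irreducible_of_normalized_factor f hf).ne_zero
  set L : F[X] := X - C 1 with hL
  have hLirr : Irreducible L := irreducible_X_sub_C 1
  have hLmonic : L.Monic := monic_X_sub_C 1
  have hLΦ : L ∉ Φ := by
    intro h
    have hroot : (cyclotomic r F).IsRoot 1 := dvd_iff_isRoot.1 (dvd_of_mem_normalizedFactors h)
    rw [IsRoot.def, eval_one_cyclotomic_prime] at hroot
    exact hrF hroot
  have hcyc : cyclotomic r F * (X - 1) = X ^ r - 1 := cyclotomic_prime_mul_X_sub_one F r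
  have hΦdvd : ∀ f ∈ Φ, f ∣ X ^ r - 1 := fun f hf => hcyc ▸ (dvd_of_mem_normalizedFactors hf).mul_right _
  have hLdvd : L ∣ X ^ r - 1 := ⟨cyclotomic r F, by rw [← hcyc, hL, C_1]; ring⟩
  have hkey : ∀ f : F[X], Irreducible f → f.Monic → f ∣ X ^ r - 1 → f = L ∨ f ∈ Φ := by
    intro f hf hfm hfd
    rw [← hcyc] at hfd
    rcases hf.prime.dvd_mul.1 hfd with h | h
    · obtain ⟨f', hf', hass⟩ := exists_mem_normalizedFactors_of_dvd (cyclotomic_ne_zero r F) hf h
      exact Or.inr (eq_of_monic_of_associated hfm (hΦmonic f' hf') hass ▸ hf')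
    · refine Or.inl (eq_of_monic_of_associated hfm hLmonic (hf.associated_of_dvd hLirr ?_))
      rwa [hL, C_1]
  let I := ↥Φ.toFinset
  -- the multiset of factors attached to a multiplicity vector
  let ms : (I → ℕ) → Multiset F[X] := fun a =>
    Multiset.replicate (n - i * ∑ j, a j) L + ∑ j : I, Multiset.replicate (a j) (j : F[X])
  have hmem : ∀ a f, f ∈ ms a → f = L ∨ f ∈ Φ := by
    intro a f hf
    rcases Multiset.mem_add.1 hf with h | h
    · exact Or.inl (Multiset.eq_of_mem_replicate h)
    · obtain ⟨j, -, hj⟩ := Multiset.mem_sum.1 h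
      exact Or.inr (Multiset.eq_of_mem_replicate hj ▸ Multiset.mem_toFinset.1 j.2)
  have hmonirr : ∀ a f, f ∈ ms a → f.Monic ∧ Irreducible f := by
    intro a f hf
    rcases hmem a f hf with rfl | h
    · exact ⟨hLmonic, hLirr⟩
    · exact ⟨hΦmonic f h, irreducible_of_normalized_factor f h⟩
  have hnf : ∀ a, normalizedFactors (ms a).prod = ms a := fun a => by
    rw [normalizedFactors_prod_eq _ fun f hf => (hmonirr a f hf).2]
    conv_rhs => rw [← Multiset.map_id (ms a)]
    exact Multiset.map_congr rfl fun f hf => (hmonirr a f hf).1.normalize_eq_self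
  have hcount : ∀ a (j : I), (ms a).count (j : F[X]) = a j := by
    intro a j
    rw [Multiset.count_add, Multiset.count_sum', Multiset.count_replicate, if_neg, zero_add, Finset.sum_eq_single j]
    · rw [Multiset.count_replicate_self]
    · intro k _ hk
      rw [Multiset.count_replicate, if_neg fun h => hk (Subtype.ext h)]
    · simp
    · exact fun h => hLΦ (h ▸ Multiset.mem_toFinset.1 j.2)
  have hdeg : ∀ a, i * (∑ j, a j) ≤ n → (ms a).prod.natDegree = n := by
    intro a ha
    rw [natDegree_multiset_prod_of_monic _ fun f hf => (hmonirr a f hf).1, Multiset.map_add, Multiset.sum_add,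
      Multiset.map_replicate, Multiset.sum_replicate, natDegree_X_sub_C, smul_eq_mul, mul_one]
    have : ((∑ j : I, Multiset.replicate (a j) (j : F[X])).map natDegree).sum = i * ∑ j, a j := by
      rw [← Multiset.coe_mapAddMonoidHom, map_sum, Multiset.sum_sum]
      rw [Finset.mul_sum]
      refine Finset.sum_congr rfl fun j _ => ?_
      rw [Multiset.coe_mapAddMonoidHom, Multiset.map_replicate, Multiset.sum_replicate, smul_eq_mul,
        hΦdeg _ (Multiset.mem_toFinset.1 j.2), mul_comm]
    rw [this]
    omega
  let T := {a : I → ℕ // ∑ j, a j ≤ n / i}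
  have hle : ∀ a : I → ℕ, ∑ j, a j ≤ n / i ↔ i * ∑ j, a j ≤ n := fun a => by
    rw [Nat.le_div_iff_mul_le hi0, mul_comm]
  let zero : T := ⟨0, by simp⟩
  let S := {C : ConjClasses (GL (Fin n) F) // ∃ g : GL (Fin n) F, ConjClasses.mk g = C ∧ orderOf g = r}
  have hcop' : ∀ g : GL (Fin n) F, orderOf g = r → (orderOf g).Coprime p := fun g h => h ▸ hcop.symm
  -- the characteristic polynomial of an element of order dividing `r`
  have hchar : ∀ g : GL (Fin n) F, g ^ r = 1 → ∃ a : T, (g : Matrix (Fin n) (Fin n) F).charpoly = (ms a.1).prod := by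
    intro g hg
    set χ := (g : Matrix (Fin n) (Fin n) F).charpoly
    have hχ : χ.Monic := Matrix.charpoly_monic _
    have hχd : χ.natDegree = n := by rw [Matrix.charpoly_natDegree_eq_dim, Fintype.card_fin]
    have hmfac : ∀ f ∈ normalizedFactors χ, f = L ∨ f ∈ Φ := by
      intro f hf
      have hirr := irreducible_of_normalized_factor f hf
      refine hkey f hirr ?_ ?_
      · rw [← normalize_normalized_factor f hf]
        exact monic_normalize hirr.ne_zero
      · let A := Matrix.toLinAlgEquiv' (R := F) (n := Fin n)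
        have hcp : (A (g : Matrix (Fin n) (Fin n) F)).charpoly = χ := Matrix.charpoly_toLin' _
        refine (SemisimpleClass.dvd_minpoly_of_dvd_charpoly (A (g : Matrix (Fin n) (Fin n) F)) hirr
          (hcp ▸ dvd_of_mem_normalizedFactors hf)).trans (minpoly.dvd F _ ?_)
        rw [map_sub, map_pow, aeval_X, map_one, ← map_pow, ← Units.val_pow_eq_pow_val, hg, Units.val_one, map_one,
          sub_self]
    let a : I → ℕ := fun j => (normalizedFactors χ).count (j : F[X])
    have heq : normalizedFactors χ = Multiset.replicate ((normalizedFactors χ).count L) L +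
        ∑ j : I, Multiset.replicate (a j) (j : F[X]) := by
      ext f
      rw [Multiset.count_add, Multiset.count_sum', Multiset.count_replicate]
      by_cases hfL : f = L
      · subst hfL
        rw [if_pos rfl, Finset.sum_eq_zero, add_zero]
        intro j _
        rw [Multiset.count_replicate, if_neg fun h : (j : F[X]) = L => hLΦ (h ▸ Multiset.mem_toFinset.1 j.2)]
      rw [if_neg (Ne.symm hfL), zero_add]
      by_cases hfΦ : f ∈ Φ
      · rw [Finset.sum_eq_single (⟨f, Multiset.mem_toFinset.2 hfΦ⟩ : I)]
        · rw [Multiset.count_replicate_self]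
        · intro j _ hj
          rw [Multiset.count_replicate, if_neg fun h => hj (Subtype.ext h)]
        · simp
      · rw [Multiset.count_eq_zero_of_notMem fun h => (hmfac f h).elim hfL hfΦ, Finset.sum_eq_zero]
        intro j _
        rw [Multiset.count_replicate, if_neg fun h : (j : F[X]) = f => hfΦ (h ▸ Multiset.mem_toFinset.1 j.2)]
    have hprod : (normalizedFactors χ).prod = χ := by
      rw [prod_normalizedFactors_eq hχ.ne_zero, hχ.normalize_eq_self]
    have hd := congrArg natDegree hprod
    rw [hχd, heq, natDegree_multiset_prod_of_monic, Multiset.map_add, Multiset.sum_add, Multiset.map_replicate,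
      Multiset.sum_replicate, natDegree_X_sub_C, smul_eq_mul, mul_one] at hd
    · have hsum : ((∑ j : I, Multiset.replicate (a j) (j : F[X])).map natDegree).sum = i * ∑ j, a j := by
        rw [← Multiset.coe_mapAddMonoidHom, map_sum, Multiset.sum_sum]
        rw [Finset.mul_sum]
        refine Finset.sum_congr rfl fun j _ => ?_
        rw [Multiset.coe_mapAddMonoidHom, Multiset.map_replicate, Multiset.sum_replicate, smul_eq_mul,
          hΦdeg _ (Multiset.mem_toFinset.1 j.2), mul_comm]
      rw [hsum] at hd
      refine ⟨⟨a, (hle a).2 (by omega)⟩, ?_⟩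
      show χ = _
      conv_lhs => rw [← hprod, heq, show (normalizedFactors χ).count L = n - i * ∑ j, a j by omega]
    · rw [← heq]
      intro f hf
      rcases hmfac f hf with rfl | h
      exacts [hLmonic, hΦmonic f h]
  have hinj : ∀ a b : T, (ms a.1).prod = (ms b.1).prod → a = b := fun a b h => Subtype.ext (funext fun j => by
    rw [← hcount a.1 j, ← hnf a.1, h, hnf b.1, hcount])
  have hone : ((1 : GL (Fin n) F) : Matrix (Fin n) (Fin n) F).charpoly = (ms zero.1).prod := by
    show Matrix.charpoly (1 : Matrix (Fin n) (Fin n) F) = _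
    rw [Matrix.charpoly_one, Fintype.card_fin]
    simp [ms, zero, hL]
  choose rep hrep hrepo using fun C : S => C.2
  choose vec hvec using fun C : S => hchar (rep C) (orderOf_dvd_iff_pow_eq_one.1 (hrepo C ▸ dvd_rfl))
  rw [← hΦcard, ← Fintype.card_coe, ← card_le_sum I (n / i)]
  let e : S ≃ {a : T // ¬ a = zero} := Equiv.ofBijective (fun C => ⟨vec C, fun h => by
      have hc : rep C = 1 := isConj_one_right.1 (SemisimpleClass.isConj_of_charpoly_eq (1 : GL (Fin n) F) (rep C)
        (by simp) (hcop' _ (hrepo C)) (by rw [hone, hvec, h]))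
      exact hr.ne_one ((hrepo C).symm.trans (by rw [hc, orderOf_one]))⟩) ⟨fun C D h => by
      have h' : vec C = vec D := congrArg Subtype.val h
      apply Subtype.ext
      rw [← hrep C, ← hrep D]
      exact ConjClasses.mk_eq_mk_iff_isConj.2 (SemisimpleClass.isConj_of_charpoly_eq _ _
        (hcop' _ (hrepo C)) (hcop' _ (hrepo D)) (by rw [hvec, hvec, h'])), fun ⟨a, ha⟩ => by
      have h0 : ∀ f ∈ ms a.1, f.coeff 0 ≠ 0 := by
        intro f hf h0
        rcases hmem a.1 f hf with rfl | h
        · simp [hL] at h0
        · obtain ⟨c, hc⟩ := hΦdvd f h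
          have := congrArg (fun g => g.coeff 0) hc
          simp [mul_coeff_zero, h0, hr.ne_zero.symm] at this
      obtain ⟨g, hg, hgc⟩ := SemisimpleClass.exists_semisimple (p := p) (ms a.1).prod
        (by simpa using monic_multiset_prod_of_monic (ms a.1) id fun f hf => (hmonirr a.1 f hf).1)
        (hdeg a.1 ((hle a.1).1 a.2)) (by
          rw [coeff_zero_multiset_prod]
          simpa [Multiset.prod_eq_zero_iff] using h0)
      have hgr : g ^ r = 1 := pow_eq_one_of_factors hr.pos g hg fun f hf => by
        rw [hgc, hnf] at hf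
        rcases hmem a.1 f hf with rfl | h
        exacts [hLdvd, hΦdvd f h]
      have hgo : orderOf g = r := orderOf_eq_prime hgr fun h1 => ha (hinj _ _ (by rw [← hgc, ← hone, h1]))
      let C : S := ⟨ConjClasses.mk g, g, rfl, hgo⟩
      refine ⟨C, Subtype.ext (hinj _ _ ?_)⟩
      show (ms (vec C).1).prod = (ms a.1).prod
      obtain ⟨k, hk⟩ := isConj_iff.1 (ConjClasses.mk_eq_mk_iff_isConj.1 (hrep C))
      rw [← hvec, ← hgc, ← hk, Units.val_mul, Units.val_mul, Matrix.charpoly_mul_comm, ← mul_assoc, Units.inv_mul,
        one_mul]⟩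
  haveI : Finite T := Finite.of_injective (fun a : T => fun j => (⟨a.1 j, Nat.lt_succ_of_le
    (le_trans (Finset.single_le_sum (fun _ _ => Nat.zero_le _) (Finset.mem_univ j)) a.2)⟩ : Fin (n / i + 1)))
    fun a b h => Subtype.ext (funext fun j => by simpa using congrFun h j)
  haveI := Fintype.ofFinite T
  rw [Nat.card_congr e, Nat.card_eq_fintype_card, Fintype.card_subtype_compl, Fintype.card_subtype_eq,
    Nat.card_eq_fintype_card]

end CfsgLib.Known.SemisimplePrimeOrder
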