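import Mathlib

/-!
# Nilpotent endomorphisms: cyclic decomposition, rank profile, similarity
-/

set_option autoImplicit false

namespace CfsgLib.Known.Jordan

universe u

variable {F : Type*} [Field F]

/-- The rank of the `k`-th power of a nilpotent endomorphism with block sizes `μ`. -/
def prof (μ : Multiset ℕ) (k : ℕ) : ℕ := (μ.map fun a => a - k).sum

theorem prof_zero_arg (μ : Multiset ℕ) : prof μ 0 = μ.sum := by simp [prof]

theorem prof_cons (a : ℕ) (μ : Multiset ℕ) (k : ℕ) : prof (a ::ₘ μ) k = (a - k) + prof μ k := by simp [prof]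

theorem prof_eq_succ_add (μ : Multiset ℕ) (k : ℕ) :
    prof μ k = prof μ (k + 1) + μ.countP (fun a => k < a) := by
  induction μ using Multiset.induction_on with
  | empty => simp [prof]
  | cons a μ ih =>
    rw [prof_cons, prof_cons, Multiset.countP_cons, ih]
    split_ifs <;> omega

theorem prof_injective {μ ν : Multiset ℕ} (hμ : ∀ a ∈ μ, 0 < a) (hν : ∀ a ∈ ν, 0 < a)
    (h : ∀ k, prof μ k = prof ν k) : μ = ν := by
  have hc : ∀ k, μ.countP (fun a => k < a) = ν.countP (fun a => k < a) := fun k => by
    have h1 := prof_eq_succ_add μ k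
    have h2 := prof_eq_succ_add ν k
    have := h k
    have := h (k + 1)
    omega
  ext a
  rcases Nat.eq_zero_or_pos a with rfl | ha
  · rw [Multiset.count_eq_zero_of_notMem fun h => lt_irrefl 0 (hμ 0 h),
      Multiset.count_eq_zero_of_notMem fun h => lt_irrefl 0 (hν 0 h)]
  have key : ∀ ρ : Multiset ℕ, ρ.countP (fun b => a - 1 < b) = ρ.countP (fun b => a < b) + ρ.count a := by
    intro ρ
    induction ρ using Multiset.induction_on with
    | empty => simp
    | cons b ρ ih =>
      rw [Multiset.countP_cons, Multiset.countP_cons, Multiset.count_cons, ih]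
      split_ifs <;> omega
  have h1 := key μ
  have h2 := key ν
  have := hc (a - 1)
  have := hc a
  omega

/-- The endomorphism shifting coordinates down. -/
def shift (F : Type*) [Field F] (a : ℕ) : Module.End F (Fin a → F) where
  toFun v i := if h : (i : ℕ) + 1 < a then v ⟨(i : ℕ) + 1, h⟩ else 0
  map_add' u v := by funext i; by_cases h : (i : ℕ) + 1 < a <;> simp [h]
  map_smul' c v := by funext i; by_cases h : (i : ℕ) + 1 < a <;> simp [h]

theorem shift_apply (a : ℕ) (v : Fin a → F) (i : Fin a) :
    shift F a v i = if h : (i : ℕ) + 1 < a then v ⟨(i : ℕ) + 1, h⟩ else 0 := rfl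

theorem shift_pow_apply (a k : ℕ) (v : Fin a → F) (i : Fin a) :
    (shift F a ^ k) v i = if h : (i : ℕ) + k < a then v ⟨(i : ℕ) + k, h⟩ else 0 := by
  induction k generalizing v i with
  | zero => simp
  | succ k ih =>
    rw [pow_succ, Module.End.mul_apply, ih]
    by_cases h : (i : ℕ) + (k + 1) < a
    · have h' : (i : ℕ) + k < a := by omega
      rw [dif_pos h', dif_pos h, shift_apply]
      rw [dif_pos (show ((⟨(i : ℕ) + k, h'⟩ : Fin a) : ℕ) + 1 < a by show (i : ℕ) + k + 1 < a; omega)]
      rfl
    · rw [dif_neg h]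
      split_ifs with h'
      · rw [shift_apply, dif_neg (show ¬ ((⟨(i : ℕ) + k, h'⟩ : Fin a) : ℕ) + 1 < a by
          show ¬ (i : ℕ) + k + 1 < a; omega)]
      · rfl

/-- An invariant complement of a longest cyclic summand. -/
theorem exists_split {V : Type*} [AddCommGroup V] [Module F V] [FiniteDimensional F V] (T : Module.End F V) {m : ℕ}
    (hT : T ^ (m + 1) = 0) (hne : T ^ m ≠ 0) :
    ∃ (W : Submodule F V) (hW : ∀ w ∈ W, T w ∈ W) (e : ((Fin (m + 1) → F) × W) ≃ₗ[F] V),
      ∀ z, T (e z) = e (shift F (m + 1) z.1, T.restrict hW z.2) := by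
  classical
  obtain ⟨v, hv⟩ : ∃ v, (T ^ m) v ≠ 0 := by
    by_contra h
    push Not at h
    exact hne (LinearMap.ext h)
  obtain ⟨φ, hφ⟩ : ∃ φ : V →ₗ[F] F, φ ((T ^ m) v) = 1 := by
    obtain ⟨φ, hφ⟩ := Submodule.exists_dual_map_eq_bot_of_notMem
      (show (T ^ m) v ∉ (⊥ : Submodule F V) from fun h => hv ((Submodule.mem_bot F).1 h)) inferInstance
    exact ⟨(φ ((T ^ m) v))⁻¹ • φ, by simp [hφ.1]⟩
  let Φ : V →ₗ[F] (Fin (m + 1) → F) := LinearMap.pi fun i : Fin (m + 1) => φ.comp (T ^ (m - (i : ℕ)) : Module.End F V)
  let W := LinearMap.ker Φ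
  have hmem : ∀ w, w ∈ W ↔ ∀ j ≤ m, φ ((T ^ j) w) = 0 := by
    intro w
    simp only [W, Φ, LinearMap.mem_ker, funext_iff, LinearMap.pi_apply, LinearMap.comp_apply, Pi.zero_apply]
    constructor
    · intro h j hj
      have := h ⟨m - j, by omega⟩
      rwa [show m - ((⟨m - j, by omega⟩ : Fin (m + 1)) : ℕ) = j by show m - (m - j) = j; omega] at this
    · exact fun h i => h _ (by omega)
  have hW : ∀ w ∈ W, T w ∈ W := by
    intro w hw
    rw [hmem] at hw ⊢
    intro j hj
    rw [← Module.End.mul_apply, ← pow_succ]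
    rcases Nat.lt_or_ge j m with h | h
    · exact hw _ h
    · rw [show j + 1 = m + 1 by omega, hT, LinearMap.zero_apply, map_zero]
  let ι : (Fin (m + 1) → F) →ₗ[F] V :=
    ∑ i : Fin (m + 1), (LinearMap.proj i : (Fin (m + 1) → F) →ₗ[F] F).smulRight ((T ^ (m - (i : ℕ))) v)
  have hι : ∀ c, ι c = ∑ i : Fin (m + 1), c i • (T ^ (m - (i : ℕ))) v := fun c => by simp [ι]
  have hzero : ∀ k, m + 1 ≤ k → (T ^ k) v = 0 := fun k hk => by
    obtain ⟨d, rfl⟩ := Nat.exists_eq_add_of_le hk
    rw [pow_add, hT, zero_mul, LinearMap.zero_apply]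
  have hinj : ∀ c, ι c ∈ W → c = 0 := by
    intro c hc
    rw [hmem] at hc
    by_contra hne'
    obtain ⟨i₀, hi₀⟩ := Function.ne_iff.1 hne'
    let S := Finset.univ.filter fun i : Fin (m + 1) => c i ≠ 0
    have hS : S.Nonempty := ⟨i₀, by simpa [S] using hi₀⟩
    let i := S.max' hS
    have hi : c i ≠ 0 := (Finset.mem_filter.1 (S.max'_mem hS)).2
    have h := hc (i : ℕ) (by omega)
    rw [hι, map_sum, map_sum, Finset.sum_eq_single i] at h
    · rw [map_smul, map_smul, ← Module.End.mul_apply, ← pow_add, show (i : ℕ) + (m - (i : ℕ)) = m by omega, hφ,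
        smul_eq_mul, mul_one] at h
      exact hi h
    · intro j _ hji
      rcases lt_or_gt_of_ne hji with h' | h'
      · rw [map_smul, map_smul, ← Module.End.mul_apply, ← pow_add,
          hzero _ (by have := Fin.lt_def.1 h'; omega), map_zero, smul_zero]
      · have : c j = 0 := by
          by_contra hj
          exact absurd (S.le_max' j (by simpa [S] using hj)) (not_le.2 h')
        rw [this, zero_smul, map_zero, map_zero]
    · exact fun h' => absurd (Finset.mem_univ _) h'
  let E : ((Fin (m + 1) → F) × W) →ₗ[F] V := ι.coprod W.subtype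
  have hE : Function.Injective E := by
    rw [injective_iff_map_eq_zero]
    rintro ⟨c, w⟩ h
    simp only [E, LinearMap.coprod_apply, Submodule.subtype_apply] at h
    have hc : c = 0 := hinj c (by rw [eq_neg_of_add_eq_zero_left h]; exact W.neg_mem w.2)
    subst hc
    rw [map_zero, zero_add] at h
    exact Prod.ext rfl (Subtype.ext h)
  have hfin : Module.finrank F ((Fin (m + 1) → F) × W) = Module.finrank F V := by
    have h1 := LinearMap.finrank_le_finrank_of_injective hE
    have h2 := LinearMap.finrank_range_add_finrank_ker Φ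
    have h3 := Submodule.finrank_le (LinearMap.range Φ)
    rw [Module.finrank_prod, Module.finrank_fin_fun] at h1 ⊢
    rw [Module.finrank_fin_fun] at h3
    change _ + Module.finrank F W = _ at h2
    omega
  refine ⟨W, hW, LinearMap.linearEquivOfInjective E hE hfin, fun z => ?_⟩
  show T (ι z.1 + (z.2 : V)) = ι (shift F (m + 1) z.1) + T (z.2 : V)
  rw [map_add, hι, hι, map_sum]
  congr 1
  rw [Fin.sum_univ_succ (fun i : Fin (m + 1) => T (z.1 i • (T ^ (m - (i : ℕ))) v)),
    Fin.sum_univ_castSucc (fun i : Fin (m + 1) => shift F (m + 1) z.1 i • (T ^ (m - (i : ℕ))) v)]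
  have h0 : T (z.1 0 • (T ^ (m - ((0 : Fin (m + 1)) : ℕ))) v) = 0 := by
    rw [map_smul, ← Module.End.mul_apply, ← pow_succ', hzero _ (by simp), smul_zero]
  have hl : shift F (m + 1) z.1 (Fin.last m) • (T ^ (m - ((Fin.last m : Fin (m + 1)) : ℕ))) v = 0 := by
    rw [shift_apply, dif_neg (by simp), zero_smul]
  rw [h0, hl, zero_add, add_zero]
  refine Finset.sum_congr rfl fun i _ => ?_
  rw [map_smul, ← Module.End.mul_apply, ← pow_succ', shift_apply, dif_pos (by simp),
    show m - ((i.succ : Fin (m + 1)) : ℕ) + 1 = m - ((i.castSucc : Fin (m + 1)) : ℕ) by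
      simp only [Fin.val_succ, Fin.val_castSucc]; omega]
  rfl

theorem finrank_range_shift (a k : ℕ) :
    Module.finrank F (LinearMap.range (shift F a ^ k)) = a - k := by
  rcases Nat.lt_or_ge k a with hk | hk
  · let emb : (Fin (a - k) → F) →ₗ[F] (Fin a → F) :=
      { toFun := fun u i => if h : (i : ℕ) < a - k then u ⟨i, h⟩ else 0
        map_add' := fun u u' => by funext i; by_cases h : (i : ℕ) < a - k <;> simp [h]
        map_smul' := fun c u => by funext i; by_cases h : (i : ℕ) < a - k <;> simp [h] }
    have hemb : Function.Injective emb := fun u u' h => funext fun j => by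
      have := congrFun h ⟨j, by omega⟩
      simpa [emb, j.2] using this
    have hr : LinearMap.range (shift F a ^ k) = LinearMap.range emb := by
      apply le_antisymm
      · rintro _ ⟨v, rfl⟩
        refine ⟨fun j => v ⟨(j : ℕ) + k, by omega⟩, funext fun i => ?_⟩
        rw [shift_pow_apply]
        show (if h : (i : ℕ) < a - k then _ else 0) = _
        by_cases h : (i : ℕ) + k < a
        · rw [dif_pos h, dif_pos (show (i : ℕ) < a - k by omega)]
        · rw [dif_neg h, dif_neg (show ¬ (i : ℕ) < a - k by omega)]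
      · rintro _ ⟨u, rfl⟩
        refine ⟨fun i => if h : k ≤ (i : ℕ) then u ⟨(i : ℕ) - k, by omega⟩ else 0, funext fun i => ?_⟩
        rw [shift_pow_apply]
        show _ = (if h : (i : ℕ) < a - k then _ else 0)
        by_cases h : (i : ℕ) + k < a
        · rw [dif_pos h, dif_pos (show (i : ℕ) < a - k by omega), dif_pos (Nat.le_add_left k i)]
          congr 1
          exact Fin.ext (Nat.add_sub_cancel _ _)
        · rw [dif_neg h, dif_neg (show ¬ (i : ℕ) < a - k by omega)]
    rw [hr, LinearMap.finrank_range_of_inj hemb, Module.finrank_fin_fun]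
  · have h0 : shift F a ^ k = 0 := by
      refine LinearMap.ext fun v => funext fun i => ?_
      rw [shift_pow_apply, dif_neg (by omega)]
      rfl
    rw [h0, LinearMap.range_zero, finrank_bot]
    omega

theorem range_pow_of_equiv {V U : Type*} [AddCommGroup V] [Module F V] [AddCommGroup U] [Module F U]
    (T : Module.End F V) (S : Module.End F U) (e : U ≃ₗ[F] V) (h : ∀ z, T (e z) = e (S z)) (k : ℕ) :
    Module.finrank F (LinearMap.range (T ^ k)) = Module.finrank F (LinearMap.range (S ^ k)) := by
  have hk : ∀ k z, (T ^ k) (e z) = e ((S ^ k) z) := by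
    intro k
    induction k with
    | zero => intro z; simp
    | succ k ih => intro z; rw [pow_succ, pow_succ, Module.End.mul_apply, Module.End.mul_apply, h, ih]
  have hr : LinearMap.range (T ^ k) = (LinearMap.range (S ^ k)).map (e : U →ₗ[F] V) := by
    ext y
    constructor
    · rintro ⟨x, rfl⟩
      obtain ⟨z, rfl⟩ := e.surjective x
      exact ⟨_, ⟨z, rfl⟩, (hk k z).symm⟩
    · rintro ⟨_, ⟨z, rfl⟩, rfl⟩
      exact ⟨e z, hk k z⟩
  rw [hr, LinearEquiv.finrank_map_eq]

theorem range_pow_prodMap {V U : Type*} [AddCommGroup V] [Module F V] [FiniteDimensional F V] [AddCommGroup U]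
    [Module F U] [FiniteDimensional F U] (T : Module.End F V) (S : Module.End F U) (k : ℕ) :
    Module.finrank F (LinearMap.range ((T.prodMap S : Module.End F (V × U)) ^ k)) =
      Module.finrank F (LinearMap.range (T ^ k)) + Module.finrank F (LinearMap.range (S ^ k)) := by
  have hk : ∀ k, ((T.prodMap S : Module.End F (V × U)) ^ k) = (T ^ k).prodMap (S ^ k) := by
    intro k
    induction k with
    | zero => rfl
    | succ k ih => rw [pow_succ, pow_succ, pow_succ, ih]; rfl
  rw [hk, LinearMap.range_prodMap]
  have hr : (LinearMap.range (T ^ k)).prod (LinearMap.range (S ^ k)) =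
      LinearMap.range ((LinearMap.range (T ^ k)).subtype.prodMap (LinearMap.range (S ^ k)).subtype) := by
    rw [LinearMap.range_prodMap, Submodule.range_subtype, Submodule.range_subtype]
  rw [hr, LinearMap.finrank_range_of_inj
    (Prod.map_injective.2 ⟨Subtype.val_injective, Subtype.val_injective⟩), Module.finrank_prod]

theorem exists_index {V : Type*} [AddCommGroup V] [Module F V] [FiniteDimensional F V] (T : Module.End F V)
    (hT : IsNilpotent T) (h1 : 0 < Module.finrank F V) : ∃ m, T ^ (m + 1) = 0 ∧ T ^ m ≠ 0 := by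
  classical
  have hex : ∃ k, T ^ k = 0 := hT
  have hpos : Nat.find hex ≠ 0 := by
    intro h0
    have hs := Nat.find_spec hex
    rw [h0, pow_zero] at hs
    haveI : Nontrivial V := Module.nontrivial_of_finrank_pos (R := F) h1
    obtain ⟨v, hv⟩ := exists_ne (0 : V)
    exact hv (LinearMap.congr_fun hs v)
  exact ⟨Nat.find hex - 1, by rw [Nat.sub_add_cancel (Nat.pos_of_ne_zero hpos)]; exact Nat.find_spec hex,
    Nat.find_min hex (by omega)⟩

/-- Block sizes of a nilpotent endomorphism. -/
theorem exists_blocks (n : ℕ) : ∀ {V : Type u} [AddCommGroup V] [Module F V] [FiniteDimensional F V]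
    (T : Module.End F V), IsNilpotent T → Module.finrank F V = n →
    ∃ μ : Multiset ℕ, (∀ a ∈ μ, 0 < a) ∧ μ.sum = n ∧
      ∀ k, Module.finrank F (LinearMap.range (T ^ k)) = prof μ k := by
  induction n using Nat.strong_induction_on with
  | _ n ih =>
    intro V _ _ _ T hT hn
    rcases Nat.eq_zero_or_pos n with h0 | h0
    · refine ⟨0, by simp, by simp [h0], fun k => ?_⟩
      haveI : Subsingleton V := Module.finrank_zero_iff.1 (hn.trans h0)
      rw [show T ^ k = 0 from Subsingleton.elim _ _, LinearMap.range_zero, finrank_bot]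
      simp [prof]
    obtain ⟨m, hm, hm'⟩ := exists_index T hT (hn ▸ h0)
    obtain ⟨W, hW, e, he⟩ := exists_split T hm hm'
    have hWn : (m + 1) + Module.finrank F W = n := by
      rw [← hn, ← e.finrank_eq, Module.finrank_prod, Module.finrank_fin_fun]
    have hWnil : IsNilpotent (T.restrict hW) := ⟨m + 1, by
      refine LinearMap.ext fun w => Subtype.ext ?_
      have : ∀ k (w : W), (((T.restrict hW) ^ k) w : V) = (T ^ k) w := by
        intro k
        induction k with
        | zero => intro w; rfl
        | succ k ihk =>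
          intro w
          rw [pow_succ, pow_succ, Module.End.mul_apply, Module.End.mul_apply, ihk]
          rfl
      rw [this, hm]
      rfl⟩
    obtain ⟨μ, hμ, hμs, hμp⟩ := ih (Module.finrank F W) (by omega) (T.restrict hW) hWnil rfl
    refine ⟨(m + 1) ::ₘ μ, fun a ha => ?_, by rw [Multiset.sum_cons, hμs, hWn], fun k => ?_⟩
    · rcases Multiset.mem_cons.1 ha with rfl | ha
      · omega
      · exact hμ a ha
    · rw [range_pow_of_equiv T ((shift F (m + 1)).prodMap (T.restrict hW)) e he, range_pow_prodMap,
        finrank_range_shift, hμp, prof_cons]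

/-- Every multiset of block sizes occurs. -/
theorem exists_of_blocks (μ : Multiset ℕ) :
    ∃ T : Module.End F (Fin μ.sum → F), IsNilpotent T ∧
      ∀ k, Module.finrank F (LinearMap.range (T ^ k)) = prof μ k := by
  induction μ using Multiset.induction_on with
  | empty =>
    refine ⟨0, IsNilpotent.zero, fun k => ?_⟩
    have h := Submodule.finrank_le (LinearMap.range ((0 : Module.End F (Fin (Multiset.sum (0 : Multiset ℕ)) → F)) ^ k))
    rw [Module.finrank_fin_fun] at h
    simp [prof] at h ⊢
    omega
  | cons a μ ih =>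
    obtain ⟨S, ⟨j, hj⟩, hS⟩ := ih
    let e : ((Fin a → F) × (Fin μ.sum → F)) ≃ₗ[F] (Fin (a ::ₘ μ).sum → F) :=
      LinearEquiv.ofFinrankEq _ _ (by rw [Module.finrank_prod, Module.finrank_fin_fun, Module.finrank_fin_fun,
        Module.finrank_fin_fun, Multiset.sum_cons])
    refine ⟨e.conj ((shift F a).prodMap S), ⟨a + j, ?_⟩, fun k => ?_⟩
    · have hk : ∀ k, ((shift F a).prodMap S : Module.End F _) ^ k = (shift F a ^ k).prodMap (S ^ k) := by
        intro k
        induction k with
        | zero => rfl
        | succ k ih => rw [pow_succ, pow_succ, pow_succ, ih]; rfl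
      have h2 : shift F a ^ (a + j) = 0 := by
        refine LinearMap.ext fun v => funext fun i => ?_
        rw [shift_pow_apply, dif_neg (by omega)]
        rfl
      have h3 : S ^ (a + j) = 0 := by rw [pow_add, hj, mul_zero]
      rw [show e.conj ((shift F a).prodMap S) = e.conjRingEquiv ((shift F a).prodMap S) from rfl, ← map_pow, hk, h2,
        h3, LinearMap.prodMap_zero, map_zero]
    · rw [range_pow_of_equiv _ ((shift F a).prodMap S) e (fun z => by simp [LinearEquiv.conj_apply_apply]),
        range_pow_prodMap, finrank_range_shift, hS, prof_cons]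

/-- Nilpotent endomorphisms with the same rank profile are similar. -/
theorem exists_conj (n : ℕ) : ∀ {V U : Type u} [AddCommGroup V] [Module F V] [FiniteDimensional F V]
    [AddCommGroup U] [Module F U] [FiniteDimensional F U] (T : Module.End F V) (S : Module.End F U),
    IsNilpotent T → IsNilpotent S → Module.finrank F V = n →
    (∀ k, Module.finrank F (LinearMap.range (T ^ k)) = Module.finrank F (LinearMap.range (S ^ k))) →
    ∃ e : V ≃ₗ[F] U, ∀ v, S (e v) = e (T v) := by
  induction n using Nat.strong_induction_on with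
  | _ n ih =>
    intro V U _ _ _ _ _ _ T S hT hS hn h
    have hdim : Module.finrank F V = Module.finrank F U := by
      have h0 := h 0
      rwa [pow_zero, pow_zero, Module.End.one_eq_id, Module.End.one_eq_id, LinearMap.range_id, LinearMap.range_id,
        finrank_top, finrank_top] at h0
    rcases Nat.eq_zero_or_pos n with h0 | h0
    · refine ⟨LinearEquiv.ofFinrankEq V U hdim, fun v => ?_⟩
      haveI : Subsingleton U := Module.finrank_zero_iff.1 (by omega : Module.finrank F U = 0)
      exact Subsingleton.elim _ _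
    obtain ⟨m, hm, hm'⟩ := exists_index T hT (hn ▸ h0)
    have hzero : ∀ k, T ^ k = 0 ↔ S ^ k = 0 := fun k => by
      rw [← LinearMap.range_eq_bot, ← Submodule.finrank_eq_zero, h k, Submodule.finrank_eq_zero,
        LinearMap.range_eq_bot]
    obtain ⟨W, hW, e, he⟩ := exists_split T hm hm'
    obtain ⟨W', hW', e', he'⟩ := exists_split S ((hzero _).1 hm) (fun h' => hm' ((hzero _).2 h'))
    have hWn : (m + 1) + Module.finrank F W = n := by
      rw [← hn, ← e.finrank_eq, Module.finrank_prod, Module.finrank_fin_fun]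
    have hnilW : ∀ {X : Type u} [AddCommGroup X] [Module F X] (R : Module.End F X) (Y : Submodule F X)
        (hY : ∀ w ∈ Y, R w ∈ Y), R ^ (m + 1) = 0 → IsNilpotent (R.restrict hY) := by
      intro X _ _ R Y hY hR
      refine ⟨m + 1, LinearMap.ext fun w => Subtype.ext ?_⟩
      have : ∀ k (w : Y), (((R.restrict hY) ^ k) w : X) = (R ^ k) w := by
        intro k
        induction k with
        | zero => intro w; rfl
        | succ k ihk =>
          intro w
          rw [pow_succ, pow_succ, Module.End.mul_apply, Module.End.mul_apply, ihk]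
          rfl
      rw [this, hR]
      rfl
    obtain ⟨g, hg⟩ := ih (Module.finrank F W) (by omega) (T.restrict hW) (S.restrict hW') (hnilW T W hW hm)
      (hnilW S W' hW' ((hzero _).1 hm)) rfl fun k => by
      have h1 := range_pow_of_equiv T ((shift F (m + 1)).prodMap (T.restrict hW)) e he k
      have h2 := range_pow_of_equiv S ((shift F (m + 1)).prodMap (S.restrict hW')) e' he' k
      rw [range_pow_prodMap] at h1 h2
      have := h k
      omega
    refine ⟨e.symm.trans (((LinearEquiv.refl F _).prodCongr g).trans e'), fun v => ?_⟩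
    obtain ⟨z, rfl⟩ := e.surjective v
    rw [he, LinearEquiv.trans_apply, LinearEquiv.trans_apply, e.symm_apply_apply, LinearEquiv.prodCongr_apply,
      he', LinearEquiv.trans_apply, LinearEquiv.trans_apply, e.symm_apply_apply, LinearEquiv.prodCongr_apply]
    exact congrArg e' (Prod.ext rfl (hg _))

/-- A commuting automorphism of determinant `c ^ (nilpotency index)`. -/
theorem exists_commute_det {V : Type*} [AddCommGroup V] [Module F V] [FiniteDimensional F V] (T : Module.End F V)
    {m : ℕ} (hT : T ^ (m + 1) = 0) (hne : T ^ m ≠ 0) (c : F) :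
    ∃ A : Module.End F V, A * T = T * A ∧ LinearMap.det A = c ^ (m + 1) := by
  obtain ⟨W, hW, e, he⟩ := exists_split T hT hne
  refine ⟨e.conj ((c • LinearMap.id).prodMap LinearMap.id), LinearMap.ext fun v => ?_, ?_⟩
  · obtain ⟨z, rfl⟩ := e.surjective v
    rw [Module.End.mul_apply, Module.End.mul_apply, he]
    simp only [LinearEquiv.conj_apply_apply, LinearEquiv.symm_apply_apply, LinearMap.prodMap_apply, LinearMap.smul_apply,
      LinearMap.id_apply, he, map_smul]
  · rw [show e.conj ((c • LinearMap.id : Module.End F (Fin (m + 1) → F)).prodMap (LinearMap.id : Module.End F W)) =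
        (e : _ →ₗ[F] V) ∘ₗ ((c • LinearMap.id : Module.End F (Fin (m + 1) → F)).prodMap (LinearMap.id : Module.End F W))
          ∘ₗ (e.symm : V →ₗ[F] _) from rfl,
      LinearMap.det_conj, LinearMap.det_prodMap, LinearMap.det_smul, LinearMap.det_id, LinearMap.det_id,
      Module.finrank_fin_fun, mul_one, mul_one]

end CfsgLib.Known.Jordan
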