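import Cfsg.Agent.Lib.Classical.Quad.Sym
import Cfsg.Prelude.Def_Classical

/-!
# Classification of non-degenerate quadratic forms over finite fields (standard forms)
-/

set_option autoImplicit false
set_option linter.unusedSectionVars false

open QuadraticMap CfsgLib.Classical.Quad Cfsg

namespace CfsgLib.Known.QuadClassify

universe u

variable {F : Type*} [Field F]

section general

variable {V : Type*} [AddCommGroup V] [Module F V] [FiniteDimensional F V]

theorem exists_singular [Finite F] (Q : QuadraticForm F V) (h3 : 3 ≤ Module.finrank F V) :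
    ∃ v : V, v ≠ 0 ∧ Q v = 0 := by
  by_cases h2 : (2 : F) = 0
  · haveI : CharP F 2 := CharTwo.of_one_ne_zero_of_two_eq_zero one_ne_zero h2
    exact exists_singular_char_two Q h3
  by_contra hcon
  push Not at hcon
  have : Nontrivial V := Module.nontrivial_of_finrank_pos (R := F) (by omega)
  obtain ⟨v, hv⟩ := exists_ne (0 : V)
  let φ : V →ₗ[F] F := polarBilin Q v
  have hφ : 2 ≤ Module.finrank F (LinearMap.ker φ) := by
    have h1 := LinearMap.finrank_range_add_finrank_ker φ
    have h2' := Submodule.finrank_le (LinearMap.range φ)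
    rw [Module.finrank_self] at h2'
    omega
  haveI : Nontrivial (LinearMap.ker φ) := Module.nontrivial_of_finrank_pos (R := F) (by omega)
  obtain ⟨⟨x, hxk⟩, hx⟩ := exists_ne (0 : LinearMap.ker φ)
  have hx0 : x ≠ 0 := fun h => hx (Subtype.ext h)
  let ψ : LinearMap.ker φ →ₗ[F] F := (polarBilin Q x).comp (LinearMap.ker φ).subtype
  have hψ : 1 ≤ Module.finrank F (LinearMap.ker ψ) := by
    have h1 := LinearMap.finrank_range_add_finrank_ker ψ
    have h2' := Submodule.finrank_le (LinearMap.range ψ)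
    rw [Module.finrank_self] at h2'
    omega
  haveI : Nontrivial (LinearMap.ker ψ) := Module.nontrivial_of_finrank_pos (R := F) (by omega)
  obtain ⟨⟨⟨y, hyk⟩, hyψ⟩, hy⟩ := exists_ne (0 : LinearMap.ker ψ)
  have hy0 : y ≠ 0 := fun h => hy (Subtype.ext (Subtype.ext h))
  obtain ⟨a, b, hab⟩ := exists_sum_two_squares h2 (hcon x hx0) (hcon y hy0) (-(Q v))
  have hvx : polar Q v x = 0 := LinearMap.mem_ker.1 hxk
  have hvy : polar Q v y = 0 := LinearMap.mem_ker.1 hyk
  have hxy : polar Q x y = 0 := LinearMap.mem_ker.1 hyψ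
  refine hcon (v + (a • x + b • y)) (fun h => ?_) ?_
  · have h' := congrArg (fun z => polar Q v z) h
    simp only [polar_add_right', polar_smul_right', polar_self', hvx, hvy, mul_zero, add_zero] at h'
    rw [← polarBilin_apply_apply, map_zero] at h'
    exact hcon v hv ((mul_eq_zero.1 h').resolve_left h2)
  · simp only [apply_add, apply_smul, polar_add_right', polar_smul_right', polar_smul_left', hvx, hvy, hxy,
      mul_zero, add_zero]
    linear_combination hab

/-- A singular vector splits off a hyperbolic plane. -/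
theorem exists_hyperbolic_split (Q : QuadraticForm F V) (hQ : (polarBilin Q).Nondegenerate) {w : V} (hw0 : w ≠ 0)
    (hw : Q w = 0) :
    ∃ (W : Submodule F V) (e : ((F × F) × W) ≃ₗ[F] V),
      (∀ z, Q (e z) = z.1.1 * z.1.2 + Q (z.2 : V)) ∧
      (polarBilin (Q.comp W.subtype)).Nondegenerate ∧ Module.finrank F W + 2 = Module.finrank F V := by
  obtain ⟨w', hw', hpol, -⟩ := exists_singular_partner hQ (U := (⊥ : Submodule F V)) hw
    (fun u hu => by
      rw [Submodule.mem_bot] at hu
      rw [hu, ← polarBilin_apply_apply, map_zero, LinearMap.zero_apply])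
    (by simpa using hw0)
  set φ : V →ₗ[F] F := polarBilin Q w
  set φ' : V →ₗ[F] F := polarBilin Q w'
  have h1 : φ w = 0 := by show polar Q w w = 0; rw [polar_self', hw, mul_zero]
  have h2 : φ w' = 1 := hpol
  have h3 : φ' w = 1 := by show polar Q w' w = 1; rw [QuadraticMap.polar_comm]; exact hpol
  have h4 : φ' w' = 0 := by show polar Q w' w' = 0; rw [polar_self', hw', mul_zero]
  let W : Submodule F V := LinearMap.ker φ ⊓ LinearMap.ker φ'
  have hW : ∀ x : W, polar Q w (x : V) = 0 ∧ polar Q w' (x : V) = 0 := fun x =>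
    ⟨LinearMap.mem_ker.1 x.2.1, LinearMap.mem_ker.1 x.2.2⟩
  have hmem : ∀ v, v - φ' v • w - φ v • w' ∈ W := fun v =>
    ⟨LinearMap.mem_ker.2 (by simp [h1, h2]), LinearMap.mem_ker.2 (by simp [h3, h4])⟩
  let e : ((F × F) × W) ≃ₗ[F] V :=
    { toFun := fun z => z.1.1 • w + z.1.2 • w' + (z.2 : V)
      map_add' := fun z z' => by
        simp only [Prod.fst_add, Prod.snd_add, Submodule.coe_add, add_smul]
        abel
      map_smul' := fun c z => by
        simp only [Prod.smul_fst, Prod.smul_snd, Submodule.coe_smul, smul_eq_mul, RingHom.id_apply, smul_add,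
          mul_smul]
      invFun := fun v => ((φ' v, φ v), ⟨_, hmem v⟩)
      left_inv := by
        rintro ⟨⟨a, b⟩, x⟩
        have e1 : φ (x : V) = 0 := (hW x).1
        have e2 : φ' (x : V) = 0 := (hW x).2
        refine Prod.ext (Prod.ext ?_ ?_) (Subtype.ext ?_)
        · simp [h3, h4, e2]
        · simp [h1, h2, e1]
        · simp [h1, h2, h3, h4, e1, e2]
          abel
      right_inv := fun v => by simp }
  have he : ∀ z, e z = z.1.1 • w + z.1.2 • w' + (z.2 : V) := fun _ => rfl
  refine ⟨W, e, fun z => ?_, ?_, ?_⟩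
  · rw [he]
    simp only [apply_add, apply_smul, polar_add_left', polar_smul_left', polar_smul_right', hw, hw', hpol,
      (hW z.2).1, (hW z.2).2, mul_zero, mul_one, add_zero, zero_add]
    ring
  · have key : ∀ x : W, (∀ y : W, polar Q (x : V) y = 0) → x = 0 := by
      intro x hx
      refine Subtype.ext (hQ.1 (x : V) fun v => ?_)
      obtain ⟨z, rfl⟩ := e.surjective v
      show polar Q (x : V) (e z) = 0
      rw [he, polar_add_right', polar_add_right', polar_smul_right', polar_smul_right', hx,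
        QuadraticMap.polar_comm (⇑Q) (x : V) w, QuadraticMap.polar_comm (⇑Q) (x : V) w', (hW x).1, (hW x).2]
      ring
    have hp : ∀ x y : W, polarBilin (Q.comp W.subtype) x y = polar Q (x : V) y := fun x y => by
      simp [polar]
    exact ⟨fun x hx => key x fun y => (hp x y).symm.trans (hx y),
      fun x hx => key x fun y => by
        rw [QuadraticMap.polar_comm, ← hp]
        exact hx y⟩
  · rw [← e.finrank_eq, Module.finrank_prod, Module.finrank_prod, Module.finrank_self]
    omega

end general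

theorem plus_cons (k : ℕ) (a b : F) (x y : Fin k → F) :
    quadFormPlus (k + 1) F (Sum.elim (Fin.cons a x) (Fin.cons b y)) = a * b + ∑ i, x i * y i := by
  simp only [quadFormPlus, Sum.elim_inl, Sum.elim_inr]
  rw [Fin.sum_univ_succ]
  simp

/-- Add a hyperbolic pair to `Fin k ⊕ Fin k` coordinates. -/
def consEquiv (k : ℕ) : (Fin (k + 1) ⊕ Fin (k + 1) → F) ≃ₗ[F] (F × F) × (Fin k ⊕ Fin k → F) where
  toFun v := ((v (.inl 0), v (.inr 0)), Sum.elim (fun i => v (.inl i.succ)) (fun i => v (.inr i.succ)))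
  map_add' u v := by ext x <;> [rfl; rfl; (rcases x with x | x <;> rfl)]
  map_smul' c v := by ext x <;> [rfl; rfl; (rcases x with x | x <;> rfl)]
  invFun z := Sum.elim (Fin.cons z.1.1 fun i => z.2 (.inl i)) (Fin.cons z.1.2 fun i => z.2 (.inr i))
  left_inv v := by
    funext x
    rcases x with x | x <;> induction x using Fin.cases <;> simp
  right_inv z := by
    ext x
    · simp
    · simp
    · rcases x with x | x <;> simp

theorem consEquiv_plus (k : ℕ) (v : Fin (k + 1) ⊕ Fin (k + 1) → F) :
    quadFormPlus (k + 1) F v = (consEquiv k v).1.1 * (consEquiv k v).1.2 + quadFormPlus k F (consEquiv k v).2 := by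
  simp [quadFormPlus, consEquiv, Fin.sum_univ_succ]

/-- Witt decomposition: hyperbolic pairs and an anisotropic kernel. -/
theorem exists_decomposition (n : ℕ) : ∀ {V : Type u} [AddCommGroup V] [Module F V] [FiniteDimensional F V]
    (Q : QuadraticForm F V), (polarBilin Q).Nondegenerate → Module.finrank F V = n →
    ∃ (k : ℕ) (W : Submodule F V) (e : ((Fin k ⊕ Fin k → F) × W) ≃ₗ[F] V),
      (∀ z, Q (e z) = quadFormPlus k F z.1 + Q (z.2 : V)) ∧ (∀ x : W, Q (x : V) = 0 → x = 0) ∧
      (polarBilin (Q.comp W.subtype)).Nondegenerate ∧ 2 * k + Module.finrank F W = n := by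
  induction n using Nat.strong_induction_on with
  | _ n ih =>
    intro V _ _ _ Q hQ hn
    by_cases hs : ∃ v : V, v ≠ 0 ∧ Q v = 0
    · obtain ⟨w, hw0, hw⟩ := hs
      obtain ⟨W, e, he, hWnd, hWr⟩ := exists_hyperbolic_split Q hQ hw0 hw
      obtain ⟨k, U, f, hf, hU, hUnd, hUr⟩ := ih (Module.finrank F W) (by omega) (Q.comp W.subtype) hWnd rfl
      let U' : Submodule F V := U.map W.subtype
      let g : U ≃ₗ[F] U' := Submodule.equivMapOfInjective W.subtype W.injective_subtype U
      have hg : ∀ x : U, ((g x : U') : V) = ((x : W) : V) := fun x => rfl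
      have hgs : ∀ x : U', (((g.symm x : U) : W) : V) = (x : V) := fun x => by
        rw [← hg, g.apply_symm_apply]
      let e' : ((Fin (k + 1) ⊕ Fin (k + 1) → F) × U') ≃ₗ[F] V :=
        ((consEquiv k).prodCongr g.symm).trans ((LinearEquiv.prodAssoc F (F × F) (Fin k ⊕ Fin k → F) U).trans
          (((LinearEquiv.refl F (F × F)).prodCongr f).trans e))
      refine ⟨k + 1, U', e', fun z => ?_, fun x hx => ?_, ?_, ?_⟩
      · rw [show e' z = e ((consEquiv k z.1).1, f ((consEquiv k z.1).2, g.symm z.2)) from rfl, he]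
        have h5 := hf ((consEquiv k z.1).2, g.symm z.2)
        simp only [QuadraticMap.comp_apply, Submodule.subtype_apply, hgs] at h5
        rw [h5, consEquiv_plus]
        ring
      · have h5 := hU (g.symm x) (by simpa [hgs] using hx)
        have h6 := congrArg g h5
        rwa [g.apply_symm_apply, map_zero] at h6
      · have hp : ∀ x y : U', polarBilin (Q.comp U'.subtype) x y =
            polarBilin ((Q.comp W.subtype).comp U.subtype) (g.symm x) (g.symm y) := fun x y => by
          simp [polar, hgs]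
        exact ⟨fun x hx => g.symm.injective (by
            rw [map_zero]
            exact hUnd.1 _ fun y => by simpa [hp] using hx (g y)),
          fun x hx => g.symm.injective (by
            rw [map_zero]
            exact hUnd.2 _ fun y => by simpa [hp] using hx (g y))⟩
      · rw [← g.finrank_eq]
        omega
    · push Not at hs
      refine ⟨0, ⊤, ?_, ?_, fun x hx => ?_, ?_, ?_⟩
      · exact { toFun := fun z => (z.2 : V), invFun := fun v => (0, ⟨v, trivial⟩),
                map_add' := fun _ _ => rfl, map_smul' := fun _ _ => rfl,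
                left_inv := fun z => Prod.ext (Subsingleton.elim _ _) rfl, right_inv := fun _ => rfl }
      · intro z
        simp [quadFormPlus]
      · by_contra h0
        exact hs x (fun h => h0 (Subtype.ext h)) hx
      · exact ⟨fun x hx => Subtype.ext (hQ.1 _ fun v => by simpa [polar] using hx ⟨v, trivial⟩),
          fun x hx => Subtype.ext (hQ.2 _ fun v => by simpa [polar] using hx ⟨v, trivial⟩)⟩
      · rw [finrank_top]
        omega

theorem two_ne_zero_of_odd_finrank {V : Type*} [AddCommGroup V] [Module F V] [FiniteDimensional F V]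
    (Q : QuadraticForm F V) (hQ : (polarBilin Q).Nondegenerate) (h1 : Module.finrank F V = 1) : (2 : F) ≠ 0 := by
  intro h2
  haveI : Nontrivial V := Module.nontrivial_of_finrank_pos (R := F) (by omega)
  obtain ⟨v, hv⟩ := exists_ne (0 : V)
  refine hv (hQ.1 v fun y => ?_)
  obtain ⟨c, rfl⟩ := (finrank_eq_one_iff_of_nonzero' v hv).1 h1 y
  show polar Q v (c • v) = 0
  rw [polar_smul_right', polar_self', h2]
  ring

/-- An anisotropic plane has a basis `x, y` with `Q x = 1`, `B(x,y) = 1`, `t² + t + Q y` without roots. -/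
theorem exists_aniso_basis [Finite F] {V : Type*} [AddCommGroup V] [Module F V] [FiniteDimensional F V]
    (Q : QuadraticForm F V) (hQ : (polarBilin Q).Nondegenerate) (hn : Module.finrank F V = 2)
    (ha : ∀ x : V, Q x = 0 → x = 0) :
    ∃ (ζ : F) (e : (Fin 2 → F) ≃ₗ[F] V), (∀ t : F, t ^ 2 + t + ζ ≠ 0) ∧
      ∀ z, Q (e z) = z 0 ^ 2 + z 0 * z 1 + ζ * z 1 ^ 2 := by
  haveI : Nontrivial V := Module.nontrivial_of_finrank_pos (R := F) (by omega)
  obtain ⟨v, hv⟩ := exists_ne (0 : V)
  obtain ⟨x, hx⟩ : ∃ x : V, Q x = 1 := by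
    by_cases h2 : (2 : F) = 0
    · haveI : CharP F 2 := CharTwo.of_one_ne_zero_of_two_eq_zero one_ne_zero h2
      obtain ⟨r, hr⟩ := isSquare_of_charTwo' (Q v)
      have hr0 : r ≠ 0 := fun h => hv (ha v (by rw [hr, h, mul_zero]))
      exact ⟨r⁻¹ • v, by rw [apply_smul, hr]; field_simp⟩
    · obtain ⟨z, hz⟩ : ∃ z, z ∈ LinearMap.ker (polarBilin Q v) ∧ z ≠ 0 := by
        by_contra hcon
        push Not at hcon
        have h1 := LinearMap.finrank_range_add_finrank_ker (polarBilin Q v)
        have h3 := Submodule.finrank_le (LinearMap.range (polarBilin Q v))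
        rw [Module.finrank_self] at h3
        rw [(Submodule.eq_bot_iff _).2 hcon, finrank_bot] at h1
        omega
      obtain ⟨a, b, hab⟩ := exists_sum_two_squares h2 (fun h => hv (ha v h)) (fun h => hz.2 (ha z h)) 1
      refine ⟨a • v + b • z, ?_⟩
      have hvz : polar Q v z = 0 := LinearMap.mem_ker.1 hz.1
      rw [apply_add, apply_smul, apply_smul, polar_smul_left', polar_smul_right', hvz]
      linear_combination hab
  have hx0 : x ∉ (⊥ : Submodule F V) := fun h => by
    rw [Submodule.mem_bot] at h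
    rw [h, QuadraticMap.map_zero] at hx
    exact zero_ne_one hx
  obtain ⟨y, hy, -⟩ := exists_sep_polar hQ hx0
  obtain ⟨y', hy', hy'n⟩ : ∃ y' : V, polar Q x y' = 1 ∧ y' ∉ Submodule.span F {x} := by
    by_cases hyn : y ∈ Submodule.span F {x}
    · obtain ⟨z, hz, hz0⟩ : ∃ z, z ∈ LinearMap.ker (polarBilin Q x) ∧ z ≠ 0 := by
        by_contra hcon
        push Not at hcon
        have h1 := LinearMap.finrank_range_add_finrank_ker (polarBilin Q x)
        have h3 := Submodule.finrank_le (LinearMap.range (polarBilin Q x))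
        rw [Module.finrank_self] at h3
        rw [(Submodule.eq_bot_iff _).2 hcon, finrank_bot] at h1
        omega
      have hxz : polar Q x z = 0 := LinearMap.mem_ker.1 hz
      refine ⟨y + z, by rw [polar_add_right', hy, hxz, add_zero], fun h => hz0 ?_⟩
      obtain ⟨c, hc⟩ := Submodule.mem_span_singleton.1 ((Submodule.add_mem_iff_right _ hyn).1 h)
      obtain ⟨d, hd⟩ := Submodule.mem_span_singleton.1 hyn
      rw [← hd, polar_smul_right', polar_self', hx] at hy
      rw [← hc, polar_smul_right', polar_self', hx] at hxz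
      have hc0 : c = 0 := by linear_combination d * hxz - c * hy
      rw [← hc, hc0, zero_smul]
    · exact ⟨y, hy, hyn⟩
  let L : (Fin 2 → F) →ₗ[F] V :=
    (LinearMap.proj (0 : Fin 2) : (Fin 2 → F) →ₗ[F] F).smulRight x +
      (LinearMap.proj (1 : Fin 2) : (Fin 2 → F) →ₗ[F] F).smulRight y'
  have hL : Function.Injective L := by
    rw [injective_iff_map_eq_zero]
    intro z hz
    have hz' : z 0 • x + z 1 • y' = 0 := hz
    have h1 : z 1 = 0 := by
      by_contra h
      refine hy'n (Submodule.mem_span_singleton.2 ⟨-((z 1)⁻¹ * z 0), ?_⟩)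
      have h' := congrArg ((z 1)⁻¹ • ·) hz'
      simp only [smul_add, smul_smul, inv_mul_cancel₀ h, one_smul, smul_zero] at h'
      rw [neg_smul]
      exact (neg_eq_of_add_eq_zero_right h').symm ▸ rfl
    have h0 : z 0 = 0 := by
      rw [h1, zero_smul, add_zero] at hz'
      exact (smul_eq_zero.1 hz').resolve_right fun h => hx0 (by rw [h]; exact Submodule.zero_mem _)
    funext i
    fin_cases i <;> assumption
  let e := LinearMap.linearEquivOfInjective L hL (by rw [Module.finrank_fin_fun, hn])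
  have he : ∀ z : Fin 2 → F, Q (e z) = z 0 ^ 2 + z 0 * z 1 + Q y' * z 1 ^ 2 := by
    intro z
    rw [show e z = z 0 • x + z 1 • y' from rfl, apply_add, apply_smul, apply_smul, polar_smul_left',
      polar_smul_right', hx, hy']
    ring
  refine ⟨Q y', e, fun t ht => ?_, he⟩
  have h1 : Q (e ![t, 1]) = 0 := by
    rw [he]
    simp
    linear_combination ht
  have h2 := congrFun (e.injective ((ha _ h1).trans (map_zero e).symm)) 1
  simp at h2

/-- Classification in even dimension. -/
theorem classify_even [Finite F] {V : Type u} [AddCommGroup V] [Module F V] [FiniteDimensional F V] {m : ℕ}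
    (hV : Module.finrank F V = 2 * m) (Q : QuadraticForm F V) (hQ : (polarBilin Q).Nondegenerate) :
    (∃ e : (Fin m ⊕ Fin m → F) ≃ₗ[F] V, ∀ v, Q (e v) = quadFormPlus m F v) ∨
    (1 ≤ m ∧ ∃ (ζ : F) (e : ((Fin (m - 1) ⊕ Fin (m - 1)) ⊕ Fin 2 → F) ≃ₗ[F] V),
      (∀ t : F, t ^ 2 + t + ζ ≠ 0) ∧ ∀ v, Q (e v) = quadFormMinus (m - 1) F 1 ζ v) := by
  obtain ⟨k, W, f, hf, hW, hWnd, hk⟩ := exists_decomposition _ Q hQ hV
  rcases Nat.lt_or_ge (Module.finrank F W) 3 with h3 | h3
  swap
  · obtain ⟨v, hv0, hv⟩ := exists_singular (Q.comp W.subtype) h3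
    exact absurd (hW v hv) hv0
  rcases Nat.eq_zero_or_pos (Module.finrank F W) with h0 | h0
  · obtain rfl : k = m := by omega
    haveI : Subsingleton W := Module.finrank_zero_iff.1 h0
    refine Or.inl ⟨LinearEquiv.ofBijective (f.toLinearMap.comp (LinearMap.inl F _ W)) ?_, fun v => ?_⟩
    · refine ⟨fun a b h => congrArg Prod.fst (f.injective h), fun y => ?_⟩
      obtain ⟨⟨a, b⟩, rfl⟩ := f.surjective y
      exact ⟨a, congrArg f (Prod.ext rfl (Subsingleton.elim _ _))⟩
    · show Q (f (v, 0)) = _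
      rw [hf]
      simp
  · have h2 : Module.finrank F W = 2 := by omega
    obtain ⟨ζ, g, hζ, hg⟩ := exists_aniso_basis (Q.comp W.subtype) hWnd h2 hW
    obtain rfl : k = m - 1 := by omega
    refine Or.inr ⟨by omega, ζ, (LinearEquiv.sumArrowLequivProdArrow _ _ F F).trans
      (((LinearEquiv.refl F _).prodCongr g).trans f), hζ, fun v => ?_⟩
    show Q (f (v ∘ Sum.inl, g (v ∘ Sum.inr))) = _
    rw [hf, show Q ((g (v ∘ Sum.inr) : W) : V) = _ from hg (v ∘ Sum.inr)]
    simp [quadFormMinus, quadFormPlus]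

/-- Classification in odd dimension. -/
theorem classify_odd [Finite F] {V : Type u} [AddCommGroup V] [Module F V] [FiniteDimensional F V] {m : ℕ}
    (hV : Module.finrank F V = 2 * m + 1) (Q : QuadraticForm F V) (hQ : (polarBilin Q).Nondegenerate) :
    ∃ (c : F) (e : (Unit ⊕ (Fin m ⊕ Fin m) → F) ≃ₗ[F] V), c ≠ 0 ∧
      ∀ v, Q (e v) = c * v (.inl ()) ^ 2 + quadFormPlus m F (v ∘ Sum.inr) := by
  obtain ⟨k, W, f, hf, hW, hWnd, hk⟩ := exists_decomposition _ Q hQ hV
  rcases Nat.lt_or_ge (Module.finrank F W) 3 with h3 | h3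
  swap
  · obtain ⟨v, hv0, hv⟩ := exists_singular (Q.comp W.subtype) h3
    exact absurd (hW v hv) hv0
  have h1 : Module.finrank F W = 1 := by omega
  obtain rfl : k = m := by omega
  haveI : Nontrivial W := Module.nontrivial_of_finrank_pos (R := F) (by omega)
  obtain ⟨x, hx⟩ := exists_ne (0 : W)
  let b : Module.Basis Unit F W := Module.basisUnique Unit h1
  let b' : W ≃ₗ[F] (Unit → F) := b.equivFun
  refine ⟨Q ((b'.symm fun _ => 1 : W) : V), (LinearEquiv.sumArrowLequivProdArrow _ _ F F).trans
    (((b'.symm).prodCongr (LinearEquiv.refl F _)).trans ((LinearEquiv.prodComm F W _).trans f)), ?_, fun v => ?_⟩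
  · intro h
    have h4 := congrArg b' (hW _ h)
    rw [b'.apply_symm_apply, map_zero] at h4
    exact one_ne_zero (congrFun h4 ())
  · show Q (f (v ∘ Sum.inr, b'.symm (v ∘ Sum.inl))) = _
    rw [hf, show (v ∘ Sum.inl : Unit → F) = v (.inl ()) • (fun _ => (1 : F)) from funext fun _ => (mul_one _).symm,
      map_smul, Submodule.coe_smul, apply_smul]
    ring


theorem polar_of_equiv {V : Type*} [AddCommGroup V] [Module F V] {ι : Type*} (Q : QuadraticForm F V)
    (R : (ι → F) → F) (e : (ι → F) ≃ₗ[F] V) (h : ∀ v, Q (e v) = R v) (u v : ι → F) :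
    polar Q (e u) (e v) = R (u + v) - R u - R v := by
  rw [QuadraticMap.polar, ← map_add, h, h, h]

theorem polar_plus (k : ℕ) (u v : Fin k ⊕ Fin k → F) :
    quadFormPlus k F (u + v) - quadFormPlus k F u - quadFormPlus k F v =
      ∑ i, (u (.inl i) * v (.inr i) + v (.inl i) * u (.inr i)) := by
  simp only [quadFormPlus, ← Finset.sum_sub_distrib, Pi.add_apply]
  exact Finset.sum_congr rfl fun i _ => by ring

theorem polar_minus (k : ℕ) (a c : F) (u v : (Fin k ⊕ Fin k) ⊕ Fin 2 → F) :
    quadFormMinus k F a c (u + v) - quadFormMinus k F a c u - quadFormMinus k F a c v =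
      (∑ i, (u (.inl (.inl i)) * v (.inl (.inr i)) + v (.inl (.inl i)) * u (.inl (.inr i)))) +
        (2 * u (.inr 0) * v (.inr 0) + a * (u (.inr 0) * v (.inr 1) + v (.inr 0) * u (.inr 1)) +
          2 * c * u (.inr 1) * v (.inr 1)) := by
  have h := polar_plus k (u ∘ Sum.inl) (v ∘ Sum.inl)
  simp only [quadFormPlus, Pi.add_apply, Function.comp_apply] at h
  simp only [quadFormMinus, Pi.add_apply]
  linear_combination h

/-- The roots-free binary forms are all equivalent. -/
theorem exists_shift [Finite F] {ζ η : F} (hζ : ∀ t : F, t ^ 2 + t + ζ ≠ 0) (hη : ∀ t : F, t ^ 2 + t + η ≠ 0) :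
    ∃ r s : F, r ≠ 0 ∧ 2 * s + r = 1 ∧ s ^ 2 + s * r + ζ * r ^ 2 = η := by
  by_cases h2 : (2 : F) = 0
  · haveI : CharP F 2 := CharTwo.of_one_ne_zero_of_two_eq_zero one_ne_zero h2
    haveI := Fintype.ofFinite F
    classical
    suffices h : ∃ s : F, s ^ 2 + s = η - ζ by
      obtain ⟨s, hs⟩ := h
      exact ⟨1, s, one_ne_zero, by rw [h2]; ring, by linear_combination hs⟩
    let ψ : F →+ F :=
      { toFun := fun t => t ^ 2 + t
        map_zero' := by simp
        map_add' := fun a b => by rw [CharTwo.add_sq]; ring }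
    have hker : Nat.card ψ.ker = 2 := by
      have : (ψ.ker : Set F) = ({0, 1} : Set F) := by
        ext t
        simp only [SetLike.mem_coe, AddMonoidHom.mem_ker, Set.mem_insert_iff, Set.mem_singleton_iff]
        show t ^ 2 + t = 0 ↔ _
        rw [show t ^ 2 + t = t * (t + 1) by ring, mul_eq_zero, CharTwo.add_eq_zero]
      calc Nat.card ψ.ker = (ψ.ker : Set F).ncard := (Nat.card_coe_set_eq _)
        _ = 2 := by rw [this, Set.ncard_pair zero_ne_one]
    have hidx : ψ.range.index = 2 := by
      have h1 := ψ.range.card_mul_index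
      have h3 := Nat.card_congr (QuotientAddGroup.quotientKerEquivRange ψ).toEquiv
      have h4 := AddSubgroup.card_eq_card_quotient_mul_card_addSubgroup ψ.ker
      rw [h3, hker] at h4
      have h5 : 0 < Nat.card ψ.range := Nat.card_pos
      exact Nat.eq_of_mul_eq_mul_left h5 (h1.trans h4)
    have hn : ∀ z : F, (∀ t : F, t ^ 2 + t + z ≠ 0) → z ∉ ψ.range := by
      rintro z hz ⟨t, rfl⟩
      exact hz t (by show t ^ 2 + t + (t ^ 2 + t) = 0; exact CharTwo.add_self_eq_zero _)
    have hmem : η - ζ ∈ ψ.range := by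
      rw [CharTwo.sub_eq_add, AddSubgroup.add_mem_iff_of_index_two hidx]
      exact iff_of_false (hn η hη) (hn ζ hζ)
    obtain ⟨s, hs⟩ := hmem
    exact ⟨s, hs⟩
  · have hsq : ∀ z : F, (∀ t : F, t ^ 2 + t + z ≠ 0) → ¬ IsSquare (1 - 4 * z) := by
      rintro z hz ⟨w, hw⟩
      refine hz ((w - 1) / 2) ?_
      field_simp
      linear_combination -hw
    haveI := Fintype.ofFinite F
    have h2' : ringChar F ≠ 2 := fun h => h2 (by
      haveI : CharP F 2 := ringChar.eq_iff.1 h
      exact CharTwo.two_eq_zero)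
    classical
    have hz0 : (1 - 4 * ζ) ≠ 0 := fun h => hsq ζ hζ (h ▸ IsSquare.zero)
    have he0 : (1 - 4 * η) ≠ 0 := fun h => hsq η hη (h ▸ IsSquare.zero)
    obtain ⟨w, hw⟩ : IsSquare ((1 - 4 * ζ) * (1 - 4 * η)) := by
      rw [← quadraticChar_one_iff_isSquare (mul_ne_zero hz0 he0), map_mul,
        quadraticChar_neg_one_iff_not_isSquare.2 (hsq ζ hζ), quadraticChar_neg_one_iff_not_isSquare.2 (hsq η hη)]
      rfl
    refine ⟨w / (1 - 4 * ζ), (1 - w / (1 - 4 * ζ)) / 2, div_ne_zero ?_ hz0, ?_, ?_⟩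
    · rintro rfl
      exact mul_ne_zero hz0 he0 (by rw [hw]; ring)
    · rw [mul_div_cancel₀ _ h2]; ring
    · field_simp
      linear_combination (1 - 4 * ζ) * hw


/-- Two roots-free parameters give equivalent standard forms, up to a multiplier. -/
theorem minus_equiv [Finite F] (k : ℕ) {ζ η : F} (hζ : ∀ t : F, t ^ 2 + t + ζ ≠ 0)
    (hη : ∀ t : F, t ^ 2 + t + η ≠ 0) :
    ∃ g : ((Fin k ⊕ Fin k) ⊕ Fin 2 → F) ≃ₗ[F] ((Fin k ⊕ Fin k) ⊕ Fin 2 → F),
      ∀ v, quadFormMinus k F 1 ζ (g v) = quadFormMinus k F 1 η v := by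
  obtain ⟨r, s, hr, hrs, hq⟩ := exists_shift hζ hη
  refine ⟨{ toFun := fun v => Sum.elim (v ∘ Sum.inl) ![v (.inr 0) + s * v (.inr 1), r * v (.inr 1)]
            map_add' := fun u v => by
              funext x; rcases x with x | x
              · rfl
              · fin_cases x <;> simp <;> ring
            map_smul' := fun c v => by
              funext x; rcases x with x | x
              · rfl
              · fin_cases x <;> simp <;> ring
            invFun := fun v => Sum.elim (v ∘ Sum.inl) ![v (.inr 0) - s * (r⁻¹ * v (.inr 1)), r⁻¹ * v (.inr 1)]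
            left_inv := fun v => by
              funext x; rcases x with x | x
              · rfl
              · fin_cases x <;> simp [hr]
            right_inv := fun v => by
              funext x; rcases x with x | x
              · rfl
              · fin_cases x <;> simp [hr] }, fun v => ?_⟩
  simp [quadFormMinus]
  linear_combination (v (.inr 0) * v (.inr 1)) * hrs + (v (.inr 1)) ^ 2 * hq

/-- Similitudes of every multiplier in even dimension. -/
theorem similarity_surjective [Finite F] {V : Type u} [AddCommGroup V] [Module F V] [FiniteDimensional F V] {m : ℕ}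
    (hV : Module.finrank F V = 2 * m) (Q : QuadraticForm F V) (hQ : (polarBilin Q).Nondegenerate) (c : F) (hc : c ≠ 0) :
    ∃ g : V ≃ₗ[F] V, ∀ v, Q (g v) = c * Q v := by
  rcases classify_even hV Q hQ with ⟨e, he⟩ | ⟨hm, ζ, e, hζ, he⟩
  · let d : (Fin m ⊕ Fin m → F) ≃ₗ[F] (Fin m ⊕ Fin m → F) :=
      LinearEquiv.piCongrRight fun i => match i with
        | .inl _ => LinearEquiv.smulOfUnit (Units.mk0 c hc)
        | .inr _ => LinearEquiv.refl F F
    refine ⟨e.symm.trans (d.trans e), fun v => ?_⟩
    obtain ⟨w, rfl⟩ := e.surjective v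
    simp only [LinearEquiv.trans_apply, LinearEquiv.symm_apply_apply, he, quadFormPlus, Finset.mul_sum]
    refine Finset.sum_congr rfl fun i _ => ?_
    show (c * w (.inl i)) * w (.inr i) = _
    ring
  · obtain ⟨k, rfl⟩ : ∃ k, m = k + 1 := ⟨m - 1, by omega⟩
    -- the anisotropic binary form represents `c`
    let B : QuadraticForm F (Fin 2 → F) := QuadraticMap.ofPolar (fun z => c * (z 0 ^ 2 + z 0 * z 1 + ζ * z 1 ^ 2))
      (fun a z => by simp; ring)
      (fun a b d => by simp [polar]; ring)
      (fun a b d => by simp [polar]; ring)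
    have hB : (polarBilin B).Nondegenerate := by
      have h4 : (4 : F) * ζ - 1 ≠ 0 := by
        intro h
        by_cases h2 : (2 : F) = 0
        · rw [show (4 : F) = 2 * 2 by norm_num, h2] at h
          simp at h
        · exact hζ (-1 / 2) (by field_simp; linear_combination h)
      have hp : ∀ z y : Fin 2 → F, polarBilin B z y =
          c * ((2 * z 0 + z 1) * y 0 + (z 0 + 2 * ζ * z 1) * y 1) := fun z y => by
        simp [B, polar, ofPolar]; ring
      have key : ∀ z : Fin 2 → F, (∀ y, polarBilin B z y = 0) → z = 0 := by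
        intro z hz
        have e0 := hz ![1, 0]
        have e1 := hz ![0, 1]
        simp only [hp, Matrix.cons_val_zero, Matrix.cons_val_one, mul_one, mul_zero, add_zero, zero_add,
          mul_eq_zero, hc, false_or] at e0 e1
        have a1 : z 1 = 0 := (mul_eq_zero.1 (show (4 * ζ - 1) * z 1 = 0 by
          linear_combination 2 * e1 - e0)).resolve_left h4
        have a0 : z 0 = 0 := by rw [a1] at e1; simpa using e1
        funext i
        fin_cases i <;> assumption
      exact ⟨key, fun z hz => key z fun y => by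
        rw [polarBilin_apply_apply, QuadraticMap.polar_comm, ← polarBilin_apply_apply]; exact hz y⟩
    have hBa : ∀ z, B z = 0 → z = 0 := by
      intro z hz
      have h1 : z 0 ^ 2 + z 0 * z 1 + ζ * z 1 ^ 2 = 0 := (mul_eq_zero.1 hz).resolve_left hc
      have a1 : z 1 = 0 := by
        by_contra h
        exact hζ (z 0 / z 1) (by field_simp; linear_combination h1)
      have a0 : z 0 = 0 := by rw [a1] at h1; simpa using h1
      funext i
      fin_cases i <;> assumption
    obtain ⟨η, f, hη, hf⟩ := exists_aniso_basis B hB (Module.finrank_fin_fun F) hBa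
    obtain ⟨σ, hσ⟩ := minus_equiv k hη hζ
    -- scale the hyperbolic pairs and use `f`
    let d : (Fin k ⊕ Fin k → F) ≃ₗ[F] (Fin k ⊕ Fin k → F) :=
      LinearEquiv.piCongrRight fun i => match i with
        | .inl _ => LinearEquiv.smulOfUnit (Units.mk0 c hc)
        | .inr _ => LinearEquiv.refl F F
    let D : ((Fin k ⊕ Fin k) ⊕ Fin 2 → F) ≃ₗ[F] ((Fin k ⊕ Fin k) ⊕ Fin 2 → F) :=
      (LinearEquiv.sumArrowLequivProdArrow _ _ F F).trans
        ((d.symm.prodCongr f).trans (LinearEquiv.sumArrowLequivProdArrow _ _ F F).symm)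
    have hD : ∀ v, c * quadFormMinus k F 1 ζ (D v) = quadFormMinus k F 1 η v := by
      intro v
      simp only [quadFormMinus, one_mul]
      show c * ((∑ i, (c⁻¹ * v (.inl (.inl i))) * v (.inl (.inr i))) +
        (f (v ∘ Sum.inr) 0 ^ 2 + f (v ∘ Sum.inr) 0 * f (v ∘ Sum.inr) 1 + ζ * f (v ∘ Sum.inr) 1 ^ 2)) = _
      rw [mul_add, Finset.mul_sum]
      refine congrArg₂ (· + ·) (Finset.sum_congr rfl fun i _ => by field_simp) ?_
      exact hf (v ∘ Sum.inr)
    let e' : ((Fin k ⊕ Fin k) ⊕ Fin 2 → F) ≃ₗ[F] V := e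
    have he' : ∀ v, Q (e' v) = quadFormMinus k F 1 ζ v := he
    refine ⟨e'.symm.trans ((σ.trans D).symm.trans e'), fun v => ?_⟩
    obtain ⟨w, rfl⟩ := e'.surjective v
    obtain ⟨u, rfl⟩ := (σ.trans D).surjective w
    rw [LinearEquiv.trans_apply, LinearEquiv.symm_apply_apply, LinearEquiv.trans_apply,
      LinearEquiv.symm_apply_apply, he', he', LinearEquiv.trans_apply, hD, hσ]


section counting

variable [Fintype F]

theorem card_zeros_hyperbolic {X : Type*} [Finite X] (f : X → F) :
    Nat.card {z : (F × F) × X // z.1.1 * z.1.2 + f z.2 = 0} =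
      Fintype.card F * Nat.card {x : X // f x = 0} + (Fintype.card F - 1) * Nat.card X := by
  classical
  haveI := Fintype.ofFinite X
  let e : {z : (F × F) × X // z.1.1 * z.1.2 + f z.2 = 0} ≃ (F × {x : X // f x = 0}) ⊕ ({a : F // a ≠ 0} × X) :=
    { toFun := fun z => if h : z.1.1.1 = 0 then .inl (z.1.1.2, ⟨z.1.2, by simpa [h] using z.2⟩)
        else .inr (⟨z.1.1.1, h⟩, z.1.2)
      invFun := fun y => match y with
        | .inl (b, x) => ⟨((0, b), x.1), by simp [x.2]⟩
        | .inr (a, x) => ⟨((a.1, -f x / a.1), x), by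
            have ha := a.2
            field_simp; ring⟩
      left_inv := fun z => by
        rcases z with ⟨⟨⟨a, b⟩, x⟩, hz⟩
        by_cases h : a = 0
        · subst h
          simp
        · simp only [dif_neg h]
          ext <;> simp
          field_simp
          linear_combination -hz
      right_inv := fun y => by
        rcases y with ⟨b, x⟩ | ⟨a, x⟩
        · simp
        · simp [a.2] }
  rw [Nat.card_congr e, Nat.card_sum, Nat.card_prod, Nat.card_prod,
    Nat.card_eq_fintype_card (α := {a : F // a ≠ 0}), Fintype.card_subtype_compl,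
    Fintype.card_subtype_eq, Nat.card_eq_fintype_card (α := F)]

theorem card_zeros_plus (m : ℕ) :
    Fintype.card F * Nat.card {v : Fin m ⊕ Fin m → F // quadFormPlus m F v = 0} + Fintype.card F ^ m =
      Fintype.card F ^ (2 * m) + Fintype.card F ^ (m + 1) := by
  classical
  induction m with
  | zero =>
    have : Nat.card {v : Fin 0 ⊕ Fin 0 → F // quadFormPlus 0 F v = 0} = 1 :=
      Nat.card_eq_one_iff_unique.2 ⟨inferInstance, ⟨⟨0, by simp [quadFormPlus]⟩⟩⟩
    rw [this]; simp; ring
  | succ k ih =>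
    rw [Nat.card_congr ((consEquiv k).toEquiv.subtypeEquiv
      (q := fun z => z.1.1 * z.1.2 + quadFormPlus k F z.2 = 0) fun v => by rw [consEquiv_plus]; rfl),
      card_zeros_hyperbolic, Nat.card_eq_fintype_card (α := Fin k ⊕ Fin k → F), Fintype.card_fun,
      Fintype.card_sum, Fintype.card_fin]
    obtain ⟨Q, hQ⟩ : ∃ Q, Fintype.card F = Q + 1 :=
      ⟨Fintype.card F - 1, by have := Fintype.card_pos (α := F); omega⟩
    rw [hQ] at ih ⊢
    rw [Nat.add_sub_cancel]
    linear_combination (Q + 1) * ih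

theorem card_zeros_minus (k : ℕ) (a c : F)
    (hac : ∀ z₁ z₂ : F, z₁ ^ 2 + a * z₁ * z₂ + c * z₂ ^ 2 = 0 → z₁ = 0 ∧ z₂ = 0) :
    Fintype.card F * Nat.card {v : (Fin k ⊕ Fin k) ⊕ Fin 2 → F // quadFormMinus k F a c v = 0} +
        Fintype.card F ^ (k + 2) = Fintype.card F ^ (2 * k + 2) + Fintype.card F ^ (k + 1) := by
  classical
  induction k with
  | zero =>
    have : Nat.card {v : (Fin 0 ⊕ Fin 0) ⊕ Fin 2 → F // quadFormMinus 0 F a c v = 0} = 1 := by
      refine Nat.card_eq_one_iff_unique.2 ⟨⟨fun u v => Subtype.ext ?_⟩, ⟨⟨0, by simp [quadFormMinus]⟩⟩⟩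
      have hz : ∀ w : {v : (Fin 0 ⊕ Fin 0) ⊕ Fin 2 → F // quadFormMinus 0 F a c v = 0}, w.1 = 0 := fun w => by
        have h := hac (w.1 (.inr 0)) (w.1 (.inr 1)) (by simpa [quadFormMinus] using w.2)
        funext x
        rcases x with (x | x) | x
        · exact x.elim0
        · exact x.elim0
        · fin_cases x
          · exact h.1
          · exact h.2
      rw [hz u, hz v]
    rw [this]; simp; ring
  | succ k ih =>
    let e : ((Fin (k + 1) ⊕ Fin (k + 1)) ⊕ Fin 2 → F) ≃ (F × F) × ((Fin k ⊕ Fin k) ⊕ Fin 2 → F) :=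
      (((LinearEquiv.sumArrowLequivProdArrow _ _ F F).trans
        ((consEquiv k).prodCongr (LinearEquiv.refl F _))).trans
          ((LinearEquiv.prodAssoc F (F × F) _ _).trans ((LinearEquiv.refl F (F × F)).prodCongr
            (LinearEquiv.sumArrowLequivProdArrow _ _ F F).symm))).toEquiv
    rw [Nat.card_congr (e.subtypeEquiv (q := fun z => z.1.1 * z.1.2 + quadFormMinus k F a c z.2 = 0) fun v => by
        have h : quadFormMinus (k + 1) F a c v = (e v).1.1 * (e v).1.2 + quadFormMinus k F a c (e v).2 := by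
          show _ = v (.inl (.inl 0)) * v (.inl (.inr 0)) +
            ((∑ i : Fin k, v (.inl (.inl i.succ)) * v (.inl (.inr i.succ))) +
              (v (.inr 0) ^ 2 + a * v (.inr 0) * v (.inr 1) + c * v (.inr 1) ^ 2))
          rw [quadFormMinus, Fin.sum_univ_succ]
          ring
        rw [h]),
      card_zeros_hyperbolic, Nat.card_eq_fintype_card (α := (Fin k ⊕ Fin k) ⊕ Fin 2 → F), Fintype.card_fun,
      Fintype.card_sum, Fintype.card_sum, Fintype.card_fin, Fintype.card_fin]
    obtain ⟨Q, hQ⟩ : ∃ Q, Fintype.card F = Q + 1 :=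
      ⟨Fintype.card F - 1, by have := Fintype.card_pos (α := F); omega⟩
    rw [hQ] at ih ⊢
    rw [Nat.add_sub_cancel]
    linear_combination (Q + 1) * ih

theorem aniso_of_no_root {ζ : F} (hζ : ∀ t : F, t ^ 2 + t + ζ ≠ 0) (z₁ z₂ : F)
    (h : z₁ ^ 2 + 1 * z₁ * z₂ + ζ * z₂ ^ 2 = 0) : z₁ = 0 ∧ z₂ = 0 := by
  have a1 : z₂ = 0 := by
    by_contra hz
    exact hζ (z₁ / z₂) (by field_simp; linear_combination h)
  subst a1
  exact ⟨by simpa using h, rfl⟩

/-- The two even-dimensional types differ. -/
theorem not_isometric {m : ℕ} (hm : 1 ≤ m) (a c : F)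
    (hac : ∀ z₁ z₂ : F, z₁ ^ 2 + a * z₁ * z₂ + c * z₂ ^ 2 = 0 → z₁ = 0 ∧ z₂ = 0)
    (g : (Fin m ⊕ Fin m → F) ≃ ((Fin (m - 1) ⊕ Fin (m - 1)) ⊕ Fin 2 → F)) :
    ¬ ∀ v, quadFormMinus (m - 1) F a c (g v) = quadFormPlus m F v := by
  intro h
  obtain ⟨k, rfl⟩ : ∃ k, m = k + 1 := ⟨m - 1, by omega⟩
  have h1 := card_zeros_plus (F := F) (k + 1)
  have h2 := card_zeros_minus k a c hac
  rw [Nat.card_congr (g.subtypeEquiv (p := fun v => quadFormPlus (k + 1) F v = 0)
    (q := fun v => quadFormMinus (k + 1 - 1) F a c v = 0) fun v => by rw [h]), Nat.add_sub_cancel] at h1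
  have h3 : Fintype.card F ^ (k + 1) < Fintype.card F ^ (k + 2) :=
    Nat.pow_lt_pow_right Fintype.one_lt_card (by omega)
  simp only [show 2 * (k + 1) = 2 * k + 2 by ring, show k + 1 + 1 = k + 2 by ring] at h1
  omega

end counting

section discriminant

theorem gram_eq {V : Type*} [AddCommGroup V] [Module F V] {ι : Type*} [Fintype ι] [DecidableEq ι]
    (Q : QuadraticForm F V) (b : Module.Basis ι F V) :
    Matrix.of (fun i j : ι => QuadraticMap.polar Q (b i) (b j)) =
      LinearMap.BilinForm.toMatrix b (polarBilin Q) := by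
  ext i j
  rw [LinearMap.BilinForm.toMatrix_apply]
  rfl

theorem gram_det_isSquare_iff {V : Type*} [AddCommGroup V] [Module F V] [FiniteDimensional F V]
    {ι κ : Type*} [Fintype ι] [DecidableEq ι] [Fintype κ] [DecidableEq κ]
    (Q : QuadraticForm F V) (b : Module.Basis ι F V) (b' : Module.Basis κ F V) :
    IsSquare (Matrix.of (fun i j : ι => QuadraticMap.polar Q (b i) (b j))).det ↔
      IsSquare (Matrix.of (fun i j : κ => QuadraticMap.polar Q (b' i) (b' j))).det := by
  classical
  let e : ι ≃ κ := b.indexEquiv b'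
  let b'' := b'.reindex e.symm
  have hb : (Matrix.of (fun i j : κ => QuadraticMap.polar Q (b' i) (b' j))).det =
      (Matrix.of (fun i j : ι => QuadraticMap.polar Q (b'' i) (b'' j))).det := by
    rw [← Matrix.det_submatrix_equiv_self e (Matrix.of (fun i j : κ => QuadraticMap.polar Q (b' i) (b' j)))]
    congr 1
    ext i j
    simp [b'']
  rw [hb, gram_eq, gram_eq, det_gram_of_isometry b b'' (polarBilin Q) (polarBilin Q) (LinearEquiv.refl F V)
    fun _ _ => rfl]
  have hD : (LinearMap.toMatrix b b'' ((LinearEquiv.refl F V : V ≃ₗ[F] V) : V →ₗ[F] V)).det ≠ 0 :=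
    ((LinearEquiv.refl F V).isUnit_det b b'').ne_zero
  constructor
  · rintro ⟨w, hw⟩
    refine ⟨w / (LinearMap.toMatrix b b'' ((LinearEquiv.refl F V : V ≃ₗ[F] V) : V →ₗ[F] V)).det, ?_⟩
    field_simp
    linear_combination hw
  · rintro ⟨w, hw⟩
    refine ⟨w * (LinearMap.toMatrix b b'' ((LinearEquiv.refl F V : V ≃ₗ[F] V) : V →ₗ[F] V)).det, ?_⟩
    rw [hw]
    ring

theorem isSquare_neg_one_pow [Fintype F] {q : ℕ} (hF : Fintype.card F = q) (hq : Odd q) (m : ℕ) :
    IsSquare ((-1 : F) ^ m) ↔ Even (m * (q - 1) / 2) := by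
  obtain ⟨h, rfl⟩ := hq
  have h2 : ringChar F ≠ 2 := fun h' => by
    have := FiniteField.even_card_iff_char_two.1 h'
    omega
  have hh : m * (2 * h + 1 - 1) / 2 = m * h := by
    rw [Nat.add_sub_cancel, show m * (2 * h) = 2 * (m * h) by ring, Nat.mul_div_cancel_left _ two_pos]
  rw [FiniteField.isSquare_iff h2 (pow_ne_zero _ (neg_ne_zero.2 one_ne_zero)), hF, ← pow_mul, hh,
    show (2 * h + 1) / 2 = h by omega, neg_one_pow_eq_one_iff_even]
  exact fun h' => h2 (ringChar.eq_iff.2 (CharTwo.of_one_ne_zero_of_two_eq_zero one_ne_zero (by linear_combination -h')))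

theorem det_pairs (m : ℕ) :
    (Matrix.fromBlocks (0 : Matrix (Fin m) (Fin m) F) (1 : Matrix (Fin m) (Fin m) F)
      (1 : Matrix (Fin m) (Fin m) F) (0 : Matrix (Fin m) (Fin m) F)).det = (-1 : F) ^ m := by
  have h : Matrix.fromBlocks (0 : Matrix (Fin m) (Fin m) F) (1 : Matrix (Fin m) (Fin m) F)
      (1 : Matrix (Fin m) (Fin m) F) (0 : Matrix (Fin m) (Fin m) F) *
      Matrix.fromBlocks (1 : Matrix (Fin m) (Fin m) F) (0 : Matrix (Fin m) (Fin m) F) (1 : Matrix (Fin m) (Fin m) F) (1 : Matrix (Fin m) (Fin m) F) =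
        Matrix.fromBlocks (1 : Matrix (Fin m) (Fin m) F) (1 : Matrix (Fin m) (Fin m) F) (1 : Matrix (Fin m) (Fin m) F) (0 : Matrix (Fin m) (Fin m) F) := by
    rw [Matrix.fromBlocks_multiply]; simp
  have h' := congrArg Matrix.det h
  rw [Matrix.det_mul, Matrix.det_fromBlocks_zero₁₂, Matrix.det_fromBlocks_one₁₁] at h'
  simpa [Matrix.det_neg] using h'

end discriminant

end CfsgLib.Known.QuadClassify
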