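import Mathlib

/-!
# Orders of elements of general linear groups over finite fields
-/

set_option autoImplicit false

namespace CfsgLib.Known.GLOrders

open Polynomial

variable {F : Type*} [Field F] [Fintype F]

/-- A prime power order prime to the characteristic divides some `q ^ d - 1` with `d ≤ n`. -/
theorem primePow_dvd_card_pow_sub_one {p : ℕ} [CharP F p] {n : ℕ} (hn : 1 ≤ n)
    (g : GL (Fin n) F) {r a : ℕ} (hr : r.Prime) (hrp : ¬ p ∣ r) (hg : orderOf g = r ^ a) :
    ∃ d, 1 ≤ d ∧ d ≤ n ∧ r ^ a ∣ Fintype.card F ^ d - 1 := by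
  classical
  rcases Nat.eq_zero_or_pos a with rfl | ha
  · exact ⟨1, le_rfl, hn, by simp⟩
  obtain ⟨b, rfl⟩ := Nat.exists_eq_add_of_le ha
  set M : Matrix (Fin n) (Fin n) F := (g : Matrix (Fin n) (Fin n) F)
  set P := minpoly F M with hP
  have hint : IsIntegral F M := Matrix.isIntegral M
  have hM : M ^ r ^ (1 + b) = 1 := by
    rw [← Units.val_pow_eq_pow_val, ← hg, pow_orderOf_eq_one, Units.val_one]
  have hnd : ¬ p ∣ r ^ (1 + b) := by
    rcases CharP.char_is_prime_or_zero F p with hp | hp
    · exact fun h => hrp (hp.dvd_of_dvd_pow h)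
    · subst hp
      simpa using hr.ne_zero
  have hsep : (X ^ r ^ (1 + b) - 1 : F[X]).Separable := by
    rw [X_pow_sub_one_separable_iff, Ne, CharP.cast_eq_zero_iff F p]
    exact hnd
  have hPdvd : P ∣ X ^ r ^ (1 + b) - 1 := minpoly.dvd F M (by simp [hM])
  have hPsq : Squarefree P := (hsep.of_dvd hPdvd).squarefree
  have hP0 : P ≠ 0 := minpoly.ne_zero hint
  have hdeg : P.natDegree ≤ n := by
    have := natDegree_le_of_dvd (Matrix.minpoly_dvd_charpoly M) (Matrix.charpoly_monic M).ne_zero
    rwa [Matrix.charpoly_natDegree_eq_dim, Fintype.card_fin] at this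
  obtain ⟨f, hf, hfP, hfQ⟩ : ∃ f : F[X], Irreducible f ∧ f ∣ P ∧ ¬ f ∣ X ^ r ^ b - 1 := by
    by_contra hcon
    push Not at hcon
    have hdvd : P ∣ X ^ r ^ b - 1 := by
      have hnod :=
        (UniqueFactorizationMonoid.squarefree_iff_nodup_normalizedFactors hP0).1 hPsq
      have hQ0 : (X ^ r ^ b - 1 : F[X]) ≠ 0 := by
        simpa using X_pow_sub_C_ne_zero (pow_pos hr.pos b) (1 : F)
      rw [UniqueFactorizationMonoid.dvd_iff_normalizedFactors_le_normalizedFactors hP0 hQ0,
        Multiset.le_iff_subset hnod]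
      intro f hf
      have hirr := UniqueFactorizationMonoid.irreducible_of_normalized_factor f hf
      obtain ⟨q, hq, hfq⟩ := UniqueFactorizationMonoid.exists_mem_normalizedFactors_of_dvd hQ0 hirr
        (hcon f hirr (UniqueFactorizationMonoid.dvd_of_mem_normalizedFactors hf))
      have h := normalize_eq_normalize hfq.dvd hfq.dvd'
      rw [UniqueFactorizationMonoid.normalize_normalized_factor f hf,
        UniqueFactorizationMonoid.normalize_normalized_factor q hq] at h
      exact h ▸ hq
    obtain ⟨c, hc⟩ := hdvd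
    have h1 : M ^ r ^ b = 1 := by
      have := congrArg (aeval M) hc
      simp only [map_sub, map_pow, aeval_X, map_one, map_mul, hP, minpoly.aeval, zero_mul] at this
      exact sub_eq_zero.1 this
    have h2 : g ^ r ^ b = 1 := Units.ext (by simpa using h1)
    have h3 := orderOf_dvd_of_pow_eq_one h2
    rw [hg, Nat.pow_dvd_pow_iff_le_right hr.one_lt] at h3
    omega
  haveI : Fact (Irreducible f) := ⟨hf⟩
  haveI : FiniteDimensional F (AdjoinRoot f) := (AdjoinRoot.powerBasis hf.ne_zero).finite
  haveI : Finite (AdjoinRoot f) := Module.finite_of_finite F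
  haveI : Fintype (AdjoinRoot f) := Fintype.ofFinite _
  have hcard : Fintype.card (AdjoinRoot f) = Fintype.card F ^ f.natDegree := by
    rw [Module.card_eq_pow_finrank (K := F), (AdjoinRoot.powerBasis hf.ne_zero).finrank]
    simp
  refine ⟨f.natDegree, hf.natDegree_pos, (natDegree_le_of_dvd hfP hP0).trans hdeg, ?_⟩
  set x := AdjoinRoot.root f
  have hx : x ^ r ^ (1 + b) = 1 := by
    have h : AdjoinRoot.mk f (X ^ r ^ (1 + b) - 1) = 0 :=
      AdjoinRoot.mk_eq_zero.2 (hfP.trans hPdvd)
    simpa [sub_eq_zero] using h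
  have hx' : ¬ x ^ r ^ b = 1 := by
    intro h
    apply hfQ
    rw [← AdjoinRoot.mk_eq_zero]
    simp [x] at h ⊢
    simp [h]
  haveI : Fact r.Prime := ⟨hr⟩
  have hord : orderOf x = r ^ (b + 1) := orderOf_eq_prime_pow hx' (by rw [add_comm]; exact hx)
  have hx0 : x ≠ 0 := by
    intro h
    rw [h, zero_pow (pow_ne_zero _ hr.ne_zero)] at hx
    exact zero_ne_one hx
  rw [add_comm, ← hord, ← hcard]
  exact orderOf_dvd_of_pow_eq_one (FiniteField.pow_card_sub_one_eq_one x hx0)

/-- The order of a `p`-element of `GL n F` in characteristic `p` is at most `p ^ clog p n`. -/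
theorem char_pow_dvd {p : ℕ} [hp : Fact p.Prime] [CharP F p] {n : ℕ}
    (g : GL (Fin n) F) {a : ℕ} (hg : orderOf g ∣ p ^ a) : orderOf g ∣ p ^ Nat.clog p n := by
  set M : Matrix (Fin n) (Fin n) F := (g : Matrix (Fin n) (Fin n) F)
  have hM : M ^ p ^ a = 1 := by
    rw [← Units.val_pow_eq_pow_val, orderOf_dvd_iff_pow_eq_one.1 hg, Units.val_one]
  have hdvd : minpoly F M ∣ (X - C 1) ^ p ^ a := by
    apply minpoly.dvd
    rw [sub_pow_char_pow]
    simp [hM]
  obtain ⟨j, hj, hassoc⟩ := (dvd_prime_pow (prime_X_sub_C (1 : F)) _).1 hdvd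
  have hjn : j ≤ n := by
    have := natDegree_le_of_dvd (Matrix.minpoly_dvd_charpoly M) (Matrix.charpoly_monic M).ne_zero
    rw [Matrix.charpoly_natDegree_eq_dim, Fintype.card_fin] at this
    have h2 := natDegree_eq_of_degree_eq (degree_eq_degree_of_associated hassoc)
    rw [natDegree_pow, natDegree_X_sub_C, mul_one] at h2
    omega
  apply orderOf_dvd_of_pow_eq_one
  apply Units.ext
  rw [Units.val_pow_eq_pow_val, Units.val_one]
  have : minpoly F M ∣ (X - C 1) ^ p ^ Nat.clog p n :=
    hassoc.dvd.trans (pow_dvd_pow _ (hjn.trans (Nat.le_pow_clog hp.out.one_lt n)))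
  obtain ⟨c, hc⟩ := this
  have h := congrArg (aeval M) hc
  rw [sub_pow_char_pow] at h
  simpa [sub_eq_zero, minpoly.aeval] using h

/-- `GL n F` contains the units of any endomorphism algebra of an `n`-dimensional space. -/
theorem exists_orderOf_eq_of_linear {n : ℕ} {V : Type*} [AddCommGroup V] [Module F V]
    [FiniteDimensional F V] (hV : Module.finrank F V = n) (u : (Module.End F V)ˣ) :
    ∃ g : GL (Fin n) F, orderOf g = orderOf u := by
  let e : V ≃ₗ[F] (Fin n → F) := LinearEquiv.ofFinrankEq V (Fin n → F) (by simp [hV])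
  let A : Module.End F V ≃ₐ[F] Matrix (Fin n) (Fin n) F :=
    (e.conjAlgEquiv F).trans LinearMap.toMatrixAlgEquiv'
  refine ⟨Units.mapEquiv A.toRingEquiv.toMulEquiv u, ?_⟩
  exact orderOf_injective (Units.mapEquiv A.toRingEquiv.toMulEquiv).toMonoidHom
    (Units.mapEquiv A.toRingEquiv.toMulEquiv).injective u

/-- For `d ≤ n`, every divisor of `q ^ d - 1` is an element order of `GL n F`. -/
theorem exists_orderOf_eq_of_dvd {n d m : ℕ} (hd : 1 ≤ d) (hdn : d ≤ n)
    (hm : m ∣ Fintype.card F ^ d - 1) : ∃ g : GL (Fin n) F, orderOf g = m := by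
  classical
  obtain ⟨p, hc⟩ := CharP.exists F
  haveI := hc
  obtain ⟨a, hp, hq⟩ := FiniteField.card F p
  haveI : Fact p.Prime := ⟨hp⟩
  haveI : NeZero d := ⟨by omega⟩
  let K := FiniteField.Extension F p d
  haveI : Finite K := Module.finite_of_finite F
  haveI : Fintype K := Fintype.ofFinite K
  have hK : Fintype.card K = Fintype.card F ^ d := by
    rw [← Nat.card_eq_fintype_card, ← Nat.card_eq_fintype_card]
    exact FiniteField.natCard_extension F p d
  obtain ⟨z, hz⟩ := IsCyclic.exists_ofOrder_eq_natCard (α := Kˣ)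
  rw [Nat.card_eq_fintype_card, Fintype.card_units, hK] at hz
  obtain ⟨c, hc⟩ := hm
  have hpos : 0 < Fintype.card F ^ d - 1 := by
    have : 1 < Fintype.card F ^ d := Nat.one_lt_pow (by omega) Fintype.one_lt_card
    omega
  have hzc : orderOf (z ^ c) = m := by
    have hc0 : c ≠ 0 := by rintro rfl; simp [hc] at hpos
    rw [orderOf_pow' _ hc0, hz, hc, Nat.gcd_eq_right (Dvd.intro_left m rfl),
      Nat.mul_div_cancel _ (Nat.pos_of_ne_zero hc0)]
  let φ : K →* Module.End F (K × (Fin (n - d) → F)) :=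
    { toFun := fun x => (LinearMap.mulLeft F x).prodMap LinearMap.id
      map_one' := by ext <;> simp
      map_mul' := fun x y => by ext <;> simp }
  have hinj : Function.Injective (Units.map φ) := by
    intro x y h
    have h1 := congrArg (fun T : (Module.End F (K × (Fin (n - d) → F)))ˣ =>
      ((T : Module.End F (K × (Fin (n - d) → F))) ((1 : K), (0 : Fin (n - d) → F))).1) h
    simp [φ] at h1
    exact Units.ext h1
  obtain ⟨g, hg⟩ := exists_orderOf_eq_of_linear (n := n)
    (by rw [Module.finrank_prod, FiniteField.finrank_extension, Module.finrank_fin_fun]; omega)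
    (Units.map φ (z ^ c))
  exact ⟨g, by rw [hg, orderOf_injective _ hinj, hzc]⟩

/-- The shift matrix with ones just above the diagonal. -/
def shift (n : ℕ) : Matrix (Fin n) (Fin n) F :=
  Matrix.of fun i j => if j.val = i.val + 1 then 1 else 0

omit [Fintype F] in
theorem shift_pow_apply (n k : ℕ) (i j : Fin n) :
    ((shift n : Matrix (Fin n) (Fin n) F) ^ k) i j = if j.val = i.val + k then 1 else 0 := by
  induction k generalizing j with
  | zero => simp [Matrix.one_apply, Fin.ext_iff, eq_comm]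
  | succ k ih =>
    rw [pow_succ, Matrix.mul_apply]
    by_cases h : i.val + k < n
    · rw [Finset.sum_eq_single (⟨i.val + k, h⟩ : Fin n)]
      · rw [ih]; simp [shift, add_assoc]
      · intro b _ hb
        rw [ih, if_neg (fun h' => hb (Fin.ext h')), zero_mul]
      · simp
    · rw [Finset.sum_eq_zero, if_neg (by have := j.isLt; omega)]
      intro b _
      rw [ih, if_neg (by have := b.isLt; omega), zero_mul]

/-- The regular unipotent has order `p ^ clog p n`. -/
theorem exists_orderOf_eq_char_pow {p : ℕ} [hp : Fact p.Prime] [CharP F p] (n : ℕ) :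
    ∃ g : GL (Fin n) F, orderOf g = p ^ Nat.clog p n := by
  rcases Nat.lt_or_ge n 2 with hn | hn
  · exact ⟨1, by rw [orderOf_one, Nat.clog_of_right_le_one (by omega)]; simp⟩
  haveI : Nonempty (Fin n) := ⟨⟨0, by omega⟩⟩
  haveI : CharP (Matrix (Fin n) (Fin n) F) p :=
    charP_of_injective_algebraMap' F p
  have hpow : ∀ k : ℕ, (1 + shift n : Matrix (Fin n) (Fin n) F) ^ p ^ k = 1 + shift n ^ p ^ k :=
    fun k => by rw [add_pow_char_pow_of_commute _ _ (Commute.one_left _), one_pow]
  obtain ⟨c, hc⟩ := Nat.exists_eq_add_of_le (Nat.clog_pos hp.out.one_lt hn)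
  have hT : (1 + shift n : Matrix (Fin n) (Fin n) F) ^ p ^ Nat.clog p n = 1 := by
    rw [hpow, add_eq_left]
    ext i j
    rw [shift_pow_apply, if_neg, Matrix.zero_apply]
    have := Nat.le_pow_clog hp.out.one_lt n
    have := j.isLt
    omega
  have hpos : p ^ Nat.clog p n ≠ 0 := pow_ne_zero _ hp.out.ne_zero
  refine ⟨Units.ofPowEqOne _ _ hT hpos, ?_⟩
  rw [← orderOf_units, Units.val_ofPowEqOne, hc, add_comm 1 c]
  refine orderOf_eq_prime_pow ?_ (by rw [add_comm c 1, ← hc]; exact hT)
  rw [hpow, add_eq_left]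
  intro h
  have hlt : p ^ c < n := by
    have h2 := Nat.pow_pred_clog_lt_self hp.out.one_lt hn
    rwa [show (Nat.clog p n).pred = c by rw [hc]; simp [Nat.add_comm]] at h2
  have := congrFun (congrFun h (⟨0, by omega⟩ : Fin n)) (⟨p ^ c, hlt⟩ : Fin n)
  rw [shift_pow_apply] at this
  simp at this

end CfsgLib.Known.GLOrders
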