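import Mathlib
import Cfsg.Prelude.Def_ClassicalGeometry

/-!
# Transvections in `GL n F`
-/

set_option autoImplicit false

open Matrix

namespace CfsgLib.Known.Transvections

variable {F : Type*} [Field F] {n : ℕ}

theorem det_one_add_vecMulVec' (a φ : Fin n → F) : (1 + vecMulVec a φ).det = 1 + φ ⬝ᵥ a := by
  rw [vecMulVec_eq Unit, Matrix.det_one_add_replicateCol_mul_replicateRow]

/-- An invertible matrix with a prescribed column. -/
theorem exists_col (i : Fin n) {a : Fin n → F} (ha : a ≠ 0) :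
    ∃ P : Matrix (Fin n) (Fin n) F, P.det ≠ 0 ∧ P *ᵥ Pi.single i 1 = a := by
  classical
  obtain ⟨j, hj⟩ := Function.ne_iff.1 ha
  refine ⟨(1 + vecMulVec (a - Pi.single j 1) (Pi.single j 1)).submatrix id (Equiv.swap i j), ?_, ?_⟩
  · rw [Matrix.det_permute', det_one_add_vecMulVec', single_dotProduct]
    refine mul_ne_zero ?_ ?_
    · rcases Int.units_eq_one_or (Equiv.Perm.sign (Equiv.swap i j)) with h | h <;> simp [h]
    · simpa using hj
  · funext k
    rw [Matrix.mulVec_single_one]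
    simp [Matrix.vecMulVec_apply, Matrix.one_apply, Pi.single_apply]

/-- An invertible matrix with a prescribed row. -/
theorem exists_row (i : Fin n) {φ : Fin n → F} (hφ : φ ≠ 0) (k : Fin n) (hk : φ k = 0) (hki : k ≠ i) :
    ∃ R : Matrix (Fin n) (Fin n) F, R.det ≠ 0 ∧ Pi.single i 1 ᵥ* R = φ ∧
      R *ᵥ Pi.single k 1 = Pi.single k 1 := by
  classical
  obtain ⟨j, hj⟩ := Function.ne_iff.1 hφ
  have hkj : k ≠ j := fun h => hj (by rw [← h, hk]; rfl)
  refine ⟨(1 + vecMulVec (Pi.single j 1) (φ - Pi.single j 1)).submatrix (Equiv.swap i j) id, ?_, ?_, ?_⟩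
  · rw [Matrix.det_permute, det_one_add_vecMulVec', dotProduct_single, mul_one]
    refine mul_ne_zero ?_ ?_
    · rcases Int.units_eq_one_or (Equiv.Perm.sign (Equiv.swap i j)) with h | h <;> simp [h]
    · simpa using hj
  · funext l
    rw [Matrix.single_one_vecMul]
    simp [Matrix.vecMulVec_apply, Matrix.one_apply, Pi.single_apply, eq_comm]
  · funext l
    rw [Matrix.mulVec_single_one]
    simp only [Matrix.col_apply, Matrix.submatrix_apply, id, Matrix.add_apply, Matrix.vecMulVec_apply,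
      Matrix.one_apply, Pi.single_apply, Pi.sub_apply, hk, if_neg hkj, sub_zero, mul_zero, add_zero]
    rcases eq_or_ne l i with rfl | hli
    · rw [Equiv.swap_apply_left, if_neg hkj.symm, if_neg hki.symm]
    rcases eq_or_ne l j with rfl | hlj
    · rw [Equiv.swap_apply_right, if_neg hki.symm, if_neg hkj.symm]
    · rw [Equiv.swap_apply_of_ne_of_ne hli hlj]

/-- A transvection minus one is `a φᵀ` with `φ a = 0`. -/
theorem exists_vecMulVec (t : Matrix (Fin n) (Fin n) F) (ht : Cfsg.IsTransvection t) :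
    ∃ a φ : Fin n → F, a ≠ 0 ∧ φ ≠ 0 ∧ φ ⬝ᵥ a = 0 ∧ t - 1 = vecMulVec a φ := by
  classical
  obtain ⟨hr, hsq⟩ := ht
  set N := t - 1
  have hN0 : N ≠ 0 := by
    intro h
    rw [h, Matrix.rank_zero] at hr
    omega
  rw [Matrix.rank, finrank_eq_one_iff'] at hr
  obtain ⟨v, hv0, hv⟩ := hr
  have hcol : ∀ j : Fin n, ∃ c : F, N.col j = c • (v : Fin n → F) := by
    intro j
    obtain ⟨c, hc⟩ := hv ⟨N.col j, ⟨Pi.single j 1, by rw [Matrix.mulVecLin_apply, Matrix.mulVec_single_one]⟩⟩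
    exact ⟨c, (congrArg Subtype.val hc).symm⟩
  choose φ hφ using hcol
  have hN : N = vecMulVec (v : Fin n → F) φ := by
    ext i j
    have := congrFun (hφ j) i
    simp only [Matrix.col_apply, Pi.smul_apply, smul_eq_mul] at this
    rw [Matrix.vecMulVec_apply, this, mul_comm]
  have hφ0 : φ ≠ 0 := fun h => hN0 (by rw [hN, h, vecMulVec_zero])
  have hv0' : (v : Fin n → F) ≠ 0 := fun h => hv0 (Subtype.ext h)
  refine ⟨v, φ, hv0', hφ0, ?_, hN⟩
  rw [hN, vecMulVec_mul_vecMulVec] at hsq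
  by_contra hne
  have h2 : (φ ⬝ᵥ (v : Fin n → F)) • φ ≠ 0 := smul_ne_zero hne hφ0
  rw [vecMulVec_eq_zero] at hsq
  rcases hsq with h | h
  · exact hv0' h
  · exact h2 (by simpa using h)

/-- The standard transvection `1 + E_{i0 i1}`. -/
def std (i0 i1 : Fin n) : Matrix (Fin n) (Fin n) F := 1 + vecMulVec (Pi.single i0 1) (Pi.single i1 1)

/-- Every transvection is conjugate to the standard one. -/
theorem exists_conj_std {i0 i1 : Fin n} (h : i0 ≠ i1) (t : Matrix (Fin n) (Fin n) F)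
    (ht : Cfsg.IsTransvection t) :
    ∃ P : GL (Fin n) F, t * (P : Matrix (Fin n) (Fin n) F) = (P : Matrix (Fin n) (Fin n) F) * std i0 i1 := by
  classical
  obtain ⟨a, φ, ha, hφ, hφa, hN⟩ := exists_vecMulVec t ht
  obtain ⟨P1, hP1, hP1a⟩ := exists_col i0 ha
  set φ' := φ ᵥ* P1
  have hφ'0 : φ' i0 = 0 := by
    have h1 : φ' ⬝ᵥ Pi.single i0 1 = 0 := by rw [← Matrix.dotProduct_mulVec, hP1a, hφa]
    simpa using h1
  have hφ'ne : φ' ≠ 0 := fun h0 => hφ (Matrix.eq_zero_of_vecMul_eq_zero hP1 h0)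
  obtain ⟨R, hR, hRrow, hRcol⟩ := exists_row i1 hφ'ne i0 hφ'0 h
  let G1 : GL (Fin n) F := GeneralLinearGroup.mk'' P1 (isUnit_iff_ne_zero.2 hP1)
  let G2 : GL (Fin n) F := GeneralLinearGroup.mk'' R (isUnit_iff_ne_zero.2 hR)
  refine ⟨G1 * G2⁻¹, ?_⟩
  rw [Units.val_mul]
  have hR' : R * ((G2⁻¹ : GL (Fin n) F) : Matrix (Fin n) (Fin n) F) = 1 := G2.mul_inv
  have hR'2 : ((G2⁻¹ : GL (Fin n) F) : Matrix (Fin n) (Fin n) F) * R = 1 := G2.inv_mul
  set R' := ((G2⁻¹ : GL (Fin n) F) : Matrix (Fin n) (Fin n) F)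
  show t * (P1 * R') = P1 * R' * std i0 i1
  rw [show t = 1 + vecMulVec a φ by rw [← hN]; abel, std, add_mul, one_mul, mul_add, mul_one, add_right_inj,
    vecMulVec_mul, Matrix.mul_vecMulVec, ← Matrix.mulVec_mulVec, ← Matrix.vecMul_vecMul]
  have e1 : R' *ᵥ Pi.single i0 1 = Pi.single i0 1 := by
    conv_lhs => rw [← hRcol]
    rw [Matrix.mulVec_mulVec, hR'2, Matrix.one_mulVec]
  have e2 : φ' ᵥ* R' = Pi.single i1 1 := by rw [← hRrow, Matrix.vecMul_vecMul, hR', Matrix.vecMul_one]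
  rw [e1, hP1a, e2]

/-- The transvections of `SL n F`, `n ≥ 3`, form one class. -/
theorem isConj_sl (hn : 3 ≤ n) (s t : Matrix.SpecialLinearGroup (Fin n) F)
    (hs : Cfsg.IsTransvection (s : Matrix (Fin n) (Fin n) F))
    (ht : Cfsg.IsTransvection (t : Matrix (Fin n) (Fin n) F)) : IsConj s t := by
  classical
  let i0 : Fin n := ⟨0, by omega⟩
  let i1 : Fin n := ⟨1, by omega⟩
  let i2 : Fin n := ⟨2, by omega⟩
  have h01 : i0 ≠ i1 := by simp [i0, i1]
  have h20 : i2 ≠ i0 := by simp [i0, i2]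
  have h21 : i2 ≠ i1 := by simp [i1, i2]
  have key : ∀ r : Matrix.SpecialLinearGroup (Fin n) F, Cfsg.IsTransvection (r : Matrix (Fin n) (Fin n) F) →
      ∃ Q : Matrix.SpecialLinearGroup (Fin n) F,
        (r : Matrix (Fin n) (Fin n) F) * (Q : Matrix (Fin n) (Fin n) F) = (Q : Matrix (Fin n) (Fin n) F) * std i0 i1 := by
    intro r hr
    obtain ⟨P, hP⟩ := exists_conj_std h01 (r : Matrix (Fin n) (Fin n) F) hr
    set u := ((GeneralLinearGroup.det P)⁻¹ : Fˣ)
    let D : Matrix (Fin n) (Fin n) F := Matrix.diagonal (Function.update 1 i2 (u : F))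
    have hD : D.det = u := by
      rw [Matrix.det_diagonal, Finset.prod_update_of_mem (Finset.mem_univ _)]
      simp
    have hcomm : std i0 i1 * D = D * std i0 i1 := by
      rw [std, add_mul, mul_add, one_mul, mul_one, vecMulVec_mul, Matrix.mul_vecMulVec]
      congr 1
      have e1 : D *ᵥ Pi.single i0 1 = Pi.single i0 1 := by
        funext l
        rw [Matrix.mulVec_diagonal]
        rcases eq_or_ne l i0 with rfl | hl
        · simp [Function.update_of_ne h20.symm]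
        · simp [hl]
      have e2 : Pi.single i1 1 ᵥ* D = Pi.single i1 1 := by
        funext l
        rw [Matrix.vecMul_diagonal]
        rcases eq_or_ne l i1 with rfl | hl
        · simp [Function.update_of_ne h21.symm]
        · simp [hl]
      rw [e1, e2]
    refine ⟨⟨(P : Matrix (Fin n) (Fin n) F) * D, ?_⟩, ?_⟩
    · rw [Matrix.det_mul, hD]
      exact (GeneralLinearGroup.det P).mul_inv
    · show (r : Matrix (Fin n) (Fin n) F) * ((P : Matrix (Fin n) (Fin n) F) * D) = (P : Matrix (Fin n) (Fin n) F) * D * std i0 i1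
      rw [← mul_assoc, hP, mul_assoc, hcomm, mul_assoc]
  obtain ⟨Q, hQ⟩ := key s hs
  obtain ⟨R, hR⟩ := key t ht
  rw [isConj_iff]
  refine ⟨R * Q⁻¹, ?_⟩
  have hstd : (((Q⁻¹ * s * Q) : Matrix.SpecialLinearGroup (Fin n) F) : Matrix (Fin n) (Fin n) F) = std i0 i1 := by
    rw [Matrix.SpecialLinearGroup.coe_mul, Matrix.SpecialLinearGroup.coe_mul, mul_assoc, hQ, ← mul_assoc,
      ← Matrix.SpecialLinearGroup.coe_mul, inv_mul_cancel, Matrix.SpecialLinearGroup.coe_one, one_mul]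
  have h : Q⁻¹ * s * Q = R⁻¹ * t * R := Subtype.ext (by
    rw [hstd, Matrix.SpecialLinearGroup.coe_mul, Matrix.SpecialLinearGroup.coe_mul, mul_assoc, hR, ← mul_assoc,
      ← Matrix.SpecialLinearGroup.coe_mul, inv_mul_cancel, Matrix.SpecialLinearGroup.coe_one, one_mul])
  calc R * Q⁻¹ * s * (R * Q⁻¹)⁻¹ = R * (Q⁻¹ * s * Q) * R⁻¹ := by group
    _ = R * (R⁻¹ * t * R) * R⁻¹ := by rw [h]
    _ = t := by group

end CfsgLib.Known.Transvections
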