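import Mathlib
import Cfsg.Agent.Lib.Char.Burnside
import Cfsg.Agent.S0496

/-!
Facts about `A₈` (centralisers of elements of order five and seven) and about small groups,
used for the subgroups of `GL(4, 2)`.
-/

set_option autoImplicit false
set_option linter.style.haveILetI false

namespace CfsgLib.Known.GLFourTwo

open Subgroup

/-- Groups of order less than sixty are soluble. -/
theorem isSolvable_of_card_lt_sixty (n : ℕ) : ∀ (G : Type) [Group G] [Finite G],
    Nat.card G = n → n < 60 → Group.IsSolvable G := by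
  induction n using Nat.strongRecOn with
  | ind n ih =>
    intro G _ _ hn hlt
    by_cases hs : ∀ N : Subgroup G, N.Normal → N = ⊥ ∨ N = ⊤
    · cases subsingleton_or_nontrivial G
      · infer_instance
      haveI : IsSimpleGroup G := ⟨hs⟩
      by_cases hc : IsMulCommutative G
      · exact Group.isSolvable_of_comm fun a b => hc.is_comm.comm a b
      · exfalso
        have h := Cfsg.Agent.S0496.result hc (by omega)
        omega
    · push Not at hs
      obtain ⟨N, hNn, hNb, hNt⟩ := hs
      haveI := hNn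
      have hi : N.index * Nat.card N = n := hn ▸ N.index_mul_card
      have h1 : 1 < Nat.card N := by
        rw [Finite.one_lt_card_iff_nontrivial]
        exact (Subgroup.nontrivial_iff_ne_bot N).2 hNb
      have h2 : 1 < N.index := Subgroup.one_lt_index_of_ne_top hNt
      haveI : Group.IsSolvable N := ih _ (by nlinarith) N rfl (by nlinarith)
      haveI : Group.IsSolvable (G ⧸ N) := ih N.index (by nlinarith) (G ⧸ N) rfl (by nlinarith)
      exact (Group.isSolvable_iff_subgroup_quotient N).2 ⟨inferInstance, inferInstance⟩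

theorem isSolvable_of_lt_sixty {G : Type} [Group G] [Finite G] (h : Nat.card G < 60) :
    Group.IsSolvable G :=
  isSolvable_of_card_lt_sixty _ G rfl h

/-- A group with a Sylow subgroup central in its normaliser and all other prime divisors in
`{2, 3}` or in `{3, 7}` is soluble. -/
theorem isSolvable_of_normalizer_le_centralizer {G : Type} [Group G] [Finite G] {p q r a b : ℕ}
    [Fact p.Prime] (P : Sylow p G) (hP : normalizer (P : Set G) ≤ centralizer (P : Set G))
    (hq : q.Prime) (hr : r.Prime) (hidx : (P : Subgroup G).index ∣ q ^ a * r ^ b) :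
    Group.IsSolvable G := by
  set f := MonoidHom.transferSylow P hP with hf
  have hc := MonoidHom.ker_transferSylow_isComplement' P hP
  have hK : Nat.card f.ker = (P : Subgroup G).index := hc.index_eq_card.symm
  haveI : Group.IsSolvable f.ker := by
    obtain ⟨d₁, d₂, h1, h2, hd⟩ := Nat.dvd_mul.mp hidx
    obtain ⟨i, -, rfl⟩ := (Nat.dvd_prime_pow hq).mp h1
    obtain ⟨j, -, rfl⟩ := (Nat.dvd_prime_pow hr).mp h2
    exact CfsgLib.Burnside.isSolvable_of_card_eq hq hr (hK.trans hd.symm)
  haveI : Group.IsSolvable (P : Subgroup G) := by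
    haveI := P.2.isNilpotent
    infer_instance
  exact Group.isSolvable_of_ker_le_range f.ker.subtype f (Subgroup.range_subtype f.ker).ge

theorem card_A8 : Nat.card (alternatingGroup (Fin 8)) = 20160 := by
  rw [nat_card_alternatingGroup, Nat.card_fin]
  rfl

theorem mem_cycleType_of_dvd {α : Type*} [Fintype α] [DecidableEq α] {σ : Equiv.Perm α} {p : ℕ}
    (hp : p.Prime) (h : p ∣ orderOf σ) : ∃ n ∈ σ.cycleType, p ∣ n := by
  rw [← Equiv.Perm.lcm_cycleType] at h
  exact hp.prime.exists_mem_multiset_dvd (h.trans (Multiset.lcm_dvd.2 fun b hb => Multiset.dvd_prod hb))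

theorem sum_cycleType_le_eight (σ : Equiv.Perm (Fin 8)) : σ.cycleType.sum ≤ 8 := by
  rw [Equiv.Perm.sum_cycleType]
  exact (Finset.card_le_univ _).trans_eq (Fintype.card_fin 8)

theorem cycleType_five_seven {σ : Equiv.Perm (Fin 8)} {p : ℕ} (hp : p = 5 ∨ p = 7)
    (h : orderOf σ = p) : σ.cycleType = {p} := by
  have hpr : p.Prime := by rcases hp with rfl | rfl <;> norm_num
  obtain ⟨k, hk⟩ := Equiv.Perm.cycleType_prime_order (h ▸ hpr)
  have hs := sum_cycleType_le_eight σ
  rw [hk, Multiset.sum_replicate, h, smul_eq_mul] at hs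
  have : k = 0 := by rcases hp with rfl | rfl <;> omega
  rw [hk, this, h]
  rfl

/-- The centraliser in `A₈` of an element of order seven. -/
theorem card_centralizer_perm_seven {σ : Equiv.Perm (Fin 8)} (h : orderOf σ = 7) :
    Nat.card (centralizer {σ}) = 7 := by
  rw [Equiv.Perm.nat_card_centralizer, cycleType_five_seven (Or.inr rfl) h, Fintype.card_fin]
  decide

theorem centralizer_perm_seven {σ : Equiv.Perm (Fin 8)} (h : orderOf σ = 7) :
    zpowers σ = centralizer {σ} := by
  refine Subgroup.eq_of_le_of_card_ge (zpowers_le.2 ?_) ?_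
  · exact mem_centralizer_singleton_iff.2 rfl
  · rw [card_centralizer_perm_seven h, Nat.card_zpowers, h]

def sevenCycle : Equiv.Perm (Fin 8) := c[0, 1, 2, 3, 4, 5, 6]
def sevenInv : Equiv.Perm (Fin 8) := c[1, 6] * c[2, 5] * c[3, 4]

theorem sevenInv_spec : sevenInv * sevenCycle * sevenInv⁻¹ = sevenCycle⁻¹ := by decide +kernel
theorem sign_sevenInv : Equiv.Perm.sign sevenInv = -1 := by decide +kernel
theorem sign_sevenCycle : Equiv.Perm.sign sevenCycle = 1 := by decide +kernel
theorem order_sevenCycle : orderOf sevenCycle = 7 := by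
  haveI : Fact (Nat.Prime 7) := ⟨by norm_num⟩
  refine orderOf_eq_prime ?_ ?_ <;> decide +kernel

/-- No even permutation inverts an element of order seven of `S₈`. -/
theorem sign_eq_neg_of_invert {σ u : Equiv.Perm (Fin 8)} (h : orderOf σ = 7)
    (hu : u * σ * u⁻¹ = σ⁻¹) : Equiv.Perm.sign u = -1 := by
  obtain ⟨g, hg⟩ := isConj_iff.1 (Equiv.Perm.isConj_iff_cycleType_eq.2
    ((cycleType_five_seven (Or.inr rfl) h).trans
      (cycleType_five_seven (Or.inr rfl) order_sevenCycle).symm))
  set v := g * u * g⁻¹ with hv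
  have h1 : v * sevenCycle * v⁻¹ = sevenCycle⁻¹ := by
    calc v * sevenCycle * v⁻¹ = g * (u * σ * u⁻¹) * g⁻¹ := by rw [hv, ← hg]; group
      _ = sevenCycle⁻¹ := by rw [hu, ← hg]; group
  have h2 : sevenInv⁻¹ * v ∈ centralizer {sevenCycle} := by
    rw [mem_centralizer_singleton_iff]
    have e1 : v * sevenCycle = sevenCycle⁻¹ * v := by rw [← h1]; group
    have e2 : sevenInv⁻¹ * sevenCycle⁻¹ = sevenCycle * sevenInv⁻¹ := by
      rw [← sevenInv_spec]; group
    rw [mul_assoc, e1, ← mul_assoc, e2, mul_assoc]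
  rw [← centralizer_perm_seven order_sevenCycle] at h2
  obtain ⟨i, hi⟩ := Subgroup.mem_zpowers_iff.1 h2
  have h3 := congrArg Equiv.Perm.sign hi
  rw [map_zpow, sign_sevenCycle, one_zpow, map_mul, map_inv, sign_sevenInv, hv] at h3
  simp only [map_mul, map_inv, mul_inv_cancel_comm] at h3
  rcases Int.units_eq_one_or (Equiv.Perm.sign u) with h' | h'
  · rw [h'] at h3
    exact absurd h3 (by decide)
  · exact h'

theorem card_centralizer_perm_five {σ : Equiv.Perm (Fin 8)} (h : orderOf σ = 5) :
    Nat.card (centralizer {σ}) = 30 := by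
  rw [Equiv.Perm.nat_card_centralizer, cycleType_five_seven (Or.inl rfl) h, Fintype.card_fin]
  decide

def fiveCycle : Equiv.Perm (Fin 8) := c[0, 1, 2, 3, 4]
def fiveComm : Equiv.Perm (Fin 8) := c[5, 6]

theorem fiveComm_spec : fiveComm * fiveCycle = fiveCycle * fiveComm := by decide +kernel
theorem sign_fiveComm : Equiv.Perm.sign fiveComm = -1 := by decide +kernel
theorem order_fiveCycle : orderOf fiveCycle = 5 := by
  haveI : Fact (Nat.Prime 5) := ⟨by norm_num⟩
  refine orderOf_eq_prime ?_ ?_ <;> decide +kernel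

theorem card_centralizer_alt_five {σ : Equiv.Perm (Fin 8)} (h : orderOf σ = 5) :
    Nat.card ↥(centralizer {σ} ⊓ alternatingGroup (Fin 8)) = 15 := by
  obtain ⟨g, hg⟩ := isConj_iff.1 (Equiv.Perm.isConj_iff_cycleType_eq.2
    ((cycleType_five_seven (Or.inl rfl) h).trans
      (cycleType_five_seven (Or.inl rfl) order_fiveCycle).symm))
  have hmem : g⁻¹ * fiveComm * g ∈ centralizer {σ} := by
    rw [mem_centralizer_singleton_iff]
    have e : σ = g⁻¹ * fiveCycle * g := by rw [← hg]; group
    rw [e]
    calc g⁻¹ * fiveComm * g * (g⁻¹ * fiveCycle * g) = g⁻¹ * (fiveComm * fiveCycle) * g := by group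
      _ = g⁻¹ * (fiveCycle * fiveComm) * g := by rw [fiveComm_spec]
      _ = _ := by group
  let s := (Equiv.Perm.sign : Equiv.Perm (Fin 8) →* ℤˣ).domRestrict (centralizer {σ})
  have hs : Function.Surjective s := by
    intro x
    rcases Int.units_eq_one_or x with rfl | rfl
    · exact ⟨1, map_one s⟩
    · refine ⟨⟨_, hmem⟩, ?_⟩
      show Equiv.Perm.sign (g⁻¹ * fiveComm * g) = -1
      rw [map_mul, map_mul, map_inv, mul_right_comm, inv_mul_cancel, one_mul, sign_fiveComm]
  have h1 := s.ker.index_mul_card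
  rw [Subgroup.index_ker, MonoidHom.range_eq_top.2 hs, Subgroup.card_top,
    card_centralizer_perm_five h, Nat.card_eq_fintype_card (α := ℤˣ),
    Fintype.card_units_int] at h1
  have e : ↥s.ker ≃ ↥(centralizer {σ} ⊓ alternatingGroup (Fin 8)) :=
    { toFun := fun x => ⟨((x : centralizer {σ}) : Equiv.Perm (Fin 8)), (x : centralizer {σ}).2,
        Equiv.Perm.mem_alternatingGroup.2 x.2⟩
      invFun := fun x => ⟨⟨x.1, x.2.1⟩, MonoidHom.mem_ker.2 (Equiv.Perm.mem_alternatingGroup.1 x.2.2)⟩
      left_inv := fun _ => rfl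
      right_inv := fun _ => rfl }
  rw [Nat.card_congr e] at h1
  omega

end CfsgLib.Known.GLFourTwo
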