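import Cfsg.Prelude.Def_Classical
import Cfsg.Agent.Lib.Perm.MatrixClosure

/-!
An embedding of `PSL(2,7)` in `PSU(3,3)`, by explicit matrices over the field with nine elements.
-/

set_option autoImplicit false

namespace CfsgLib.Known.U33L27

open Matrix CfsgLib.Perm.MatrixClosure

/-- An element `a + b i` of the field with nine elements. -/
abbrev E := ℕ × ℕ

/-- A row. -/
abbrev R3 := E × E × E

/-- A matrix of degree three. -/
abbrev M9 := R3 × R3 × R3

/-- Sum. -/
def ad : E → E → E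
  | (a, b), (c, d) => ((a + c) % 3, (b + d) % 3)

/-- Product. -/
def mu : E → E → E
  | (a, b), (c, d) => ((a * c + 2 * (b * d)) % 3, (a * d + b * c) % 3)

/-- Conjugate. -/
def cj : E → E
  | (a, b) => (a % 3, 2 * b % 3)

/-- Row times column. -/
def dot (r c : R3) : E := ad (ad (mu r.1 c.1) (mu r.2.1 c.2.1)) (mu r.2.2 c.2.2)

/-- Columns as rows. -/
def tr : M9 → M9
  | ((a, b, c), (d, e, f), (g, h, k)) => ((a, d, g), (b, e, h), (c, f, k))

/-- Product of matrices. -/
def mm (A B : M9) : M9 :=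
  let C := tr B
  ((dot A.1 C.1, dot A.1 C.2.1, dot A.1 C.2.2),
    (dot A.2.1 C.1, dot A.2.1 C.2.1, dot A.2.1 C.2.2),
    (dot A.2.2 C.1, dot A.2.2 C.2.1, dot A.2.2 C.2.2))

/-- Entrywise conjugate. -/
def cjM : M9 → M9
  | ((a, b, c), (d, e, f), (g, h, k)) => ((cj a, cj b, cj c), (cj d, cj e, cj f), (cj g, cj h, cj k))

/-- The identity. -/
def one9 : M9 := (((1, 0), (0, 0), (0, 0)), ((0, 0), (1, 0), (0, 0)), ((0, 0), (0, 0), (1, 0)))

/-- Determinant. -/
def det9 : M9 → E
  | ((a, b, c), (d, e, f), (g, h, k)) =>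
    ad (ad (ad (mu (mu a e) k) (mu (mu b f) g)) (mu (mu c d) h))
      (mu (2, 0) (ad (ad (mu (mu a f) h) (mu (mu b d) k)) (mu (mu c e) g)))

/-- Image of the upper transvection. -/
def gU : M9 := (((0, 0), (1, 1), (1, 1)), ((0, 0), (1, 1), (2, 2)), ((0, 1), (0, 0), (0, 0)))

/-- Image of the lower transvection. -/
def gL : M9 := (((0, 1), (0, 2), (2, 2)), ((0, 1), (1, 2), (2, 0)), ((2, 2), (1, 0), (0, 2)))

/-- Powers. -/
def pw (A : M9) : ℕ → M9
  | 0 => one9
  | n + 1 => mm (pw A n) A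

/-- Inverses modulo seven. -/
def inv7 (c : ℕ) : ℕ := c * c * c * c * c % 7

/-- The image of a matrix with nonzero lower left entry. -/
def img1 : M4 → M9
  | (a, _, c, d) => mm (mm (pw gU ((a + 6) * inv7 c % 7)) (pw gL c)) (pw gU ((d + 6) * inv7 c % 7))

/-- The image of a matrix of determinant one modulo seven. -/
def img : M4 → M9
  | (a, b, c, d) => if c == 0 then mm (pw gL 6) (img1 (a, b, a % 7, (b + d) % 7)) else img1 (a, b, c, d)

/-- The same word in the transvections. -/
def word1 : M4 → M4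
  | (a, _, c, d) => mul4 7 (mul4 7 (1, (a + 6) * inv7 c % 7, 0, 1) (1, 0, c, 1)) (1, (d + 6) * inv7 c % 7, 0, 1)

/-- The upper transvection. -/
def tU : M4 := (1, 1, 0, 1)

/-- The lower transvection. -/
def tL : M4 := (1, 0, 1, 1)

/-- All checks for one matrix. -/
def check (x : M4) : Bool :=
  (img (mul4 7 tU x) == mm (img tU) (img x)) && (img (mul4 7 tL x) == mm (img tL) (img x)) &&
    (match x with
      | (a, b, c, d) => if c == 0 then mul4 7 (1, 0, 6, 1) (word1 (a, b, a % 7, (b + d) % 7)) == x else word1 x == x)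

/-- Determinant one modulo seven. -/
def det1 : M4 → Bool
  | (a, b, c, d) => (a * d + 49 - b * c) % 7 == 1

set_option maxRecDepth 100000 in
theorem check_all : ((List.range 7).all fun a => (List.range 7).all fun b => (List.range 7).all fun c =>
    (List.range 7).all fun d => !(det1 (a, b, c, d)) || check (a, b, c, d)) = true := by
  decide +kernel

set_option maxRecDepth 100000 in
theorem check_gens : (mm (tr (img tU)) (cjM (img tU)) == one9 && mm (tr (img tL)) (cjM (img tL)) == one9 &&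
    det9 (img tU) == (1, 0) && det9 (img tL) == (1, 0) && img (1, 0, 0, 1) == one9 &&
    img (6, 0, 0, 6) == one9) = true := by
  decide +kernel

variable {F : Type*} [Field F]

/-- The value in the field. -/
def toF (i : F) (x : E) : F := (x.1 : F) + (x.2 : F) * i

/-- The matrix in the field. -/
def toM (i : F) : M9 → Matrix (Fin 3) (Fin 3) F
  | ((a, b, c), (d, e, f), (g, h, k)) =>
    !![toF i a, toF i b, toF i c; toF i d, toF i e, toF i f; toF i g, toF i h, toF i k]

variable [CharP F 3] {i : F}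

omit i in
theorem cast_mod3 (n : ℕ) : ((n % 3 : ℕ) : F) = (n : F) := by
  conv_rhs => rw [← Nat.mod_add_div n 3, Nat.cast_add, Nat.cast_mul, CharP.cast_eq_zero F 3, zero_mul, add_zero]

theorem toF_ad (x y : E) : toF i (ad x y) = toF i x + toF i y := by
  obtain ⟨a, b⟩ := x; obtain ⟨c, d⟩ := y
  simp only [toF, ad, cast_mod3]; push_cast; ring

theorem toF_mu (hi : i * i = -1) (x y : E) : toF i (mu x y) = toF i x * toF i y := by
  obtain ⟨a, b⟩ := x; obtain ⟨c, d⟩ := y
  simp only [toF, mu, cast_mod3]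
  push_cast
  linear_combination (b * d : F) * ((CharP.cast_eq_zero F 3 : ((3 : ℕ) : F) = 0)) - (b * d : F) * hi

theorem natCast_cube (n : ℕ) : (n : F) ^ 3 = n := by
  induction n with
  | zero => simp
  | succ n ih =>
    haveI : Fact (Nat.Prime 3) := ⟨Nat.prime_three⟩
    rw [Nat.cast_succ, add_pow_char, ih, one_pow]

theorem toF_cj (hi : i * i = -1) (x : E) : toF i (cj x) = toF i x ^ 3 := by
  haveI : Fact (Nat.Prime 3) := ⟨Nat.prime_three⟩
  obtain ⟨a, b⟩ := x
  simp only [toF, cj, cast_mod3]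
  rw [add_pow_char, mul_pow, natCast_cube, natCast_cube, show i ^ 3 = -i by linear_combination i * hi]
  push_cast
  linear_combination (b * i : F) * ((CharP.cast_eq_zero F 3 : ((3 : ℕ) : F) = 0))

theorem toM_mm (hi : i * i = -1) (A B : M9) : toM i (mm A B) = toM i A * toM i B := by
  obtain ⟨⟨a, b, c⟩, ⟨d, e, f⟩, ⟨g, h, k⟩⟩ := A
  obtain ⟨⟨a', b', c'⟩, ⟨d', e', f'⟩, ⟨g', h', k'⟩⟩ := B
  ext r s
  fin_cases r <;> fin_cases s <;>
    simp [toM, mm, dot, tr, toF_ad, toF_mu hi, Matrix.mul_apply, Fin.sum_univ_three]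

omit [CharP F 3] in
theorem toM_one : toM i one9 = 1 := by
  ext r s
  fin_cases r <;> fin_cases s <;> simp [toM, one9, toF]

theorem det_toM (hi : i * i = -1) (A : M9) : (toM i A).det = toF i (det9 A) := by
  obtain ⟨⟨a, b, c⟩, ⟨d, e, f⟩, ⟨g, h, k⟩⟩ := A
  rw [Matrix.det_fin_three]
  simp only [toM, det9, toF_ad, toF_mu hi, Matrix.of_apply, Matrix.cons_val', Matrix.cons_val_zero,
    Matrix.cons_val_one, Matrix.cons_val_two, Matrix.head_cons, Matrix.tail_cons, Matrix.cons_val_fin_one,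
    Matrix.vecHead]
  have h2 : toF i ((2 : ℕ), 0) = (2 : F) := by simp [toF]
  rw [h2]
  linear_combination (-(toF i a * toF i f * toF i h + toF i b * toF i d * toF i k + toF i c * toF i e * toF i g)) *
    ((CharP.cast_eq_zero F 3 : ((3 : ℕ) : F) = 0))

/-- The code of a matrix modulo seven. -/
def code (x : SpecialLinearGroup (Fin 2) (ZMod 7)) : M4 :=
  ((x.1 0 0).val, (x.1 0 1).val, (x.1 1 0).val, (x.1 1 1).val)

theorem code_mul (x y : SpecialLinearGroup (Fin 2) (ZMod 7)) : code (x * y) = mul4 7 (code x) (code y) := by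
  simp [code, mul4, Matrix.SpecialLinearGroup.coe_mul, Matrix.mul_apply, Fin.sum_univ_two, ZMod.val_add,
    ZMod.val_mul, Nat.add_mod, Nat.mul_mod]

theorem det1_code (x : SpecialLinearGroup (Fin 2) (ZMod 7)) : det1 (code x) = true := by
  obtain ⟨M, hM⟩ := x
  rw [Matrix.det_fin_two] at hM
  simp only [code, det1, beq_iff_eq]
  revert hM
  generalize M 0 0 = a; generalize M 0 1 = b; generalize M 1 0 = c; generalize M 1 1 = d
  revert a b c d
  decide +kernel

theorem check_code (x : SpecialLinearGroup (Fin 2) (ZMod 7)) : check (code x) = true := by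
  have h := check_all
  simp only [List.all_eq_true, List.mem_range, Bool.or_eq_true, Bool.not_eq_true'] at h
  refine (h _ (ZMod.val_lt (x.1 0 0)) _ (ZMod.val_lt (x.1 0 1)) _ (ZMod.val_lt (x.1 1 0)) _
    (ZMod.val_lt (x.1 1 1))).resolve_left ?_
  rw [show ((x.1 0 0).val, (x.1 0 1).val, (x.1 1 0).val, (x.1 1 1).val) = code x from rfl, det1_code]
  simp

theorem code_injective : Function.Injective code := by
  intro x y h
  simp only [code, Prod.mk.injEq] at h
  refine Subtype.ext (Matrix.ext fun r s => ?_)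
  fin_cases r <;> fin_cases s <;> refine ZMod.val_injective 7 ?_ <;>
    [exact h.1; exact h.2.1; exact h.2.2.1; exact h.2.2.2]

/-- The upper transvection. -/
def sU : SpecialLinearGroup (Fin 2) (ZMod 7) := ⟨!![1, 1; 0, 1], by simp [Matrix.det_fin_two]⟩

/-- The lower transvection. -/
def sL : SpecialLinearGroup (Fin 2) (ZMod 7) := ⟨!![1, 0; 1, 1], by simp [Matrix.det_fin_two]⟩

theorem code_sU : code sU = tU := by decide +kernel
theorem code_sL : code sL = tL := by decide +kernel

theorem code_sU_pow : ∀ k : ℕ, code (sU ^ k) = (1, k % 7, 0, 1)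
  | 0 => by rw [pow_zero]; decide +kernel
  | k + 1 => by
    rw [pow_succ, code_mul, code_sU_pow k, code_sU]
    simp [mul4, tU]
    omega

theorem code_sL_pow : ∀ k : ℕ, code (sL ^ k) = (1, 0, k % 7, 1)
  | 0 => by rw [pow_zero]; decide +kernel
  | k + 1 => by
    rw [pow_succ, code_mul, code_sL_pow k, code_sL]
    simp [mul4, tL]

theorem closure_eq_top : Subgroup.closure ({sU, sL} : Set (SpecialLinearGroup (Fin 2) (ZMod 7))) = ⊤ := by
  have hU : sU ∈ Subgroup.closure ({sU, sL} : Set (SpecialLinearGroup (Fin 2) (ZMod 7))) :=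
    Subgroup.subset_closure (Or.inl rfl)
  have hL : sL ∈ Subgroup.closure ({sU, sL} : Set (SpecialLinearGroup (Fin 2) (ZMod 7))) :=
    Subgroup.subset_closure (Or.inr rfl)
  rw [eq_top_iff]
  intro x _
  have h := check_code x
  simp only [check, Bool.and_eq_true] at h
  have hw : ∀ a b c d : ℕ, c < 7 → ∃ y ∈ Subgroup.closure ({sU, sL} : Set (SpecialLinearGroup (Fin 2) (ZMod 7))),
      code y = word1 (a, b, c, d) := fun a b c d hc => by
    refine ⟨sU ^ ((a + 6) * inv7 c % 7) * sL ^ c * sU ^ ((d + 6) * inv7 c % 7),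
      mul_mem (mul_mem (pow_mem hU _) (pow_mem hL _)) (pow_mem hU _), ?_⟩
    rw [code_mul, code_mul, code_sU_pow, code_sU_pow, code_sL_pow, Nat.mod_mod, Nat.mod_mod, Nat.mod_eq_of_lt hc]
    rfl
  have h3 := h.2
  generalize hcode : code x = q at h3
  obtain ⟨a, b, c, d⟩ := q
  dsimp only at h3
  split at h3
  · obtain ⟨y, hy, hyc⟩ := hw a b (a % 7) ((b + d) % 7) (Nat.mod_lt _ (by norm_num))
    have : x = sL ^ 6 * y := code_injective (by
      rw [hcode, code_mul, code_sL_pow, hyc]; exact (beq_iff_eq.1 h3).symm)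
    rw [this]; exact mul_mem (pow_mem hL _) hy
  · have hc7 : c < 7 := by
      simp only [code, Prod.mk.injEq] at hcode
      rw [← hcode.2.2.1]; exact ZMod.val_lt _
    obtain ⟨y, hy, hyc⟩ := hw a b c d hc7
    have : x = y := code_injective (by rw [hcode, hyc]; exact (beq_iff_eq.1 h3).symm)
    rw [this]; exact hy

variable (i) in
/-- The representing matrix. -/
def rep (x : SpecialLinearGroup (Fin 2) (ZMod 7)) : Matrix (Fin 3) (Fin 3) F := toM i (img (code x))

theorem rep_one : rep i 1 = 1 := by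
  have h := check_gens
  simp only [Bool.and_eq_true, beq_iff_eq] at h
  rw [rep, show code (1 : SpecialLinearGroup (Fin 2) (ZMod 7)) = (1, 0, 0, 1) by decide +kernel, h.1.2, toM_one]

theorem rep_mul (hi : i * i = -1) : ∀ g x, rep i (g * x) = rep i g * rep i x := by
  intro g
  have hg : g ∈ Subgroup.closure ({sU, sL} : Set (SpecialLinearGroup (Fin 2) (ZMod 7))) := by
    rw [closure_eq_top]; trivial
  rw [← Subgroup.mem_toSubmonoid, Subgroup.closure_toSubmonoid_of_finite] at hg
  induction hg using Submonoid.closure_induction with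
  | mem s hs =>
    intro x
    have h := check_code x
    simp only [check, Bool.and_eq_true, beq_iff_eq] at h
    rcases hs with rfl | rfl
    · rw [rep, code_mul, code_sU, h.1.1, toM_mm hi, rep, rep, code_sU]
    · rw [rep, code_mul, code_sL, h.1.2, toM_mm hi, rep, rep, code_sL]
  | one => intro x; rw [rep_one, one_mul, one_mul]
  | mul a b _ _ iha ihb => intro x; rw [mul_assoc, iha, ihb, iha, Matrix.mul_assoc]

omit [CharP F 3] in
theorem toM_tr (A : M9) : toM i (tr A) = (toM i A)ᵀ := by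
  obtain ⟨⟨a, b, c⟩, ⟨d, e, f⟩, ⟨g, h, k⟩⟩ := A
  ext r s
  fin_cases r <;> fin_cases s <;> simp [toM, tr]

theorem toM_cjM (hi : i * i = -1) (A : M9) : toM i (cjM A) = (toM i A).map (· ^ 3) := by
  obtain ⟨⟨a, b, c⟩, ⟨d, e, f⟩, ⟨g, h, k⟩⟩ := A
  ext r s
  fin_cases r <;> fin_cases s <;> simp [toM, cjM, toF_cj hi]

theorem preserves_of_gram {M : Matrix (Fin 3) (Fin 3) F} (hM : Mᵀ * M.map (· ^ 3) = 1) (u v : Fin 3 → F) :
    Cfsg.hermForm 3 F 3 (M *ᵥ u) (M *ᵥ v) = Cfsg.hermForm 3 F 3 u v := by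
  haveI : Fact (Nat.Prime 3) := ⟨Nat.prime_three⟩
  have key : (fun j => (M *ᵥ v) j ^ 3) = (M.map (· ^ 3)) *ᵥ (fun j => v j ^ 3) := by
    funext j
    exact (frobenius F 3).map_mulVec M v j
  show (M *ᵥ u) ⬝ᵥ (fun j => (M *ᵥ v) j ^ 3) = u ⬝ᵥ (fun j => v j ^ 3)
  rw [key, Matrix.dotProduct_mulVec, Matrix.vecMul_mulVec, hM, Matrix.vecMul_one]

theorem rep_spec (hi : i * i = -1) (x : SpecialLinearGroup (Fin 2) (ZMod 7)) :
    (rep i x).det = 1 ∧ ∀ u v, Cfsg.hermForm 3 F 3 (rep i x *ᵥ u) (rep i x *ᵥ v) = Cfsg.hermForm 3 F 3 u v := by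
  have hx : x ∈ Subgroup.closure ({sU, sL} : Set (SpecialLinearGroup (Fin 2) (ZMod 7))) := by
    rw [closure_eq_top]; trivial
  rw [← Subgroup.mem_toSubmonoid, Subgroup.closure_toSubmonoid_of_finite] at hx
  have h := check_gens
  simp only [Bool.and_eq_true, beq_iff_eq] at h
  have e1 : toF i ((1 : ℕ), 0) = (1 : F) := by simp [toF]
  induction hx using Submonoid.closure_induction with
  | mem s hs =>
    rcases hs with rfl | rfl
    · rw [rep, code_sU]
      refine ⟨by rw [det_toM hi, h.1.1.1.2, e1], preserves_of_gram ?_⟩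
      rw [← toM_tr, ← toM_cjM hi, ← toM_mm hi, h.1.1.1.1.1, toM_one]
    · rw [rep, code_sL]
      refine ⟨by rw [det_toM hi, h.1.1.2, e1], preserves_of_gram ?_⟩
      rw [← toM_tr, ← toM_cjM hi, ← toM_mm hi, h.1.1.1.1.2, toM_one]
  | one => rw [rep_one]; exact ⟨Matrix.det_one, fun u v => by rw [Matrix.one_mulVec, Matrix.one_mulVec]⟩
  | mul a b _ _ iha ihb =>
    rw [rep_mul hi]
    exact ⟨by rw [Matrix.det_mul, iha.1, ihb.1, one_mul], fun u v => by
      rw [← Matrix.mulVec_mulVec, ← Matrix.mulVec_mulVec, iha.2, ihb.2]⟩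

/-- The homomorphism into the special unitary group. -/
def toSU (hi : i * i = -1) : SpecialLinearGroup (Fin 2) (ZMod 7) →* Cfsg.SU 3 F 3 :=
  MonoidHom.mk' (fun x => ⟨⟨rep i x, (rep_spec hi x).1⟩, (rep_spec hi x).2⟩) fun x y =>
    Subtype.ext (Subtype.ext (rep_mul hi x y))

theorem toSU_neg_one (hi : i * i = -1) {x : SpecialLinearGroup (Fin 2) (ZMod 7)} (hx : code x = (6, 0, 0, 6)) :
    toSU hi x = 1 := by
  have h := check_gens
  simp only [Bool.and_eq_true, beq_iff_eq] at h
  refine Subtype.ext (Subtype.ext ?_)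
  show rep i x = 1
  rw [rep, hx, h.2, toM_one]

theorem center_cases {x : SpecialLinearGroup (Fin 2) (ZMod 7)} (hx : x ∈ Subgroup.center _) :
    x = 1 ∨ code x = (6, 0, 0, 6) := by
  obtain ⟨r, hr, hrx⟩ := Matrix.SpecialLinearGroup.mem_center_iff.1 hx
  rw [Fintype.card_fin] at hr
  have key : ∀ r : ZMod 7, r ^ 2 = 1 → r = 1 ∨ r = 6 := by decide +kernel
  have hr' : r = 1 ∨ r = 6 := key r hr
  rcases hr' with rfl | rfl
  · exact Or.inl (Subtype.ext (by rw [← hrx]; simp))
  · refine Or.inr ?_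
    simp only [code, ← hrx]
    decide +kernel

theorem not_central (hi : i * i = -1) : toSU hi sU ∉ Subgroup.center (Cfsg.SU 3 F 3) := by
  intro h
  have h1 := congrArg (fun g : Cfsg.SU 3 F 3 => ((g : SpecialLinearGroup (Fin 3) F) : Matrix (Fin 3) (Fin 3) F))
    (Subgroup.mem_center_iff.1 h (toSU hi sL))
  have hne : rep i sL * rep i sU ≠ rep i sU * rep i sL := by
    rw [rep, rep, code_sU, code_sL, ← toM_mm hi, ← toM_mm hi]
    intro e
    have e00 := congrFun (congrFun e 0) 0
    have h00 : (mm (img tL) (img tU)).1.1 = (1, 2) ∧ (mm (img tU) (img tL)).1.1 = (2, 2) := by decide +kernel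
    simp only [toM, Matrix.of_apply, Matrix.cons_val', Matrix.cons_val_zero, Matrix.cons_val_fin_one, h00.1,
      h00.2, toF, Nat.cast_ofNat, Nat.cast_one] at e00
    exact one_ne_zero (by linear_combination -e00 : (1 : F) = 0)
  exact hne h1

end CfsgLib.Known.U33L27
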