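import Mathlib
import Cfsg.Agent.Lib.Known.GLOrders

/-!
# Orders of elements modulo scalars
-/

set_option autoImplicit false

open Matrix Polynomial

namespace CfsgLib.Known.PGLOrder

variable {F : Type*} [Field F] {d : ℕ}

/-- Reduction modulo a monic polynomial killing `M` does not change values at `M`. -/
theorem aeval_map_modByMonic {K : Type*} [Field K] (j : K →+* F) (M : Matrix (Fin d) (Fin d) F) (χ : K[X])
    (hM : aeval M (χ.map j) = 0) (P : K[X]) : aeval M ((P %ₘ χ).map j) = aeval M (P.map j) := by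
  have h := congrArg (fun p => aeval M (p.map j)) (modByMonic_add_div P χ)
  simp only [Polynomial.map_add, Polynomial.map_mul, map_add, map_mul, hM, zero_mul, add_zero] at h
  exact h

theorem natDegree_modByMonic_lt' {K : Type*} [Field K] (hd : 1 ≤ d) (j : K →+* F)
    (M : Matrix (Fin d) (Fin d) F) {χ : K[X]} (hχ : χ.Monic) (hM : aeval M (χ.map j) = 0) {m : ℕ}
    (hdeg : χ.natDegree ≤ m) (P : K[X]) : (P %ₘ χ).natDegree < m := by
  haveI : Nonempty (Fin d) := ⟨⟨0, hd⟩⟩
  have hne1 : χ ≠ 1 := by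
    rintro rfl
    rw [Polynomial.map_one, map_one] at hM
    exact one_ne_zero hM
  exact lt_of_lt_of_le (natDegree_modByMonic_lt _ hχ hne1) hdeg

/-- A family of polynomials with distinct non-zero values at `M`. -/
theorem card_family_le {K : Type*} [Field K] [Fintype K] (hd : 1 ≤ d) (j : K →+* F)
    (M : Matrix (Fin d) (Fin d) F) {χ : K[X]} (hχ : χ.Monic) (hM : aeval M (χ.map j) = 0) {m : ℕ}
    (hdeg : χ.natDegree ≤ m) {I : Type*} [Fintype I] (P : I → K[X])
    (hinj : Function.Injective fun i => aeval M ((P i).map j))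
    (hne : ∀ i, aeval M ((P i).map j) ≠ 0) : Fintype.card I ≤ Fintype.card K ^ m - 1 := by
  classical
  let r : I → (Fin m → K) := fun i l => (P i %ₘ χ).coeff l
  have hval : ∀ i (Q : K[X]), Q.natDegree < m → (fun l : Fin m => Q.coeff l) = r i → P i %ₘ χ = Q := by
    intro i Q hQ h
    ext l
    by_cases hl : l < m
    · exact (congrFun h ⟨l, hl⟩).symm
    · rw [coeff_eq_zero_of_natDegree_lt (lt_of_lt_of_le hQ (not_lt.1 hl)), coeff_eq_zero_of_natDegree_lt
        (lt_of_lt_of_le (natDegree_modByMonic_lt' hd j M hχ hM hdeg _) (not_lt.1 hl))]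
  have hrinj : Function.Injective r := fun a b h => hinj (by
    show aeval M ((P a).map j) = aeval M ((P b).map j)
    rw [← aeval_map_modByMonic j M χ hM, ← aeval_map_modByMonic j M χ hM (P b),
      hval a _ (natDegree_modByMonic_lt' hd j M hχ hM hdeg (P b)) h.symm])
  have hrne : ∀ i ∈ (Finset.univ : Finset I), r i ∈ ({0}ᶜ : Finset (Fin m → K)) := fun i _ => by
    rw [Finset.mem_compl, Finset.mem_singleton]
    intro h0
    refine hne i ?_
    rw [← aeval_map_modByMonic j M χ hM, hval i 0 ?_ ?_, Polynomial.map_zero, map_zero]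
    · rw [natDegree_zero]
      exact lt_of_le_of_lt (Nat.zero_le _) (natDegree_modByMonic_lt' hd j M hχ hM hdeg 1)
    · rw [h0]
      rfl
  have hcard := Finset.card_le_card_of_injOn r hrne hrinj.injOn
  rwa [Finset.card_univ, Finset.card_compl, Finset.card_singleton, Fintype.card_fun, Fintype.card_fin] at hcard

theorem smul_pow_inj (hd : 1 ≤ d) (G : GL (Fin d) F) {k : ℕ}
    (hk : ∀ i, 0 < i → i < k → ∀ c : F, (G : Matrix (Fin d) (Fin d) F) ^ i ≠ c • 1)
    {a b : F} (hb : b ≠ 0) (ha : a ≠ 0) {u v : ℕ} (hu : u < k) (hv : v < k)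
    (he : a • (G : Matrix (Fin d) (Fin d) F) ^ u = b • (G : Matrix (Fin d) (Fin d) F) ^ v) :
    u = v ∧ a = b := by
  set M := (G : Matrix (Fin d) (Fin d) F)
  have key : ∀ (a b : F) (u v : ℕ), b ≠ 0 → u ≤ v → v < k → a • M ^ u = b • M ^ v → u = v ∧ a = b := by
    intro a b u v hb huv hv he
    obtain ⟨w, rfl⟩ := Nat.exists_eq_add_of_le huv
    rw [pow_add, ← mul_smul_comm, show a • M ^ u = M ^ u * (a • 1) by
      rw [mul_smul_comm, mul_one]] at he
    have h1 := ((G.isUnit).pow u).mul_left_cancel he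
    rcases Nat.eq_zero_or_pos w with rfl | hw
    · refine ⟨rfl, ?_⟩
      have h2 := congrFun₂ h1 ⟨0, hd⟩ ⟨0, hd⟩
      simpa using h2
    · exact absurd (by rw [← smul_smul, eq_inv_smul_iff₀ hb, ← h1]) (hk w hw (by omega) (b⁻¹ * a))
  rcases le_total u v with huv | huv
  · exact key a b u v hb huv hv he
  · obtain ⟨h1, h2⟩ := key b a v u ha huv hu he.symm
    exact ⟨h1.symm, h2.symm⟩

/-- If `G` kills a monic polynomial of degree at most `m` over the subfield `K` and no power `G ^ i`,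
`0 < i < k`, is scalar, then `(|K| - 1) k ≤ |K| ^ m - 1`. -/
theorem card_mul_le (hd : 1 ≤ d) {K : Type*} [Field K] [Fintype K] (j : K →+* F) (G : GL (Fin d) F)
    (χ : K[X]) (hχ : χ.Monic) {m : ℕ} (hdeg : χ.natDegree ≤ m)
    (hG : aeval (G : Matrix (Fin d) (Fin d) F) (χ.map j) = 0) (k : ℕ)
    (hk : ∀ i, 0 < i → i < k → ∀ c : F, (G : Matrix (Fin d) (Fin d) F) ^ i ≠ c • 1) :
    (Fintype.card K - 1) * k ≤ Fintype.card K ^ m - 1 := by
  classical
  haveI : Nonempty (Fin d) := ⟨⟨0, hd⟩⟩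
  have hev : ∀ x : Kˣ × Fin k, aeval (G : Matrix (Fin d) (Fin d) F) (((x.1 : K) • X ^ (x.2 : ℕ)).map j) =
      j x.1 • (G : Matrix (Fin d) (Fin d) F) ^ (x.2 : ℕ) := fun x => by
    rw [Polynomial.map_smul, map_smul, Polynomial.map_pow, Polynomial.map_X, map_pow, aeval_X]
  have h := card_family_le hd j (G : Matrix (Fin d) (Fin d) F) hχ hG hdeg
    (fun x : Kˣ × Fin k => (x.1 : K) • X ^ (x.2 : ℕ)) (fun x y h => by
      simp only [hev] at h
      obtain ⟨h1, h2⟩ := smul_pow_inj hd G hk ((map_ne_zero j).2 y.1.ne_zero)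
        ((map_ne_zero j).2 x.1.ne_zero) x.2.2 y.2.2 h
      exact Prod.ext (Units.ext (j.injective h2)) (Fin.ext h1))
    (fun x => by
      rw [hev]
      exact smul_ne_zero ((map_ne_zero j).2 x.1.ne_zero) ((G.isUnit).pow _).ne_zero)
  rwa [Fintype.card_prod, Fintype.card_fin, Fintype.card_units] at h

variable [Fintype F]

theorem card_mul_orderOf_le (hd : 1 ≤ d) (g : GL (Fin d) F ⧸ Subgroup.center (GL (Fin d) F)) :
    (Fintype.card F - 1) * orderOf g ≤ Fintype.card F ^ d - 1 := by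
  classical
  haveI : Nonempty (Fin d) := ⟨⟨0, hd⟩⟩
  obtain ⟨G, rfl⟩ := QuotientGroup.mk_surjective g
  refine card_mul_le hd (RingHom.id F) G (Matrix.charpoly (G : Matrix (Fin d) (Fin d) F))
    (Matrix.charpoly_monic _) (le_of_eq ((Matrix.charpoly_natDegree_eq_dim _).trans (Fintype.card_fin d)))
    (by rw [Polynomial.map_id]; exact Matrix.aeval_self_charpoly _) _ fun i h0 hi c hc => ?_
  have hmem : G ^ i ∈ Subgroup.center (GL (Fin d) F) := by
    have hc0 : c ≠ 0 := by
      rintro rfl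
      rw [zero_smul] at hc
      exact ((G.isUnit).pow i).ne_zero hc
    rw [GeneralLinearGroup.center_eq_range_scalar]
    refine ⟨Units.mk0 c hc0, Units.ext ?_⟩
    rw [Units.val_pow_eq_pow_val, hc]
    ext u v
    by_cases h : u = v <;> simp [h]
  have h1 : (QuotientGroup.mk G : GL (Fin d) F ⧸ Subgroup.center (GL (Fin d) F)) ^ i = 1 := by
    rw [← QuotientGroup.mk_pow, QuotientGroup.eq_one_iff]
    exact hmem
  exact absurd (Nat.le_of_dvd h0 (orderOf_dvd_of_pow_eq_one h1)) (not_le.2 hi)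

theorem exists_card_mul_orderOf_eq (hd : 1 ≤ d) :
    ∃ g : GL (Fin d) F, (Fintype.card F - 1) *
      orderOf (QuotientGroup.mk g : GL (Fin d) F ⧸ Subgroup.center (GL (Fin d) F)) =
        Fintype.card F ^ d - 1 := by
  classical
  obtain ⟨g, hg⟩ := CfsgLib.Known.GLOrders.exists_orderOf_eq_of_dvd (F := F) hd le_rfl (dvd_refl (Fintype.card F ^ d - 1))
  refine ⟨g, le_antisymm (card_mul_orderOf_le hd _) ?_⟩
  set k := orderOf (QuotientGroup.mk g : GL (Fin d) F ⧸ Subgroup.center (GL (Fin d) F)) with hk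
  have hmem : g ^ k ∈ Subgroup.center (GL (Fin d) F) := by
    rw [← QuotientGroup.eq_one_iff, QuotientGroup.mk_pow, hk, pow_orderOf_eq_one]
  have hpos : 0 < k := orderOf_pos _
  rw [GeneralLinearGroup.center_eq_range_scalar] at hmem
  obtain ⟨c, hc⟩ := hmem
  have h1 : g ^ (k * (Fintype.card F - 1)) = 1 := by
    rw [pow_mul, ← hc, ← map_pow, ← Fintype.card_units, pow_card_eq_one, map_one]
  have h2 := orderOf_dvd_of_pow_eq_one h1
  rw [hg, mul_comm] at h2
  refine Nat.le_of_dvd (Nat.mul_pos ?_ hpos) h2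
  have := Fintype.one_lt_card (α := F)
  omega

end CfsgLib.Known.PGLOrder
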