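import Cfsg.Agent.Lib.Components.Char
import Cfsg.Prelude.Def_KGroupFacts

/-!
# A criterion for `O_{p'}(C_A(x)) ≠ 1` in automorphism groups (owner: helper8)
-/

set_option autoImplicit false

namespace CfsgLib.Known.Balance

variable {K : Type*} [Group K]

theorem conj_mul_aut (a : MulAut K) (k : K) : a * MulAut.conj k * a⁻¹ = MulAut.conj (a k) :=
  MulEquiv.ext fun y => by simp

theorem conj_injective (hc : Subgroup.center K = ⊥) : Function.Injective (MulAut.conj (G := K)) := by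
  refine (injective_iff_map_eq_one _).2 fun x hx => ?_
  have h2 : x ∈ Subgroup.center K := Subgroup.mem_center_iff.2 fun g => by
    have h3 := MulEquiv.congr_fun hx g
    rw [MulAut.conj_apply, MulAut.one_apply, mul_inv_eq_iff_eq_mul] at h3
    exact h3.symm
  rwa [hc, Subgroup.mem_bot] at h2

theorem fix_iff_commute (hc : Subgroup.center K = ⊥) (x : MulAut K) (k : K) :
    x k = k ↔ MulAut.conj k * x = x * MulAut.conj k := by
  have h : x * MulAut.conj k = MulAut.conj (x k) * x := by rw [← conj_mul_aut, inv_mul_cancel_right]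
  rw [h, mul_left_inj]
  exact ⟨fun e => by rw [e], fun e => (conj_injective hc e).symm⟩

theorem card_fixed_eq (hc : Subgroup.center K = ⊥) (x : MulAut K) :
    Nat.card ↥(MonoidHom.eqLocus x.toMonoidHom (MonoidHom.id K)) =
      Nat.card ↥(Cfsg.Inn K ⊓ Subgroup.centralizer {x}) := by
  refine Nat.card_congr (Equiv.ofBijective (fun k => ⟨MulAut.conj k.1, ⟨k.1, rfl⟩,
    Subgroup.mem_centralizer_singleton_iff.2 ((fix_iff_commute hc x k.1).1 k.2)⟩) ⟨?_, ?_⟩)
  · exact fun a b h => Subtype.ext (conj_injective hc (congrArg Subtype.val h))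
  · rintro ⟨_, ⟨k, rfl⟩, hk⟩
    exact ⟨⟨k, (fix_iff_commute hc x k).2 (Subgroup.mem_centralizer_singleton_iff.1 hk)⟩, rfl⟩

theorem inn_conj_mem {c : MulAut K} (hc : c ∈ Cfsg.Inn K) (a : MulAut K) : a * c * a⁻¹ ∈ Cfsg.Inn K := by
  obtain ⟨k, rfl⟩ := hc
  exact ⟨a k, (conj_mul_aut a k).symm⟩

/-- The data that make the criterion work for `z`. -/
structure Data (p : ℕ) (z : MulAut K) : Prop where
  /-- `z` is outer. -/
  notInn : z ∉ Cfsg.Inn K
  /-- some inner automorphism commutes with `z` -/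
  nonBot : Cfsg.Inn K ⊓ Subgroup.centralizer {z} ≠ ⊥
  /-- the centraliser of the inner part of the centraliser -/
  cent : ∀ y : MulAut K, y * z = z * y →
    (∀ c ∈ Cfsg.Inn K ⊓ Subgroup.centralizer {z}, c * y = y * c) → y ∈ Subgroup.zpowers z
  /-- no normal subgroup of order prime to `p` in the inner part of the centraliser -/
  noCore : p ∣ Nat.card ↥(Cfsg.Inn K ⊓ Subgroup.centralizer {z}) →
    ∀ N : Subgroup (MulAut K), N ≤ Cfsg.Inn K ⊓ Subgroup.centralizer {z} →
      (∀ c ∈ Cfsg.Inn K ⊓ Subgroup.centralizer {z}, ∀ n ∈ N, c * n * c⁻¹ ∈ N) →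
      ¬ p ∣ Nat.card N → N = ⊥

theorem criterion [Finite K] {p : ℕ} [hp : Fact p.Prime] (hc : Subgroup.center K = ⊥) {z : MulAut K}
    (hz : orderOf z = p) (D : Data p z) (A : Subgroup (MulAut K)) (hinn : Cfsg.Inn K ≤ A) :
    Cfsg.pPrimeCore p ↥(A ⊓ Subgroup.centralizer {z}) ≠ ⊥ ↔
      Nat.Coprime p (Nat.card ↥(MonoidHom.eqLocus z.toMonoidHom (MonoidHom.id K))) := by
  haveI : Finite (MulAut K) := Finite.of_injective (fun a => (a : K → K)) DFunLike.coe_injective
  rw [card_fixed_eq hc]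
  set C := Cfsg.Inn K ⊓ Subgroup.centralizer {z} with hC
  set Z := A ⊓ Subgroup.centralizer {z} with hZ
  have hCZ : C ≤ Z := inf_le_inf_right _ hinn
  have hnorm : ∀ y ∈ Z, ∀ c ∈ C, y * c * y⁻¹ ∈ C := fun y hy c hc' =>
    Subgroup.mem_inf.2 ⟨inn_conj_mem (Subgroup.mem_inf.1 hc').1 y,
      mul_mem (mul_mem (Subgroup.mem_inf.1 hy).2 (Subgroup.mem_inf.1 hc').2)
        (inv_mem (Subgroup.mem_inf.1 hy).2)⟩
  constructor
  · intro hO
    by_contra hcop
    have hdvd : p ∣ Nat.card C := (Nat.Prime.dvd_iff_not_coprime hp.out).2 hcop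
    refine hO ?_
    set O := Cfsg.pPrimeCore p ↥Z
    haveI : O.Normal := Components.pPrimeCore_normal p
    have hOc : (Nat.card O).Coprime p := Components.pPrimeCore_coprime p
    set N : Subgroup (MulAut K) := O.map Z.subtype with hN
    have hNcard : Nat.card N = Nat.card O := Subgroup.card_map_of_injective Z.subtype_injective
    have hNnorm : ∀ y ∈ Z, ∀ n ∈ N, y * n * y⁻¹ ∈ N := by
      rintro y hy _ ⟨n, hn, rfl⟩
      exact ⟨⟨y, hy⟩ * n * ⟨y, hy⟩⁻¹, ‹O.Normal›.conj_mem n hn _, rfl⟩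
    have hNZ : N ≤ Z := Subgroup.map_subtype_le O
    have hNC : N ⊓ C = ⊥ := by
      refine D.noCore hdvd _ inf_le_right (fun c hc' n hn => ?_) fun h => ?_
      · exact Subgroup.mem_inf.2 ⟨hNnorm c (hCZ hc') n hn.1, hnorm c (hCZ hc') n hn.2⟩
      · have := h.trans (Subgroup.card_dvd_of_le (inf_le_left : N ⊓ C ≤ N))
        rw [hNcard] at this
        exact (hp.out.coprime_iff_not_dvd.1 hOc.symm) this
    have hNz : N ≤ Subgroup.zpowers z := fun n hn => by
      refine D.cent n (Subgroup.mem_centralizer_singleton_iff.1 (hNZ hn).2) fun c hc' => ?_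
      have h1 : c * n * c⁻¹ * n⁻¹ ∈ N ⊓ C := Subgroup.mem_inf.2
        ⟨mul_mem (hNnorm c (hCZ hc') n hn) (inv_mem hn), by
          rw [show c * n * c⁻¹ * n⁻¹ = c * (n * c⁻¹ * n⁻¹) by group]
          exact mul_mem hc' (hnorm n (hNZ hn) _ (inv_mem hc'))⟩
      rw [hNC, Subgroup.mem_bot] at h1
      calc c * n = c * n * c⁻¹ * n⁻¹ * (n * c) := by group
        _ = n * c := by rw [h1, one_mul]
    have h1 : Nat.card N ∣ p := by
      have := Subgroup.card_dvd_of_le hNz
      rwa [Nat.card_zpowers, hz] at this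
    rw [hNcard] at h1
    exact Subgroup.eq_bot_of_card_eq _ (hOc.eq_one_of_dvd h1)
  · intro hcop h
    have hn : (C.subgroupOf Z).Normal :=
      ⟨fun c hc' y => Subgroup.mem_subgroupOf.2 (hnorm y y.2 c (Subgroup.mem_subgroupOf.1 hc'))⟩
    have hle := Components.le_pPrimeCore (p := p) hn (by
      rw [Nat.card_congr (Subgroup.subgroupOfEquivOfLe hCZ).toEquiv]; exact hcop.symm)
    rw [h, le_bot_iff, Subgroup.subgroupOf_eq_bot, disjoint_iff] at hle
    exact D.nonBot (by rwa [inf_eq_left.2 hCZ] at hle)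

theorem criterion_of_conj [Finite K] {p : ℕ} [hp : Fact p.Prime] (hc : Subgroup.center K = ⊥)
    {x z a : MulAut K} (hxz : a * z * a⁻¹ = x) (hx : orderOf x = p) (D : Data p z)
    (A : Subgroup (MulAut K)) (hinn : ∀ k : K, MulAut.conj k ∈ A) :
    Cfsg.pPrimeCore p ↥(A ⊓ Subgroup.centralizer {x}) ≠ ⊥ ↔
      Nat.Coprime p (Nat.card ↥(MonoidHom.eqLocus x.toMonoidHom (MonoidHom.id K))) := by
  subst hxz
  have hz : orderOf z = p := ((MulAut.conj a).orderOf_eq z).symm.trans hx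
  set A' := A.comap (MulAut.conj a).toMonoidHom
  have hinn' : Cfsg.Inn K ≤ A' := fun c hc' => by
    obtain ⟨k, hk⟩ := inn_conj_mem hc' a
    show a * c * a⁻¹ ∈ A
    rw [← hk]
    exact hinn k
  have hmap : A ⊓ Subgroup.centralizer {a * z * a⁻¹} =
      (A' ⊓ Subgroup.centralizer {z}).map (MulAut.conj a).toMonoidHom := by
    ext y
    rw [Subgroup.mem_map_equiv, Subgroup.mem_inf, Subgroup.mem_inf, Subgroup.mem_comap,
      MulEquiv.coe_toMonoidHom, MulEquiv.apply_symm_apply, Subgroup.mem_centralizer_singleton_iff,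
      Subgroup.mem_centralizer_singleton_iff, MulAut.conj_symm_apply]
    refine and_congr_right fun _ => ⟨fun h => ?_, fun h => ?_⟩
    · calc a⁻¹ * y * a * z = a⁻¹ * (y * (a * z * a⁻¹)) * a := by group
        _ = a⁻¹ * (a * z * a⁻¹ * y) * a := by rw [h]
        _ = z * (a⁻¹ * y * a) := by group
    · calc y * (a * z * a⁻¹) = a * (a⁻¹ * y * a * z) * a⁻¹ := by group
        _ = a * (z * (a⁻¹ * y * a)) * a⁻¹ := by rw [h]
        _ = a * z * a⁻¹ * y := by group
  let e : ↥(A' ⊓ Subgroup.centralizer {z}) ≃* ↥(A ⊓ Subgroup.centralizer {a * z * a⁻¹}) :=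
    ((A' ⊓ Subgroup.centralizer {z}).equivMapOfInjective _ (MulAut.conj a).injective).trans
      (MulEquiv.subgroupCongr hmap.symm)
  have hbot : ∀ {G H : Type _} [Group G] [Group H] (e : G ≃* H),
      Cfsg.pPrimeCore p H = ⊥ → Cfsg.pPrimeCore p G = ⊥ := fun {G H} _ _ e h => by
    rw [← Components.pPrimeCore_map_equiv p e] at h
    exact (Subgroup.map_eq_bot_iff_of_injective _ e.injective).1 h
  rw [show (Cfsg.pPrimeCore p ↥(A ⊓ Subgroup.centralizer {a * z * a⁻¹}) ≠ ⊥) ↔
    (Cfsg.pPrimeCore p ↥(A' ⊓ Subgroup.centralizer {z}) ≠ ⊥) from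
      not_congr ⟨hbot e, hbot e.symm⟩, criterion hc hz D A' hinn']
  rw [card_fixed_eq hc, card_fixed_eq hc]
  refine Eq.to_iff (congrArg _ ?_)
  have h2 : Cfsg.Inn K ⊓ Subgroup.centralizer {a * z * a⁻¹} =
      (Cfsg.Inn K ⊓ Subgroup.centralizer {z}).map (MulAut.conj a).toMonoidHom := by
    ext y
    rw [Subgroup.mem_map_equiv, Subgroup.mem_inf, Subgroup.mem_inf,
      Subgroup.mem_centralizer_singleton_iff, Subgroup.mem_centralizer_singleton_iff,
      MulAut.conj_symm_apply]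
    constructor
    · rintro ⟨hy, h⟩
      exact ⟨by simpa using inn_conj_mem hy a⁻¹, by
        calc a⁻¹ * y * a * z = a⁻¹ * (y * (a * z * a⁻¹)) * a := by group
          _ = a⁻¹ * (a * z * a⁻¹ * y) * a := by rw [h]
          _ = z * (a⁻¹ * y * a) := by group⟩
    · rintro ⟨hy, h⟩
      refine ⟨?_, ?_⟩
      · have := inn_conj_mem hy a
        rwa [show a * (a⁻¹ * y * a) * a⁻¹ = y by group] at this
      · calc y * (a * z * a⁻¹) = a * (a⁻¹ * y * a * z) * a⁻¹ := by group
          _ = a * (z * (a⁻¹ * y * a)) * a⁻¹ := by rw [h]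
          _ = a * z * a⁻¹ * y := by group
  rw [h2, Subgroup.card_map_of_injective (MulAut.conj a).injective]

end CfsgLib.Known.Balance
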