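import Mathlib
import Cfsg.Agent.Lib.Classical.Unitary.Form

/-!
# Descent for semilinear maps over finite fields (Hilbert 90 / Lang for `GL n`)
-/

set_option autoImplicit false

open Matrix

namespace CfsgLib.Known.Descent

variable {F : Type*} [Field F] {ι : Type*} [Fintype ι] [DecidableEq ι] {r : ℕ}

/-- The matrices `g σ(g) ⋯ σ^(k-1)(g)` of the powers of `v ↦ g σ(v)`. -/
def normMat (g : Matrix ι ι F) (σ : F ≃+* F) : ℕ → Matrix ι ι F
  | 0 => 1
  | k + 1 => g * (normMat g σ k).map σ

theorem normMat_succ' (g : Matrix ι ι F) (σ : F ≃+* F) (k : ℕ) :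
    normMat g σ (k + 1) = normMat g σ k * g.map (σ ^ k : F ≃+* F) := by
  induction k with
  | zero =>
    show g * (1 : Matrix ι ι F).map σ = 1 * g.map (σ ^ 0 : F ≃+* F)
    rw [Matrix.map_one _ (map_zero σ) (map_one σ), mul_one, one_mul]
    rfl
  | succ k ih =>
    conv_lhs => rw [normMat, ih]
    rw [Matrix.map_mul, ← mul_assoc, Matrix.map_map, pow_succ' σ k]
    rfl

/-- The norm of a field element. -/
def fieldNorm (σ : F ≃+* F) (r : ℕ) (x : F) : F := ∏ i ∈ Finset.range r, (σ ^ i : F ≃+* F) x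

theorem fieldNorm_mul (σ : F ≃+* F) (r : ℕ) (x y : F) :
    fieldNorm σ r (x * y) = fieldNorm σ r x * fieldNorm σ r y := by
  simp only [fieldNorm, map_mul, Finset.prod_mul_distrib]

theorem normMat_smul (c : F) (g : Matrix ι ι F) (σ : F ≃+* F) (k : ℕ) :
    normMat (c • g) σ k = fieldNorm σ k c • normMat g σ k := by
  induction k with
  | zero => simp [normMat, fieldNorm]
  | succ k ih =>
    rw [normMat_succ', ih, normMat_succ',
      show (c • g).map (σ ^ k : F ≃+* F) = (σ ^ k : F ≃+* F) c • g.map (σ ^ k : F ≃+* F) from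
        Matrix.ext fun i j => by simp, smul_mul_smul_comm]
    congr 1
    exact (Finset.prod_range_succ _ _).symm

theorem normMat_one (σ : F ≃+* F) (k : ℕ) : normMat (1 : Matrix ι ι F) σ k = 1 := by
  induction k with
  | zero => rfl
  | succ k ih => rw [normMat, ih, Matrix.map_one _ (map_zero σ) (map_one σ), one_mul]

theorem pow_injOn (σ : F ≃+* F) (hord : orderOf σ = r) {i j : Fin r}
    (h : (σ ^ (i : ℕ) : F ≃+* F) = σ ^ (j : ℕ)) : i = j := by
  subst hord
  exact Fin.ext (pow_injOn_Iio_orderOf i.2 j.2 h)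

/-- A vector functional vanishing on all fixed vectors vanishes: descent. -/
theorem exists_fixed_basis (σ : F ≃+* F) (hord : orderOf σ = r) (hr : 0 < r) (g : Matrix ι ι F)
    (hN : normMat g σ r = 1) :
    ∃ h : Matrix ι ι F, IsUnit h ∧ g * h.map σ = h := by
  classical
  set T : (ι → F) → (ι → F) := fun v => g *ᵥ (σ ∘ v) with hT
  have hiter : ∀ (k : ℕ) (v : ι → F), T^[k] v = normMat g σ k *ᵥ ((σ ^ k : F ≃+* F) ∘ v) := by
    intro k v
    induction k with
    | zero => rw [normMat, one_mulVec, pow_zero]; rfl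
    | succ k ih =>
      rw [Function.iterate_succ_apply', ih, normMat, ← mulVec_mulVec]
      show g *ᵥ (σ ∘ (normMat g σ k *ᵥ ((σ ^ k : F ≃+* F) ∘ v))) = _
      congr 1
      funext i
      simp only [Function.comp_apply, mulVec, dotProduct, map_sum, map_mul, Matrix.map_apply, pow_succ']
      rfl
  have hr1 : ∀ v, T^[r] v = v := fun v => by
    rw [hiter, hN, one_mulVec, ← hord, pow_orderOf_eq_one]; rfl
  have hTsum : ∀ (s : Finset (Fin r)) (f : Fin r → ι → F), T (∑ i ∈ s, f i) = ∑ i ∈ s, T (f i) := by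
    intro s f
    simp only [hT, ← mulVec_sum]
    congr 1
    funext i
    simp [Finset.sum_apply, map_sum]
  set V0 : Set (ι → F) := {v | T v = v}
  have hfix : ∀ v, (∑ i : Fin r, T^[(i : ℕ)] v) ∈ V0 := by
    intro v
    show T _ = _
    obtain ⟨m, rfl⟩ := Nat.exists_eq_add_of_le' hr
    rw [hTsum]
    simp only [← Function.iterate_succ_apply' T]
    rw [Fin.sum_univ_castSucc, Fin.sum_univ_succ (fun i : Fin (m + 1) => T^[(i : ℕ)] v)]
    simp only [Fin.val_castSucc, Fin.val_last, Fin.val_succ, Fin.val_zero, Nat.succ_eq_add_one, hr1]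
    rw [Function.iterate_zero_apply, add_comm]
  -- the fixed vectors span
  have hspan : Submodule.span F V0 = ⊤ := by
    by_contra hne
    obtain ⟨ψ, hψ0, hψ⟩ := Submodule.exists_le_ker_of_lt_top _ (lt_top_iff_ne_top.2 hne)
    obtain ⟨v, hv⟩ : ∃ v, ψ v ≠ 0 := by
      by_contra hcon
      push Not at hcon
      exact hψ0 (LinearMap.ext hcon)
    have hli := (linearIndependent_monoidHom F F).comp
      (fun i : Fin r => ((σ ^ (i : ℕ) : F ≃+* F) : F →* F)) fun i j h =>
        pow_injOn σ hord (RingEquiv.ext fun x => DFunLike.congr_fun h x)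
    have hrel : ∑ i : Fin r, ψ (T^[(i : ℕ)] v) • ⇑((σ ^ (i : ℕ) : F ≃+* F) : F →* F) = 0 := by
      funext c
      have h0 : ψ (∑ i : Fin r, T^[(i : ℕ)] (c • v)) = 0 := hψ (Submodule.subset_span (hfix (c • v)))
      rw [map_sum] at h0
      rw [Finset.sum_apply, Pi.zero_apply, ← h0]
      refine Finset.sum_congr rfl fun i _ => ?_
      have hc : ((σ ^ (i : ℕ) : F ≃+* F) ∘ (c • v)) =
          (σ ^ (i : ℕ) : F ≃+* F) c • ((σ ^ (i : ℕ) : F ≃+* F) ∘ v) := funext fun k => map_mul _ _ _
      rw [hiter (i : ℕ) (c • v), hc, mulVec_smul, map_smul, ← hiter, Pi.smul_apply, smul_eq_mul,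
        smul_eq_mul, mul_comm]
      rfl
    exact hv (Fintype.linearIndependent_iff.1 hli _ hrel ⟨0, hr⟩)
  obtain ⟨b, hbV, hbsp, hbli⟩ := exists_linearIndependent F V0
  rw [hspan] at hbsp
  let B : Module.Basis b F (ι → F) := Module.Basis.mk hbli (by rw [Subtype.range_coe]; exact hbsp.ge)
  haveI : Finite b := B.linearIndependent.finite
  haveI : Fintype b := Fintype.ofFinite b
  have hcard : Fintype.card b = Fintype.card ι := by
    rw [← Module.finrank_eq_card_basis B, Module.finrank_pi]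
  let e : ι ≃ b := Fintype.equivOfCardEq hcard.symm
  refine ⟨Matrix.of fun k i => (B (e i)) k, ?_, ?_⟩
  · rw [← linearIndependent_cols_iff_isUnit]
    exact B.linearIndependent.comp e e.injective
  · ext k i
    have h1 : T (B (e i)) = B (e i) := by
      rw [Module.Basis.mk_apply]; exact hbV (e i).2
    exact congrFun h1 k

/-- The norm of a finite field is onto the fixed elements. -/
theorem exists_fieldNorm_eq [Finite F] (σ : F ≃+* F) (hord : orderOf σ = r) (hr : 0 < r) {c : F}
    (hc : c ≠ 0) (hfix : σ c = c) : ∃ x : F, x ≠ 0 ∧ fieldNorm σ r x = c := by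
  classical
  haveI := Fintype.ofFinite F
  let N : Fˣ →* Fˣ := ∏ i ∈ Finset.range r, Units.map ((σ ^ i : F ≃+* F) : F →* F)
  have hNval : ∀ x : Fˣ, (N x : F) = fieldNorm σ r x := fun x => by
    simp [N, fieldNorm, MonoidHom.finsetProd_apply, Units.coe_prod]
  let s : Fˣ →* Fˣ := Units.map (σ : F →* F)
  let D : Fˣ →* Fˣ := MonoidHom.id Fˣ / s
  -- the image of `N` consists of fixed elements
  have hN1 : ∀ x : Fˣ, (N x) ∈ D.ker := fun x => by
    show N x / s (N x) = 1
    rw [div_eq_one]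
    refine Units.ext ?_
    show (N x : F) = σ (N x : F)
    rw [hNval, fieldNorm, map_prod]
    obtain ⟨m, rfl⟩ := Nat.exists_eq_add_of_le' hr
    conv_rhs => rw [Finset.prod_range_succ]
    conv_lhs => rw [Finset.prod_range_succ']
    congr 1
    · exact Finset.prod_congr rfl fun i _ => by rw [pow_succ']; rfl
    · rw [← show (σ * σ ^ m : F ≃+* F) = σ ^ (0 : ℕ) by rw [← pow_succ', ← hord, pow_orderOf_eq_one, pow_zero]]
      rfl
  -- the kernel of `N` is the image of `D`
  have hker : N.ker ≤ D.range := by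
    intro u hu
    have h1 : normMat ((u : F) • (1 : Matrix (Fin 1) (Fin 1) F)) σ r = 1 := by
      rw [normMat_smul, normMat_one, ← hNval, (show N u = 1 from hu), Units.val_one, one_smul]
    obtain ⟨h, hh, he⟩ := exists_fixed_basis σ hord hr _ h1
    have h00 : h 0 0 ≠ 0 := by
      have := (Matrix.isUnit_iff_isUnit_det h).1 hh
      rw [Matrix.det_fin_one] at this
      exact this.ne_zero
    have e00 := congrFun (congrFun he 0) 0
    simp at e00
    refine ⟨Units.mk0 (h 0 0) h00, ?_⟩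
    show Units.mk0 (h 0 0) h00 / s (Units.mk0 (h 0 0) h00) = u
    rw [div_eq_iff_eq_mul]
    exact Units.ext e00.symm
  have hle : N.range ≤ D.ker := by rintro _ ⟨x, rfl⟩; exact hN1 x
  have heq : N.range = D.ker := by
    refine Subgroup.eq_of_le_of_card_ge hle ?_
    have a1 := N.ker.card_mul_index
    have a2 := D.ker.card_mul_index
    rw [Subgroup.index_ker] at a1 a2
    have a3 : Nat.card N.ker ≤ Nat.card D.range := Subgroup.card_le_of_le hker
    have a4 : 0 < Nat.card D.range := Nat.card_pos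
    nlinarith
  have : Units.mk0 c hc ∈ N.range := heq ▸ (show Units.mk0 c hc / s (Units.mk0 c hc) = 1 by
    rw [div_eq_one]; exact Units.ext hfix.symm)
  obtain ⟨x, hx⟩ := this
  exact ⟨x, x.ne_zero, by rw [← hNval, hx, Units.val_mk0]⟩

/-- If the norm of `g` is a scalar, `g` is a scalar multiple of `h σ(h)⁻¹`. -/
theorem exists_conj_of_norm_scalar [Finite F] [Nonempty ι] (σ : F ≃+* F) (hord : orderOf σ = r) (hr : 0 < r)
    (g : GL ι F) {c : F} (hN : normMat (g : Matrix ι ι F) σ r = c • 1) :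
    ∃ (h : GL ι F) (t : Fˣ), (g : Matrix ι ι F) * (h : Matrix ι ι F).map σ = (t : F) • (h : Matrix ι ι F) := by
  have hσr : σ ^ r = 1 := by rw [← hord, pow_orderOf_eq_one]
  have hunit : IsUnit (normMat (g : Matrix ι ι F) σ r) := by
    clear hN hord hσr hr
    induction r with
    | zero => exact isUnit_one
    | succ k ih => exact (g.isUnit).mul (ih.map (σ.mapMatrix : Matrix ι ι F ≃+* Matrix ι ι F))
  have hc : c ≠ 0 := by
    rintro rfl
    rw [zero_smul] at hN
    exact hunit.ne_zero hN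
  have hfix : σ c = c := by
    have h1 : (g : Matrix ι ι F) * (normMat (g : Matrix ι ι F) σ r).map σ =
        normMat (g : Matrix ι ι F) σ r * (g : Matrix ι ι F) := by
      rw [← normMat, normMat_succ', hσr]; rfl
    rw [hN, show (c • (1 : Matrix ι ι F)).map σ = σ c • 1 from by
      ext i j; by_cases hij : i = j <;> simp [hij], mul_smul_comm, mul_one, smul_one_mul] at h1
    obtain ⟨i⟩ := (inferInstance : Nonempty ι)
    have h2 : (σ c - c) • (g : Matrix ι ι F) = 0 := by rw [sub_smul, h1, sub_self]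
    rw [smul_eq_zero, sub_eq_zero] at h2
    exact h2.resolve_right g.ne_zero
  obtain ⟨x, hx0, hx⟩ := exists_fieldNorm_eq σ hord hr hc hfix
  have h1 : normMat (x⁻¹ • (g : Matrix ι ι F)) σ r = 1 := by
    rw [normMat_smul, hN, smul_smul, ← hx, ← fieldNorm_mul, inv_mul_cancel₀ hx0]
    simp [fieldNorm]
  obtain ⟨h, hh, he⟩ := exists_fixed_basis σ hord hr _ h1
  refine ⟨hh.unit, Units.mk0 x hx0, ?_⟩
  rw [IsUnit.unit_spec]
  conv_rhs => rw [← he]
  rw [smul_mul_assoc, Units.val_mk0, smul_smul, mul_inv_cancel₀ hx0, one_smul]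

omit [Fintype ι] in
/-- A hermitian invertible matrix is `h σ(h)ᵀ`. -/
theorem exists_hermitian_factor [Finite F] {n : ℕ} (σ : F ≃+* F) (hσ : σ ≠ RingEquiv.refl F)
    (hinv : ∀ a, σ (σ a) = a) (H : GL (Fin n) F)
    (hH : ((H : Matrix (Fin n) (Fin n) F).map σ)ᵀ = (H : Matrix (Fin n) (Fin n) F)) :
    ∃ h : GL (Fin n) F, (H : Matrix (Fin n) (Fin n) F) =
      (h : Matrix (Fin n) (Fin n) F) * ((h : Matrix (Fin n) (Fin n) F).map σ)ᵀ := by
  classical
  set M := (H : Matrix (Fin n) (Fin n) F) with hM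
  let s : F →+* F := σ.toRingHom
  let B : (Fin n → F) →ₛₗ[s] (Fin n → F) →ₗ[F] F :=
    LinearMap.mk₂'ₛₗ s (RingHom.id F) (fun x y => (σ ∘ x) ⬝ᵥ M *ᵥ y)
      (fun x x' y => by
        rw [show σ ∘ (x + x') = σ ∘ x + σ ∘ x' from funext fun i => map_add σ _ _, add_dotProduct])
      (fun c x y => by
        rw [show σ ∘ (c • x) = s c • (σ ∘ x) from funext fun i => map_mul σ _ _, smul_dotProduct])
      (fun x y y' => by rw [mulVec_add, dotProduct_add])
      (fun c x y => by rw [mulVec_smul, dotProduct_smul]; rfl)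
  have hB : ∀ x y, B x y = (σ ∘ x) ⬝ᵥ M *ᵥ y := fun x y => rfl
  have herm : CfsgLib.Classical.Herm.IsHerm B := by
    refine ⟨⟨fun h => hσ (RingEquiv.ext fun a => RingHom.congr_fun h a), hinv⟩, fun x y => ?_, fun x hx => ?_⟩
    · show σ (B x y) = B y x
      rw [hB, hB, dotProduct_mulVec (σ ∘ y) M x, dotProduct_comm ((σ ∘ y) ᵥ* M) x, ← mulVec_transpose]
      simp only [dotProduct, mulVec, map_sum, map_mul, Function.comp_apply, hinv]
      refine Finset.sum_congr rfl fun i _ => ?_
      congr 1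
      refine Finset.sum_congr rfl fun j _ => ?_
      congr 1
      rw [Matrix.transpose_apply]
      have h3 := congrFun (congrFun hH j) i
      rw [Matrix.transpose_apply, Matrix.map_apply] at h3
      rw [hM]
      exact h3
    · have h1 : (σ ∘ x) ᵥ* M = 0 := by
        funext j
        have := hx (Pi.single j 1)
        rwa [hB, dotProduct_mulVec, dotProduct_single, mul_one] at this
      have h2 := congrArg (fun v => v ᵥ* ((H⁻¹ : GL (Fin n) F) : Matrix (Fin n) (Fin n) F)) h1
      simp only [vecMul_vecMul, hM, Units.mul_inv, vecMul_one, zero_vecMul] at h2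
      funext j
      exact (map_eq_zero σ).1 (congrFun h2 j)
  obtain ⟨b, hb⟩ := herm.exists_orthonormal_basis (Module.finrank_fin_fun F)
  set P : Matrix (Fin n) (Fin n) F := Matrix.of fun k i => b i k
  have hP : (P.map σ)ᵀ * M * P = 1 := by
    ext i j
    rw [Matrix.mul_assoc, Matrix.mul_apply, Matrix.one_apply, ← hb, hB]
    rfl
  have hPu : IsUnit P := (Matrix.isUnit_iff_isUnit_det P).2 <| by
    refine isUnit_iff_ne_zero.2 fun h0 => ?_
    have := congrArg Matrix.det hP
    rw [Matrix.det_mul, h0, mul_zero, Matrix.det_one] at this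
    exact zero_ne_one this
  obtain ⟨Q, hQ⟩ := hPu
  let S : GL (Fin n) F :=
    { val := ((Q : Matrix (Fin n) (Fin n) F).map σ)ᵀ
      inv := (((Q⁻¹ : GL (Fin n) F) : Matrix (Fin n) (Fin n) F).map σ)ᵀ
      val_inv := by rw [← transpose_mul, ← Matrix.map_mul, Units.inv_mul, Matrix.map_one _ (map_zero σ) (map_one σ), transpose_one]
      inv_val := by rw [← transpose_mul, ← Matrix.map_mul, Units.mul_inv, Matrix.map_one _ (map_zero σ) (map_one σ), transpose_one] }
  refine ⟨S⁻¹, ?_⟩
  have hS : ((((S⁻¹ : GL (Fin n) F) : Matrix (Fin n) (Fin n) F)).map σ)ᵀ =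
      ((Q⁻¹ : GL (Fin n) F) : Matrix (Fin n) (Fin n) F) := by
    show ((((((Q⁻¹ : GL (Fin n) F) : Matrix (Fin n) (Fin n) F)).map σ)ᵀ).map σ)ᵀ = _
    ext i j
    simp [hinv]
  rw [hS]
  rw [← hQ] at hP
  calc M = ((S⁻¹ : GL (Fin n) F) : Matrix (Fin n) (Fin n) F) * ((S : Matrix (Fin n) (Fin n) F) * M *
        (Q : Matrix (Fin n) (Fin n) F)) * ((Q⁻¹ : GL (Fin n) F) : Matrix (Fin n) (Fin n) F) := by
        simp only [mul_assoc, Units.mul_inv, mul_one, Units.inv_mul_cancel_left]
    _ = _ := by rw [show (S : Matrix (Fin n) (Fin n) F) * M * (Q : Matrix (Fin n) (Fin n) F) = 1 from hP, mul_one]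

end CfsgLib.Known.Descent
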