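import Mathlib

/-!
# The centralizer of a semisimple element of `GL n F` has every determinant
-/

set_option autoImplicit false

open Polynomial

namespace CfsgLib.Known.SemisimpleDet

variable {F : Type*} [Field F] [Finite F]

theorem exists_commute_det {V : Type*} [AddCommGroup V] [Module F V] [FiniteDimensional F V] [Nontrivial V]
    (x : Module.End F V) {N : ℕ} (hN : x ^ N = 1) (hNF : (N : F) ≠ 0) (a : Fˣ) :
    ∃ T : Module.End F V, Commute T x ∧ LinearMap.det T = (a : F) := by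
  classical
  have hN0 : 0 < N := Nat.pos_of_ne_zero fun h => hNF (by rw [h, Nat.cast_zero])
  have hint : IsIntegral F x := Algebra.IsIntegral.isIntegral x
  obtain ⟨f, hfm, hf, hfd⟩ := Polynomial.exists_monic_irreducible_factor (minpoly F x) (minpoly.not_isUnit F x)
  haveI : Fact (Irreducible f) := ⟨hf⟩
  obtain ⟨u, hu⟩ := hfd
  obtain ⟨v, hv0, hfv⟩ : ∃ v : V, v ≠ 0 ∧ aeval x f v = 0 := by
    have hu0 : aeval x u ≠ 0 := by
      intro h
      have hne : u ≠ 0 := fun h0 => minpoly.ne_zero hint (by rw [hu, h0, mul_zero])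
      have h1 := natDegree_le_of_dvd (minpoly.dvd F x h) hne
      rw [hu, natDegree_mul hf.ne_zero hne] at h1
      have := hf.natDegree_pos
      omega
    obtain ⟨w, hw⟩ : ∃ w, aeval x u w ≠ 0 := by
      by_contra hcon
      push Not at hcon
      exact hu0 (LinearMap.ext hcon)
    refine ⟨aeval x u w, hw, ?_⟩
    rw [← Module.End.mul_apply, ← map_mul, ← hu, minpoly.aeval]
    rfl
  let pb := AdjoinRoot.powerBasis hf.ne_zero
  haveI : FiniteDimensional F (AdjoinRoot f) := pb.finite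
  haveI : Finite (AdjoinRoot f) := Module.finite_of_finite F
  -- the map `K → V`
  let evalv : F[X] →ₗ[F] V := (LinearMap.applyₗ v).comp (aeval x).toLinearMap
  have hev : ∀ p, evalv p = aeval x p v := fun _ => rfl
  have hwell : ∀ p q : F[X], AdjoinRoot.mk f p = AdjoinRoot.mk f q → evalv p = evalv q := by
    intro p q h
    obtain ⟨w, hw⟩ := AdjoinRoot.mk_eq_mk.1 h
    rw [← sub_eq_zero, ← map_sub, hw, mul_comm, hev, map_mul, Module.End.mul_apply, hfv, map_zero]
  obtain ⟨ι, hι⟩ : ∃ ι : AdjoinRoot f →ₗ[F] V, ∀ p, ι (AdjoinRoot.mk f p) = evalv p := by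
    choose r hr using AdjoinRoot.mk_surjective (g := f)
    refine ⟨{ toFun := fun y => evalv (r y), map_add' := fun y z => ?_, map_smul' := fun c y => ?_ },
      fun p => hwell _ _ (hr _)⟩
    · rw [← map_add]
      exact hwell _ _ (by rw [hr, map_add, hr, hr])
    · rw [RingHom.id_apply, ← map_smul]
      exact hwell _ _ (by rw [hr, ← AdjoinRoot.smul_mk, hr])
  have hinj : Function.Injective ι := by
    rw [injective_iff_map_eq_zero]
    intro y hy
    obtain ⟨p, rfl⟩ := AdjoinRoot.mk_surjective y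
    rw [hι, hev] at hy
    rw [AdjoinRoot.mk_eq_zero]
    by_contra hcon
    obtain ⟨s, t, hst⟩ := hf.coprime_iff_not_dvd.2 hcon
    have h1 := LinearMap.congr_fun (congrArg (aeval x) hst) v
    simp [map_add, map_mul, hfv, hy] at h1
    exact hv0 h1.symm
  have hequiv : ∀ (p : F[X]) (y : AdjoinRoot f), aeval x p (ι y) = ι (AdjoinRoot.mk f p * y) := by
    intro p y
    obtain ⟨r, rfl⟩ := AdjoinRoot.mk_surjective y
    rw [hι, ← map_mul, hι, hev, hev, map_mul, Module.End.mul_apply]
  set W := LinearMap.range ι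
  have hWpow : ∀ (i : ℕ), ∀ w ∈ W, (x ^ i) w ∈ W := by
    rintro i _ ⟨y, rfl⟩
    exact ⟨AdjoinRoot.mk f (X ^ i) * y, by rw [← hequiv, map_pow, aeval_X]⟩
  obtain ⟨W', hW'⟩ := Submodule.exists_isCompl W
  let π0 : Module.End F V := W.subtype.comp (W.projectionOnto W' hW')
  have hπ0mem : ∀ w, π0 w ∈ W := fun w => (W.projectionOnto W' hW' w).2
  have hπ0fix : ∀ w ∈ W, π0 w = w := fun w hw => by
    show ((W.projectionOnto W' hW' w : W) : V) = w
    rw [Submodule.projectionOnto_apply_left hW' ⟨w, hw⟩]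
  let S : Module.End F V := ∑ i ∈ Finset.range N, x ^ i * π0 * x ^ (N - i)
  have hSx : S * x = x * S := by
    have hterm : ∀ i ∈ Finset.range N, x ^ i * π0 * x ^ (N - i) * x = x ^ i * π0 * x ^ (N - i + 1) :=
      fun i _ => by rw [mul_assoc (x ^ i * π0), ← pow_succ]
    have hterm2 : ∀ i ∈ Finset.range N, x * (x ^ i * π0 * x ^ (N - i)) =
        x ^ (i + 1) * π0 * x ^ (N - (i + 1) + 1) := by
      intro i hi
      rw [← mul_assoc, ← mul_assoc, ← pow_succ', show N - (i + 1) + 1 = N - i by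
        have := Finset.mem_range.1 hi; omega]
    rw [Finset.sum_mul, Finset.mul_sum, Finset.sum_congr rfl hterm, Finset.sum_congr rfl hterm2]
    obtain ⟨M, rfl⟩ : ∃ M, N = M + 1 := ⟨N - 1, by omega⟩
    rw [Finset.sum_range_succ' (fun i => x ^ i * π0 * x ^ (M + 1 - i + 1)),
      Finset.sum_range_succ (fun i => x ^ (i + 1) * π0 * x ^ (M + 1 - (i + 1) + 1))]
    congr 1
    simp only [hN, Nat.sub_self, pow_zero, one_mul, Nat.sub_zero]
    rw [pow_succ x (M + 1), hN, one_mul, zero_add, pow_one]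
  let π : Module.End F V := (N : F)⁻¹ • S
  have hπx : π * x = x * π := by simp only [π, smul_mul_assoc, mul_smul_comm, hSx]
  have hπmem : ∀ w, π w ∈ W := fun w => by
    simp only [π, S, LinearMap.smul_apply, LinearMap.sum_apply, Module.End.mul_apply]
    exact W.smul_mem _ (W.sum_mem fun i _ => hWpow i _ (hπ0mem _))
  have hπfix : ∀ w ∈ W, π w = w := fun w hw => by
    simp only [π, S, LinearMap.smul_apply, LinearMap.sum_apply, Module.End.mul_apply]
    rw [Finset.sum_congr rfl (g := fun _ => w) fun i hi => ?_]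
    · rw [Finset.sum_const, Finset.card_range, ← Nat.cast_smul_eq_nsmul F, inv_smul_smul₀ hNF]
    · rw [hπ0fix _ (hWpow _ w hw), ← Module.End.mul_apply, ← pow_add,
        Nat.add_sub_cancel' (Finset.mem_range.1 hi).le, hN]
      rfl
  have hP : LinearMap.IsProj W π := ⟨hπmem, hπfix⟩
  obtain ⟨y, hy⟩ := FiniteField.norm_surjective F (AdjoinRoot f) (a : F)
  obtain ⟨p, rfl⟩ := AdjoinRoot.mk_surjective y
  have hπc : Commute π x := hπx
  have hpc : Commute (aeval x p) x := by
    have := (Commute.all p X).map (aeval x)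
    rwa [aeval_X] at this
  refine ⟨aeval x p * π + (1 - π),
    (hpc.mul_left hπc).add_left ((Commute.one_left x).sub_left hπc), ?_⟩
  set T := aeval x p * π + (1 - π) with hT
  set Q := LinearMap.ker π
  have hPQ : IsCompl W Q := hP.isCompl
  let eW : AdjoinRoot f ≃ₗ[F] W := LinearEquiv.ofInjective ι hinj
  let TW : Module.End F W := (eW : AdjoinRoot f →ₗ[F] W) ∘ₗ (Algebra.lmul F (AdjoinRoot f) (AdjoinRoot.mk f p)) ∘ₗ
    (eW.symm : W →ₗ[F] AdjoinRoot f)
  have hlin : T = (Submodule.prodEquivOfIsCompl W Q hPQ : (W × Q) →ₗ[F] V) ∘ₗ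
      (TW.prodMap LinearMap.id) ∘ₗ ((Submodule.prodEquivOfIsCompl W Q hPQ).symm : V →ₗ[F] (W × Q)) := by
    refine LinearMap.ext fun w => ?_
    obtain ⟨⟨s, t⟩, rfl⟩ := (Submodule.prodEquivOfIsCompl W Q hPQ).surjective w
    obtain ⟨z, rfl⟩ := eW.surjective s
    have h1 : π (eW z : V) = (eW z : V) := hπfix _ (eW z).2
    have h2 : π (t : V) = 0 := LinearMap.mem_ker.1 t.2
    have h3 : aeval x p (eW z : V) = (eW (AdjoinRoot.mk f p * z) : V) := by
      show aeval x p (ι z) = ι _
      exact hequiv p z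
    simp [hT, TW, h1, h2, h3]
  rw [hlin, LinearMap.det_conj, LinearMap.det_prodMap, LinearMap.det_id, mul_one]
  show LinearMap.det ((eW : AdjoinRoot f →ₗ[F] W) ∘ₗ _ ∘ₗ (eW.symm : W →ₗ[F] AdjoinRoot f)) = _
  rw [LinearMap.det_conj, ← Algebra.norm_apply]
  exact hy

/-- In `GL n F` the class of an element of order prime to `p` under `SL` is its whole class. -/
theorem exists_conj_det_one {p : ℕ} [Fact p.Prime] [CharP F p] {n : ℕ} (x g : GL (Fin n) F)
    (hx : (orderOf x).Coprime p) :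
    ∃ h : GL (Fin n) F, (h : Matrix (Fin n) (Fin n) F).det = 1 ∧ h * x * h⁻¹ = g * x * g⁻¹ := by
  classical
  rcases Nat.eq_zero_or_pos n with rfl | hn
  · exact ⟨g, by simp, rfl⟩
  haveI : Nonempty (Fin n) := ⟨⟨0, hn⟩⟩
  let A := Matrix.toLinAlgEquiv' (R := F) (n := Fin n)
  have hpow : A (x : Matrix (Fin n) (Fin n) F) ^ orderOf x = 1 := by
    rw [← map_pow, ← Units.val_pow_eq_pow_val, pow_orderOf_eq_one, Units.val_one, map_one]
  have hne : ((orderOf x : ℕ) : F) ≠ 0 := by
    rw [Ne, CharP.cast_eq_zero_iff F p]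
    intro h
    exact (Fact.out : p.Prime).ne_one (Nat.eq_one_of_dvd_one (hx.symm ▸ Nat.dvd_gcd (dvd_refl p) h))
  obtain ⟨T, hTc, hTdet⟩ := exists_commute_det (A (x : Matrix (Fin n) (Fin n) F)) hpow hne
    (Matrix.GeneralLinearGroup.det g)⁻¹
  set C := A.symm T with hC
  have hCdet : C.det = (((Matrix.GeneralLinearGroup.det g)⁻¹ : Fˣ) : F) := by
    rw [← hTdet, ← LinearMap.det_toLin']
    congr 1
    exact A.apply_symm_apply T
  have hCc : C * (x : Matrix (Fin n) (Fin n) F) = (x : Matrix (Fin n) (Fin n) F) * C := by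
    apply A.injective
    rw [map_mul, map_mul, hC, A.apply_symm_apply]
    exact hTc
  let c : GL (Fin n) F := Matrix.GeneralLinearGroup.mk'' C (by rw [hCdet]; exact Units.isUnit _)
  have hcx : c * x = x * c := Units.ext hCc
  refine ⟨g * c, ?_, ?_⟩
  · rw [Units.val_mul, Matrix.det_mul]
    show (g : Matrix (Fin n) (Fin n) F).det * C.det = 1
    rw [hCdet]
    exact (Matrix.GeneralLinearGroup.det g).mul_inv
  · rw [_root_.mul_inv_rev, mul_assoc g c x, hcx]
    group

end CfsgLib.Known.SemisimpleDet
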