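import Mathlib

/-!
# The rank of an alternating form is even
-/

set_option autoImplicit false

namespace CfsgLib.Known.AltRank

open Module

/-- The rank of an alternating bilinear form is even. -/
theorem even_finrank_range.{u, w} {F : Type w} [Field F] :
    ∀ (n : ℕ) {V : Type u} [AddCommGroup V] [Module F V] [FiniteDimensional F V],
      Module.finrank F V = n → ∀ (B : LinearMap.BilinForm F V), B.IsAlt →
      Even (Module.finrank F (LinearMap.range B)) := by
  intro n
  induction n using Nat.strong_induction_on with
  | _ n ih =>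
    intro V _ _ _ hn B hA
    by_cases h0 : B = 0
    · subst h0
      rw [LinearMap.range_zero, finrank_bot]
      exact ⟨0, rfl⟩
    obtain ⟨u, v', huv⟩ : ∃ u v, B u v ≠ 0 := by
      by_contra hcon
      push Not at hcon
      exact h0 (LinearMap.ext fun u => LinearMap.ext fun v => hcon u v)
    obtain ⟨v, hv⟩ : ∃ v, B u v = 1 :=
      ⟨(B u v')⁻¹ • v', by rw [map_smul, smul_eq_mul, inv_mul_cancel₀ huv]⟩
    have hvu : B v u = -1 := by rw [← hA.neg_eq u v, hv]
    -- the projection onto the orthogonal complement of the hyperbolic plane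
    let π : V →ₗ[F] V := LinearMap.id - (B.flip v).smulRight u + (B.flip u).smulRight v
    have hπ : ∀ x, π x = x - B x v • u + B x u • v := fun x => rfl
    let W : Submodule F V := LinearMap.ker (B.flip u) ⊓ LinearMap.ker (B.flip v)
    have hW : ∀ x ∈ W, B x u = 0 ∧ B x v = 0 := fun x hx => hx
    have hWv : ∀ x ∈ W, B v x = 0 := fun x hx => by rw [← hA.neg_eq x v, (hW x hx).2, neg_zero]
    have hWu : ∀ x ∈ W, B u x = 0 := fun x hx => by rw [← hA.neg_eq x u, (hW x hx).1, neg_zero]
    have hπW : ∀ x, π x ∈ W := fun x => by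
      refine ⟨?_, ?_⟩
      · show B (π x) u = 0
        rw [hπ]
        simp [hA.self_eq_zero u, hvu]
      · show B (π x) v = 0
        rw [hπ]
        simp [hA.self_eq_zero v, hv]
    let BW : LinearMap.BilinForm F W := B.domRestrict₁₂ W W
    -- the kernels agree
    have hker : LinearMap.ker B = (LinearMap.ker BW).map W.subtype := by
      refine le_antisymm (fun x hx => ?_) ?_
      · rw [LinearMap.mem_ker] at hx
        have hxW : x ∈ W := ⟨LinearMap.congr_fun hx u, LinearMap.congr_fun hx v⟩
        refine ⟨⟨x, hxW⟩, ?_, rfl⟩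
        exact LinearMap.mem_ker.2 (LinearMap.ext fun y => LinearMap.congr_fun hx (y : V))
      · rintro _ ⟨x, hx, rfl⟩
        refine LinearMap.mem_ker.2 (LinearMap.ext fun y => ?_)
        have h1 := LinearMap.congr_fun (LinearMap.mem_ker.1 hx) ⟨π y, hπW y⟩
        change B (x : V) (π y) = 0 at h1
        simp only [hπ, map_add, map_sub, map_smul, smul_eq_mul, (hW _ x.2).1, (hW _ x.2).2, mul_zero,
          sub_zero, add_zero] at h1
        exact h1
    -- the complement has codimension two
    let φ : V →ₗ[F] F × F := (B.flip u).prod (B.flip v)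
    have hφsurj : Function.Surjective φ := fun z => by
      refine ⟨z.2 • u - z.1 • v, Prod.ext ?_ ?_⟩
      · show B (z.2 • u - z.1 • v) u = z.1
        simp [hA.self_eq_zero u, hvu]
      · show B (z.2 • u - z.1 • v) v = z.2
        simp [hA.self_eq_zero v, hv]
    have hWφ : LinearMap.ker φ = W := LinearMap.ker_prod _ _
    have hdim : Module.finrank F W + 2 = n := by
      have := φ.finrank_range_add_finrank_ker
      rw [LinearMap.range_eq_top.2 hφsurj, finrank_top, hWφ, Module.finrank_prod, Module.finrank_self, hn] at this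
      omega
    have h1 := ih _ (by omega : Module.finrank F W < n) rfl BW fun x => hA (x : V)
    have h2 := BW.finrank_range_add_finrank_ker
    have h3 := B.finrank_range_add_finrank_ker
    have h4 : Module.finrank F (LinearMap.ker B) = Module.finrank F (LinearMap.ker BW) := by
      rw [hker, Submodule.finrank_map_subtype_eq]
    obtain ⟨c, hc⟩ := h1
    exact ⟨c + 1, by omega⟩

/-- An alternating matrix has even rank. -/
theorem even_rank {F : Type*} [Field F] {ι : Type} [Fintype ι] [DecidableEq ι] (M : Matrix ι ι F)
    (hM : ∀ v, v ⬝ᵥ M.mulVec v = 0) : Even M.rank := by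
  let V := ι → F
  have hA : (Matrix.toLinearMap₂' F M).IsAlt := fun v => by rw [Matrix.toLinearMap₂'_apply']; exact hM v
  let e : (ι → F) ≃ₗ[F] Module.Dual F (ι → F) := (dotProductEquiv F ι)
  have hr : LinearMap.range (Matrix.toLinearMap₂' F M) = (LinearMap.range M.vecMulLinear).map e.toLinearMap := by
    rw [← LinearMap.range_comp]
    congr 1
    ext x y
    simp [Matrix.toLinearMap₂'_apply', e, Matrix.dotProduct_mulVec]
  obtain ⟨c, hc⟩ : Even (Module.finrank F (LinearMap.range (Matrix.toLinearMap₂' F M))) := by
    have key : ∀ (V : Type _) [AddCommGroup V] [Module F V] [FiniteDimensional F V] (B : LinearMap.BilinForm F V),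
        B.IsAlt → Even (Module.finrank F (LinearMap.range B)) := fun V _ _ _ B h => even_finrank_range _ rfl B h
    exact key _ _ hA
  refine ⟨c, ?_⟩
  rw [← hc, hr, LinearEquiv.finrank_map_eq, ← Matrix.rank_transpose, Matrix.rank, Matrix.mulVecLin_transpose]

end CfsgLib.Known.AltRank
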