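import Mathlib
import Cfsg.Agent.Lib.Classical.SLGroup
import Cfsg.Agent.Lib.Classical.SmallIsoSix
import Cfsg.Agent.Lib.Known.AltSixSeven

/-! The Schur multiplier of `SL(2, 9)`. -/

set_option autoImplicit false

namespace CfsgLib.Known.SL2Nine

open scoped MatrixGroups commutatorElement
open CfsgLib.Schur.TransferCocycle Equiv CfsgLib.Char.Exceptional.AltMultiplier

universe u v w

/-- A group with a stem extension over a perfect group is perfect. -/
theorem perfect_of_stem {Γ : Type u} [Group Γ] {Q : Type v} [Group Q] (σ : Γ →* Q) (hσ : Cfsg.IsStemExtension σ)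
    (hQ : commutator Q = ⊤) : commutator Γ = ⊤ := by
  refine eq_top_iff.2 fun g _ => ?_
  have h : (commutator Γ).map σ = ⊤ := by
    rw [commutator_def, Subgroup.map_commutator, Subgroup.map_top_of_surjective _ hσ.1, ← commutator_def, hQ]
  obtain ⟨y, hy, hyg⟩ := h.ge (Subgroup.mem_top (σ g))
  rw [show g = y * (y⁻¹ * g) by group]
  exact (commutator Γ).mul_mem hy (hσ.2.2 (by rw [MonoidHom.mem_ker, map_mul, map_inv, hyg, inv_mul_cancel]))

/-- Stem extensions compose over a perfect group. -/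
theorem stem_comp_central {Γ : Type u} [Group Γ] {Q : Type v} [Group Q] {R : Type w} [Group R] (σ : Γ →* Q)
    (π : Q →* R) (hσ : Cfsg.IsStemExtension σ) (hπs : Function.Surjective π) (hπc : π.ker ≤ Subgroup.center Q)
    (hQ : commutator Q = ⊤) : Cfsg.IsStemExtension (π.comp σ) := by
  have hP := perfect_of_stem σ hσ hQ
  refine ⟨hπs.comp hσ.1, fun g hg => ?_, by rw [hP]; exact le_top⟩
  have hk : ∀ x : Γ, ⁅g, x⁆ ∈ σ.ker := fun x => by
    rw [MonoidHom.mem_ker, map_commutatorElement, commutatorElement_eq_one_iff_mul_comm]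
    exact (Subgroup.mem_center_iff.1 (hπc (show π (σ g) = 1 from hg)) _).symm
  have hmul : ∀ x y : Γ, ⁅g, x * y⁆ = ⁅g, x⁆ * ⁅g, y⁆ := fun x y => by
    have h := Subgroup.mem_center_iff.1 (hσ.2.1 (hk y)) x
    calc ⁅g, x * y⁆ = ⁅g, x⁆ * (x * ⁅g, y⁆ * x⁻¹) := by simp only [commutatorElement_def]; group
      _ = _ := by rw [h, mul_inv_cancel_right]
  let Z : Subgroup Γ := σ.ker
  let φ : Γ →* Z := MonoidHom.mk' (fun x => ⟨⁅g, x⁆, hk x⟩) fun x y => Subtype.ext (hmul x y)
  have hle : commutator Γ ≤ φ.ker := by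
    rw [commutator_def, Subgroup.commutator_le]
    intro a _ b _
    rw [MonoidHom.mem_ker, map_commutatorElement, commutatorElement_eq_one_iff_mul_comm]
    exact Subtype.ext (Subgroup.mem_center_iff.1 (hσ.2.1 (φ b).2) _)
  refine Subgroup.mem_center_iff.2 fun x => ?_
  have hx : φ x = 1 := hle (by rw [hP]; exact Subgroup.mem_top x)
  exact (commutatorElement_eq_one_iff_mul_comm.1 (congrArg Subtype.val hx : ⁅g, x⁆ = 1)).symm

/-- A triple cover of the alternating group of degree six. -/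
theorem exists_triple : ∃ (Δ : Type) (_ : Group Δ) (ρ : Δ →* alternatingGroup (Fin 6)),
    Cfsg.IsStemExtension ρ ∧ Nat.card ρ.ker = 3 := by
  refine ⟨Ext (AltTriple.bigCocycle.pullback AltSixSeven.sixToSeven), inferInstance, Ext.proj,
    AltTriple.stem_pullback AltSixSeven.sixToSeven
    (fun a b h => Subtype.ext (Equiv.Perm.extendDomainHom_injective _ (congrArg Subtype.val h)))
    (ev (Equiv.swap (0 : Fin 6) 1 * Equiv.swap 1 2) (sign_two (by decide) (by decide)))
    (ev (Equiv.swap (3 : Fin 6) 4 * Equiv.swap 4 5) (sign_two (by decide) (by decide)))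
    (by decide +kernel) (by decide +kernel), ?_⟩
  rw [Nat.card_congr Ext.kerEquiv.toEquiv, Nat.card_congr Multiplicative.toAdd, Nat.card_zmod]

/-- The Schur multiplier of `SL(2, 9)`. -/
theorem hasCyclicSchurMultiplier {F : Type u} [Field F] [Fintype F] (hF : Fintype.card F = 9) :
    Cfsg.HasCyclicSchurMultiplier SL(2, F) 3 := by
  classical
  obtain ⟨e⟩ := CfsgLib.Classical.nonempty_psl_nine_equiv_alt hF
  have hSL : commutator SL(2, F) = ⊤ := CfsgLib.Classical.commutator_SL_two_eq_top (by omega)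
  let τ : SL(2, F) →* alternatingGroup (Fin 6) :=
    e.toMonoidHom.comp (QuotientGroup.mk' (Subgroup.center SL(2, F)))
  have hτk : τ.ker = Subgroup.center SL(2, F) := by
    ext x
    simp [τ, MonoidHom.mem_ker]
  have hτs : Function.Surjective τ := e.surjective.comp (QuotientGroup.mk'_surjective _)
  have hτ : Cfsg.IsStemExtension τ := ⟨hτs, hτk.le, by rw [hSL]; exact le_top⟩
  have hc2 : Nat.card (Subgroup.center SL(2, F)) = 2 := by
    have h := CfsgLib.Classical.card_SL_eq_gcd_mul_card_PSL (F := F) (ι := Fin 2)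
    rw [hF, Fintype.card_fin, show Nat.gcd 2 (9 - 1) = 2 from rfl,
      Subgroup.card_eq_card_quotient_mul_card_subgroup (Subgroup.center SL(2, F)), mul_comm] at h
    exact Nat.eq_of_mul_eq_mul_right Nat.card_pos h
  obtain ⟨Δ, iΔ, ρ, hρ, hρ3⟩ := exists_triple
  have hτ2 : Nat.card τ.ker = 2 := by rw [hτk, hc2]
  haveI := Fact.mk Nat.prime_three
  haveI : IsCyclic ρ.ker := isCyclic_of_prime_card hρ3
  let S := CfsgLib.Schur.fibreProduct τ ρ
  have hF' := CfsgLib.Schur.isStemExtension_fibreProduct τ ρ hτ hρ (by rw [hτ2, hρ3]; decide)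
  let p : S →* SL(2, F) := (MonoidHom.fst _ _).comp S.subtype
  have hpk : p.ker ≤ (CfsgLib.Schur.fibreMap τ ρ).ker := fun x hx => by
    show τ x.1.1 = 1
    rw [show x.1.1 = 1 from hx, map_one]
  have hps : Function.Surjective p := fun a => by
    obtain ⟨b, hb⟩ := hρ.1 (τ a)
    exact ⟨⟨(a, b), hb.symm⟩, rfl⟩
  have hp : Cfsg.IsStemExtension p := ⟨hps, hpk.trans hF'.2.1, hpk.trans hF'.2.2⟩
  let f : p.ker →* ρ.ker :=
    MonoidHom.mk' (fun x => ⟨x.1.1.2, ((CfsgLib.Schur.mem_fibreMap_ker τ ρ _).1 (hpk x.2)).2⟩) fun _ _ => rfl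
  have hf : Function.Bijective f := by
    refine ⟨fun x y h => ?_, fun b => ⟨⟨⟨(1, b.1), (map_one τ).trans (show ρ b.1 = 1 from b.2).symm⟩, rfl⟩, rfl⟩⟩
    exact Subtype.ext (Subtype.ext (Prod.ext ((show x.1.1.1 = 1 from x.2).trans (show y.1.1.1 = 1 from y.2).symm)
      (congrArg Subtype.val h)))
  let eρ : ρ.ker ≃* Multiplicative (ZMod 3) :=
    mulEquivOfCyclicCardEq (hρ3.trans ((Nat.card_congr Multiplicative.toAdd).trans (Nat.card_zmod 3)).symm)
  refine CfsgLib.Schur.hasSchurMultiplier_of_witness p hp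
    ((MulEquiv.ofBijective f hf).trans eρ) fun Γ _ _ σ hσ => ?_
  rw [Nat.card_congr Multiplicative.toAdd, Nat.card_zmod]
  have h := stem_comp_central σ τ hσ hτs hτk.le hSL
  have h6 := AltSixSeven.bound_six_card (τ.comp σ) h.1 h.2.1 h.2.2
  have hcard : Nat.card (τ.comp σ).ker = Nat.card σ.ker * 2 := by
    have hle : σ.ker ≤ (τ.comp σ).ker := fun x hx => by simp [MonoidHom.mem_ker.1 hx]
    let g : (τ.comp σ).ker →* τ.ker := MonoidHom.mk' (fun x => ⟨σ x.1, x.2⟩) fun a b => Subtype.ext (map_mul σ _ _)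
    have hg : Function.Surjective g := fun b => by
      obtain ⟨a, ha⟩ := hσ.1 b.1
      exact ⟨⟨a, show τ (σ a) = 1 by rw [ha]; exact b.2⟩, Subtype.ext ha⟩
    let k : g.ker ≃ σ.ker :=
      { toFun := fun x => ⟨x.1.1, congrArg Subtype.val x.2⟩
        invFun := fun x => ⟨⟨x.1, hle x.2⟩, Subtype.ext x.2⟩
        left_inv := fun _ => rfl
        right_inv := fun _ => rfl }
    rw [Subgroup.card_eq_card_quotient_mul_card_subgroup g.ker,
      Nat.card_congr (QuotientGroup.quotientKerEquivOfSurjective g hg).toEquiv, Nat.card_congr k, hτ2, mul_comm]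
  rw [hcard] at h6
  exact Nat.le_of_dvd (by norm_num) (Nat.dvd_of_mul_dvd_mul_right (by norm_num) (show Nat.card σ.ker * 2 ∣ 3 * 2 from h6))

end CfsgLib.Known.SL2Nine
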