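import Mathlib
import Cfsg.Prelude.Def_SevenCases
import Cfsg.Prelude.Def_KGroupFacts
import Cfsg.Agent.Lib.Components.Quasisimple
import Cfsg.Agent.Lib.Techniques.Known
import Cfsg.Agent.Lib.Schur.Multiplier
import Cfsg.Agent.Lib.Known.MultiplierCongr
import Cfsg.Agent.Lib.Known.SL2Nine
import Cfsg.Agent.Lib.PGroups.ThreePrimeModules
import Cfsg.Agent.Lib.Known.BalancePSL.Base
import Cfsg.Agent.Lib.Classical.SL2Pair
import Cfsg.Agent.Lib.Classical.LinearOrder
import Cfsg.Agent.Lib.Classical.Symplectic.MatrixStructure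
import Cfsg.Agent.Lib.Classical.Unitary.Two
import Cfsg.Agent.Lib.Char.Exceptional.AltMultiplierBound
import Cfsg.Agent.Lib.Recog.SporBound.Fi22Group
import Cfsg.Agent.Lib.Known.U43Mult.Cover
import Cfsg.Agent.S0102
import Cfsg.Agent.S0256
import Cfsg.Agent.S2052
import Cfsg.Agent.S2086
import Cfsg.Agent.S2092
import Cfsg.Agent.S2116
import Cfsg.Agent.S2117
import Cfsg.Agent.S2118
import Cfsg.Agent.S2550

/-!
# The families C_p and T_p under quotients

A quotient of a quasisimple group by a central subgroup has the same simple quotient; the exceptions to the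
list of C_p-groups are excluded by their Schur multipliers.
-/

set_option autoImplicit false

namespace CfsgLib.Known.CpQuot

open Cfsg
open CfsgLib.Techniques (nonempty_mulEquiv_congr)

universe u

section Congr

variable {G : Type*} {H : Type*} [Group G] [Group H]

theorem isCpSimple_congr (p : ℕ) (e : G ≃* H) : IsCpSimple p G ↔ IsCpSimple p H := by
  unfold IsCpSimple IsChevSimple IsCTwoListed IsCThreeListed IsCFiveListed IsLieTypeChar IsPSLChar IsPSpChar
    IsPSUChar IsPOmegaOddChar IsPOmegaPlusChar IsPOmegaMinusChar IsExceptionalChevChar IsTwistedE6D4Char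
    Lie.IsoTits Lie.IsoSuzuki Lie.Iso2F4 Lie.IsoRee
    Spor.IsoM11 Spor.IsoM12 Spor.IsoM22 Spor.IsoM23 Spor.IsoM24
    Spor.IsoJ2 Spor.IsoJ3 Spor.IsoJ4 Spor.IsoCo1 Spor.IsoCo2 Spor.IsoCo3 Spor.IsoMcL Spor.IsoHS Spor.IsoSuz
    Spor.IsoHe Spor.IsoRu Spor.IsoON Spor.IsoLy Spor.IsoFi22 Spor.IsoFi23 Spor.IsoFi24'
    Spor.IsoHN Spor.IsoTh Spor.IsoB Spor.IsoM
  simp only [nonempty_mulEquiv_congr e]

/-- an isomorphism carries the centre -/
def centerQuot (e : G ≃* H) : G ⧸ Subgroup.center G ≃* H ⧸ Subgroup.center H :=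
  QuotientGroup.congr _ _ e (by
    ext x
    rw [Subgroup.mem_map]
    constructor
    · rintro ⟨y, hy, rfl⟩
      exact Subgroup.mem_center_iff.2 fun z => e.symm.injective (by
        simpa using Subgroup.mem_center_iff.1 hy (e.symm z))
    · exact fun hx => ⟨e.symm x, Subgroup.mem_center_iff.2 fun z => e.injective (by
        simpa using Subgroup.mem_center_iff.1 hx (e z)), by simp⟩)

theorem card_center_congr (e : G ≃* H) : Nat.card (Subgroup.center G) = Nat.card (Subgroup.center H) :=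
  Nat.card_congr (Subgroup.centerCongr e).toEquiv

theorem exists_order_four_congr (e : G ≃* H) (h : ∃ z ∈ Subgroup.center G, orderOf z = 4) :
    ∃ z ∈ Subgroup.center H, orderOf z = 4 := by
  obtain ⟨z, hz, ho⟩ := h
  exact ⟨e z, Subgroup.mem_center_iff.2 fun x => e.symm.injective (by
    simpa using Subgroup.mem_center_iff.1 hz (e.symm x)), by rw [MulEquiv.orderOf_eq, ho]⟩

theorem isCpException_congr (p : ℕ) (e : G ≃* H) : IsCpException p G ↔ IsCpException p H := by
  have h4 : (∃ z ∈ Subgroup.center G, orderOf z = 4) ↔ ∃ z ∈ Subgroup.center H, orderOf z = 4 :=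
    ⟨exists_order_four_congr e, exists_order_four_congr e.symm⟩
  unfold IsCpException Spor.IsoON
  simp only [nonempty_mulEquiv_congr e, nonempty_mulEquiv_congr (centerQuot e), card_center_congr e, h4]

theorem isPGroup_center_congr (p : ℕ) (e : G ≃* H) :
    IsPGroup p (Subgroup.center G) ↔ IsPGroup p (Subgroup.center H) :=
  ⟨fun h => h.of_equiv (Subgroup.centerCongr e), fun h => h.of_equiv (Subgroup.centerCongr e).symm⟩

theorem inC_congr (p : ℕ) (e : G ≃* H) : InC p G ↔ InC p H := by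
  unfold InC
  rw [Components.isQuasisimple_congr e, isPGroup_center_congr p e, isCpSimple_congr p (centerQuot e),
    isCpException_congr p e]

theorem pRankLE_of (p k : ℕ) (e : G ≃* H) (h : PRankLE p k G) : PRankLE p k H := by
  intro A hA hp
  let B := A.map e.symm.toMonoidHom
  have hc : Nat.card B = Nat.card A := (Nat.card_congr (A.equivMapOfInjective _ e.symm.injective).toEquiv).symm
  rw [← hc]
  refine h B ?_ ?_
  · refine ⟨⟨?_⟩⟩
    rintro ⟨_, a, ha, rfl⟩ ⟨_, b, hb, rfl⟩
    refine Subtype.ext ?_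
    show e.symm a * e.symm b = e.symm b * e.symm a
    rw [← map_mul, ← map_mul]
    exact congrArg _ (congrArg Subtype.val (hA.is_comm.comm ⟨a, ha⟩ ⟨b, hb⟩))
  · rintro _ ⟨a, ha, rfl⟩
    show e.symm a ^ p = 1
    rw [← map_pow, hp a ha, map_one]

theorem pRankAtLeast_of (p k : ℕ) (e : G ≃* H) (h : PRankAtLeast p k G) : PRankAtLeast p k H := by
  obtain ⟨A, hA, hp, hc⟩ := h
  refine ⟨A.map e.toMonoidHom, ?_, ?_, hc.trans_eq (Nat.card_congr (A.equivMapOfInjective _ e.injective).toEquiv)⟩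
  · refine ⟨⟨?_⟩⟩
    rintro ⟨_, a, ha, rfl⟩ ⟨_, b, hb, rfl⟩
    refine Subtype.ext ?_
    show e a * e b = e b * e a
    rw [← map_mul, ← map_mul]
    exact congrArg _ (congrArg Subtype.val (hA.is_comm.comm ⟨a, ha⟩ ⟨b, hb⟩))
  · rintro _ ⟨a, ha, rfl⟩
    show e a ^ p = 1
    rw [← map_pow, hp a ha, map_one]

theorem inT_congr (p : ℕ) (e : G ≃* H) : InT p G ↔ InT p H := by
  have h4 : (∃ z ∈ Subgroup.center G, orderOf z = 4) ↔ ∃ z ∈ Subgroup.center H, orderOf z = 4 :=
    ⟨exists_order_four_congr e, exists_order_four_congr e.symm⟩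
  have hr : (PRankLE p 1 G ↔ PRankLE p 1 H) := ⟨pRankLE_of p 1 e, pRankLE_of p 1 e.symm⟩
  have hr' : (PRankAtLeast p 1 G ↔ PRankAtLeast p 1 H) := ⟨pRankAtLeast_of p 1 e, pRankAtLeast_of p 1 e.symm⟩
  unfold InT
  rw [Components.isQuasisimple_congr e, isPGroup_center_congr p e, Techniques.isKnownSimple'_congr (centerQuot e),
    inC_congr p e]
  unfold Spor.IsoFi22 Spor.IsoM12 Spor.IsoM22 Spor.IsoJ2
  simp only [nonempty_mulEquiv_congr e, nonempty_mulEquiv_congr (centerQuot e), card_center_congr e, h4, hr, hr']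

end Congr

section Quot

variable {K : Type u} [Group K] {p : ℕ} {N : Subgroup K} [N.Normal]

theorem center_quotient (hK : IsQuasisimple K) (hN : N ≤ Subgroup.center K) :
    Subgroup.center (K ⧸ N) = (Subgroup.center K).map (QuotientGroup.mk' N) := by
  refine le_antisymm (fun x hx => ?_) ?_
  · obtain ⟨a, rfl⟩ := QuotientGroup.mk'_surjective N x
    refine ⟨a, ?_, rfl⟩
    refine Components.IsQuasisimple.le_center_of_ne_top hK
      (N := (Subgroup.center (K ⧸ N)).comap (QuotientGroup.mk' N)) inferInstance (fun h => ?_) hx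
    refine Components.IsQuasisimple.center_ne_top (Components.IsQuasisimple.quotient hK (N := N) fun h' => ?_) ?_
    · exact Components.IsQuasisimple.center_ne_top hK (top_le_iff.1 (h'.symm.le.trans hN))
    · rw [← Subgroup.map_comap_eq_self_of_surjective (QuotientGroup.mk'_surjective N) (Subgroup.center (K ⧸ N)), h,
        Subgroup.map_top_of_surjective _ (QuotientGroup.mk'_surjective N)]
  · rintro _ ⟨a, ha, rfl⟩
    refine Subgroup.mem_center_iff.2 fun y => ?_
    obtain ⟨b, rfl⟩ := QuotientGroup.mk'_surjective N y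
    rw [← map_mul, ← map_mul, Subgroup.mem_center_iff.1 ha b]

theorem quot_equiv (hK : IsQuasisimple K) (hN : N ≤ Subgroup.center K) :
    Nonempty ((K ⧸ N) ⧸ Subgroup.center (K ⧸ N) ≃* K ⧸ Subgroup.center K) :=
  ⟨(QuotientGroup.quotientMulEquivOfEq (center_quotient hK hN)).trans
    (QuotientGroup.quotientQuotientEquivQuotient N (Subgroup.center K) hN)⟩

theorem ker_mk_center (hK : IsQuasisimple K) (hN : N ≤ Subgroup.center K) :
    Nat.card (Subgroup.center K) = Nat.card N * Nat.card (Subgroup.center (K ⧸ N)) := by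
  let f : Subgroup.center K →* Subgroup.center (K ⧸ N) :=
    ((QuotientGroup.mk' N).comp (Subgroup.center K).subtype).codRestrict _ fun z => by
      rw [center_quotient hK hN]; exact ⟨z, z.2, rfl⟩
  have hf : Function.Surjective f := by
    rintro ⟨x, hx⟩
    rw [center_quotient hK hN] at hx
    obtain ⟨z, hz, rfl⟩ := hx
    exact ⟨⟨z, hz⟩, Subtype.ext rfl⟩
  have hk : f.ker = N.subgroupOf (Subgroup.center K) := by
    ext z
    rw [MonoidHom.mem_ker, Subgroup.mem_subgroupOf, ← QuotientGroup.eq_one_iff]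
    exact Subtype.ext_iff
  rw [Subgroup.card_eq_card_quotient_mul_card_subgroup f.ker,
    Nat.card_congr (QuotientGroup.quotientKerEquivOfSurjective f hf).toEquiv, hk,
    Nat.card_congr (Subgroup.subgroupOfEquivOfLe hN).toEquiv, mul_comm]

theorem eq_bot_of_card_mul [Finite K] (hK : IsQuasisimple K) (hN : N ≤ Subgroup.center K) {c : ℕ}
    (hc : Nat.card (Subgroup.center (K ⧸ N)) = c) (h : Nat.card (Subgroup.center K) ∣ c) : N = ⊥ := by
  rw [ker_mk_center hK hN, hc] at h
  have hpos : 0 < c := hc ▸ Nat.card_pos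
  exact Subgroup.eq_bot_of_card_eq N (Nat.dvd_one.1 (by
    obtain ⟨k, hk⟩ := h
    exact ⟨k, Nat.eq_of_mul_eq_mul_right hpos (by rw [one_mul]; linarith [hk])⟩))

/-- a stem extension of a group with known multiplier has kernel of order dividing it -/
theorem card_ker_dvd [Finite K] {S : Type} [Group S] {A : Type} [CommGroup A] (hS : HasSchurMultiplier S A)
    (f : K →* S) (hf : Cfsg.IsStemExtension f) : Nat.card f.ker ∣ Nat.card A := by
  have : Small.{0} K := inferInstance
  let e : Shrink.{0} K ≃* K := Shrink.mulEquiv.{0}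
  have hk : (f.comp e.toMonoidHom).ker = f.ker.comap e.toMonoidHom := rfl
  have hst : Cfsg.IsStemExtension (f.comp e.toMonoidHom) := by
    refine ⟨hf.1.comp e.surjective, fun x hx => ?_, fun x hx => ?_⟩
    · refine Subgroup.mem_center_iff.2 fun y => e.injective ?_
      rw [map_mul, map_mul]
      exact Subgroup.mem_center_iff.1 (hf.2.1 (show e x ∈ f.ker from hx)) (e y)
    · have hm : (commutator K).map e.symm.toMonoidHom ≤ commutator (Shrink.{0} K) := by
        rw [commutator_def, Subgroup.map_commutator, commutator_def]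
        exact Subgroup.commutator_mono le_top le_top
      exact hm ⟨e x, hf.2.2 (show e x ∈ f.ker from hx), e.symm_apply_apply x⟩
  obtain ⟨π, hπ⟩ := hS.2 (Shrink.{0} K) (f.comp e.toMonoidHom) hst
  have hcard : Nat.card f.ker = Nat.card (f.comp e.toMonoidHom).ker := by
    rw [hk, Subgroup.comap_equiv_eq_map_symm']
    exact Nat.card_congr (f.ker.equivMapOfInjective _ e.symm.injective).toEquiv
  rw [hcard]
  exact Subgroup.card_dvd_of_surjective π hπ

theorem isStem_of_ker [Finite K] {S : Type*} [Group S] (hK : IsQuasisimple K) (f : K →* S)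
    (hs : Function.Surjective f) (hc : f.ker ≤ Subgroup.center K) : Cfsg.IsStemExtension f :=
  ⟨hs, hc, by haveI := hK.1; rw [Group.IsPerfect.commutator_eq_top]; exact le_top⟩

/-- the centre of a quasisimple group divides the multiplier of its simple quotient -/
theorem card_center_dvd [Finite K] (hK : IsQuasisimple K) {S : Type} [Group S] {A : Type} [CommGroup A]
    (hS : HasSchurMultiplier S A) (e : K ⧸ Subgroup.center K ≃* S) :
    Nat.card (Subgroup.center K) ∣ Nat.card A := by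
  have hk : (e.toMonoidHom.comp (QuotientGroup.mk' (Subgroup.center K))).ker = Subgroup.center K := by
    ext x; simp
  have h := card_ker_dvd hS _ (isStem_of_ker hK (e.toMonoidHom.comp (QuotientGroup.mk' (Subgroup.center K)))
    (e.surjective.comp (QuotientGroup.mk'_surjective _)) hk.le)
  rwa [hk] at h

theorem card_dvd_of_quot [Finite K] (hK : IsQuasisimple K) (hN : N ≤ Subgroup.center K) {S : Type} [Group S]
    {A : Type} [CommGroup A] (hS : HasSchurMultiplier S A) (e : K ⧸ N ≃* S) : Nat.card N ∣ Nat.card A := by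
  have hk : (e.toMonoidHom.comp (QuotientGroup.mk' N)).ker = N := by
    ext x; simp
  have h := card_ker_dvd hS _ (isStem_of_ker hK (e.toMonoidHom.comp (QuotientGroup.mk' N))
    (e.surjective.comp (QuotientGroup.mk'_surjective _)) (hk.le.trans hN))
  rwa [hk] at h

theorem dvd_pow_of_pGroup [Finite K] (hp : p.Prime) {M : Subgroup K} (hM : IsPGroup p M) {m : ℕ}
    (h : Nat.card M ∣ m) {k : ℕ} (hm : ∀ i, p ^ i ∣ m → i ≤ k) : Nat.card M ∣ p ^ k := by
  have : Fact p.Prime := ⟨hp⟩
  obtain ⟨i, hi⟩ := IsPGroup.iff_card.1 hM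
  rw [hi] at h ⊢
  exact pow_dvd_pow p (hm i h)

theorem natCard_zmod (n : ℕ) : Nat.card (Multiplicative (ZMod n)) = n := by
  rw [Nat.card_congr Multiplicative.toAdd, Nat.card_zmod]

end Quot

section SmallCenters

variable {F : Type*} [Field F]

theorem two_ne_zero_of_odd [Fintype F] (h : Odd (Fintype.card F)) : (2 : F) ≠ 0 := by
  intro h2
  have hc : ringChar F = 2 := by
    rcases (Nat.dvd_prime Nat.prime_two).1 ((ringChar.spec F 2).1 (by exact_mod_cast h2)) with h1 | h1
    · exact absurd h1 CharP.ringChar_ne_one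
    · exact h1
  exact (Nat.not_even_iff_odd.2 h) (Nat.even_iff.2 (FiniteField.even_card_iff_char_two.1 hc))

theorem center_SL_ne_bot [Fintype F] (hq : Odd (Fintype.card F)) {n : ℕ} (hn : Even n) (hn0 : 0 < n) :
    Subgroup.center (Matrix.SpecialLinearGroup (Fin n) F) ≠ ⊥ := by
  haveI : Fact (Even (Fintype.card (Fin n))) := ⟨by simpa using hn⟩
  intro h
  have hm : (-1 : Matrix.SpecialLinearGroup (Fin n) F) ∈ Subgroup.center _ :=
    Subgroup.mem_center_iff.2 fun g => by rw [mul_neg, neg_mul, mul_one, one_mul]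
  rw [h, Subgroup.mem_bot] at hm
  have h1 := congrArg (fun g : Matrix.SpecialLinearGroup (Fin n) F => (g : Matrix (Fin n) (Fin n) F) ⟨0, hn0⟩ ⟨0, hn0⟩) hm
  simp at h1
  exact two_ne_zero_of_odd hq (by linear_combination (norm := ring_nf) -h1)

theorem center_Sp_ne_bot [Fintype F] (hq : Odd (Fintype.card F)) {m : ℕ} (hm : 0 < m) :
    Subgroup.center (Matrix.symplecticGroup (Fin m) F) ≠ ⊥ := by
  intro h
  let z : Matrix.symplecticGroup (Fin m) F := ⟨-1, by simp [SymplecticGroup.mem_iff]⟩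
  have hc : z ∈ Subgroup.center _ :=
    Subgroup.mem_center_iff.2 fun g => Subtype.ext (by simp [z])
  rw [h, Subgroup.mem_bot] at hc
  have h1 := congrArg (fun g : Matrix.symplecticGroup (Fin m) F =>
    (g : Matrix (Fin m ⊕ Fin m) (Fin m ⊕ Fin m) F) (.inl ⟨0, hm⟩) (.inl ⟨0, hm⟩)) hc
  simp [z] at h1
  exact two_ne_zero_of_odd hq (by linear_combination (norm := ring_nf) -h1)

theorem card_center_SL_two [Fintype F] (hq : Odd (Fintype.card F)) :
    Nat.card (Subgroup.center (Matrix.SpecialLinearGroup (Fin 2) F)) = 2 := by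
  classical
  refine le_antisymm ?_ ?_
  · rw [Nat.card_congr (Matrix.SpecialLinearGroup.center_equiv_rootsOfUnity' (⟨0, by norm_num⟩ : Fin 2)).toEquiv,
      Nat.card_eq_fintype_card]
    simpa using card_rootsOfUnity F 2
  · exact Subgroup.one_lt_card_iff_ne_bot _ |>.2 (center_SL_ne_bot hq even_two two_pos)

theorem card_psl_two_mul [Fintype F] (hq : Odd (Fintype.card F)) :
    2 * Nat.card (Matrix.ProjectiveSpecialLinearGroup (Fin 2) F) =
      Fintype.card F * (Fintype.card F ^ 2 - 1) := by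
  have h := Subgroup.card_eq_card_quotient_mul_card_subgroup (Subgroup.center (Matrix.SpecialLinearGroup (Fin 2) F))
  rw [card_center_SL_two (F := F) hq, CfsgLib.Classical.SL2Pair.card_SL_two F] at h
  rw [h, mul_comm]

end SmallCenters

section Main

variable {K : Type u} [Group K] [Finite K] {p : ℕ} {N : Subgroup K} [N.Normal]

theorem card_ne_one_of_ne_bot {G : Type*} [Group G] {H : Subgroup G} (h : H ≠ ⊥) : Nat.card H ≠ 1 :=
  fun h1 => h (Subgroup.eq_bot_of_card_eq H h1)

theorem not_exception_of_center_bot {L : Type*} [Group L] (h : Subgroup.center L = ⊥) : ¬ IsCpException p L := by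
  have h1 : Nat.card (Subgroup.center L) = 1 := by rw [h]; simp
  rintro (⟨-, h2⟩ | ⟨-, h2, -⟩)
  · rcases h2 with ⟨F, _, _, hF, ⟨e⟩⟩ | ⟨h2, -⟩ | ⟨F, _, _, hF, (h3 | h3)⟩ | ⟨F, _, _, hF, ⟨e⟩⟩ | ⟨-, z, hz, hz4⟩
    · refine card_ne_one_of_ne_bot (center_SL_ne_bot ?_ even_two two_pos) ((card_center_congr e).symm.trans h1)
      rcases hF with ⟨hpr, hk⟩ | h9
      · refine hpr.odd_of_ne_two fun h2 => ?_
        rcases hk with ⟨k, hk, hk2⟩ | ⟨k, hk2⟩
        · have := Nat.pow_le_pow_right (show 1 ≤ 2 by norm_num) hk; omega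
        · rcases k with _ | _ | k
          · simp [h2] at hk2
          · simp [h2] at hk2
          · have : 2 ^ 2 ≤ 2 ^ (k + 2) := Nat.pow_le_pow_right (by norm_num) (by omega)
            omega
      · rw [h9]; decide
    · omega
    · obtain ⟨e⟩ := h3
      exact card_ne_one_of_ne_bot (center_SL_ne_bot (n := 4) (by rw [hF]; decide) (by decide) (by norm_num))
        ((card_center_congr e).symm.trans h1)
    · obtain ⟨e⟩ := h3
      exact card_ne_one_of_ne_bot (center_Sp_ne_bot (by rw [hF]; decide) two_pos)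
        ((card_center_congr e).symm.trans h1)
    · have := CfsgLib.Classical.Herm.card_center_SU' (F := F) (q := 3) (by rw [hF]; rfl) 4 (by norm_num)
      rw [← card_center_congr e, h1] at this
      norm_num at this
    · rw [h, Subgroup.mem_bot] at hz
      rw [hz, orderOf_one] at hz4
      omega
  · omega

theorem fm9_odd {q : ℕ} (hF : IsFM9 q) : Odd q := by
  rcases hF with ⟨hpr, hk⟩ | h9
  · refine hpr.odd_of_ne_two fun h2 => ?_
    rcases hk with ⟨k, hk, hk2⟩ | ⟨k, hk2⟩
    · have := Nat.pow_le_pow_right (show 1 ≤ 2 by norm_num) hk; omega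
    · rcases k with _ | _ | k
      · simp [h2] at hk2
      · simp [h2] at hk2
      · have : 2 ^ 2 ≤ 2 ^ (k + 2) := Nat.pow_le_pow_right (by norm_num) (by omega)
        omega
  · rw [h9]; decide

/-- a cover of L₃(4) without central elements of order four is no exception -/
theorem l34_not_exception {L : Type*} [Group L] {F : Type} [Field F] [Fintype F] (hF : Fintype.card F = 4)
    (e : L ⧸ Subgroup.center L ≃* Matrix.ProjectiveSpecialLinearGroup (Fin 3) F)
    (h4 : ¬ ∃ z ∈ Subgroup.center L, orderOf z = 4) : ¬ IsCpException 2 L := by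
  obtain ⟨hcard, hniso⟩ := Cfsg.Agent.S2550.result (F := ZMod 2) (K := F) (ZMod.card 2) hF
  obtain ⟨e8⟩ := Cfsg.Agent.S0256.result (F := ZMod 2) (ZMod.card 2)
  have hc : Nat.card (L ⧸ Subgroup.center L) = 20160 := by
    rw [Nat.card_congr e.toEquiv, ← hcard, Nat.card_congr e8.toEquiv,
      CfsgLib.Char.Exceptional.AltMultiplier.card_alt 8 (by norm_num)]
    decide
  rintro (⟨-, h2⟩ | ⟨h23, -⟩)
  · rcases h2 with ⟨E, _, _, hE, ⟨f⟩⟩ | ⟨-, ⟨f⟩⟩ | ⟨E, _, _, hE, (h3 | h3)⟩ | ⟨E, _, _, hE, ⟨f⟩⟩ | ⟨-, h⟩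
    · have hodd := fm9_odd hE
      let eP : L ⧸ Subgroup.center L ≃* Matrix.ProjectiveSpecialLinearGroup (Fin 2) E := centerQuot f
      have h := card_psl_two_mul (F := E) hodd
      rw [← Nat.card_congr eP.toEquiv, hc] at h
      set q := Fintype.card E
      rcases le_or_gt q 34 with hq | hq
      · interval_cases q <;> norm_num at h
      · have : 35 ^ 2 - 1 ≤ q ^ 2 - 1 := Nat.sub_le_sub_right (Nat.pow_le_pow_left hq 2) 1
        have := Nat.mul_le_mul (show 35 ≤ q from hq) this
        omega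
    · exact hniso ⟨e8.trans (f.symm.trans e)⟩
    · obtain ⟨f⟩ := h3
      let eP : L ⧸ Subgroup.center L ≃* Matrix.ProjectiveSpecialLinearGroup (Fin 4) E := centerQuot f
      have hs := CfsgLib.Classical.card_SL (F := E) 4 (by norm_num)
      rw [Subgroup.card_eq_card_quotient_mul_card_subgroup (Subgroup.center (Matrix.SpecialLinearGroup (Fin 4) E)),
        show Nat.card (Matrix.SpecialLinearGroup (Fin 4) E ⧸ Subgroup.center _) = 20160 from
          (Nat.card_congr eP.toEquiv).symm.trans hc, hE] at hs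
      simp [Fin.prod_univ_four] at hs
      omega
    · obtain ⟨f⟩ := h3
      let eP : L ⧸ Subgroup.center L ≃* Cfsg.PSp 2 E := centerQuot f
      have hs := CfsgLib.Classical.Symp.card_symplecticGroup (F := E) (m := 2)
      rw [Subgroup.card_eq_card_quotient_mul_card_subgroup (Subgroup.center (Matrix.symplecticGroup (Fin 2) E)),
        show Nat.card (Matrix.symplecticGroup (Fin 2) E ⧸ Subgroup.center _) = 20160 from
          (Nat.card_congr eP.toEquiv).symm.trans hc, hE] at hs
      norm_num [Finset.prod_range_succ] at hs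
      omega
    · obtain ⟨e0⟩ := CfsgLib.Known.U43Mult.nonempty_equiv hE
      have := CfsgLib.Known.U43Mult.mdl_spec.2
      rw [Nat.card_congr (e0.trans (centerQuot f).symm).toEquiv, hc] at this
      omega
    · exact h4 h
  · omega

theorem orderFour_lift (hK : IsQuasisimple K) (hN : N ≤ Subgroup.center K)
    (h : ∃ z ∈ Subgroup.center (K ⧸ N), orderOf z = 4) : ∃ z ∈ Subgroup.center K, orderOf z = 4 := by
  obtain ⟨z, hz, ho⟩ := h
  rw [center_quotient hK hN] at hz
  obtain ⟨w, hw, rfl⟩ := hz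
  have hd : 4 ∣ orderOf w := ho ▸ orderOf_map_dvd _ w
  have hpos := orderOf_pos w
  refine ⟨w ^ (orderOf w / 4), (Subgroup.center K).pow_mem hw _, ?_⟩
  rw [orderOf_pow' w (Nat.div_pos (Nat.le_of_dvd hpos hd) (by norm_num)).ne',
    Nat.gcd_eq_right (Nat.div_dvd_of_dvd hd), Nat.div_div_self hd hpos.ne']

/-- an exception downstairs is an exception upstairs -/
theorem exception_lift (hp : p.Prime) (hK : IsQuasisimple K) (hZ : IsPGroup p (Subgroup.center K))
    (hN : N ≤ Subgroup.center K) (h : IsCpException p (K ⧸ N)) : IsCpException p K := by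
  obtain ⟨eS⟩ := quot_equiv hK hN
  by_cases hb : N = ⊥
  · exact (isCpException_congr p ((QuotientGroup.quotientMulEquivOfEq hb).trans QuotientGroup.quotientBot)).1 h
  by_cases hL4 : p = 2 ∧ (∃ (F : Type) (_ : Field F) (_ : Fintype F), Fintype.card F = 4 ∧
      Nonempty ((K ⧸ N) ⧸ Subgroup.center (K ⧸ N) ≃* Matrix.ProjectiveSpecialLinearGroup (Fin 3) F)) ∧
      ∃ z ∈ Subgroup.center (K ⧸ N), orderOf z = 4
  · obtain ⟨h2, ⟨F, _, _, hF, ⟨e⟩⟩, h4⟩ := hL4
    exact Or.inl ⟨h2, Or.inr (Or.inr (Or.inr (Or.inr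
      ⟨⟨F, inferInstance, inferInstance, hF, ⟨eS.symm.trans e⟩⟩, orderFour_lift hK hN h4⟩)))⟩
  exfalso
  rcases h with ⟨rfl, h⟩ | ⟨rfl, hc, h⟩
  · rcases h with ⟨F, _, _, hF, ⟨e⟩⟩ | ⟨hc, ⟨e⟩⟩ | ⟨F, _, _, hF, (h3 | h3)⟩ | ⟨F, _, _, hF, ⟨e⟩⟩ | ⟨hL, h4⟩
    · have hd : Nat.card N ∣ 2 ^ 0 := by
        rcases eq_or_ne (Fintype.card F) 9 with h9 | h9
        · refine dvd_pow_of_pGroup hp (hZ.to_le hN) (card_dvd_of_quot hK hN (Cfsg.Agent.S2118.result h9) e)
            fun i hi => ?_
          rw [Nat.card_eq_fintype_card, Fintype.card_multiplicative, ZMod.card] at hi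
          rcases i with _ | i
          · rfl
          · exact absurd ((dvd_pow_self 2 (Nat.succ_ne_zero i)).trans hi) (by decide)
        · refine dvd_pow_of_pGroup hp (hZ.to_le hN) (card_dvd_of_quot hK hN (Cfsg.Agent.S2117.result ?_ h9) e)
            fun i hi => ?_
          · intro h4
            rcases hF with ⟨hpr, -⟩ | h'
            · rw [h4] at hpr; exact absurd hpr (by decide)
            · omega
          rw [natCard_zmod, Nat.dvd_one] at hi
          rcases i with _ | i
          · rfl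
          · exact absurd hi (by simp)
      exact hb (Subgroup.eq_bot_of_card_eq N (Nat.dvd_one.1 hd))
    · let f := (eS.symm.trans e).toMonoidHom.comp (QuotientGroup.mk' (Subgroup.center K))
      have hk : f.ker = Subgroup.center K := by ext x; simp [f]
      have hst := isStem_of_ker hK f ((eS.symm.trans e).surjective.comp (QuotientGroup.mk'_surjective _)) hk.le
      have hle := CfsgLib.Char.Exceptional.AltMultiplier.bound_eight f hst.1 hst.2.1 hst.2.2
      rw [hk, ker_mk_center hK hN, hc] at hle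
      have := Subgroup.one_lt_card_iff_ne_bot N |>.2 hb
      omega
    · obtain ⟨e⟩ := h3
      have hd := card_center_dvd hK (Cfsg.Agent.S2086.result hF 4 (by norm_num) (by norm_num) (by decide))
        (eS.symm.trans (centerQuot e))
      rw [natCard_zmod, ker_mk_center hK hN,
        show Nat.gcd 4 (3 - 1) = 2 from rfl] at hd
      have h1 := Subgroup.one_lt_card_iff_ne_bot N |>.2 hb
      have h2 : 1 < Nat.card (Subgroup.center (K ⧸ N)) := by
        rw [card_center_congr e]
        exact Subgroup.one_lt_card_iff_ne_bot _ |>.2 (center_SL_ne_bot (by rw [hF]; decide) (by decide) (by norm_num))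
      have := Nat.le_of_dvd two_pos hd
      nlinarith
    · obtain ⟨e⟩ := h3
      have hd := card_center_dvd hK (Cfsg.Agent.S2092.result hF 2 le_rfl (by norm_num) (by norm_num))
        (eS.symm.trans (centerQuot e))
      rw [natCard_zmod, ker_mk_center hK hN,
        show Nat.gcd 2 (3 - 1) = 2 from rfl] at hd
      have h1 := Subgroup.one_lt_card_iff_ne_bot N |>.2 hb
      have h2 : 1 < Nat.card (Subgroup.center (K ⧸ N)) := by
        rw [card_center_congr e]
        exact Subgroup.one_lt_card_iff_ne_bot _ |>.2 (center_Sp_ne_bot (by rw [hF]; decide) two_pos)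
      have := Nat.le_of_dvd two_pos hd
      nlinarith
    · obtain ⟨e0⟩ := CfsgLib.Known.U43Mult.nonempty_equiv hF
      haveI : Finite (Cfsg.PSU 4 F 3) := inferInstance
      have hd := card_center_dvd hK (CfsgLib.Known.U43Mult.hasSchurMultiplier_of_equiv e0)
        (eS.symm.trans (centerQuot e))
      have hd4 : Nat.card (Subgroup.center K) ∣ 2 ^ 2 := dvd_pow_of_pGroup hp hZ hd fun i hi => by
        simp at hi
        by_contra h3
        have := (pow_dvd_pow 2 (show 3 ≤ i by omega)).trans hi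
        norm_num at this
      refine hb (eq_bot_of_card_mul hK hN (c := 4) ?_ hd4)
      rw [card_center_congr e, CfsgLib.Classical.Herm.card_center_SU' (by rw [hF]; rfl) 4 (by norm_num)]
      rfl
    · exact hL4 ⟨rfl, hL, h4⟩
  · rcases h with h | h
    · obtain ⟨e⟩ := h
      have hd := card_center_dvd hK (Cfsg.Agent.S2116.result 6 (Or.inl rfl)) (eS.symm.trans e)
      have hd3 : Nat.card (Subgroup.center K) ∣ 3 ^ 1 := dvd_pow_of_pGroup hp hZ hd fun i hi => by
        simp at hi
        by_contra h3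
        have := (pow_dvd_pow 3 (show 2 ≤ i by omega)).trans hi
        norm_num at this
      exact hb (eq_bot_of_card_mul hK hN hc hd3)
    · obtain ⟨e⟩ := h
      have hd := card_center_dvd hK Cfsg.Agent.S2052.result (eS.symm.trans e)
      simp at hd
      exact hb (eq_bot_of_card_mul hK hN hc hd)

theorem inC_quotient (hp : p.Prime) (hN : N ≠ ⊤) (h : InC p K) : InC p (K ⧸ N) := by
  obtain ⟨hK, hZ, hS, hx⟩ := h
  have hN' := Components.IsQuasisimple.le_center_of_ne_top hK (inferInstance : N.Normal) hN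
  obtain ⟨eS⟩ := quot_equiv hK hN'
  refine ⟨Components.IsQuasisimple.quotient hK hN, ?_, (isCpSimple_congr p eS).2 hS,
    fun he => hx (exception_lift hp hK hZ hN' he)⟩
  rw [center_quotient hK hN']
  exact hZ.map _

theorem isCyclic_sylow_of_rank (hp : p.Prime) (hp2 : p ≠ 2) (hr : PRankLE p 1 K) (P : Sylow p K) :
    IsCyclic P := by
  have : Fact p.Prime := ⟨hp⟩
  refine CfsgLib.PGroups.FixRank.isCyclic_of_no_rankTwo hp2 P.2 ?_
  rintro ⟨a, b, -, -, ha, hb, hab, hba⟩
  let A : Subgroup K := Subgroup.closure {a, b}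
  have hc : IsMulCommutative A := ⟨⟨fun x y => Subtype.ext (CfsgLib.PGroups.FixRank.closure_pair_comm hab x x.2 y y.2)⟩⟩
  have hpw : ∀ x ∈ A, x ^ p = 1 :=
    CfsgLib.PGroups.FixRank.closure_pair_pow hab (ha ▸ pow_orderOf_eq_one a) (hb ▸ pow_orderOf_eq_one b)
  have hle := hr A hc hpw
  rw [pow_one] at hle
  have hz : Subgroup.zpowers a = A :=
    Subgroup.eq_of_le_of_card_ge (Subgroup.zpowers_le.2 (Subgroup.subset_closure (by simp)))
      (by rw [Nat.card_zpowers, ha]; exact hle)
  exact hba (hz ▸ Subgroup.subset_closure (by simp))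

theorem eq_bot_of_rank_one (hp : p.Prime) (hp2 : p ≠ 2) (hK : IsQuasisimple K) (hZ : IsPGroup p (Subgroup.center K))
    (hN : N ≤ Subgroup.center K) (hr : PRankLE p 1 K) : N = ⊥ := by
  have : Fact p.Prime := ⟨hp⟩
  have hc : ∀ P : Sylow p (K ⧸ N), IsCyclic P := fun P => by
    obtain ⟨Q, rfl⟩ := Sylow.mapSurjective_surjective (QuotientGroup.mk'_surjective N) p P
    have := isCyclic_sylow_of_rank hp hp2 hr Q
    exact isCyclic_of_surjective ((QuotientGroup.mk' N).subgroupMap (Q : Subgroup K))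
      ((QuotientGroup.mk' N).subgroupMap_surjective _)
  have hperf : commutator K = ⊤ := by haveI := hK.1; exact Group.IsPerfect.commutator_eq_top
  have hperf' : commutator (K ⧸ N) = ⊤ := by
    rw [commutator_def, ← Subgroup.map_top_of_surjective _ (QuotientGroup.mk'_surjective N), ← Subgroup.map_commutator,
      ← commutator_def, hperf]
  have h := Cfsg.Agent.S0102.result hperf' hc (QuotientGroup.mk' N) (QuotientGroup.mk'_surjective N)
    ((QuotientGroup.ker_mk' N).le.trans hN) hperf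
  rw [QuotientGroup.ker_mk'] at h
  obtain ⟨k, hk⟩ := IsPGroup.iff_card.1 (hZ.to_le hN)
  rcases k with _ | k
  · exact Subgroup.eq_bot_of_card_eq N (by simpa using hk)
  · exact absurd (hk ▸ dvd_pow_self p (Nat.succ_ne_zero k)) h

theorem eq_bot_of_simple {S : Type} [Group S] (hS : Subgroup.center S = ⊥) (hN : N ≤ Subgroup.center K)
    (e : K ≃* S) : N = ⊥ := by
  refine Subgroup.eq_bot_of_card_eq N (Nat.dvd_one.1 ((Subgroup.card_dvd_of_le hN).trans (dvd_of_eq ?_)))
  rw [card_center_congr e, hS]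
  simp

theorem center_alt_bot {n : ℕ} (hn : 4 ≤ n) : Subgroup.center (alternatingGroup (Fin n)) = ⊥ :=
  alternatingGroup.center_eq_bot (by simpa using hn)

theorem eq_bot_of_isSimpleGroup {S : Type*} [Group S] [IsSimpleGroup S] (hK : IsQuasisimple K)
    (hN : N ≤ Subgroup.center K) (e : K ≃* S) : N = ⊥ := by
  haveI : IsSimpleGroup K := MulEquiv.isSimpleGroup e
  refine ((inferInstance : N.Normal).eq_bot_or_eq_top).resolve_right fun h => ?_
  exact Components.IsQuasisimple.center_ne_top hK (top_le_iff.1 (h.symm.le.trans hN))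

theorem inT_quotient (hp : p.Prime) (hN : N ≠ ⊤) (h : InT p K)
    (hex : ¬ (p = 2 ∧ Nat.card (Subgroup.center K) = 2 ∧
      ∃ n : ℕ, 9 ≤ n ∧ n ≤ 11 ∧ Nonempty (K ⧸ Subgroup.center K ≃* alternatingGroup (Fin n)))) :
    InCT p (K ⧸ N) := by
  by_cases hb : N = ⊥
  · exact Or.inr ((inT_congr p ((QuotientGroup.quotientMulEquivOfEq hb).trans QuotientGroup.quotientBot)).2 h)
  obtain ⟨hK, hZ, hS, -, hcase⟩ := h
  have hN' := Components.IsQuasisimple.le_center_of_ne_top hK (inferInstance : N.Normal) hN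
  obtain ⟨eS⟩ := quot_equiv hK hN'
  have hqs := Components.IsQuasisimple.quotient hK (N := N) hN
  have hqz : IsPGroup p (Subgroup.center (K ⧸ N)) := by rw [center_quotient hK hN']; exact hZ.map _
  have hqS : IsKnownSimple' ((K ⧸ N) ⧸ Subgroup.center (K ⧸ N)) := (Techniques.isKnownSimple'_congr eS).2 hS
  -- it is enough to give a C_p structure or the T_p condition
  have hC : IsCpSimple p (K ⧸ Subgroup.center K) → ¬ IsCpException p (K ⧸ N) → InCT p (K ⧸ N) :=
    fun h1 h2 => Or.inl ⟨hqs, hqz, (isCpSimple_congr p eS).2 h1, h2⟩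
  have hT : ∀ {R : Prop}, (R → ¬ InC p (K ⧸ N) → InT p (K ⧸ N)) → R → InCT p (K ⧸ N) := fun f r => by
    by_cases hc : InC p (K ⧸ N)
    · exact Or.inl hc
    · exact Or.inr (f r hc)
  have hNcard := Subgroup.one_lt_card_iff_ne_bot N |>.2 hb
  have hfull : ∀ {c : ℕ}, Nat.card (Subgroup.center K) = c → (c = 2 ∨ c = 3) →
      N = Subgroup.center K ∧ Subgroup.center (K ⧸ N) = ⊥ := by
    intro c hc h23
    have hm := ker_mk_center hK hN'
    rw [hc] at hm
    have h1 : Nat.card (Subgroup.center (K ⧸ N)) = 1 := by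
      by_contra h1
      have h0 := Nat.card_pos (α := Subgroup.center (K ⧸ N))
      have : 2 * 2 ≤ Nat.card N * Nat.card (Subgroup.center (K ⧸ N)) := Nat.mul_le_mul hNcard (by omega)
      omega
    refine ⟨Subgroup.eq_of_le_of_card_ge hN' (by rw [hc, hm, h1, mul_one]), Subgroup.eq_bot_of_card_eq _ h1⟩
  rcases hcase with ⟨rfl, h⟩ | ⟨rfl, h⟩ | ⟨rfl, h⟩ | ⟨hp2, hr, -⟩
  · rcases h with ⟨F, _, _, hodd, -, ⟨e⟩⟩ | h7 | ⟨F, _, _, hodd, ⟨e⟩⟩ | ⟨hc, n, hn7, hn11, ⟨e⟩⟩ | ⟨hL, h4⟩
    · exact absurd (eq_bot_of_simple (CfsgLib.Known.BalancePSL.center_psl_bot le_rfl) hN' e) hb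
    · obtain ⟨e⟩ := h7
      exact absurd (eq_bot_of_simple (center_alt_bot (by norm_num)) hN' e) hb
    · have hc2 : Nat.card (Subgroup.center K) = 2 := by
        rw [card_center_congr e]
        exact card_center_SL_two hodd
      obtain ⟨hNeq, hbot⟩ := hfull hc2 (Or.inl rfl)
      subst hNeq
      let eP : K ⧸ Subgroup.center K ≃* Matrix.ProjectiveSpecialLinearGroup (Fin 2) F := centerQuot e
      by_cases hfm : IsFM9 (Fintype.card F)
      · exact hC (Or.inr (Or.inr (Or.inl ⟨rfl, Or.inl ⟨F, inferInstance, inferInstance, hfm, ⟨eP⟩⟩⟩)))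
          (not_exception_of_center_bot hbot)
      · exact hT (fun r hc => ⟨hqs, hqz, hqS, hc, Or.inl ⟨rfl, Or.inl r⟩⟩)
          ⟨F, inferInstance, inferInstance, hodd, hfm, ⟨eP⟩⟩
    · obtain ⟨hNeq, hbot⟩ := hfull hc (Or.inl rfl)
      subst hNeq
      rcases lt_or_ge n 9 with h9 | h9
      swap
      · exact absurd ⟨rfl, hc, n, h9, hn11, ⟨e⟩⟩ hex
      interval_cases n
      · exact hT (fun r hc => ⟨hqs, hqz, hqS, hc, Or.inl ⟨rfl, Or.inr (Or.inl r)⟩⟩) ⟨e⟩
      · obtain ⟨e'⟩ := Cfsg.Agent.S0256.result (F := ZMod 2) (ZMod.card 2)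
        exact hC (Or.inl (Or.inl (Or.inl ⟨ZMod 2, inferInstance, inferInstance, inferInstance, 4, by norm_num,
          by norm_num, ⟨e.trans e'.symm⟩⟩))) (not_exception_of_center_bot hbot)
    · obtain ⟨F, _, _, hF, ⟨e⟩⟩ := hL
      haveI : CharP F 2 := by
        refine CharP.congr (ringChar F) (FiniteField.even_card_iff_char_two.2 (by rw [hF]))
      by_cases h4' : ∃ z ∈ Subgroup.center (K ⧸ N), orderOf z = 4
      · exact hT (fun r hc => ⟨hqs, hqz, hqS, hc, Or.inl ⟨rfl, Or.inr (Or.inr (Or.inr (Or.inr ⟨r, h4'⟩)))⟩⟩)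
          ⟨F, inferInstance, inferInstance, hF, ⟨eS.trans e⟩⟩
      · refine hC (Or.inl (Or.inl (Or.inl ⟨F, inferInstance, inferInstance, inferInstance, 3, by norm_num,
          by norm_num, ⟨e⟩⟩))) fun hx => ?_
        exact l34_not_exception hF (eS.trans e) h4' hx
  · rcases h with h | h | h | h | h | h | h | ⟨hc, ⟨e⟩⟩
    · exact hT (fun r hc => ⟨hqs, hqz, hqS, hc, Or.inr (Or.inl ⟨rfl, Or.inl r⟩)⟩)
        (by obtain ⟨F, i1, i2, h1, ⟨e⟩⟩ := h; exact ⟨F, i1, i2, h1, ⟨eS.trans e⟩⟩)
    · exact hT (fun r hc => ⟨hqs, hqz, hqS, hc, Or.inr (Or.inl ⟨rfl, Or.inr (Or.inl r)⟩)⟩)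
        (by obtain ⟨F, i1, i2, q, h1, h2, ⟨e⟩⟩ := h; exact ⟨F, i1, i2, q, h1, h2, ⟨eS.trans e⟩⟩)
    · exact hT (fun r hc => ⟨hqs, hqz, hqS, hc, Or.inr (Or.inl ⟨rfl, Or.inr (Or.inr (Or.inl r))⟩)⟩)
        ((nonempty_mulEquiv_congr eS).2 h)
    · exact hT (fun r hc => ⟨hqs, hqz, hqS, hc, Or.inr (Or.inl ⟨rfl, Or.inr (Or.inr (Or.inr (Or.inl r)))⟩)⟩)
        ((nonempty_mulEquiv_congr eS).2 h)
    · exact hT (fun r hc => ⟨hqs, hqz, hqS, hc, Or.inr (Or.inl ⟨rfl, Or.inr (Or.inr (Or.inr (Or.inr (Or.inl r))))⟩)⟩)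
        ((nonempty_mulEquiv_congr eS).2 h)
    · exact hT (fun r hc => ⟨hqs, hqz, hqS, hc,
          Or.inr (Or.inl ⟨rfl, Or.inr (Or.inr (Or.inr (Or.inr (Or.inr (Or.inl r)))))⟩)⟩)
        ((nonempty_mulEquiv_congr eS).2 h)
    · exact hT (fun r hc => ⟨hqs, hqz, hqS, hc,
          Or.inr (Or.inl ⟨rfl, Or.inr (Or.inr (Or.inr (Or.inr (Or.inr (Or.inr (Or.inl r))))))⟩)⟩)
        (by obtain ⟨F, i1, i2, h1, ⟨e⟩⟩ := h; exact ⟨F, i1, i2, h1, ⟨eS.trans e⟩⟩)
    · obtain ⟨hNeq, hbot⟩ := hfull hc (Or.inr rfl)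
      exact hC (Or.inr (Or.inl ⟨6, Or.inr (Or.inl rfl), ⟨e⟩⟩)) (not_exception_of_center_bot hbot)
  · obtain ⟨e⟩ := h
    haveI := CfsgLib.Recog.SporBound.Fi22Group.isSimple
    exact absurd (eq_bot_of_isSimpleGroup hK hN' e) hb
  · exact absurd (eq_bot_of_rank_one hp hp2 hK hZ hN' hr) hb

end Main

end CfsgLib.Known.CpQuot
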