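import Cfsg.Agent.Lib.Lie.Suzuki.Group
import Cfsg.Agent.Lib.Known.SLn.Sections
import Cfsg.Agent.Lib.Known.SL2Multiplier
import Cfsg.Agent.Lib.Known.MultiplierCongr
import Cfsg.Agent.Lib.Classical.HomocyclicSylow

/-!
# The Schur multiplier of the Suzuki groups `Sz(q)`, `q ≥ 32`
-/

set_option autoImplicit false

namespace CfsgLib.Known.SuzukiMult

open CfsgLib.Lie.Suzuki CfsgLib.Known.SLn
open scoped commutatorElement

universe u

variable {F : Type u} [Field F] [Fintype F] [CharP F 2] {m : ℕ} (hF : Fintype.card F = 2 ^ (2 * m + 1))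

theorem uS_mul (a b c d : F) : uS hF a b * uS hF c d = uS hF (a + c) (b + d + th F m a * c) :=
  Subtype.ext (Subtype.ext (uM_mul (θ := th F m) (th_tits hF) a b c d))

omit [Fintype F] in
theorem add_self' (a : F) : a + a = 0 := CharTwo.add_self_eq_zero a

theorem uS_zero_zero : uS hF 0 0 = 1 := Subtype.ext (Subtype.ext uM_zero)

theorem uS_split (a b : F) : uS hF a b = uS hF a 0 * uS hF 0 b := by
  rw [uS_mul]; simp

/-- the unipotent group -/
def UU : Subgroup (Cfsg.Sz F m) where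
  carrier := {g | ∃ a b, g = uS hF a b}
  mul_mem' := by
    rintro _ _ ⟨a, b, rfl⟩ ⟨c, d, rfl⟩
    exact ⟨_, _, uS_mul hF a b c d⟩
  one_mem' := ⟨0, 0, (uS_zero_zero hF).symm⟩
  inv_mem' := by
    rintro _ ⟨a, b, rfl⟩
    refine ⟨a, b + th F m a * a, inv_eq_of_mul_eq_one_right ?_⟩
    rw [uS_mul, add_self', ← add_assoc b, add_self', zero_add, add_self', uS_zero_zero]

/-- its centre -/
def ZZ : Subgroup (Cfsg.Sz F m) where
  carrier := {g | ∃ b, g = uS hF 0 b}
  mul_mem' := by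
    rintro _ _ ⟨b, rfl⟩ ⟨d, rfl⟩
    exact ⟨b + d, by rw [uS_mul]; simp⟩
  one_mem' := ⟨0, (uS_zero_zero hF).symm⟩
  inv_mem' := by
    rintro _ ⟨b, rfl⟩
    exact ⟨b, inv_eq_of_mul_eq_one_right (by rw [uS_mul]; simp [add_self', uS_zero_zero])⟩

theorem tS_uS (t : Fˣ) (a b : F) :
    tS hF t * uS hF a b = uS hF ((t : F) ^ 2 / th F m t * a) (th F m t * b) * tS hF t := by
  have hθ0 : th F m (t : F) ≠ 0 := fun h => t.ne_zero ((map_eq_zero _).1 h)
  refine Subtype.ext (Subtype.ext ?_)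
  show tM (th F m) t * uM (th F m) a b = uM (th F m) _ _ * tM (th F m) t
  have ht := th_tits (F := F) hF
  ext i j
  fin_cases i <;> fin_cases j <;>
    simp [tM, uM, fQ, Matrix.mul_apply, Fin.sum_univ_four, map_mul, map_div₀, map_pow, ht _] <;>
    field_simp <;> ring

include hF in
theorem card_ge (hm : 2 ≤ m) : 32 ≤ Fintype.card F := by
  rw [hF]
  exact le_trans (by norm_num) (Nat.pow_le_pow_right (show 1 ≤ 2 by norm_num) (show 5 ≤ 2 * m + 1 by omega))

section Kill

variable {X : Type*} [Group X] (f : F → F → X) (hl : ∀ a b u, f (a + b) u = f b u * f a u)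
  (hr : ∀ t a b, f t (a + b) = f t a * f t b)
include hl hr

/-- scalar invariant pairings vanish -/
theorem kill_scalar (h5 : 5 ≤ Fintype.card F) (hinv : ∀ c : F, c ≠ 0 → ∀ t u, f (c * t) (c * u) = f t u) (t u : F) :
    f t u = 1 := by
  classical
  obtain ⟨x, -, hx⟩ := Finset.exists_mem_notMem_of_card_lt_card
    (s := ((Polynomial.X * (Polynomial.X + 1) * (Polynomial.X ^ 2 + Polynomial.X + 1) : Polynomial F)).roots.toFinset)
    (t := Finset.univ) (by
      rw [Finset.card_univ]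
      refine lt_of_le_of_lt ((Multiset.toFinset_card_le _).trans (Polynomial.card_roots' _)) ?_
      refine lt_of_le_of_lt (show _ ≤ 4 from ?_) (by omega)
      compute_degree)
  have hne : (Polynomial.X * (Polynomial.X + 1) * (Polynomial.X ^ 2 + Polynomial.X + 1) : Polynomial F) ≠ 0 := by
    intro h
    have := congrArg (fun p : Polynomial F => p.coeff 4) h
    simp [mul_add, add_mul, ← pow_succ', ← pow_add, Polynomial.coeff_X_pow, Polynomial.coeff_X, mul_assoc] at this
  rw [Multiset.mem_toFinset, Polynomial.mem_roots hne, Polynomial.IsRoot.def] at hx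
  simp only [Polynomial.eval_mul, Polynomial.eval_add, Polynomial.eval_pow, Polynomial.eval_X, Polynomial.eval_one,
    mul_ne_zero_iff] at hx
  obtain ⟨⟨hx0, hx1⟩, hx2⟩ := hx
  obtain ⟨d, hd⟩ : ∃ d, d = x⁻¹ + (x + 1)⁻¹ + 1 := ⟨_, rfl⟩
  have hd0 : d ≠ 0 := by
    intro h
    apply hx2
    rw [hd] at h
    field_simp at h
    linear_combination h - x * (add_self' (1 : F))
  have e1 : ∀ c : F, c ≠ 0 → ∀ v, f (c * t) v = f t (c⁻¹ * v) := fun c hc v => by
    rw [← hinv c hc t (c⁻¹ * v), mul_inv_cancel_left₀ hc]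
  have key : ∀ v, f t v = f t ((x⁻¹ + (x + 1)⁻¹) * v) := fun v => by
    conv_lhs => rw [show t = (x + 1) * t + x * t by linear_combination -(x * t) * (add_self' (1 : F))]
    rw [hl, e1 x hx0, e1 (x + 1) hx1, ← hr, add_mul]
  have h3 := key (u / d)
  rw [show (x⁻¹ + (x + 1)⁻¹) * (u / d) = u / d + u by
    rw [show x⁻¹ + (x + 1)⁻¹ = d + 1 by linear_combination -hd - (add_self' (1 : F))]
    field_simp; ring, hr] at h3
  exact mul_eq_left.1 h3.symm

/-- twisted invariant pairings vanish -/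
theorem kill_twist (θ : F →+* F) (hθ : IsTitsEndo θ) (h9 : 9 ≤ Fintype.card F)
    (hinv : ∀ c : F, c ≠ 0 → ∀ t u, f (c * t) (θ c / c * u) = f t u) (t u : F) : f t u = 1 := by
  classical
  obtain ⟨x, -, hx⟩ := Finset.exists_mem_notMem_of_card_lt_card
    (s := ((Polynomial.X ^ 8 + Polynomial.X : Polynomial F)).roots.toFinset)
    (t := Finset.univ) (by
      rw [Finset.card_univ]
      refine lt_of_le_of_lt ((Multiset.toFinset_card_le _).trans (Polynomial.card_roots' _)) ?_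
      refine lt_of_le_of_lt (show _ ≤ 8 from ?_) (by omega)
      compute_degree)
  have hne : (Polynomial.X ^ 8 + Polynomial.X : Polynomial F) ≠ 0 := by
    intro h
    have := congrArg (fun p : Polynomial F => p.coeff 8) h
    simp [Polynomial.coeff_X_pow, Polynomial.coeff_X] at this
  rw [Multiset.mem_toFinset, Polynomial.mem_roots hne, Polynomial.IsRoot.def] at hx
  simp only [Polynomial.eval_add, Polynomial.eval_pow, Polynomial.eval_X] at hx
  have hx0 : x ≠ 0 := by rintro rfl; simp at hx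
  have hx1 : x + 1 ≠ 0 := fun h => hx (by
    rw [show x = 1 by linear_combination h - (add_self' (1 : F))]
    simp [add_self'])
  have hθ0 : ∀ c, c ≠ 0 → θ c ≠ 0 := fun c hc h => hc ((map_eq_zero θ).1 h)
  obtain ⟨g, hg⟩ : ∃ g : F → F, g = fun c => c / θ c := ⟨_, rfl⟩
  obtain ⟨d, hd⟩ : ∃ d, d = g x + g 1 + g (x + 1) := ⟨_, rfl⟩
  have hd0 : d ≠ 0 := by
    intro h
    apply hx
    rw [hd, hg] at h
    simp only [map_one, div_one, map_add] at h
    have h1 : θ x + 1 ≠ 0 := by rw [← map_one θ, ← map_add]; exact hθ0 _ hx1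
    have := hθ0 x hx0
    field_simp at h
    have h2 : θ x * θ x + x = 0 := by
      linear_combination h - (θ x * x + θ x) * (add_self' (1 : F))
    have h3 : x ^ 4 + θ x = 0 := by
      have := congrArg θ h2
      rw [map_add, map_mul, hθ, map_zero] at this
      linear_combination this
    have e1 : θ x = x ^ 4 := by linear_combination h3 - x ^ 4 * (add_self' (1 : F))
    rw [e1] at h2
    linear_combination h2
  have e1 : ∀ c : F, c ≠ 0 → ∀ b v, f (c * b) v = f b (g c * v) := fun c hc b v => by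
    rw [← hinv c hc b (g c * v), hg]
    have := hθ0 c hc
    congr 1
    field_simp
  have h3 : f t (g (x + 1) * (u / d)) = f t (g (x + 1) * (u / d) + u) := by
    rw [show g (x + 1) * (u / d) + u = g 1 * (u / d) + g x * (u / d) by
      rw [show g 1 * (u / d) + g x * (u / d) = (d + g (x + 1)) * (u / d) by
        linear_combination (-(u / d)) * hd - (u / d * g (x + 1)) * (add_self' (1 : F))]
      field_simp; ring, hr, ← e1 1 one_ne_zero, ← e1 x hx0, ← hl, ← e1 (x + 1) hx1]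
    congr 1; ring
  rw [hr] at h3
  exact mul_eq_left.1 h3.symm

end Kill

section Lifts

variable {Γ : Type*} [Group Γ] (σ : Γ →* Cfsg.Sz F m) (hs : Function.Surjective σ)
  (hc : σ.ker ≤ Subgroup.center Γ)
include hs hc

theorem conj_t (c : F) (hc0 : c ≠ 0) : ∃ t : Fˣ, ∀ a b, tS hF t * uS hF a b * (tS hF t)⁻¹ =
    uS hF (th F m c / c * a) (c * b) := by
  obtain ⟨t, ht⟩ := (th_bij (F := F) (m := m)).2 c
  have ht0 : t ≠ 0 := by rintro rfl; exact hc0 (by rw [← ht, map_zero])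
  refine ⟨Units.mk0 t ht0, fun a b => ?_⟩
  rw [tS_uS, mul_inv_cancel_right, Units.val_mk0, ← ht, th_tits (F := F) hF]

theorem cml_zz (hm : 2 ≤ m) (b d : F) : cml σ hs (uS hF 0 b) (uS hF 0 d) = 1 := by
  have hcomm : ∀ b d, Commute (uS hF 0 b) (uS hF 0 d) := fun b d => by
    show _ * _ = _ * _
    rw [uS_mul, uS_mul, add_comm b]
  have hz : ∀ b d, cml σ hs (uS hF 0 b) (uS hF 0 d) ∈ Subgroup.center Γ := fun b d =>
    cml_central σ hs hc (hcomm b d)
  refine kill_scalar (fun b d => cml σ hs (uS hF 0 b) (uS hF 0 d)) (fun a b u => ?_) (fun t a b => ?_)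
    (by have := card_ge hF hm; omega) (fun c hc0 b d => ?_) b d
  · have e : uS hF 0 a * uS hF 0 b = uS hF 0 (a + b) := by rw [uS_mul]; simp
    rw [← e, cml_mul_left σ hs hc, Subgroup.mem_center_iff.1 (hz b u), mul_inv_cancel_right]
  · have e : uS hF 0 a * uS hF 0 b = uS hF 0 (a + b) := by rw [uS_mul]; simp
    rw [← e, cml_mul_right σ hs hc, Subgroup.mem_center_iff.1 (hz t b), mul_inv_cancel_right]
  · obtain ⟨t, ht⟩ := conj_t hF σ hs hc c hc0
    have := cml_conj_central σ hs hc (hcomm b d) (tS hF t)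
    rw [ht, ht, mul_zero] at this
    exact this

theorem cml_zu (hm : 2 ≤ m) (b a c : F) : cml σ hs (uS hF 0 b) (uS hF a c) = 1 := by
  have hcomm : ∀ b a c, Commute (uS hF 0 b) (uS hF a c) := fun b a c => by
    show _ * _ = _ * _
    rw [uS_mul, uS_mul, add_comm b]; simp
  have hdrop : ∀ b a c, cml σ hs (uS hF 0 b) (uS hF a c) = cml σ hs (uS hF 0 b) (uS hF a 0) := fun b a c => by
    rw [uS_split hF a c, cml_mul_right σ hs hc, cml_zz hF σ hs hc hm, mul_one, mul_inv_cancel, mul_one]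
  rw [hdrop]
  have hz : ∀ b a, cml σ hs (uS hF 0 b) (uS hF a 0) ∈ Subgroup.center Γ := fun b a =>
    cml_central σ hs hc (hcomm b a 0)
  refine kill_twist (fun b a => cml σ hs (uS hF 0 b) (uS hF a 0)) (fun p q u => ?_) (fun t p q => ?_)
    (th F m) (th_tits hF) (by have := card_ge hF hm; omega) (fun c hc0 b a => ?_) b a
  · have e : uS hF 0 p * uS hF 0 q = uS hF 0 (p + q) := by rw [uS_mul]; simp
    rw [← e, cml_mul_left σ hs hc, Subgroup.mem_center_iff.1 (hz q u), mul_inv_cancel_right]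
  · have e : uS hF p 0 * uS hF q 0 = uS hF (p + q) (th F m p * q) := by rw [uS_mul]; simp
    rw [← hdrop t (p + q) (th F m p * q), ← e, cml_mul_right σ hs hc, Subgroup.mem_center_iff.1 (hz t q),
      mul_inv_cancel_right]
  · obtain ⟨t, ht⟩ := conj_t hF σ hs hc c hc0
    have := cml_conj_central σ hs hc (hcomm b a 0) (tS hF t)
    rw [ht, ht, mul_zero, mul_zero] at this
    exact this

theorem commute_zu (hzu : ∀ b a c, cml σ hs (uS hF 0 b) (uS hF a c) = 1) {x y : Γ} (hx : σ x ∈ ZZ hF) (hy : σ y ∈ UU hF) : Commute x y := by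
  obtain ⟨b, hb⟩ := hx
  obtain ⟨a, c, hac⟩ := hy
  rw [← commutatorElement_eq_one_iff_commute, comm_eq σ hs hc hb hac, hzu]

theorem cml_drop (hzu : ∀ b a c, cml σ hs (uS hF 0 b) (uS hF a c) = 1) (a b c d : F) :
    cml σ hs (uS hF a b) (uS hF c d) = cml σ hs (uS hF a 0) (uS hF c 0) := by
  rw [uS_split hF a b, cml_mul_left σ hs hc, hzu, mul_one, mul_inv_cancel, one_mul,
    uS_split hF c d, cml_mul_right σ hs hc, ← cml_inv σ hs (uS hF 0 d), hzu, inv_one, mul_one,
    mul_inv_cancel, mul_one]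

theorem σ_cml_uu (a c : F) : σ (cml σ hs (uS hF a 0) (uS hF c 0)) ∈ ZZ hF := by
  refine ⟨th F m a * c + th F m c * a, ?_⟩
  rw [σ_cml, commutatorElement_def, mul_inv_eq_iff_eq_mul, mul_inv_eq_iff_eq_mul, uS_mul, uS_mul, uS_mul]
  rw [show (0 : F) + c + a = a + c by ring, map_add, map_zero]
  congr 1
  linear_combination -(th F m c * a) * (add_self' (1 : F))

/-- the kernel meets the derived group of the preimage of `U` in elements killed by `q - 1` -/
theorem pow_eq_one_of_mem (h5 : 5 ≤ Fintype.card F)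
    (hzu : ∀ b a c, cml σ hs (uS hF 0 b) (uS hF a c) = 1)
    {z : Γ} (hz : z ∈ σ.ker) (hU : z ∈ (UU hF).comap σ)
    (hcom : (⟨z, hU⟩ : (UU hF).comap σ) ∈ commutator ((UU hF).comap σ)) : z ^ (Fintype.card F - 1) = 1 := by
  classical
  have hle : ZZ hF ≤ UU hF := fun g ⟨b, hb⟩ => ⟨0, b, hb⟩
  have hcm : ∀ x y : (ZZ hF).comap σ, x * y = y * x := fun x y =>
    Subtype.ext (commute_zu hF σ hs hc hzu x.2 (hle y.2)).eq
  let inst : CommGroup ((ZZ hF).comap σ) := { (inferInstance : Group ((ZZ hF).comap σ)) with mul_comm := hcm }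
  obtain ⟨p, hp⟩ : ∃ p : Fˣ → Γ, ∀ t, σ (p t) = tS hF t :=
    ⟨fun t => lft σ hs (tS hF t), fun t => σ_lft σ hs _⟩
  have hmem : ∀ (g : Γ) (t : Fˣ), σ g = tS hF t → ∀ z : (ZZ hF).comap σ, g * (z : Γ) * g⁻¹ ∈ (ZZ hF).comap σ := by
    intro g t hg z
    obtain ⟨b, hb⟩ := z.2
    refine ⟨th F m t * b, ?_⟩
    rw [map_mul, map_mul, map_inv, hg, hb, tS_uS, mul_inv_cancel_right, mul_zero]
  let φ : Fˣ → ((ZZ hF).comap σ →* (ZZ hF).comap σ) := fun t =>
    MonoidHom.mk' (fun z => ⟨p t * z * (p t)⁻¹, hmem _ t (hp t) z⟩)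
      fun a b => Subtype.ext (Elem.conj_mul_conj (p t) (a : Γ) b)
  let ρ : (ZZ hF).comap σ →* (ZZ hF).comap σ := ∏ t : Fˣ, φ t
  have hρ : ∀ (s : Fˣ) (x y : (ZZ hF).comap σ), (y : Γ) = p s * x * (p s)⁻¹ → ρ y = ρ x := by
    intro s x y e
    simp only [ρ, MonoidHom.finsetProd_apply]
    refine Fintype.prod_equiv (Equiv.mulRight s) _ _ fun t => Subtype.ext ?_
    show p t * (y : Γ) * (p t)⁻¹ = p (t * s) * (x : Γ) * (p (t * s))⁻¹
    have hz' : (p (t * s))⁻¹ * (p t * p s) ∈ Subgroup.center Γ := hc (by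
      rw [MonoidHom.mem_ker, map_mul, map_inv, map_mul, hp, hp, hp, map_mul, inv_mul_cancel])
    rw [e, show p t * (p s * (x : Γ) * (p s)⁻¹) * (p t)⁻¹ = p (t * s) * (((p (t * s))⁻¹ * (p t * p s)) * x *
      ((p (t * s))⁻¹ * (p t * p s))⁻¹) * (p (t * s))⁻¹ by group, ← Subgroup.mem_center_iff.1 hz' (x : Γ),
      mul_inv_cancel_right]
  obtain ⟨C, hC⟩ : ∃ C : F → F → (ZZ hF).comap σ, C = fun a c =>
      ⟨cml σ hs (uS hF a 0) (uS hF c 0), σ_cml_uu hF σ hs hc a c⟩ := ⟨_, rfl⟩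
  have hfix : ∀ (g : Γ), σ g ∈ UU hF → ∀ w : (ZZ hF).comap σ, g * (w : Γ) * g⁻¹ = w := fun g hg w => by
    rw [← (commute_zu hF σ hs hc hzu w.2 hg).eq, mul_inv_cancel_right]
  have hkill : ∀ a c, ρ (C a c) = 1 := by
    refine kill_scalar (fun a c => ρ (C a c)) (fun a b u => ?_) (fun t a b => ?_)
      h5 (fun c hc0 a b => ?_)
    · rw [← map_mul]
      refine congrArg ρ (Subtype.ext ?_)
      rw [Subgroup.coe_mul, hC]
      show cml σ hs (uS hF (a + b) 0) (uS hF u 0) = cml σ hs (uS hF b 0) (uS hF u 0) * cml σ hs (uS hF a 0) (uS hF u 0)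
      rw [← cml_drop hF σ hs hc hzu (a + b) (th F m a * b) u 0,
        show uS hF (a + b) (th F m a * b) = uS hF a 0 * uS hF b 0 by rw [uS_mul]; simp, cml_mul_left σ hs hc,
        hfix (lft σ hs (uS hF a 0)) ⟨a, 0, σ_lft σ hs _⟩ ⟨_, σ_cml_uu hF σ hs hc b u⟩]
    · rw [← map_mul]
      refine congrArg ρ (Subtype.ext ?_)
      rw [Subgroup.coe_mul, hC]
      show cml σ hs (uS hF t 0) (uS hF (a + b) 0) = cml σ hs (uS hF t 0) (uS hF a 0) * cml σ hs (uS hF t 0) (uS hF b 0)
      rw [← cml_drop hF σ hs hc hzu t 0 (a + b) (th F m a * b),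
        show uS hF (a + b) (th F m a * b) = uS hF a 0 * uS hF b 0 by rw [uS_mul]; simp, cml_mul_right σ hs hc,
        hfix (lft σ hs (uS hF a 0)) ⟨a, 0, σ_lft σ hs _⟩ ⟨_, σ_cml_uu hF σ hs hc t b⟩]
    · have hbij : Function.Bijective fun e : {e : F // e ≠ 0} =>
          (⟨th F m e.1 / e.1, div_ne_zero (fun h => e.2 ((map_eq_zero _).1 h)) e.2⟩ : {e : F // e ≠ 0}) := by
        refine Finite.injective_iff_bijective.1 fun e e' h => Subtype.ext ?_
        have h' := congrArg Subtype.val h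
        dsimp only at h'
        have hu : th F m (e.1 / e'.1) = e.1 / e'.1 := by
          have := e.2; have := e'.2
          have : th F m e'.1 ≠ 0 := fun h => e'.2 ((map_eq_zero _).1 h)
          rw [map_div₀]
          field_simp at h' ⊢
          linear_combination h'
        have h2 := th_tits (F := F) hF (e.1 / e'.1)
        rw [hu, hu] at h2
        have h1 : e.1 / e'.1 = 1 := mul_left_cancel₀ (div_ne_zero e.2 e'.2)
          (by rw [mul_one, ← sq]; exact h2.symm)
        exact (div_eq_one_iff_eq e'.2).1 h1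
      obtain ⟨⟨e, he0⟩, he⟩ := hbij.2 ⟨c, hc0⟩
      have he' : th F m e / e = c := congrArg Subtype.val he
      obtain ⟨t, ht⟩ := conj_t hF σ hs hc e he0
      refine hρ t _ _ ?_
      rw [hC]
      show cml σ hs (uS hF (c * a) 0) (uS hF (c * b) 0) = p t * cml σ hs (uS hF a 0) (uS hF b 0) * (p t)⁻¹
      have hz' : (lft σ hs (tS hF t))⁻¹ * p t ∈ Subgroup.center Γ := hc (by
        rw [MonoidHom.mem_ker, map_mul, map_inv, hp, σ_lft, inv_mul_cancel])
      rw [show p t * cml σ hs (uS hF a 0) (uS hF b 0) * (p t)⁻¹ = lft σ hs (tS hF t) *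
          (((lft σ hs (tS hF t))⁻¹ * p t) * cml σ hs (uS hF a 0) (uS hF b 0) *
          ((lft σ hs (tS hF t))⁻¹ * p t)⁻¹) * (lft σ hs (tS hF t))⁻¹ by group,
        ← Subgroup.mem_center_iff.1 hz', mul_inv_cancel_right, cml_conj σ hs hc, ht, ht, mul_zero, he']
  have hK : (commutator ((UU hF).comap σ)).map ((UU hF).comap σ).subtype ≤
      ρ.ker.map ((ZZ hF).comap σ).subtype := by
    rw [commutator_def, Subgroup.map_commutator, Subgroup.commutator_le]
    rintro _ ⟨x, -, rfl⟩ _ ⟨y, -, rfl⟩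
    obtain ⟨a, b, hab⟩ := x.2
    obtain ⟨c, d, hcd⟩ := y.2
    refine ⟨C a c, hkill a c, ?_⟩
    rw [hC]
    show cml σ hs (uS hF a 0) (uS hF c 0) = ⁅(x : Γ), (y : Γ)⁆
    rw [comm_eq σ hs hc hab hcd, cml_drop hF σ hs hc hzu a b c d]
  obtain ⟨w, hw, e⟩ := hK ⟨⟨z, hU⟩, hcom, rfl⟩
  replace e : (w : Γ) = z := e
  have hw' : ρ w = w ^ (Fintype.card F - 1) := by
    simp only [ρ, MonoidHom.finsetProd_apply]
    rw [Finset.prod_congr rfl fun t _ => show φ t w = w from Subtype.ext (by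
      show p t * (w : Γ) * (p t)⁻¹ = w
      rw [e, Subgroup.mem_center_iff.1 (hc hz) (p t), mul_inv_cancel_right]),
      Finset.prod_const, Finset.card_univ, Fintype.card_units]
  rw [show ρ w = 1 from hw] at hw'
  rw [← e, ← Subgroup.coe_pow, ← hw', Subgroup.coe_one]

end Lifts

theorem card_UU : Nat.card (UU hF) = Fintype.card F ^ 2 := by
  let φ : F × F → UU hF := fun p => ⟨uS hF p.1 p.2, p.1, p.2, rfl⟩
  have hφ : Function.Bijective φ := by
    refine ⟨fun p q h => ?_, ?_⟩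
    · obtain ⟨e1, e2, -⟩ := uS_tS_inj hF (a := p.1) (b := p.2) (a' := q.1) (b' := q.2) (t := 1) (t' := 1)
        (by rw [show uS hF p.1 p.2 = uS hF q.1 q.2 from congrArg Subtype.val h])
      exact Prod.ext e1 e2
    · rintro ⟨_, a, b, rfl⟩
      exact ⟨(a, b), rfl⟩
  rw [← Nat.card_eq_of_bijective φ hφ, Nat.card_prod, Nat.card_eq_fintype_card, sq]

include hF in
theorem isCyclic_sylow_of_dvd (r : ℕ) [Fact r.Prime] (hr : r ∣ Fintype.card F ^ 2 + 1) (R : Sylow r (Cfsg.Sz F m)) :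
    IsCyclic R := by
  have hp : r.Prime := Fact.out
  have hrq : ¬ r ∣ Fintype.card F := fun h =>
    hp.not_dvd_one ((Nat.dvd_add_right (dvd_pow h two_ne_zero)).1 hr)
  have h1 : (Fintype.card F : ZMod r) ^ 2 = -1 := by
    have := (ZMod.natCast_eq_zero_iff _ _).2 hr
    push_cast at this
    exact eq_neg_of_add_eq_zero_left this
  have hr4 : 4 < r := by
    have h2 := hp.two_le
    have hodd : ¬ 2 ∣ Fintype.card F ^ 2 + 1 := by rw [hF, ← pow_mul]; simp [← even_iff_two_dvd, parity_simps]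
    have h3 : ¬ 3 ∣ Fintype.card F ^ 2 + 1 := by
      rw [hF, ← pow_mul, Nat.dvd_iff_mod_eq_zero, show (2 * m + 1) * 2 = 2 * (2 * m + 1) by ring, pow_mul,
        Nat.add_mod, Nat.pow_mod]
      norm_num
    have h4 : r ≠ 4 := fun h => by rw [h] at hp; norm_num at hp
    have h5 : r ≠ 2 := fun h => hodd (h ▸ hr)
    have h6 : r ≠ 3 := fun h => h3 (h ▸ hr)
    omega
  have : Fact (2 < r) := ⟨by omega⟩
  have hd : orderOf (Fintype.card F : ZMod r) = 4 := by
    have h' : orderOf (Fintype.card F : ZMod r) = 2 ^ (1 + 1) := orderOf_eq_prime_pow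
      (fun h => by
        rw [pow_one, h1] at h
        exact absurd ((ZMod.neg_one_ne_one (n := r)) h) id)
      (by rw [show (2 : ℕ) ^ (1 + 1) = 2 * 2 by norm_num, pow_mul, h1, neg_one_sq])
    simpa using h'
  obtain ⟨φ, hφ⟩ := CfsgLib.Classical.Homocyclic.exists_hom_GL (F := F) 4 hrq
  let ι : R →* GL (Fin 4) F :=
    (Matrix.SpecialLinearGroup.toGL.comp (Cfsg.Sz F m).subtype).comp (R : Subgroup (Cfsg.Sz F m)).subtype
  have hι : Function.Injective ι := fun a b h => Subtype.ext (Subtype.ext (Subtype.ext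
    (congrArg Units.val h : _)))
  obtain ⟨Q, hQ⟩ := (IsPGroup.of_surjective R.2 ι.rangeRestrict ι.rangeRestrict_surjective : IsPGroup r ι.range).exists_le_sylow
  obtain ⟨e⟩ := CfsgLib.Classical.Homocyclic.sylow_homocyclic φ hφ (CfsgLib.Classical.Homocyclic.val_card_GL 4 hr4 hrq) Q
  have : Unique (Fin (4 / orderOf (Fintype.card F : ZMod r))) := by rw [hd]; exact inferInstanceAs (Unique (Fin 1))
  have hcy : IsCyclic Q := isCyclic_of_surjective _ ((MulEquiv.funUnique _ _).symm.trans e.symm).surjective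
  have hcy' : IsCyclic ι.range := isCyclic_of_injective _ (Subgroup.inclusion_injective hQ)
  exact isCyclic_of_surjective _ (MonoidHom.ofInjective hι).symm.surjective

include hF in
theorem hasCyclicSchurMultiplier_sz (hm : 2 ≤ m) : Cfsg.HasCyclicSchurMultiplier (Cfsg.Sz F m) 1 := by
  classical
  refine CfsgLib.Schur.hasCyclicSchurMultiplier_one_of_forall fun Γ _ _ σ hσ =>
    (Subgroup.eq_bot_iff_forall _).2 fun z hz => ?_
  have hcard := nat_card hF (by omega : 1 ≤ m)
  have hq := card_ge hF hm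
  rw [← orderOf_eq_one_iff]
  by_contra hne
  obtain ⟨r, hr, hrz⟩ := Nat.exists_prime_and_dvd hne
  have := Fact.mk hr
  have hodd1 : ¬ 2 ∣ Fintype.card F - 1 := by
    have : 2 ∣ Fintype.card F := by rw [hF]; exact dvd_pow_self 2 (by omega)
    omega
  have hodd2 : ¬ 2 ∣ Fintype.card F ^ 2 + 1 := by
    have : 2 ∣ Fintype.card F ^ 2 := by rw [hF]; exact dvd_pow (dvd_pow_self 2 (by omega)) two_ne_zero
    omega
  by_cases hr2 : r = 2
  · subst hr2
    obtain ⟨h, hmem⟩ := CfsgLib.Schur.pow_index_mem_commutator ((UU hF).comap σ) (hσ.2.1 hz) (hσ.2.2 hz)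
    have hk := pow_eq_one_of_mem hF σ hσ.1 hσ.2.1 (by omega) (cml_zu hF σ hσ.1 hσ.2.1 hm) (pow_mem hz _) h hmem
    rw [← pow_mul, Subgroup.index_comap_of_surjective _ hσ.1] at hk
    have hidx : (UU hF).index = (Fintype.card F ^ 2 + 1) * (Fintype.card F - 1) := by
      have h1 := Subgroup.card_mul_index (UU hF)
      rw [card_UU, hcard, mul_assoc] at h1
      exact Nat.eq_of_mul_eq_mul_left (by positivity) h1
    have := hrz.trans (orderOf_dvd_of_pow_eq_one hk)
    rw [hidx] at this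
    rcases (Nat.prime_two.dvd_mul).1 this with h' | h'
    · rcases (Nat.prime_two.dvd_mul).1 h' with h'' | h''
      · exact hodd2 h''
      · exact hodd1 h''
    · exact hodd1 h'
  have key : ∃ U : Subgroup (Cfsg.Sz F m), ¬ r ∣ U.index ∧ Cfsg.HasCyclicSchurMultiplier U 1 := by
    by_cases hr1 : r ∣ Fintype.card F ^ 2 + 1
    · obtain ⟨R⟩ : Nonempty (Sylow r (Cfsg.Sz F m)) := inferInstance
      have := isCyclic_sylow_of_dvd hF r hr1 R
      exact ⟨R, Sylow.not_dvd_index R, CfsgLib.Schur.hasCyclicSchurMultiplier_one_of_isCyclic _⟩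
    · have hinj : Function.Injective (tS hF) := fun a b h => (uS_tS_inj hF (a := 0) (b := 0) (a' := 0) (b' := 0)
        (by rw [h])).2.2
      have hc' : Nat.card (tS hF).range = Fintype.card F - 1 := by
        rw [← Nat.card_congr (MonoidHom.ofInjective hinj).toEquiv, Nat.card_units, Nat.card_eq_fintype_card]
      have : IsCyclic (tS hF).range := isCyclic_of_surjective _ (tS hF).rangeRestrict_surjective
      refine ⟨(tS hF).range, fun hd => ?_, CfsgLib.Schur.hasCyclicSchurMultiplier_one_of_isCyclic _⟩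
      have h1 := Subgroup.card_mul_index (tS hF).range
      rw [hc', hcard, mul_comm _ (Fintype.card F - 1)] at h1
      rw [Nat.eq_of_mul_eq_mul_left (by omega) h1] at hd
      rcases hr.dvd_mul.1 hd with h' | h'
      · exact hr2 ((Nat.prime_dvd_prime_iff_eq hr Nat.prime_two).1 (hr.dvd_of_dvd_pow (hF ▸ hr.dvd_of_dvd_pow h')))
      · exact hr1 h'
  obtain ⟨U, hU1, hU2⟩ := key
  exact hU1 (hrz.trans (orderOf_dvd_of_pow_eq_one (CfsgLib.Known.SL2Mult.pow_index_eq_one σ hσ U
    (fun z h hk hc' => CfsgLib.Known.SL2Mult.trivial_of_mult σ hσ U hU2 z h hk hc') hz)))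

end CfsgLib.Known.SuzukiMult
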