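import Cfsg.Agent.Lib.Lie.Rel.Bruhat
import Cfsg.Agent.Lib.Lie.Rel.FieldAut
import Cfsg.Agent.Lib.Lie.Rel.Torus
import Cfsg.Agent.Lib.Lie.Rel.Inst
import Cfsg.Agent.Lib.Known.AutPSL.FieldCent
import Cfsg.Prelude.Def_ChevAutomorphisms

/-!
# Fixed points of field automorphisms of Chevalley groups

By uniqueness of the normal form a fixed element has fixed factors.
-/

set_option autoImplicit false

namespace CfsgLib.Known.ChevFixed

open Cfsg.Lie (ChevalleyDatum)
open CfsgLib.Lie.Chev

variable {D : ChevalleyDatum} {X : Aux} (C : Cert D X) {F K : Type*} [Field F] [Field K]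

/-- The map of groups induced by a map of fields. -/
def groupMap (D : ChevalleyDatum) (j : K →+* F) : ↥(D.group K) →* ↥(D.group F) :=
  ((glMap D j).comp (D.group K).subtype).codRestrict (D.group F) fun g => map_group_le D j ⟨g, g.2, rfl⟩

theorem groupMap_injective (j : K →+* F) : Function.Injective (groupMap D j) := by
  intro a b h
  refine Subtype.ext (Units.ext ?_)
  have h1 := congrArg (fun g : ↥(D.group F) => ((g : GL D.Idx F) : Matrix D.Idx D.Idx F)) h
  exact Matrix.map_injective j.injective h1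

theorem groupMap_xe (j : K →+* F) (r : ℕ) (t : K) :
    groupMap D j ((chevRel C K).xe r t) = (chevRel C F).xe r (j t) :=
  Subtype.ext (Units.ext (x_map D j r t))

theorem fieldAut_xe (σ : F ≃+* F) (r : ℕ) (t : F) :
    fieldAut D σ ((chevRel C F).xe r t) = (chevRel C F).xe r (σ t) :=
  Subtype.ext (Units.ext (x_map D σ.toRingHom r t))

theorem fieldAut_ne (σ : F ≃+* F) (r : ℕ) (c : F) :
    fieldAut D σ ((chevRel C F).ne r c) = (chevRel C F).ne r (σ c) := by
  simp only [Rel.ne, neOf, map_mul, fieldAut_xe, map_neg, map_inv₀]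

theorem fieldAut_he (σ : F ≃+* F) (r : ℕ) (c : F) :
    fieldAut D σ ((chevRel C F).he r c) = (chevRel C F).he r (σ c) := by
  show fieldAut D σ ((chevRel C F).ne r c * (chevRel C F).ne r (-1)) =
    (chevRel C F).ne r (σ c) * (chevRel C F).ne r (-1)
  rw [map_mul, fieldAut_ne, fieldAut_ne, map_neg, map_one]

theorem fieldAut_mem_US (σ : F ≃+* F) (S : Set (Fin D.nroots)) {g : ↥(D.group F)}
    (hg : g ∈ (chevRel C F).US S) : fieldAut D σ g ∈ (chevRel C F).US S := by
  suffices h : (chevRel C F).US S ≤ Subgroup.comap (fieldAut D σ : ↥(D.group F) →* ↥(D.group F)) ((chevRel C F).US S) from h hg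
  refine (chevRel C F).US_le fun r hr t => ?_
  show fieldAut D σ _ ∈ (chevRel C F).US S
  rw [fieldAut_xe]
  exact (chevRel C F).xe_mem_US hr _

theorem fieldAut_mem_HS (σ : F ≃+* F) {g : ↥(D.group F)} (hg : g ∈ (chevRel C F).HS) :
    fieldAut D σ g ∈ (chevRel C F).HS := by
  suffices h : (chevRel C F).HS ≤ Subgroup.comap (fieldAut D σ : ↥(D.group F) →* ↥(D.group F)) ((chevRel C F).HS) from h hg
  refine (Subgroup.closure_le _).2 ?_
  rintro _ ⟨i, c, hc, rfl⟩
  show fieldAut D σ _ ∈ (chevRel C F).HS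
  rw [fieldAut_he]
  exact (chevRel C F).he_mem_HS i (by simpa using hc)

theorem fieldAut_mem_BS (σ : F ≃+* F) {g : ↥(D.group F)} (hg : g ∈ (chevRel C F).BS) :
    fieldAut D σ g ∈ (chevRel C F).BS := by
  obtain ⟨u, hu, h, hh, rfl⟩ := (chevRel C F).exists_of_mem_BS hg
  rw [map_mul]
  exact mul_mem ((chevRel C F).UP_le_BS (fieldAut_mem_US C σ _ hu)) ((chevRel C F).HS_le_BS (fieldAut_mem_HS C σ hh))

theorem fieldAut_oprod (σ : F ≃+* F) (k n : ℕ) (t : ℕ → F) :
    fieldAut D σ ((chevRel C F).oprod k n t) = (chevRel C F).oprod k n fun r => σ (t r) := by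
  simp only [Rel.oprod, map_list_prod, List.map_map, Function.comp_def, fieldAut_xe]

theorem fieldAut_torusHom (σ : F ≃+* F) (c : Fin D.rank → Fˣ) :
    fieldAut D σ ((chevRel C F).torusHom c : ↥(D.group F)) =
      ((chevRel C F).torusHom fun i => Units.map (σ : F →* F) (c i) : ↥(D.group F)) := by
  refine chevRel_injective C F ((chevRel C F).θ_eq_of_mat ?_)
  rw [torusHom_mat C F]
  show ((chevRel C F).mat ((chevRel C F).torusHom c)).map σ.toRingHom = _
  rw [torusHom_mat C F, Matrix.diagonal_map (map_zero _)]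
  congr 1
  funext x
  cases x with
  | inl i => exact map_one σ
  | inr s =>
    show σ _ = _
    simp only [Sum.elim_inr, Units.coe_prod, map_prod, Units.val_zpow_eq_zpow_val, map_zpow₀]
    rfl

/-- The fixed points of a field automorphism are the points over the fixed field. -/
theorem eq_range_of_fixed (σ : F ≃+* F) (j : K →+* F) (hj : ∀ a : F, σ a = a ↔ a ∈ j.range)
    (hker : ∀ c : Fin D.rank → Fˣ, (chevRel C F).torusHom c = 1 → c = 1) {g : ↥(D.group F)}
    (hg : fieldAut D σ g = g) : g ∈ (groupMap D j).range := by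
  obtain ⟨R, hR⟩ : ∃ R, R = chevRel C F := ⟨_, rfl⟩
  subst hR
  have hxe : ∀ r t, σ t = t → (chevRel C F).xe r t ∈ (groupMap D j).range := fun r t ht => by
    obtain ⟨a, rfl⟩ := (hj t).1 ht
    exact ⟨_, groupMap_xe C j r a⟩
  have hne : ∀ r c, σ c = c → (chevRel C F).ne r c ∈ (groupMap D j).range := fun r c hc => by
    refine mul_mem (mul_mem (hxe _ _ hc) (hxe _ _ ?_)) (hxe _ _ hc)
    rw [map_neg, map_inv₀, hc]
  have hfix : ∀ x ∈ (groupMap D j).range, fieldAut D σ x = x := by
    rintro _ ⟨x, rfl⟩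
    refine Subtype.ext (Units.ext ?_)
    ext a b
    exact (hj _).2 ⟨_, rfl⟩
  obtain ⟨b, hb, n, u, hu, rfl⟩ := (chevRel C F).exists_bnu g
  obtain ⟨l, hl⟩ := (chevRel C F).exists_word n
  obtain ⟨n', hn'⟩ : ∃ n', n' = (l.map (chevRel C F).nS).prod := ⟨_, rfl⟩
  have hqn : (chevRel C F).qmk n' = (chevRel C F).qmk n := by
    rw [hl, hn', map_list_prod, List.map_map]; rfl
  have hn'mem : (n' : ↥(D.group F)) ∈ (groupMap D j).range := by
    rw [hn', SubmonoidClass.coe_list_prod, List.map_map]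
    refine list_prod_mem fun x hx => ?_
    obtain ⟨i, -, rfl⟩ := List.mem_map.1 hx
    exact hne _ _ (map_one σ)
  have hH : (n : ↥(D.group F)) * (n' : ↥(D.group F))⁻¹ ∈ (chevRel C F).HS :=
    (chevRel C F).qmk_eq_one (g := n * n'⁻¹) |>.1 (by rw [map_mul, map_inv, hqn, mul_inv_cancel])
  have hperm : (chevRel C F).nsPerm n' = (chevRel C F).nsPerm n := by
    rw [← (chevRel C F).qact_qmk, hqn]; rfl
  rw [← hperm] at hu
  obtain ⟨b', hb'def⟩ : ∃ b', b' = b * ((n : ↥(D.group F)) * (n' : ↥(D.group F))⁻¹) := ⟨_, rfl⟩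
  have hb' : b' ∈ (chevRel C F).BS := hb'def ▸ mul_mem hb ((chevRel C F).HS_le_BS hH)
  have hform : b * (n : ↥(D.group F)) * u = b' * n' * u := by rw [hb'def]; group
  rw [hform] at hg ⊢
  rw [map_mul, map_mul, hfix _ hn'mem] at hg
  obtain ⟨eb, eu⟩ := (chevRel C F).bnu_unique (fieldAut_mem_BS C σ hb') hb' (fieldAut_mem_US C σ _ hu) hu hg
  -- the two factors
  have hUP : ∀ v ∈ (chevRel C F).UP, fieldAut D σ v = v → v ∈ (groupMap D j).range := by
    intro v hv hfv
    obtain ⟨t, rfl⟩ := (chevRel C F).exists_oprod_UP hv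
    rw [fieldAut_oprod] at hfv
    have ht := (chevRel C F).oprod_inj (half D) (half D) _ t le_rfl (by have := C.nroots_eq; omega)
      (congrArg (chevRel C F).θ hfv)
    refine list_prod_mem fun x hx => ?_
    obtain ⟨r, hr, rfl⟩ := List.mem_map.1 hx
    rw [List.mem_range'_1] at hr
    exact hxe _ _ (ht r hr.1 hr.2)
  obtain ⟨v, hv, h, hh, rfl⟩ := (chevRel C F).exists_of_mem_BS hb'
  rw [map_mul] at eb
  have h1 : v⁻¹ * fieldAut D σ v = h * (fieldAut D σ h)⁻¹ := by
    rw [eq_mul_inv_iff_mul_eq, mul_assoc, eb]; group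
  have h2 : v⁻¹ * fieldAut D σ v ∈ (chevRel C F).UP ⊓ (chevRel C F).HS :=
    Subgroup.mem_inf.2 ⟨mul_mem (inv_mem hv) (fieldAut_mem_US C σ _ hv), h1 ▸ mul_mem hh (inv_mem (fieldAut_mem_HS C σ hh))⟩
  rw [(chevRel C F).UP_inf_HS, Subgroup.mem_bot, inv_mul_eq_one] at h2
  rw [← h2, inv_mul_cancel] at h1
  have h3 : fieldAut D σ h = h := (inv_inv (fieldAut D σ h)).symm.trans (inv_eq_of_mul_eq_one_left h1.symm)
  refine mul_mem (mul_mem (mul_mem (hUP v hv h2.symm) ?_) hn'mem)
    (hUP u ((chevRel C F).US_mono (Rel.invSet_subset _) hu) eu)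
  obtain ⟨c, hc⟩ := (chevRel C F).torusHom_surjective ⟨h, hh⟩
  have hc' : ((chevRel C F).torusHom c : ↥(D.group F)) = h := congrArg Subtype.val hc
  rw [← hc', fieldAut_torusHom] at h3
  have hcc : (fun i => Units.map (σ : F →* F) (c i)) = c := by
    refine inv_mul_eq_one.1 (hker _ ?_) |>.symm
    rw [map_mul, map_inv, inv_mul_eq_one]
    exact (Subtype.ext h3).symm
  rw [← hc']
  have hmem : (chevRel C F).torusHom c ∈ (groupMap D j).range.subgroupOf (chevRel C F).HS := by
    let _ := (chevRel C F).hsCommGroup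
    rw [← Finset.univ_prod_mulSingle c, map_prod]
    refine Subgroup.prod_mem _ fun i _ => ?_
    rw [(chevRel C F).torusHom_single]
    exact mul_mem (hne _ _ (congrArg Units.val (congrFun hcc i))) (hne _ _ (by rw [map_neg, map_one]))
  exact hmem

/-- A field automorphism of prime order of a Chevalley group with injective torus map. -/
theorem fixed_of_field_aut [Fintype F] (hrank : 1 ≤ D.rank)
    (hker : ∀ c : Fin D.rank → Fˣ, (chevRel C F).torusHom c = 1 → c = 1)
    (φ : MulAut ↥(D.group F)) (hφ : D.IsFieldAut φ) {r : ℕ} (hr : r.Prime) (ho : orderOf φ = r) :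
    ∃ (F₀ : Type) (_ : Field F₀) (_ : Fintype F₀), Fintype.card F = Fintype.card F₀ ^ r ∧
      Nonempty (↥((MulEquiv.toMonoidHom φ).eqLocus (MonoidHom.id ↥(D.group F))) ≃* ↥(D.group F₀)) := by
  classical
  obtain ⟨σ, hσ⟩ := hφ
  have hφσ : φ = fieldAut D σ := by
    refine MulEquiv.toMonoidHom_injective (MonoidHom.eq_of_eqOn_dense (chevRel C F).gen ?_)
    rintro _ ⟨s, t, rfl⟩
    refine Subtype.ext (Units.ext ?_)
    by_cases hs : s < D.nroots
    · exact (hσ _ s t hs rfl).trans (fieldAut_spec D σ _ s t rfl).symm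
    · rw [(chevRel C F).xe_oob s t hs, map_one, map_one]
  let Φ : (F ≃+* F) →* MulAut ↥(D.group F) :=
    { toFun := fun τ => fieldAut D τ
      map_one' := MulEquiv.ext fun g => Subtype.ext (Units.ext (Matrix.ext fun _ _ => rfl))
      map_mul' := fun a b => MulEquiv.ext fun g => Subtype.ext (Units.ext (Matrix.ext fun _ _ => rfl)) }
  have hΦ : Function.Injective Φ := by
    rw [injective_iff_map_eq_one]
    intro τ hτ
    refine RingEquiv.ext fun t => ?_
    have hs : half D ≤ D.simple 0 := C.simple_pos hrank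
    have hs' : D.simple 0 < D.nroots := C.simple_lt hrank
    have h1 : fieldAut D τ ((chevRel C F).oprod (D.simple 0) 1 fun _ => t) =
        (chevRel C F).oprod (D.simple 0) 1 fun _ => t := by
      show Φ τ _ = _
      rw [hτ]; rfl
    rw [fieldAut_oprod] at h1
    exact (chevRel C F).oprod_inj 1 (D.simple 0) _ _ hs (by omega) (congrArg (chevRel C F).θ h1) (D.simple 0)
      le_rfl (by omega)
  have hord : orderOf σ = r := by
    rw [← orderOf_injective Φ hΦ σ]
    exact (congrArg orderOf hφσ.symm).trans ho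
  obtain ⟨p, _⟩ := CharP.exists F
  obtain ⟨f, hp, hF⟩ := FiniteField.card F p
  haveI : Fact p.Prime := ⟨hp⟩
  obtain ⟨hdvd, -⟩ := CfsgLib.Known.AutPSL.exists_fixed_field hF f.pos σ hord
  have he : (f : ℕ) / r ≠ 0 := Nat.ne_of_gt (Nat.div_pos (Nat.le_of_dvd f.pos hdvd) hr.pos)
  haveI : Fintype (GaloisField p ((f : ℕ) / r)) := Fintype.ofFinite _
  have hF₀ : Fintype.card (GaloisField p ((f : ℕ) / r)) = p ^ ((f : ℕ) / r) := by
    rw [← Nat.card_eq_fintype_card, GaloisField.card p _ he]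
  obtain ⟨j, hj⟩ := CfsgLib.Known.AutPSL.exists_fixed_embedding hF f.pos σ hord (GaloisField p ((f : ℕ) / r)) hF₀
  refine ⟨GaloisField p ((f : ℕ) / r), inferInstance, inferInstance, ?_, ?_⟩
  · rw [hF, hF₀, ← pow_mul, Nat.div_mul_cancel hdvd]
  · have heq : (MulEquiv.toMonoidHom φ).eqLocus (MonoidHom.id ↥(D.group F)) = (groupMap D j).range := by
      subst hφσ
      refine le_antisymm (fun g hg => eq_range_of_fixed C σ j hj hker hg) ?_
      rintro _ ⟨x, rfl⟩
      exact Subtype.ext (Units.ext (Matrix.ext fun a b => (hj _).2 ⟨_, rfl⟩))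
    exact ⟨(MulEquiv.subgroupCongr heq).trans (MonoidHom.ofInjective (groupMap_injective j)).symm⟩

/-- The torus map is injective when the invariant factors of the Cartan matrix are units modulo `q - 1`. -/
theorem torusHom_injective_of_smith [Fintype F] {M U U' V V' : List (List ℤ)} {d : List ℕ} (hM : cmat D = M)
    (hchk : chkSmith D.rank M U U' V V' d = true)
    (hd : ∀ i : Fin D.rank, Nat.gcd (Fintype.card F - 1) (d.getD i 0) = 1) (c : Fin D.rank → Fˣ)
    (hc : (chevRel C F).torusHom c = 1) : c = 1 := by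
  classical
  simp only [chkSmith, Bool.and_eq_true, decide_eq_true_iff] at hchk
  obtain ⟨⟨⟨h1, h2⟩, h3⟩, h4⟩ := hchk
  have hu : Nat.card Fˣ = Fintype.card F - 1 := by rw [Nat.card_units, Nat.card_eq_fintype_card]
  have hk : Nat.card (chevRel C F).torusHom.ker = 1 := by
    rw [Nat.card_congr (Equiv.subtypeEquivRight (mem_torusHom_ker C F)), hM, card_ker_powMat_congr h1 h2 h3, h4,
      card_ker_diagonal, hu]
    exact Finset.prod_eq_one fun i _ => hd i
  rw [Subgroup.card_eq_one] at hk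
  exact (Subgroup.mem_bot).1 (hk ▸ hc)

end CfsgLib.Known.ChevFixed
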