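import Mathlib
import Cfsg.Agent.Lib.Known.GLOrders

/-!
# Element orders of `PSL n F` next to a prime `r` dividing `q - 1` but not `n`

Every element either commutes with an element of order `r` outside the scalars, or it lies in a
Singer torus, or it is a scalar times a regular unipotent element.
-/

set_option autoImplicit false

open Matrix Polynomial

namespace CfsgLib.Known.PSLTori

variable {F : Type*} [Field F] [Fintype F]

local notation "SLn" n => Matrix.SpecialLinearGroup (Fin n) F

/-- The projection to the projective special linear group. -/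
def proj (n : ℕ) : (SLn n) →* Matrix.ProjectiveSpecialLinearGroup (Fin n) F :=
  QuotientGroup.mk' _

omit [Fintype F] in
theorem proj_surjective (n : ℕ) : Function.Surjective (proj (F := F) n) :=
  QuotientGroup.mk_surjective

omit [Fintype F] in
theorem proj_eq_one_iff {n : ℕ} (A : SLn n) :
    proj n A = 1 ↔ ∃ c : F, (A : Matrix (Fin n) (Fin n) F) = Matrix.scalar (Fin n) c := by
  refine (QuotientGroup.eq_one_iff _).trans ⟨fun h => ?_, fun ⟨c, hc⟩ => ?_⟩
  · obtain ⟨c, -, hc⟩ := Matrix.SpecialLinearGroup.mem_center_iff.1 h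
    exact ⟨c, hc.symm⟩
  · refine Subgroup.mem_center_iff.2 fun B => Subtype.ext ?_
    change (B : Matrix (Fin n) (Fin n) F) * (A : Matrix (Fin n) (Fin n) F) =
      (A : Matrix (Fin n) (Fin n) F) * (B : Matrix (Fin n) (Fin n) F)
    rw [hc]
    exact (Matrix.scalar_commute c (Commute.all c) _).symm.eq

omit [Fintype F] in
theorem smul_idem_mul {n : ℕ} {ε : Matrix (Fin n) (Fin n) F} (hε : IsIdempotentElem ε) (x y z w : F) :
    (x • ε + y • (1 - ε)) * (z • ε + w • (1 - ε)) = (x * z) • ε + (y * w) • (1 - ε) := by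
  simp only [add_mul, mul_add, smul_mul_assoc, mul_smul_comm, smul_smul, hε.eq, hε.one_sub.eq,
    hε.mul_one_sub_self, hε.one_sub_mul_self, smul_zero, add_zero, zero_add, mul_comm z, mul_comm w]

/-- A nontrivial idempotent commuting with `A` gives an element of order `r` commuting with `A`. -/
theorem mul_mem_range_of_idempotent {n r : ℕ} [hr : Fact r.Prime] (hrq : r ∣ Fintype.card F - 1)
    (hrn : ¬ r ∣ n) (A : SLn n) (ε : Matrix (Fin n) (Fin n) F) (hε : IsIdempotentElem ε)
    (hcomm : Commute ε (A : Matrix (Fin n) (Fin n) F)) (h0 : ε ≠ 0) (h1 : ε ≠ 1)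
    (hA : ¬ r ∣ orderOf (proj n A)) :
    ∃ h : Matrix.ProjectiveSpecialLinearGroup (Fin n) F, r * orderOf (proj n A) ∣ orderOf h := by
  classical
  obtain ⟨ζ, hζ⟩ : ∃ ζ : Fˣ, orderOf ζ = r :=
    exists_prime_orderOf_dvd_card r (by rw [Fintype.card_units]; exact hrq)
  set T := Matrix.toLin' ε with hT
  have hTi : IsIdempotentElem T := hε.map (Matrix.toLinAlgEquiv' (R := F) (n := Fin n))
  have hP := LinearMap.IsIdempotentElem.isProj_range T hTi
  set P := LinearMap.range T
  set Q := LinearMap.ker T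
  have hPQ : IsCompl P Q := hP.isCompl
  have hdim : Module.finrank F P + Module.finrank F Q = n := by
    rw [Submodule.finrank_add_eq_of_isCompl hPQ, Module.finrank_fin_fun]
  set a : F := (ζ : F) ^ Module.finrank F Q with ha
  set b : F := ((ζ⁻¹ : Fˣ) : F) ^ Module.finrank F P with hb
  set X' : Matrix (Fin n) (Fin n) F := a • ε + b • (1 - ε) with hX
  have hdet : X'.det = 1 := by
    have hlin : Matrix.toLin' X' = (Submodule.prodEquivOfIsCompl P Q hPQ : (P × Q) →ₗ[F] (Fin n → F)) ∘ₗ
        ((a • LinearMap.id).prodMap (b • LinearMap.id)) ∘ₗ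
          ((Submodule.prodEquivOfIsCompl P Q hPQ).symm : (Fin n → F) →ₗ[F] (P × Q)) := by
      refine LinearMap.ext fun v => ?_
      obtain ⟨⟨x, y⟩, rfl⟩ := (Submodule.prodEquivOfIsCompl P Q hPQ).surjective v
      have hx : T x = x := hP.map_id _ x.2
      have hy : T y = 0 := LinearMap.mem_ker.1 y.2
      simp only [hT, Matrix.toLin'_apply] at hx hy
      simp [hX, Matrix.add_mulVec, Matrix.sub_mulVec, Matrix.smul_mulVec, Matrix.mulVec_add,
        hx, hy]
    rw [← LinearMap.det_toLin', hlin, LinearMap.det_conj, LinearMap.det_prodMap, LinearMap.det_smul,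
      LinearMap.det_smul, LinearMap.det_id, LinearMap.det_id, mul_one, mul_one, ha, hb, ← pow_mul,
      ← pow_mul, mul_comm (Module.finrank F Q), ← mul_pow]
    simp
  set x : SLn n := ⟨X', hdet⟩
  have hpow : ∀ m : ℕ, X' ^ m = a ^ m • ε + b ^ m • (1 - ε) := by
    intro m
    induction m with
    | zero => simp
    | succ m ih => rw [pow_succ, ih, hX, smul_idem_mul hε, pow_succ, pow_succ]
  have hxr : proj n x ^ r = 1 := by
    rw [← map_pow, proj_eq_one_iff]
    refine ⟨1, ?_⟩
    have h3 : (ζ : F) ^ r = 1 := by rw [← hζ, ← Units.val_pow_eq_pow_val, pow_orderOf_eq_one]; rfl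
    have h4 : ((ζ⁻¹ : Fˣ) : F) ^ r = 1 := by simp [h3]
    rw [Matrix.SpecialLinearGroup.coe_pow, map_one]
    change X' ^ r = 1
    rw [hpow, ha, hb, ← pow_mul, mul_comm, pow_mul, h3, one_pow, ← pow_mul,
      mul_comm (Module.finrank F P), pow_mul, h4, one_pow]
    simp
  have hx1 : proj n x ≠ 1 := by
    rw [Ne, proj_eq_one_iff]
    rintro ⟨c, hc⟩
    replace hc : X' = c • (1 : Matrix (Fin n) (Fin n) F) := by
      rw [Matrix.smul_one_eq_diagonal]; simpa using hc
    have hone : c • (1 : Matrix (Fin n) (Fin n) F) = c • ε + c • (1 - ε) := by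
      rw [← smul_add, add_sub_cancel]
    rw [hone, hX] at hc
    have ha' : (a - c) • ε = 0 := by
      have := congrArg (· * ε) hc
      simp only [add_mul, smul_mul_assoc, hε.eq, hε.one_sub_mul_self, smul_zero, add_zero] at this
      rw [sub_smul, this, sub_self]
    have hb' : (b - c) • (1 - ε) = 0 := by
      have := congrArg (· * (1 - ε)) hc
      simp only [add_mul, smul_mul_assoc, hε.mul_one_sub_self, hε.one_sub.eq, smul_zero, zero_add] at this
      rw [sub_smul, this, sub_self]
    rw [smul_eq_zero, sub_eq_zero] at ha' hb'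
    have hac := ha'.resolve_right h0
    have hbc := hb'.resolve_right fun h => h1 (sub_eq_zero.1 h).symm
    have hζn : ζ ^ n = 1 := by
      apply Units.ext
      rw [Units.val_pow_eq_pow_val, ← hdim, add_comm, pow_add, ← ha, hac, ← hbc, hb, ← mul_pow]
      simp
    exact hrn (hζ ▸ orderOf_dvd_of_pow_eq_one hζn)
  have hord : orderOf (proj n x) = r := orderOf_eq_prime hxr hx1
  refine ⟨proj n x * proj n A, ?_⟩
  rw [Commute.orderOf_mul_eq_mul_orderOf_of_coprime, hord]
  · refine Commute.map (show x * A = A * x from Subtype.ext ?_) _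
    change X' * (A : Matrix (Fin n) (Fin n) F) = (A : Matrix (Fin n) (Fin n) F) * X'
    exact ((hcomm.smul_left a).add_left (((Commute.one_left _).sub_left hcomm).smul_left b)).eq
  · rw [hord]
    exact hr.out.coprime_iff_not_dvd.2 hA

/-- In an extension field, the `(q - 1)`-st roots of unity are in the base field. -/
theorem exists_algebraMap_eq {K : Type*} [Field K] [Algebra F K] (x : K)
    (h : x ^ (Fintype.card F - 1) = 1) : ∃ c : F, algebraMap F K c = x := by
  classical
  have hQ1 : 1 < Fintype.card F := Fintype.one_lt_card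
  have hmem : x ∈ ((Finset.univ : Finset F).image (algebraMap F K)) := by
    have hsub : (Finset.univ : Finset F).image (algebraMap F K) =
        ((X ^ Fintype.card F - X : K[X]).roots).toFinset := by
      apply Finset.eq_of_subset_of_card_le
      · intro y hy
        obtain ⟨c, -, rfl⟩ := Finset.mem_image.1 hy
        rw [Multiset.mem_toFinset, mem_roots (FiniteField.X_pow_card_sub_X_ne_zero K hQ1)]
        simp [← map_pow, FiniteField.pow_card]
      · rw [Finset.card_image_of_injective _ (algebraMap F K).injective, Finset.card_univ]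
        refine (Multiset.toFinset_card_le _).trans ((card_roots' _).trans ?_)
        rw [FiniteField.X_pow_card_sub_X_natDegree_eq K hQ1]
    rw [hsub, Multiset.mem_toFinset, mem_roots (FiniteField.X_pow_card_sub_X_ne_zero K hQ1)]
    simp only [IsRoot.def, eval_sub, eval_pow, eval_X, sub_eq_zero]
    conv_lhs => rw [show Fintype.card F = Fintype.card F - 1 + 1 by omega, pow_succ, h, one_mul]
  obtain ⟨c, -, hc⟩ := Finset.mem_image.1 hmem
  exact ⟨c, hc⟩

/-- A power of a matrix with irreducible minimal polynomial is a scalar as soon as the same power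
of a root has trivial `(q - 1)`-st power. -/
theorem exists_pow_eq_scalar {n : ℕ} (M : Matrix (Fin n) (Fin n) F) (f : F[X]) (hf : Irreducible f)
    (hmin : minpoly F M ∣ f) (m E : ℕ) (hE : (AdjoinRoot.root f) ^ E = 1)
    (hm : E ∣ m * (Fintype.card F - 1)) : ∃ c : F, M ^ m = Matrix.scalar (Fin n) c := by
  haveI : Fact (Irreducible f) := ⟨hf⟩
  obtain ⟨w, hw⟩ := hm
  obtain ⟨c, hc⟩ := exists_algebraMap_eq (F := F) ((AdjoinRoot.root f) ^ m)
    (by rw [← pow_mul, hw, pow_mul, hE, one_pow])
  obtain ⟨u, hu⟩ : minpoly F M ∣ X ^ m - C c := hmin.trans (by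
    rw [← AdjoinRoot.mk_eq_zero, map_sub, map_pow, AdjoinRoot.mk_X, AdjoinRoot.mk_C, ← hc,
      AdjoinRoot.algebraMap_eq, sub_self])
  have h := congrArg (aeval M) hu
  simp only [map_sub, map_pow, aeval_X, aeval_C, map_mul, minpoly.aeval, zero_mul, sub_eq_zero] at h
  exact ⟨c, h⟩

/-- The norm of the root of a monic irreducible polynomial. -/
theorem root_pow_eq (f : F[X]) (hf : Irreducible f) (hfm : f.Monic) :
    (AdjoinRoot.root f) ^ ((Fintype.card F ^ f.natDegree - 1) / (Fintype.card F - 1)) =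
      algebraMap F (AdjoinRoot f) ((-1) ^ f.natDegree * f.coeff 0) := by
  haveI : Fact (Irreducible f) := ⟨hf⟩
  let pb := AdjoinRoot.powerBasis hf.ne_zero
  haveI : FiniteDimensional F (AdjoinRoot f) := pb.finite
  haveI : Finite (AdjoinRoot f) := Module.finite_of_finite F
  have hc : Algebra.norm F (AdjoinRoot.root f) = (-1) ^ f.natDegree * f.coeff 0 := by
    have := Algebra.PowerBasis.norm_gen_eq_coeff_zero_minpoly pb
    simpa [pb, AdjoinRoot.minpoly_root hf.ne_zero, hfm.leadingCoeff] using this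
  have hcard : Nat.card (AdjoinRoot f) = Fintype.card F ^ f.natDegree := by
    rw [Module.natCard_eq_pow_finrank (K := F), pb.finrank, Nat.card_eq_fintype_card]
    simp [pb]
  rw [← hc, FiniteField.algebraMap_norm_eq_pow, hcard, Nat.card_eq_fintype_card]

/-- A matrix of determinant one and multiplicative order `(q ^ d - 1) / (q - 1)` modulo scalars. -/
theorem exists_norm_one (d : ℕ) (hd : 1 ≤ d) :
    ∃ B : Matrix.SpecialLinearGroup (Fin d) F, ∀ m : ℕ,
      ((B ^ m = 1) ↔ (Fintype.card F ^ d - 1) / (Fintype.card F - 1) ∣ m) ∧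
      (proj d B ^ m = 1 ↔ (Fintype.card F ^ d - 1) / (Fintype.card F - 1) ∣ m * (Fintype.card F - 1)) := by
  classical
  obtain ⟨p, hc⟩ := CharP.exists F
  haveI := hc
  obtain ⟨a, hp, hq⟩ := FiniteField.card F p
  haveI : Fact p.Prime := ⟨hp⟩
  haveI : NeZero d := ⟨by omega⟩
  let K := FiniteField.Extension F p d
  haveI : Finite K := Module.finite_of_finite F
  haveI : Fintype K := Fintype.ofFinite K
  have hK : Nat.card K = Nat.card F ^ d := FiniteField.natCard_extension F p d
  obtain ⟨z, hz⟩ := IsCyclic.exists_ofOrder_eq_natCard (α := Kˣ)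
  rw [Nat.card_units, hK, Nat.card_eq_fintype_card] at hz
  set Q := Fintype.card F with hQ
  set E := (Q ^ d - 1) / (Q - 1) with hE
  have hQ1 : 1 < Q := Fintype.one_lt_card
  have hdvd : Q - 1 ∣ Q ^ d - 1 := by simpa using Nat.sub_dvd_pow_sub_pow Q 1 d
  have hQd : Q ^ d - 1 = E * (Q - 1) := (Nat.div_mul_cancel hdvd).symm
  set β := z ^ (Q - 1) with hβ
  have hβE : orderOf β = E := by
    rw [hβ, orderOf_pow_of_dvd (by omega) (hz ▸ hdvd), hz]
  have hnorm : Algebra.norm F (β : K) = 1 := by
    apply (algebraMap F K).injective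
    rw [FiniteField.algebraMap_norm_eq_pow, hK, Nat.card_eq_fintype_card, ← hQ, ← hE, map_one,
      ← Units.val_pow_eq_pow_val, ← hβE, pow_orderOf_eq_one, Units.val_one]
  let bas : Module.Basis (Fin d) F K :=
    Module.finBasisOfFinrankEq F K (FiniteField.finrank_extension F p d)
  obtain ⟨B, hB⟩ : ∃ B : SLn d, (B : Matrix (Fin d) (Fin d) F) = Algebra.leftMulMatrix bas (β : K) :=
    ⟨⟨Algebra.leftMulMatrix bas (β : K), by rw [← Algebra.norm_eq_matrix_det, hnorm]⟩, rfl⟩
  refine ⟨B, fun m => ⟨?_, ?_⟩⟩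
  · refine (show (B ^ m = 1) ↔ (((B ^ m : SLn d) : Matrix (Fin d) (Fin d) F) = 1) from Subtype.ext_iff).trans ?_
    rw [Matrix.SpecialLinearGroup.coe_pow]
    rw [hB]
    rw [← map_pow, ← map_one (Algebra.leftMulMatrix bas), (Algebra.leftMulMatrix_injective bas).eq_iff,
      ← Units.val_pow_eq_pow_val, Units.val_eq_one, ← orderOf_dvd_iff_pow_eq_one, hβE]
  · rw [← map_pow, proj_eq_one_iff]
    simp only [Matrix.SpecialLinearGroup.coe_pow]
    constructor
    · rintro ⟨c, hc⟩
      rw [hB] at hc
      have h2 : (β : K) ^ m = algebraMap F K c := Algebra.leftMulMatrix_injective bas (by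
        rw [map_pow, hc, AlgHom.commutes]; rfl)
      rw [← hβE, orderOf_dvd_iff_pow_eq_one, pow_mul]
      refine Units.ext ?_
      rw [Units.val_pow_eq_pow_val, Units.val_pow_eq_pow_val, h2, ← map_pow, Units.val_one]
      have hc0 : c ≠ 0 := by
        rintro rfl
        rw [map_zero] at h2
        exact β.ne_zero (eq_zero_of_pow_eq_zero h2)
      rw [FiniteField.pow_card_sub_one_eq_one c hc0, map_one]
    · intro h
      have h2 : ((β : K) ^ m) ^ (Q - 1) = 1 := by
        rw [← pow_mul, ← Units.val_pow_eq_pow_val, orderOf_dvd_iff_pow_eq_one.1 (hβE.symm ▸ h),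
          Units.val_one]
      obtain ⟨c, hc⟩ := exists_algebraMap_eq (F := F) ((β : K) ^ m) h2
      refine ⟨c, ?_⟩
      rw [hB]
      rw [← map_pow, ← hc, AlgHom.commutes]
      rfl

/-- The polynomial identities satisfied by an element whose minimal polynomial is `f ^ k`. -/
theorem pow_eq_scalar {n p : ℕ} [Fact p.Prime] [CharP F p] (M : Matrix (Fin n) (Fin n) F)
    (f : F[X]) (hf : Irreducible f) (hfm : f.Monic) (hX : ¬ f = X) (k : ℕ)
    (hk : minpoly F M ∣ f ^ k) :
    ∃ c : F, c = (-1) ^ f.natDegree * f.coeff 0 ∧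
      (M ^ (p ^ Nat.clog p k * ((Fintype.card F ^ f.natDegree - 1) / (Fintype.card F - 1)))) =
        Matrix.scalar (Fin n) (c ^ p ^ Nat.clog p k) := by
  haveI : Fact (Irreducible f) := ⟨hf⟩
  set E := (Fintype.card F ^ f.natDegree - 1) / (Fintype.card F - 1)
  obtain ⟨c, hcdef⟩ : ∃ c : F, c = (-1) ^ f.natDegree * f.coeff 0 := ⟨_, rfl⟩
  refine ⟨c, hcdef, ?_⟩
  have hroot : (AdjoinRoot.root f) ^ E = algebraMap F (AdjoinRoot f) c := hcdef ▸ root_pow_eq f hf hfm
  have hfd : f ∣ X ^ E - C c := by
    rw [← AdjoinRoot.mk_eq_zero, map_sub, map_pow, AdjoinRoot.mk_X, AdjoinRoot.mk_C, hroot,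
      AdjoinRoot.algebraMap_eq, sub_self]
  have hfd2 : minpoly F M ∣ (X ^ E - C c) ^ p ^ Nat.clog p k :=
    (hk.trans (pow_dvd_pow _ (Nat.le_pow_clog (Fact.out : p.Prime).one_lt k))).trans
      (pow_dvd_pow_of_dvd hfd _)
  obtain ⟨w, hw⟩ := hfd2
  have h := congrArg (aeval M) hw
  rw [sub_pow_char_pow, map_mul, minpoly.aeval, zero_mul, ← pow_mul, ← C_pow] at h
  simp only [map_sub, map_pow, aeval_X, aeval_C] at h
  rw [mul_comm]
  rw [sub_eq_zero] at h
  rw [h, ← map_pow]
  rfl

/-- Every element has a commuting idempotent or a minimal polynomial which is a prime power. -/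
theorem idempotent_or_primePower {n : ℕ} (M : Matrix (Fin n) (Fin n) F) (hn : 1 ≤ n) :
    (∃ ε : Matrix (Fin n) (Fin n) F, IsIdempotentElem ε ∧ Commute ε M ∧ ε ≠ 0 ∧ ε ≠ 1) ∨
      ∃ (f : F[X]) (k : ℕ), Irreducible f ∧ f.Monic ∧ 1 ≤ k ∧ minpoly F M = f ^ k ∧
        f.natDegree * k ≤ n := by
  haveI : Nonempty (Fin n) := ⟨⟨0, hn⟩⟩
  have hint : IsIntegral F M := Matrix.isIntegral M
  obtain ⟨f, hfm, hf, hfd⟩ := Polynomial.exists_monic_irreducible_factor (minpoly F M)
    (minpoly.not_isUnit F M)
  have hne : minpoly F M ≠ 0 := minpoly.ne_zero hint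
  obtain ⟨k, h, hfh, heq⟩ := WfDvdMonoid.max_power_factor hne hf
  have hk : 1 ≤ k := by
    by_contra hk
    rw [show k = 0 by omega, pow_zero, one_mul] at heq
    exact hfh (heq ▸ hfd)
  by_cases hu : IsUnit h
  · refine Or.inr ⟨f, k, hf, hfm, hk, ?_, ?_⟩
    · have : h.Monic := (hfm.pow k).of_mul_monic_left (heq ▸ minpoly.monic hint)
      rw [heq, this.eq_one_of_isUnit hu, mul_one]
    · have h1 := natDegree_le_of_dvd (Matrix.minpoly_dvd_charpoly M) (Matrix.charpoly_monic M).ne_zero
      rw [Matrix.charpoly_natDegree_eq_dim, Fintype.card_fin] at h1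
      have h2 : (f ^ k).natDegree ≤ (minpoly F M).natDegree :=
        natDegree_le_of_dvd ⟨h, heq⟩ hne
      rw [natDegree_pow, mul_comm] at h2
      omega
  · left
    have hcop : IsCoprime (f ^ k) h := (hf.coprime_iff_not_dvd.2 hfh).pow_left
    obtain ⟨u, v, huv⟩ := hcop
    refine ⟨aeval M (u * f ^ k), ?_, ?_, ?_, ?_⟩
    · unfold IsIdempotentElem
      rw [← map_mul, show u * f ^ k * (u * f ^ k) = u * f ^ k - u * v * (f ^ k * h) by
        linear_combination (u * f ^ k) * huv, map_sub, ← heq, map_mul (aeval M) (u * v),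
        minpoly.aeval, mul_zero, sub_zero]
    · have := (Commute.all (u * f ^ k) (X : F[X])).map (aeval M)
      simpa using this
    · intro h0
      have h1 : aeval M (v * h) = 1 := by
        rw [← map_one (aeval (R := F) M), ← huv, map_add, h0, zero_add]
      have h2 : minpoly F M ∣ f ^ k := minpoly.dvd F M (by
        rw [← mul_one (aeval M (f ^ k)), ← h1, ← map_mul, show f ^ k * (v * h) = v * (f ^ k * h) by
          ring, ← heq, map_mul, minpoly.aeval, mul_zero])
      rw [heq] at h2
      exact hu (isUnit_of_dvd_one ((mul_dvd_mul_iff_left (pow_ne_zero k hf.ne_zero)).1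
        (by rwa [mul_one])))
    · intro h0
      have h2 : minpoly F M ∣ h := minpoly.dvd F M (by
        rw [← mul_one (aeval M h), ← h0, ← map_mul, show h * (u * f ^ k) = u * (f ^ k * h) by
          ring, ← heq, map_mul, minpoly.aeval, mul_zero])
      exact hfh (((dvd_pow_self f (by omega)).trans (Dvd.intro h heq.symm)).trans h2)

end CfsgLib.Known.PSLTori
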