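import Cfsg.Agent.Lib.Lie.Rel.Bruhat

/-!
# Centralisers of regular torus elements

A torus element whose values at the roots are pairwise distinct and different from one has the
torus as its centraliser.
-/

set_option autoImplicit false

namespace CfsgLib.Known.RegularTorus

open Cfsg.Lie (ChevalleyDatum)
open CfsgLib.Lie.Chev

variable {D : ChevalleyDatum} {X : Aux} {F : Type*} [Field F] {G : Type*} [Group G] (R : Rel D X F G)

theorem conj_oprod {t : G} {a : Fin D.nroots → F} (ht : R.IsMon t 1 a) (a' : ℕ → F)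
    (ha' : ∀ r : Fin D.nroots, a' r = a r) (s : ℕ → F) : ∀ n k : ℕ, k + n ≤ D.nroots →
      t * R.oprod k n s * t⁻¹ = R.oprod k n fun r => a' r * s r := by
  intro n
  induction n with
  | zero => intro k _; simp [Rel.oprod]
  | succ n ih =>
    intro k hk
    rw [R.oprod_succ, R.oprod_succ, ← ih (k + 1) (by omega)]
    have h := (ht ⟨k, by omega⟩).2.2.2 (s k)
    have h2 : a' k = a ⟨k, by omega⟩ := ha' ⟨k, by omega⟩
    simp only [Equiv.Perm.one_apply] at h
    rw [h2, ← h]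
    group

theorem eq_one_of_fixed_UP {t : G} {a : Fin D.nroots → F} (ht : R.IsMon t 1 a) (h1 : ∀ r, a r ≠ 1)
    {u : G} (hu : u ∈ R.UP) (hfix : t * u * t⁻¹ = u) : u = 1 := by
  obtain ⟨s, rfl⟩ := R.exists_oprod_UP hu
  have hn := R.cert.nroots_eq
  rw [conj_oprod R ht (fun r => if h : r < D.nroots then a ⟨r, h⟩ else 0)
    (fun r => by rw [dif_pos r.2]) s _ _ (by omega)] at hfix
  have h := R.oprod_inj _ _ _ _ le_rfl (by omega) (congrArg R.θ hfix)
  refine List.prod_eq_one fun x hx => ?_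
  obtain ⟨r, hr, rfl⟩ := List.mem_map.1 hx
  rw [List.mem_range'_1] at hr
  have e := h r hr.1 hr.2
  have hlt : r < D.nroots := by omega
  rw [dif_pos hlt] at e
  have : (a ⟨r, hlt⟩ - 1) * s r = 0 := by linear_combination e
  rw [(mul_eq_zero.1 this).resolve_left (sub_ne_zero.2 (h1 _)), R.xe_zero]

theorem mem_HS_of_fixed_NS {t : G} {a : Fin D.nroots → F} (ht : R.IsMon t 1 a)
    (hW : ∀ m : R.NS, (∀ s, a (R.nsPerm m s) = a s) → (m : G) ∈ R.HS)
    (n : R.NS) (hn : (n : G) * t = t * n) : (n : G) ∈ R.HS := by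
  obtain ⟨b, hb⟩ := R.isMon_nsPerm n
  have h1 := R.isMon_mul (R.isMon_mul hb ht) (R.isMon_inv hb)
  rw [mul_one, mul_inv_cancel, hn, mul_inv_cancel_right] at h1
  refine hW n fun s => ?_
  obtain ⟨r, hr⟩ : ∃ r, r = R.nsPerm n s := ⟨_, rfl⟩
  have e := congrFun (R.isMon_unique h1 ht).2 r
  have hs : (R.nsPerm n)⁻¹ r = s := by rw [hr, Equiv.Perm.inv_def, Equiv.symm_apply_apply]
  simp only [Equiv.Perm.one_apply, hs] at e
  rw [mul_comm (b s), mul_assoc, mul_inv_cancel₀ (hb s).1, mul_one] at e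
  rw [← hr]
  exact e.symm

/-- The centraliser of a regular torus element is the torus. -/
theorem mem_HS_of_commute' {t : G} {a : Fin D.nroots → F} (htH : t ∈ R.HS) (ht : R.IsMon t 1 a)
    (h1 : ∀ r, a r ≠ 1) (hW : ∀ m : R.NS, (∀ s, a (R.nsPerm m s) = a s) → (m : G) ∈ R.HS)
    {g : G} (hg : g * t = t * g) : g ∈ R.HS := by
  obtain ⟨b, hb, n, u, hu, rfl⟩ := R.exists_bnu g
  obtain ⟨v, hv, h, hh, rfl⟩ := R.exists_of_mem_BS hb
  have hk : t * ((n : G) * t⁻¹ * (n : G)⁻¹) ∈ R.HS :=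
    mul_mem htH ((Subgroup.mem_normalizer_iff.1 (R.NS_le_normalizer_HS n.2) _).1 (inv_mem htH))
  have hv' : t * v * t⁻¹ ∈ R.UP := (Subgroup.mem_normalizer_iff.1 (R.HS_le_normalizer_US _ htH) v).1 hv
  have hu' : t * u * t⁻¹ ∈ R.US (invSet (R.nsPerm n)) :=
    (Subgroup.mem_normalizer_iff.1 (R.HS_le_normalizer_US _ htH) u).1 hu
  have hc := R.HS_isMulCommutative hh htH
  have e : (t * v * t⁻¹ * (h * (t * ((n : G) * t⁻¹ * (n : G)⁻¹)))) * (n : G) * (t * u * t⁻¹) = v * h * n * u := by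
    calc _ = t * v * t⁻¹ * (h * t) * (n : G) * u * t⁻¹ := by group
      _ = t * (v * h * n * u) * t⁻¹ := by rw [hc]; group
      _ = v * h * n * u := by rw [← hg, mul_inv_cancel_right]
  obtain ⟨e1, e2⟩ := R.bnu_unique (mul_mem (R.UP_le_BS hv') (R.HS_le_BS (mul_mem hh hk)))
    (mul_mem (R.UP_le_BS hv) (R.HS_le_BS hh)) hu' hu e
  have e3 : v⁻¹ * (t * v * t⁻¹) = h * (h * (t * ((n : G) * t⁻¹ * (n : G)⁻¹)))⁻¹ := by
    rw [eq_mul_inv_iff_mul_eq, mul_assoc, e1, inv_mul_cancel_left]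
  have e4 : v⁻¹ * (t * v * t⁻¹) = 1 :=
    (Subgroup.eq_bot_iff_forall _).1 R.UP_inf_HS _
      (Subgroup.mem_inf.2 ⟨mul_mem (inv_mem hv) hv', e3 ▸ mul_mem hh (inv_mem (mul_mem hh hk))⟩)
  have hvfix : t * v * t⁻¹ = v := (inv_mul_eq_one.1 e4).symm
  have e5 : t * ((n : G) * t⁻¹ * (n : G)⁻¹) = 1 := by
    rw [e4, eq_comm, mul_inv_eq_one] at e3
    exact mul_left_cancel (a := h) (by rw [mul_one]; exact e3.symm)
  have hnfix : (n : G) * t = t * n := by
    rw [← mul_assoc, ← mul_assoc, mul_inv_eq_one, mul_inv_eq_iff_eq_mul] at e5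
    exact e5.symm
  rw [eq_one_of_fixed_UP R ht h1 hv hvfix,
    eq_one_of_fixed_UP R ht h1 (R.US_mono (Rel.invSet_subset _) hu) e2, one_mul, mul_one]
  exact mul_mem hh (mem_HS_of_fixed_NS R ht hW n hnfix)

/-- The centraliser of a torus element with pairwise different values at the roots is the torus. -/
theorem mem_HS_of_commute {t : G} {a : Fin D.nroots → F} (htH : t ∈ R.HS) (ht : R.IsMon t 1 a)
    (h1 : ∀ r, a r ≠ 1) (hinj : Function.Injective a) {g : G} (hg : g * t = t * g) : g ∈ R.HS :=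
  mem_HS_of_commute' R htH ht h1
    (fun _ hm => R.mem_HS_of_nsPerm (Equiv.ext fun s => by rw [Equiv.Perm.one_apply]; exact hinj (hm s))) hg

end CfsgLib.Known.RegularTorus
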