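import Cfsg.Agent.Lib.Known.QuadClassify

/-!
# Quadratic forms over the field of two elements with given polarization
-/

set_option autoImplicit false

open QuadraticMap Cfsg CfsgLib.Known.QuadClassify

namespace CfsgLib.Known.BinaryForms

theorem two_cases : ∀ z : ZMod 2, z = 0 ∨ z = 1 := by decide

theorem aniso_one : ∀ z₁ z₂ : ZMod 2, z₁ ^ 2 + 1 * z₁ * z₂ + 1 * z₂ ^ 2 = 0 → z₁ = 0 ∧ z₂ = 0 := by decide

variable (m : ℕ)

/-- The polar of the plus-type form. -/
def pol (u v : Fin m ⊕ Fin m → ZMod 2) : ZMod 2 :=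
  quadFormPlus m (ZMod 2) (u + v) - quadFormPlus m (ZMod 2) u - quadFormPlus m (ZMod 2) v

theorem pol_eq (u v : Fin m ⊕ Fin m → ZMod 2) :
    pol m u v = ∑ i, (u (.inl i) * v (.inr i) + v (.inl i) * u (.inr i)) := polar_plus m u v

theorem pol_add_left (u u' v : Fin m ⊕ Fin m → ZMod 2) : pol m (u + u') v = pol m u v + pol m u' v := by
  simp only [pol_eq, Pi.add_apply, ← Finset.sum_add_distrib]
  exact Finset.sum_congr rfl fun i _ => by ring

theorem pol_comm (u v : Fin m ⊕ Fin m → ZMod 2) : pol m u v = pol m v u := by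
  simp only [pol_eq]
  exact Finset.sum_congr rfl fun i _ => by ring

theorem pol_smul_left (a : ZMod 2) (u v : Fin m ⊕ Fin m → ZMod 2) : pol m (a • u) v = a * pol m u v := by
  simp only [pol_eq, Pi.smul_apply, smul_eq_mul, Finset.mul_sum]
  exact Finset.sum_congr rfl fun i _ => by ring

theorem pol_add_right (u v v' : Fin m ⊕ Fin m → ZMod 2) : pol m u (v + v') = pol m u v + pol m u v' := by
  rw [pol_comm, pol_add_left, pol_comm m v, pol_comm m v']

theorem pol_self (u : Fin m ⊕ Fin m → ZMod 2) : pol m u u = 0 := by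
  rw [pol_eq]
  exact Finset.sum_eq_zero fun i _ => by rw [CharTwo.add_self_eq_zero]

theorem pol_single_inl (u : Fin m ⊕ Fin m → ZMod 2) (i : Fin m) : pol m (Pi.single (.inl i) 1) u = u (.inr i) := by
  classical
  simp [pol_eq, Pi.single_apply]

theorem pol_single_inr (u : Fin m ⊕ Fin m → ZMod 2) (i : Fin m) : pol m (Pi.single (.inr i) 1) u = u (.inl i) := by
  classical
  simp [pol_eq, Pi.single_apply]

variable {m}

/-- `q` polarizes to the standard alternating form. -/
def Polarizes (q : (Fin m ⊕ Fin m → ZMod 2) → ZMod 2) : Prop := ∀ u v, q (u + v) = q u + q v + pol m u v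

theorem polarizes_plus : Polarizes (quadFormPlus m (ZMod 2)) := fun u v => by rw [pol]; ring

theorem Polarizes.map_zero {q : (Fin m ⊕ Fin m → ZMod 2) → ZMod 2} (hq : Polarizes q) : q 0 = 0 := by
  have h := hq 0 0
  rw [add_zero, pol_self, add_zero] at h
  linear_combination -h

theorem Polarizes.translate {q : (Fin m ⊕ Fin m → ZMod 2) → ZMod 2} (hq : Polarizes q)
    (w : Fin m ⊕ Fin m → ZMod 2) : Polarizes fun v => q v + pol m v w := fun u v => by
  simp only [hq u v, pol_add_left]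
  ring

theorem Polarizes.polar_eq {q : (Fin m ⊕ Fin m → ZMod 2) → ZMod 2} (hq : Polarizes q)
    (u v : Fin m ⊕ Fin m → ZMod 2) : QuadraticMap.polar q u v = pol m u v := by
  rw [QuadraticMap.polar, hq u v]; ring

/-- A polarizing function as a quadratic form. -/
def Polarizes.form {q : (Fin m ⊕ Fin m → ZMod 2) → ZMod 2} (hq : Polarizes q) :
    QuadraticForm (ZMod 2) (Fin m ⊕ Fin m → ZMod 2) :=
  QuadraticMap.ofPolar q
    (fun a x => by
      rcases (show ∀ z : ZMod 2, z = 0 ∨ z = 1 by decide) a with rfl | rfl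
      · simp [hq.map_zero]
      · simp)
    (fun x y z => by simp only [hq.polar_eq, pol_add_left])
    (fun a x y => by simp only [hq.polar_eq, pol_smul_left, smul_eq_mul])

theorem Polarizes.classify {q : (Fin m ⊕ Fin m → ZMod 2) → ZMod 2} (hq : Polarizes q) :
    (∃ g : (Fin m ⊕ Fin m → ZMod 2) ≃ₗ[ZMod 2] (Fin m ⊕ Fin m → ZMod 2),
      ∀ v, q v = quadFormPlus m (ZMod 2) (g v)) ∨
    (1 ≤ m ∧ ∃ g : (Fin m ⊕ Fin m → ZMod 2) ≃ₗ[ZMod 2] ((Fin (m - 1) ⊕ Fin (m - 1)) ⊕ Fin 2 → ZMod 2),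
      ∀ v, q v = quadFormMinus (m - 1) (ZMod 2) 1 1 (g v)) := by
  haveI : Fact (Nat.Prime 2) := ⟨Nat.prime_two⟩
  have hp : ∀ u v, polarBilin hq.form u v = pol m u v := hq.polar_eq
  have key : ∀ u, (∀ v, pol m u v = 0) → u = 0 := fun u h => funext fun x => by
    rcases x with i | i
    · rw [Pi.zero_apply, ← pol_single_inr m u i, pol_comm, h]
    · rw [Pi.zero_apply, ← pol_single_inl m u i, pol_comm, h]
  have hnd : (polarBilin hq.form).Nondegenerate :=
    ⟨fun u h => key u fun v => (hp u v).symm.trans (h v),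
      fun u h => key u fun v => by rw [pol_comm, ← hp]; exact h v⟩
  rcases classify_even (m := m) (by rw [Module.finrank_fintype_fun_eq_card, Fintype.card_sum, Fintype.card_fin]; omega)
    hq.form hnd with ⟨e, he⟩ | ⟨hm, ζ, e, hζ, he⟩
  · exact Or.inl ⟨e.symm, fun v => by rw [← he, e.apply_symm_apply]; rfl⟩
  · obtain rfl : ζ = 1 := by
      rcases two_cases ζ with rfl | rfl
      · exact absurd (by simp) (hζ 0)
      · rfl
    exact Or.inr ⟨hm, e.symm, fun v => by rw [← he, e.apply_symm_apply]; rfl⟩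

theorem not_both {q : (Fin m ⊕ Fin m → ZMod 2) → ZMod 2} (hm : 1 ≤ m)
    (g : (Fin m ⊕ Fin m → ZMod 2) ≃ₗ[ZMod 2] (Fin m ⊕ Fin m → ZMod 2))
    (hg : ∀ v, q v = quadFormPlus m (ZMod 2) (g v))
    (g' : (Fin m ⊕ Fin m → ZMod 2) ≃ₗ[ZMod 2] ((Fin (m - 1) ⊕ Fin (m - 1)) ⊕ Fin 2 → ZMod 2))
    (hg' : ∀ v, q v = quadFormMinus (m - 1) (ZMod 2) 1 1 (g' v)) : False := by
  haveI : Fact (Nat.Prime 2) := ⟨Nat.prime_two⟩
  refine not_isometric hm 1 1 aniso_one (g.symm.trans g').toEquiv fun v => ?_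
  show quadFormMinus (m - 1) (ZMod 2) 1 1 (g' (g.symm v)) = _
  rw [← hg', hg, g.apply_symm_apply]

theorem two_mul_zeros_ne {q : (Fin m ⊕ Fin m → ZMod 2) → ZMod 2} (hq : Polarizes q) :
    2 * Nat.card {v // q v = 0} ≠ 2 ^ (2 * m) := by
  haveI : Fact (Nat.Prime 2) := ⟨Nat.prime_two⟩
  have h3 : 2 ^ m < 2 ^ (m + 1) := Nat.pow_lt_pow_right one_lt_two (by omega)
  rcases hq.classify with ⟨g, hg⟩ | ⟨hm, g, hg⟩
  · rw [Nat.card_congr (g.toEquiv.subtypeEquiv (q := fun v => quadFormPlus m (ZMod 2) v = 0) fun v => by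
      rw [hg v]; rfl)]
    have h := card_zeros_plus (F := ZMod 2) m
    rw [ZMod.card] at h
    omega
  · rw [Nat.card_congr (g.toEquiv.subtypeEquiv (q := fun v => quadFormMinus (m - 1) (ZMod 2) 1 1 v = 0) fun v => by
      rw [hg v]; rfl)]
    have h := card_zeros_minus (F := ZMod 2) (m - 1) 1 1 aniso_one
    rw [ZMod.card, show 2 * (m - 1) + 2 = 2 * m by omega, show m - 1 + 2 = m + 1 by omega,
      show m - 1 + 1 = m by omega] at h
    omega

theorem translate_iff {q : (Fin m ⊕ Fin m → ZMod 2) → ZMod 2} (hq : Polarizes q) (w : Fin m ⊕ Fin m → ZMod 2) :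
    (∃ g : (Fin m ⊕ Fin m → ZMod 2) ≃ₗ[ZMod 2] (Fin m ⊕ Fin m → ZMod 2), ∀ v, q v + pol m v w = q (g v)) ↔
      q w = 0 := by
  have hcase : ∀ z : ZMod 2, z = 0 ∨ z = 1 := by decide
  have hsmul : ∀ z : ZMod 2, z * z = z := by decide
  constructor
  · rintro ⟨g, hg⟩
    rcases hcase (q w) with h | h
    · exact h
    exfalso
    apply two_mul_zeros_ne hq
    have e1 : {v // q v + pol m v w = 0} ≃ {v // q v = 0} := g.toEquiv.subtypeEquiv fun v => by rw [hg v]; rfl
    have e2 : {v // q v + pol m v w = 0} ≃ {v // ¬ q v = 0} := (Equiv.addRight w).subtypeEquiv fun v => by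
      show _ ↔ ¬ q (v + w) = 0
      rw [hq v w, h]
      revert h
      generalize q v = a
      generalize pol m v w = b
      intro _
      revert a b
      decide
    have hc := Nat.card_congr ((Equiv.sumCompl fun v : Fin m ⊕ Fin m → ZMod 2 => q v = 0))
    rw [Nat.card_sum, ← Nat.card_congr e2, Nat.card_congr e1, Nat.card_fun, Nat.card_sum, Nat.card_fin,
      Nat.card_zmod] at hc
    rw [two_mul, hc, two_mul m]
  · intro h
    let T : (Fin m ⊕ Fin m → ZMod 2) →ₗ[ZMod 2] (Fin m ⊕ Fin m → ZMod 2) :=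
      { toFun := fun v => v + pol m v w • w
        map_add' := fun u v => by rw [pol_add_left, add_smul]; abel
        map_smul' := fun a v => by rw [pol_smul_left, mul_smul, RingHom.id_apply, smul_add] }
    have hT : T.comp T = LinearMap.id := LinearMap.ext fun v => by
      show v + pol m v w • w + pol m (v + pol m v w • w) w • w = v
      rw [pol_add_left, pol_smul_left, pol_self, mul_zero, add_zero, add_assoc, ← add_smul,
        CharTwo.add_self_eq_zero, zero_smul, add_zero]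
    refine ⟨LinearEquiv.ofLinear T T hT hT, fun v => ?_⟩
    show _ = q (v + pol m v w • w)
    rcases hcase (pol m v w) with h' | h'
    · rw [h', zero_smul, add_zero, add_zero]
    · rw [h', one_smul, hq v w, h, h', add_zero]

theorem exists_translate {q : (Fin m ⊕ Fin m → ZMod 2) → ZMod 2} (hq : Polarizes q) :
    ∃ w, q = fun v => quadFormPlus m (ZMod 2) v + pol m v w := by
  classical
  let w : Fin m ⊕ Fin m → ZMod 2 := Sum.elim
    (fun i => q (Pi.single (.inr i) 1) - quadFormPlus m (ZMod 2) (Pi.single (.inr i) 1))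
    (fun i => q (Pi.single (.inl i) 1) - quadFormPlus m (ZMod 2) (Pi.single (.inl i) 1))
  refine ⟨w, ?_⟩
  let L : (Fin m ⊕ Fin m → ZMod 2) →+ ZMod 2 :=
    { toFun := fun v => q v - quadFormPlus m (ZMod 2) v - pol m v w
      map_zero' := by
        rw [hq.map_zero, polarizes_plus.map_zero, pol_comm, ← pol_self m w, pol_self]
        simp [pol_eq]
      map_add' := fun u v => by rw [hq u v, polarizes_plus u v, pol_add_left]; ring }
  have hL : L = 0 := by
    refine AddMonoidHom.functions_ext _ L 0 fun x a => ?_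
    rcases (show ∀ z : ZMod 2, z = 0 ∨ z = 1 by decide) a with rfl | rfl
    · simp
    · rcases x with i | i
      · show q _ - quadFormPlus m (ZMod 2) _ - pol m _ w = 0
        rw [pol_single_inl]; simp [w]
      · show q _ - quadFormPlus m (ZMod 2) _ - pol m _ w = 0
        rw [pol_single_inr]; simp [w]
  funext v
  have := DFunLike.congr_fun hL v
  simp [L] at this
  linear_combination this

theorem translate_injective :
    Function.Injective fun w : Fin m ⊕ Fin m → ZMod 2 => fun v => quadFormPlus m (ZMod 2) v + pol m v w := by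
  classical
  intro a b h
  funext x
  rcases x with i | i
  · have := congrFun h (Pi.single (.inr i) 1)
    simpa [pol_single_inr] using this
  · have := congrFun h (Pi.single (.inl i) 1)
    simpa [pol_single_inl] using this

theorem counts (hm : 1 ≤ m) :
    Nat.card {q : (Fin m ⊕ Fin m → ZMod 2) → ZMod 2 // Polarizes q} = 2 ^ (2 * m) ∧
    Nat.card {q : (Fin m ⊕ Fin m → ZMod 2) → ZMod 2 // Polarizes q ∧
      ∃ g : (Fin m ⊕ Fin m → ZMod 2) ≃ₗ[ZMod 2] (Fin m ⊕ Fin m → ZMod 2),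
        ∀ v, q v = quadFormPlus m (ZMod 2) (g v)} = 2 ^ (2 * m - 1) + 2 ^ (m - 1) ∧
    Nat.card {q : (Fin m ⊕ Fin m → ZMod 2) → ZMod 2 // Polarizes q ∧
      ∃ g : (Fin m ⊕ Fin m → ZMod 2) ≃ₗ[ZMod 2] ((Fin (m - 1) ⊕ Fin (m - 1)) ⊕ Fin 2 → ZMod 2),
        ∀ v, q v = quadFormMinus (m - 1) (ZMod 2) 1 1 (g v)} = 2 ^ (2 * m - 1) - 2 ^ (m - 1) := by
  classical
  haveI : Fact (Nat.Prime 2) := ⟨Nat.prime_two⟩
  let Φ : (Fin m ⊕ Fin m → ZMod 2) ≃ {q : (Fin m ⊕ Fin m → ZMod 2) → ZMod 2 // Polarizes q} :=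
    Equiv.ofBijective (fun w => ⟨_, polarizes_plus.translate w⟩)
      ⟨fun a b h => translate_injective (congrArg Subtype.val h), fun q => by
        obtain ⟨w, hw⟩ := exists_translate q.2
        exact ⟨w, Subtype.ext hw.symm⟩⟩
  have htot : Nat.card (Fin m ⊕ Fin m → ZMod 2) = 2 ^ (2 * m) := by
    rw [Nat.card_fun, Nat.card_sum, Nat.card_fin, Nat.card_zmod, two_mul]
  have hplus : Nat.card {w : Fin m ⊕ Fin m → ZMod 2 // quadFormPlus m (ZMod 2) w = 0} =
      2 ^ (2 * m - 1) + 2 ^ (m - 1) := by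
    have h := card_zeros_plus (F := ZMod 2) m
    obtain ⟨k, rfl⟩ : ∃ k, m = k + 1 := ⟨m - 1, by omega⟩
    rw [ZMod.card] at h
    rw [show 2 * (k + 1) - 1 = 2 * k + 1 by omega, show k + 1 - 1 = k by omega]
    simp only [show 2 * (k + 1) = 2 * k + 1 + 1 by ring, pow_succ] at h ⊢
    omega
  refine ⟨by rw [← Nat.card_congr Φ, htot], ?_, ?_⟩
  · rw [← hplus]
    refine (Nat.card_congr ((Φ.subtypeEquiv fun w => ?_).trans
      (Equiv.subtypeSubtypeEquivSubtypeInter Polarizes fun q => ∃ g : (Fin m ⊕ Fin m → ZMod 2) ≃ₗ[ZMod 2]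
        (Fin m ⊕ Fin m → ZMod 2), ∀ v, q v = quadFormPlus m (ZMod 2) (g v)))).symm
    exact (translate_iff polarizes_plus w).symm
  · have hcompl : Nat.card {w : Fin m ⊕ Fin m → ZMod 2 // ¬ quadFormPlus m (ZMod 2) w = 0} =
        2 ^ (2 * m - 1) - 2 ^ (m - 1) := by
      have hc := Nat.card_congr (Equiv.sumCompl fun v : Fin m ⊕ Fin m → ZMod 2 => quadFormPlus m (ZMod 2) v = 0)
      rw [Nat.card_sum, hplus, htot] at hc
      have h2 : 2 ^ (2 * m) = 2 * 2 ^ (2 * m - 1) := by
        rw [← pow_succ', show 2 * m - 1 + 1 = 2 * m by omega]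
      omega
    rw [← hcompl]
    refine (Nat.card_congr ((Φ.subtypeEquiv fun w => ?_).trans
      (Equiv.subtypeSubtypeEquivSubtypeInter Polarizes fun q => ∃ g : (Fin m ⊕ Fin m → ZMod 2) ≃ₗ[ZMod 2]
        ((Fin (m - 1) ⊕ Fin (m - 1)) ⊕ Fin 2 → ZMod 2), ∀ v, q v = quadFormMinus (m - 1) (ZMod 2) 1 1 (g v)))).symm
    constructor
    · intro hw
      rcases (polarizes_plus.translate w).classify with hp | ⟨-, hn⟩
      · exact absurd ((translate_iff polarizes_plus w).1 hp) hw
      · exact hn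
    · rintro ⟨g', hg'⟩ hw
      obtain ⟨g, hg⟩ := (translate_iff polarizes_plus w).2 hw
      exact not_both hm g hg g' hg'

end CfsgLib.Known.BinaryForms
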