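import Cfsg.Prelude.Def_ChevAutomorphisms
import Cfsg.Agent.Lib.Lie.Rel.BN
import Cfsg.Agent.Lib.Lie.Rel.Inst
import Cfsg.Agent.Lib.Lie.Chev.All

/-!
# Diagonal matrices of root lattice characters
-/

set_option autoImplicit false

namespace CfsgLib.Known.ChevDiag

open Cfsg.Lie (ChevalleyDatum)
open CfsgLib.Lie.Chev

/-- consecutive entries of a chain differ by the root of the row -/
def chkSteps (D : ChevalleyDatum) : Bool :=
  (List.range D.nroots).all fun r => (row D r).all fun e => (List.range (e.2.size - 1)).all fun k =>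
    match e.2.toList[k]?, e.2.toList[k + 1]? with
    | some a, some b => (D.chainRoot r a.1 1).any (Nat.beq b.1)
    | _, _ => true

theorem stepsB2 : chkSteps Cfsg.Lie.chevB2 = true := by decide +kernel
theorem stepsG2 : chkSteps Cfsg.Lie.chevG2 = true := by decide +kernel
theorem stepsD4 : chkSteps Cfsg.Lie.chevD4 = true := by decide +kernel
theorem stepsF4 : chkSteps Cfsg.Lie.chevF4 = true := by decide +kernel
theorem stepsE6 : chkSteps Cfsg.Lie.chevE6 = true := by decide +kernel
theorem stepsE7 : chkSteps Cfsg.Lie.chevE7 = true := by decide +kernel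
theorem stepsE8 : chkSteps Cfsg.Lie.chevE8 = true := by decide +kernel

theorem steps_of_mem {D : ChevalleyDatum}
    (hD : D ∈ [Cfsg.Lie.chevG2, Cfsg.Lie.chevB2, Cfsg.Lie.chevD4, Cfsg.Lie.chevF4, Cfsg.Lie.chevE6,
      Cfsg.Lie.chevE7, Cfsg.Lie.chevE8]) : chkSteps D = true := by
  simp only [List.mem_cons, List.not_mem_nil, or_false] at hD
  rcases hD with rfl | rfl | rfl | rfl | rfl | rfl | rfl
  exacts [stepsG2, stepsB2, stepsD4, stepsF4, stepsE6, stepsE7, stepsE8]

variable {D : ChevalleyDatum} {X : Aux} {F : Type*} [Field F]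

/-- a character is multiplicative along root chains -/
theorem char_chain (C : Cert D X) (hS : chkSteps D = true) {χ : ℕ → Fˣ} (hχ : D.IsRootCharacter χ) {r s : ℕ}
    (hr : r < D.nroots) : ∀ (k : ℕ) (p : ℕ × ℤ), (D.chainEntry r s)[k]? = some p → χ p.1 = χ s * χ r ^ (k + 1) := by
  intro k
  induction k with
  | zero =>
    intro p hp
    have hs : s < D.nroots := (C.chainEntry_props hr (List.mem_zipIdx_iff_getElem?.2 hp : (p, 0) ∈ _)).1
    rw [hχ.2 r s p.1 hr hs (by simp [ChevalleyDatum.chainRoot, hp]), mul_comm, zero_add, pow_one]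
  | succ k ih =>
    intro p hp
    obtain ⟨a, ha⟩ : ∃ a, (D.chainEntry r s)[k]? = some a :=
      ⟨_, List.getElem?_eq_getElem (by have := (List.getElem?_eq_some_iff.1 hp).1; omega)⟩
    obtain ⟨e, he, rfl, -⟩ := C.mem_chainEntry (List.mem_of_getElem? hp)
    rw [C.chainEntry_eq hr he] at hp ha ih
    have h := hS
    simp only [chkSteps, List.all_eq_true, List.mem_range] at h
    have h1 := h r hr e he k (by have := (List.getElem?_eq_some_iff.1 hp).1; simp at this; omega)
    rw [ha, hp] at h1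
    simp only [Option.any_eq_true] at h1
    obtain ⟨u, hu, hu'⟩ := h1
    obtain rfl := Nat.eq_of_beq_eq_true hu'
    have ha' : a.1 < D.nroots := by
      refine (C.chainEntry_props hr (s := e.1) (q := (a, k)) (List.mem_zipIdx_iff_getElem?.2 ?_)).2.2.2.1
      rw [C.chainEntry_eq hr he]; exact ha
    rw [hχ.2 r a.1 p.1 hr ha' hu, ih a ha, pow_succ (χ r) (k + 1), mul_comm, mul_assoc]

theorem chainSum_char (C : Cert D X) (hS : chkSteps D = true) {χ : ℕ → Fˣ} (hχ : D.IsRootCharacter χ) {r : ℕ}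
    (hr : r < D.nroots) (s u : ℕ) (t : F) :
    (χ u : F) * chainSum D r s u t * ((χ s : F))⁻¹ = chainSum D r s u ((χ r : F) * t) := by
  unfold chainSum
  rw [← List.sum_map_mul_left, ← List.sum_map_mul_right]
  refine congrArg List.sum (List.map_congr_left fun q hq => ?_)
  by_cases hu : q.1.1 = u
  · rw [if_pos hu, if_pos hu, ← hu, char_chain C hS hχ hr q.2 q.1 (List.mem_zipIdx_iff_getElem?.1 hq),
      Units.val_mul, Units.val_pow_eq_pow_val, mul_pow]
    field_simp
  · simp [hu]

/-- conjugation of a root element by the diagonal matrix of a character -/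
theorem conj_x (C : Cert D X) (hS : chkSteps D = true) {χ : ℕ → Fˣ} (hχ : D.IsRootCharacter χ) {r : ℕ}
    (hr : r < D.nroots) (t : F) :
    D.charDiag F χ * D.x F r t * D.charDiag F (fun s => (χ s)⁻¹) = D.x F r ((χ r : F) * t) := by
  have hn : (χ (D.neg r) : F) = (χ r : F)⁻¹ := by rw [hχ.1 r hr]; simp
  ext a b
  rw [ChevalleyDatum.charDiag, ChevalleyDatum.charDiag, Matrix.mul_diagonal, Matrix.diagonal_mul]
  rcases a with i | u <;> rcases b with j | s <;>
    simp only [Sum.elim_inl, Sum.elim_inr, one_mul, mul_one, Units.val_inv_eq_inv_val]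
  · rw [C.xM_inl_inl hr, C.xM_inl_inl hr]
  · rw [C.xM_inl_inr hr, C.xM_inl_inr hr]
    split_ifs with h
    · rw [h, hn, inv_inv]; ring
    · simp
  · rw [C.xM_inr_inl hr, C.xM_inr_inl hr]
    split_ifs with h
    · rw [h]; ring
    · simp
  · rw [C.xM_inr_inr hr, C.xM_inr_inr hr, mul_add, mul_add, add_mul, add_mul, chainSum_char C hS hχ hr]
    congr 2
    · split_ifs with h
      · rw [h, mul_one, mul_inv_cancel₀ (χ s).ne_zero]
      · simp
    · split_ifs with h
      · rw [h.1, h.2, hn, inv_inv]; ring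
      · simp

/-- an element of the group with the matrix of a character lies in the torus -/
theorem mem_HS (C : Cert D X) (hS : chkSteps D = true) {χ : ℕ → Fˣ} (hχ : D.IsRootCharacter χ)
    {g : ↥(D.group F)} (hg : ((g : GL D.Idx F) : Matrix D.Idx D.Idx F) = D.charDiag F χ) :
    g ∈ (chevRel C F).HS := by
  obtain ⟨R, hR⟩ : ∃ R, R = chevRel C F := ⟨_, rfl⟩
  rw [← hR]
  have hinj : Function.Injective R.θ := by rw [hR]; exact chevRel_injective C F
  have hm : R.mat g = D.charDiag F χ := by rw [hR]; exact hg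
  have hinv : D.charDiag F (fun s => (χ s)⁻¹) * D.charDiag F χ = 1 := by
    rw [ChevalleyDatum.charDiag, ChevalleyDatum.charDiag, Matrix.diagonal_mul_diagonal, ← Matrix.diagonal_one]
    congr 1; funext x; cases x <;> simp
  have hx : ∀ (r : Fin D.nroots) (t : F), g * R.xe r t * g⁻¹ = R.xe r ((χ r : F) * t) := by
    intro r t
    rw [mul_inv_eq_iff_eq_mul]
    refine hinj (R.θ_eq_of_mat ?_)
    rw [R.mat_mul, R.mat_mul, hm, R.mat_xe, R.mat_xe, ← conj_x C hS hχ r.2, Matrix.mul_assoc _ _ (D.charDiag F χ),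
      hinv, Matrix.mul_one]
  have hconj : R.BS ≤ R.BS.comap (MulAut.conj g).toMonoidHom := by
    refine sup_le (R.US_le fun r hr t => ?_) fun h hh => ?_
    · show g * R.xe r t * g⁻¹ ∈ R.BS
      rw [hx]; exact R.xe_pos_mem_BS hr _
    · show g * h * g⁻¹ ∈ R.BS
      obtain ⟨a, -, ha⟩ := R.exists_mat_HS hh
      have hc : g * h = h * g := hinj (R.θ_eq_of_mat (by
        rw [R.mat_mul, R.mat_mul, hm, ha, ChevalleyDatum.charDiag, Matrix.diagonal_mul_diagonal,
          Matrix.diagonal_mul_diagonal]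
        congr 1; funext x; exact mul_comm _ _))
      rw [hc, mul_inv_cancel_right]
      exact R.HS_le_BS hh
  have hB : g ∈ R.BS := by
    have h := CfsgLib.Lie.BN.mem_parabolic_of_conj_mem R.bnPair (J := ∅) (g := g)
      fun b hb => (le_sup_left : R.BS ≤ _) (hconj hb)
    rw [Cfsg.BNPair.parabolic, Subgroup.closure_empty, sup_bot_eq] at h
    exact h
  obtain ⟨u, hu, h, hh, rfl⟩ := R.exists_of_mem_BS hB
  suffices u = 1 by rw [this, one_mul]; exact hh
  refine R.eq_one_of_UP hu fun a b hab => ?_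
  obtain ⟨c, -, hc⟩ := R.exists_mat_HS (inv_mem hh)
  rw [show u = u * h * h⁻¹ by group, R.mat_mul, hm, hc, ChevalleyDatum.charDiag, Matrix.diagonal_mul_diagonal]
  exact Matrix.diagonal_apply_ne _ hab

end CfsgLib.Known.ChevDiag
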