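import Cfsg.Agent.Lib.Lie.Rel.BN
import Cfsg.Agent.Lib.Lie.Rel.Inst

/-!
# Chevalley groups are generated by the root elements of the fundamental roots and their negatives
-/

set_option autoImplicit false

namespace CfsgLib.Known.ChevGen

open Cfsg.Lie (ChevalleyDatum)
open CfsgLib.Lie.Chev

variable {D : ChevalleyDatum} {X : Aux} {F : Type*} [Field F] {G : Type*} [Group G] (R : Rel D X F G)

/-- A subgroup containing the fundamental root elements and their negatives is everything. -/
theorem eq_top_of_simple (H : Subgroup G)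
    (h : ∀ (i : Fin D.rank) (t : F), R.xe (D.simple i) t ∈ H ∧ R.xe (D.neg (D.simple i)) t ∈ H) : H = ⊤ := by
  have hN : R.Nw ≤ H := (Subgroup.closure_le _).2 (by
    rintro _ ⟨i, rfl⟩
    exact mul_mem (mul_mem (h i 1).1 (h i _).2) (h i 1).1)
  rw [eq_top_iff, ← R.gen, Subgroup.closure_le]
  rintro _ ⟨r, t, rfl⟩
  by_cases hr : r < D.nroots
  · obtain ⟨g, hg, i, hi⟩ := R.exists_conj_simple ⟨r, hr⟩
    obtain ⟨a, ha⟩ := R.exists_isMon g
    have e := (ha (R.sroot i)).2.2.2 ((a (R.sroot i))⁻¹ * t)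
    rw [mul_inv_cancel_left₀ (ha (R.sroot i)).1, hi] at e
    show R.xe ((⟨r, hr⟩ : Fin D.nroots) : ℕ) t ∈ H
    rw [← e]
    exact mul_mem (mul_mem (hN hg) (h i _).1) (inv_mem (hN hg))
  · rw [R.xe_oob r t hr]
    exact one_mem _

/-- Homomorphisms agreeing on those elements are equal. -/
theorem hom_ext {H : Type*} [Monoid H] {f g : G →* H}
    (h : ∀ (i : Fin D.rank) (t : F), f (R.xe (D.simple i) t) = g (R.xe (D.simple i) t) ∧
      f (R.xe (D.neg (D.simple i)) t) = g (R.xe (D.neg (D.simple i)) t)) : f = g :=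
  MonoidHom.ext fun x => by
    have hx : x ∈ f.eqLocus g := by rw [eq_top_of_simple R (f.eqLocus g) h]; exact Subgroup.mem_top _
    exact hx

end CfsgLib.Known.ChevGen
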