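import Cfsg.Prelude.Def_SteinbergCover
import Cfsg.Agent.Lib.Lie.Rel.Steinberg
import Cfsg.Agent.Lib.Lie.Rel.StWitness
import Cfsg.Agent.Lib.Lie.Rel.Simple
import Cfsg.Agent.Lib.Lie.Rel.Checks

/-!
# The group presented by Steinberg's relators (R1), (R2): perfectness, centrality of the kernel, (R3) over finite fields
-/

set_option autoImplicit false

namespace CfsgLib.Known.StCover

open Cfsg.Lie (ChevalleyDatum)
open CfsgLib.Lie.Chev

variable {D : ChevalleyDatum} {X : Aux} (C : Cert D X) (K : Type*) [Field K]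

theorem mem_center_of_perfect {G : Type*} [Group G] (hG : commutator G = ⊤) {g : G}
    (h2 : ∀ x, g * x * g⁻¹ * x⁻¹ ∈ Subgroup.center G) : g ∈ Subgroup.center G := by
  let f : G →* Subgroup.center G :=
    MonoidHom.mk' (fun x => ⟨g * x * g⁻¹ * x⁻¹, h2 x⟩) fun x y => Subtype.ext (by
      show g * (x * y) * g⁻¹ * (x * y)⁻¹ = g * x * g⁻¹ * x⁻¹ * (g * y * g⁻¹ * y⁻¹)
      rw [show g * (x * y) * g⁻¹ * (x * y)⁻¹ = g * x * g⁻¹ * ((g * y * g⁻¹ * y⁻¹) * x⁻¹) by group,
        ← Subgroup.mem_center_iff.1 (h2 y) x⁻¹]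
      group)
  rw [Subgroup.mem_center_iff]
  intro x
  have hK : commutator G ≤ f.ker := by
    rw [commutator_def, Subgroup.commutator_le]
    intro a _ b _
    rw [MonoidHom.mem_ker, map_commutatorElement, commutatorElement_eq_one_iff_mul_comm]
    exact Subtype.ext (Subgroup.mem_center_iff.1 (f b).2 (f a))
  rw [hG] at hK
  have h3 : f x = 1 := MonoidHom.mem_ker.1 (hK (Subgroup.mem_top x))
  have h4 : g * x * g⁻¹ * x⁻¹ = 1 := congrArg Subtype.val h3
  rw [mul_inv_eq_one, mul_inv_eq_iff_eq_mul] at h4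
  exact h4.symm

theorem scGen_add (r : ℕ) (t u : K) (hr : r < D.nroots) :
    D.scGen K r t * D.scGen K r u = D.scGen K r (t + u) := by
  have h := PresentedGroup.one_of_mem (rels := D.steinbergRelsAB K) (Or.inl ⟨r, t, u, hr, rfl⟩)
  simp only [map_mul, map_inv, mul_inv_eq_one] at h
  exact h

theorem scGen_comm (r s : ℕ) (t u : K) (hr : r < D.nroots) (hs : s < D.nroots) (h1 : s ≠ r) (h2 : s ≠ D.neg r) :
    D.scGen K s u * D.scGen K r t =
      D.scGen K r t * D.scGen K s u * ((D.commWord K r s t u).map fun p => D.scGen K p.1 p.2).prod := by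
  have h := PresentedGroup.one_of_mem (rels := D.steinbergRelsAB K)
    (Or.inr ⟨r, s, t, u, hr, hs, h1, h2, rfl⟩)
  simp only [map_mul, map_inv, mul_inv_eq_one, ChevalleyDatum.stWord, map_list_prod, List.map_map] at h
  rw [show ((D.commWord K r s t u).map fun p => D.scGen K p.1 p.2).prod =
    (D.scGen K s u)⁻¹ * (D.scGen K r t)⁻¹ * D.scGen K s u * D.scGen K r t from h.symm]
  group

theorem rels_lift_sc : ∀ g ∈ D.steinbergRelsAB K,
    FreeGroup.lift (fun p : Fin D.nroots × K => xG C K p.1 p.2) g = 1 :=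
  fun g hg => rels_lift C K g (Or.inl hg)

/-- the cover maps to the Chevalley group -/
def scTheta : D.SteinbergCover K →* ↥(D.group K) := PresentedGroup.toGroup (rels_lift_sc C K)

theorem scTheta_gen (r : ℕ) (t : K) : scTheta C K (D.scGen K r t) = xG C K r t := by
  show PresentedGroup.toGroup (rels_lift_sc C K) (PresentedGroup.mk _ (D.stX r t)) = _
  rw [← lift_stX C K r t]
  rfl

theorem scTheta_surjective : Function.Surjective (scTheta C K) := by
  rw [← MonoidHom.range_eq_top, ← top_le_iff, ← (chevRel C K).gen, Subgroup.closure_le]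
  rintro _ ⟨r, t, rfl⟩
  exact ⟨D.scGen K r t, scTheta_gen C K r t⟩

theorem scGen_oob {r : ℕ} (hr : ¬ r < D.nroots) (t : K) : D.scGen K r t = 1 := by
  rw [ChevalleyDatum.scGen, ChevalleyDatum.stX, dif_neg hr, map_one]

theorem closure_scGen : Subgroup.closure {g | ∃ r t, g = D.scGen K r t} = ⊤ := by
  refine top_unique (le_of_eq_of_le (PresentedGroup.closure_range_of _).symm (Subgroup.closure_mono ?_))
  rintro _ ⟨⟨r, t⟩, rfl⟩
  exact ⟨r, t, by rw [ChevalleyDatum.scGen, ChevalleyDatum.stX, dif_pos r.2]; rfl⟩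

/-- the cover with its root elements -/
def scRaw : RawRel D X K (D.SteinbergCover K) where
  cert := C
  xe := D.scGen K
  θ := (D.group K).subtype.comp (scTheta C K)
  θ_xe r t := by rw [MonoidHom.comp_apply, scTheta_gen]; rfl
  xe_add := scGen_add K
  xe_comm := scGen_comm K

variable {C K}
variable {L : List (ℕ × ℕ × ℕ × List ℤ)}

section
variable {G : Type*} [Group G] (R : RawRel D X K G) (hL : chkWits D X L = true)
include hL

/-- `h_i(c)` scales each root element -/
theorem he_scale (i : Fin D.rank) {c : K} (hc : c ≠ 0) {r : ℕ} (hr : r < D.nroots) (t : K) :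
    heOf D R.xe (D.simple i) c * R.xe r t = R.xe r (c ^ D.cartan i r * t) * heOf D R.xe (D.simple i) c := by
  have h1 := R.nconj_all hL i.2 hr (c := (-1 : K)) (by norm_num) t
  have h2 := R.nconj_all hL i.2 (R.cert.w_lt i.2 hr) hc ((X.eta i r : K) * (-1 : K) ^ (-(D.cartan i r)) * t)
  rw [R.cert.w_w i.2 hr] at h2
  have e : (X.eta i (X.w i r) : K) * c ^ (-(D.cartan i (X.w i r))) *
      ((X.eta i r : K) * (-1 : K) ^ (-(D.cartan i r)) * t) = c ^ D.cartan i r * t := by
    rw [R.cert.cartan_w_self i.2 hr, neg_neg, zpow_neg (-1 : K), Rel.neg_one_zpow_cartan (chevRel R.cert K),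
      ← R.cert.eta_mul i.2 hr]
    have h1 := X.eta_sq_cast (F := K) i r
    have h2 := X.eta_sq_cast (F := K) i (X.w i r)
    have n1 := left_ne_zero_of_mul_eq_one h1
    have n2 := left_ne_zero_of_mul_eq_one h2
    push_cast
    field_simp
  rw [e] at h2
  unfold heOf
  rw [mul_assoc, h1, ← mul_assoc, h2, mul_assoc]

/-- the defect of multiplicativity of `h_i` is central -/
theorem defect_central (hgen : Subgroup.closure {g | ∃ r t, g = R.xe r t} = ⊤)
    (hoob : ∀ r t, ¬ r < D.nroots → R.xe r t = 1) (i : Fin D.rank) {a b : K} (ha : a ≠ 0) (hb : b ≠ 0) :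
    heOf D R.xe (D.simple i) a * heOf D R.xe (D.simple i) b * (heOf D R.xe (D.simple i) (a * b))⁻¹ ∈
      Subgroup.center G := by
  obtain ⟨d, hd⟩ : ∃ d, d = heOf D R.xe (D.simple i) a * heOf D R.xe (D.simple i) b *
      (heOf D R.xe (D.simple i) (a * b))⁻¹ := ⟨_, rfl⟩
  rw [← hd]
  have h : ∀ r t, R.xe r t ∈ Subgroup.centralizer {d} := by
    intro r t
    rw [Subgroup.mem_centralizer_singleton_iff]
    by_cases hr : r < D.nroots
    swap
    · rw [hoob r t hr, one_mul, mul_one]
    have hab : ((a * b) ^ D.cartan i r : K) ≠ 0 := zpow_ne_zero _ (mul_ne_zero ha hb)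
    have e3 : (heOf D R.xe (D.simple i) (a * b))⁻¹ * R.xe r t =
        R.xe r (((a * b) ^ D.cartan i r)⁻¹ * t) * (heOf D R.xe (D.simple i) (a * b))⁻¹ := by
      rw [inv_mul_eq_iff_eq_mul, ← mul_assoc, eq_mul_inv_iff_mul_eq, he_scale R hL i (mul_ne_zero ha hb) hr,
        mul_inv_cancel_left₀ hab]
    rw [hd, eq_comm, mul_assoc, e3, ← mul_assoc, mul_assoc (heOf D R.xe (D.simple i) a), he_scale R hL i hb hr,
      ← mul_assoc, he_scale R hL i ha hr, ← mul_assoc (a ^ D.cartan i r), ← mul_zpow, mul_inv_cancel_left₀ hab]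
    group
  rw [Subgroup.mem_center_iff]
  intro g
  have hg : g ∈ Subgroup.centralizer {d} :=
    (top_le_iff.2 rfl : (⊤ : Subgroup G) ≤ ⊤).trans (hgen ▸ (Subgroup.closure_le _).2 (by
      rintro _ ⟨r, t, rfl⟩; exact h r t)) (Subgroup.mem_top g)
  exact Subgroup.mem_centralizer_singleton_iff.1 hg

/-- every root element lies in the commutator subgroup -/
theorem raw_perfect (hgen : Subgroup.closure {g | ∃ r t, g = R.xe r t} = ⊤)
    (hoob : ∀ r t, ¬ r < D.nroots → R.xe r t = 1) (h : Rel.PerfectData D K) : commutator G = ⊤ := by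
  have hs : ∀ i < D.rank, ∀ t : K, R.xe (D.simple i) t ∈ commutator G := by
    intro i hi t
    rcases h i hi with ⟨j, hj, c, hc, hne⟩ | ⟨r, hr, s, hs, hne, hneg, E, hE, e⟩
    · have h2 : c ^ D.cartan j (D.simple i) - 1 ≠ 0 := sub_ne_zero.2 hne
      obtain ⟨u, hu⟩ : ∃ u, u = t / (c ^ D.cartan j (D.simple i) - 1) := ⟨_, rfl⟩
      have e : R.xe (D.simple i) t =
          heOf D R.xe (D.simple j) c * R.xe (D.simple i) u * (heOf D R.xe (D.simple j) c)⁻¹ *
            (R.xe (D.simple i) u)⁻¹ := by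
        rw [he_scale R hL ⟨j, hj⟩ hc (R.cert.simple_lt hi), mul_inv_cancel_right,
          ← R.xe_neg ⟨_, R.cert.simple_lt hi⟩, R.xe_add _ _ _ (R.cert.simple_lt hi), hu]
        congr 1
        field_simp
        ring
      rw [e, ← commutatorElement_def]
      exact Subgroup.commutator_mem_commutator (Subgroup.mem_top _) (Subgroup.mem_top _)
    · have h1 := R.xe_comm r s (-t / E) 1 hr hs hne hneg
      simp only [ChevalleyDatum.commWord, e, List.map_cons, List.map_nil, List.prod_cons, List.prod_nil, mul_one,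
        pow_one] at h1
      rw [show (E : K) * -(-t / E) = t by field_simp] at h1
      have e2 : R.xe (D.simple i) t =
          (R.xe s 1)⁻¹ * (R.xe r (-t / E))⁻¹ * (R.xe s 1)⁻¹⁻¹ * (R.xe r (-t / E))⁻¹⁻¹ := by
        rw [show R.xe (D.simple i) t = (R.xe r (-t / E) * R.xe s 1)⁻¹ * (R.xe s 1 * R.xe r (-t / E)) by
          rw [h1]; group]
        group
      rw [e2, ← commutatorElement_def]
      exact Subgroup.commutator_mem_commutator (Subgroup.mem_top _) (Subgroup.mem_top _)
  have step : ∀ i < D.rank, ∀ r < D.nroots, (∀ t, R.xe r t ∈ commutator G) →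
      ∀ t, R.xe (X.w i r) t ∈ commutator G := by
    intro i hi r hr hP t
    have h1 := R.nconj_all hL hi hr one_ne_zero ((X.eta i r : K) * t)
    rw [one_zpow, mul_one, ← mul_assoc, X.eta_sq_cast, one_mul, ← mul_inv_eq_iff_eq_mul] at h1
    rw [← h1]
    exact (inferInstance : (commutator G).Normal).conj_mem _ (hP _) _
  have hpos : ∀ r < D.nroots, half D ≤ r → ∀ t, R.xe r t ∈ commutator G ∧ R.xe (D.neg r) t ∈ commutator G := by
    intro r
    induction r using Nat.strong_induction_on with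
    | _ r ih =>
      intro hr hp t
      obtain ⟨i, hi, h'⟩ := R.cert.cover'.2.2.1 r hr (by omega)
      rcases h' with h' | ⟨h1, h2⟩
      · subst h'
        refine ⟨hs i hi t, ?_⟩
        rw [← R.cert.w_simple hi]
        exact step i hi _ hr (hs i hi) t
      · have hw := R.cert.w_lt hi hr
        have IH := ih _ h2 hw h1
        refine ⟨?_, ?_⟩
        · have := step i hi _ hw (fun t => (IH t).1) t
          rwa [R.cert.w_w hi hr] at this
        · have := step i hi _ (R.cert.neg_lt hw) (fun t => (IH t).2) t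
          rwa [R.cert.w_neg hi hw, R.cert.w_w hi hr] at this
  rw [eq_top_iff, ← hgen, Subgroup.closure_le]
  rintro _ ⟨r, t, rfl⟩
  by_cases hr : r < D.nroots
  · by_cases hp : half D ≤ r
    · exact (hpos r hr hp t).1
    · have := (hpos _ (R.cert.neg_lt hr) ((R.cert.half_le_neg_iff hr).2 (by omega)) t).2
      rwa [R.cert.neg_neg hr] at this
  · rw [hoob r t hr]; exact one_mem _

/-- Steinberg's identity `h(u) h(1 - u) = h(u (1 - u))` -/
theorem he_steinberg_symbol (i : Fin D.rank) {u : K} (hu : u ≠ 0) (hu' : 1 - u ≠ 0) :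
    heOf D R.xe (D.simple i) u * heOf D R.xe (D.simple i) (1 - u) =
      heOf D R.xe (D.simple i) (u * (1 - u)) := by
  have hi := i.2
  have hp := R.cert.simple_lt hi
  have hq := R.cert.neg_lt hp
  have hP : ∀ a b, R.xe (D.simple i) a * R.xe (D.simple i) b = R.xe (D.simple i) (a + b) :=
    fun a b => R.xe_add _ a b hp
  have hM : ∀ a b, R.xe (D.neg (D.simple i)) a * R.xe (D.neg (D.simple i)) b =
      R.xe (D.neg (D.simple i)) (a + b) := fun a b => R.xe_add _ a b hq
  have hnP : ∀ c, c ≠ 0 → ∀ t, neOf D R.xe (D.simple i) c * R.xe (D.simple i) t =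
      R.xe (D.neg (D.simple i)) (-t / c ^ 2) * neOf D R.xe (D.simple i) c := by
    intro c hc t
    rw [R.nconj_all hL hi hp hc t, R.cert.w_simple hi, R.cert.eta_simple hi, R.cert.cartan_simple hi, zpow_neg,
      zpow_two]
    congr 2
    push_cast
    field_simp
  have hnM : ∀ c, c ≠ 0 → ∀ t, neOf D R.xe (D.simple i) c * R.xe (D.neg (D.simple i)) t =
      R.xe (D.simple i) (-(c ^ 2) * t) * neOf D R.xe (D.simple i) c := by
    intro c hc t
    rw [R.nconj_all hL hi hq hc t, R.cert.w_neg hi hp, R.cert.w_simple hi, R.cert.neg_neg hp,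
      R.cert.eta_neg hi hp, R.cert.eta_simple hi, R.cert.cartan_neg hp hi, R.cert.cartan_simple hi, neg_neg,
      zpow_two]
    congr 2
    push_cast
    ring
  have hns : ∀ c, neOf D R.xe (D.simple i) (-c) = (neOf D R.xe (D.simple i) c)⁻¹ :=
    fun c => R.neOf_neg ⟨_, hp⟩ c
  obtain ⟨v, hv⟩ : ∃ v, v = 1 - u := ⟨_, rfl⟩
  rw [← hv] at hu' ⊢
  have hyxy : neOf D R.xe (D.simple i) (-v) = R.xe (D.neg (D.simple i)) (1 / v) * R.xe (D.simple i) (-v) *
      R.xe (D.neg (D.simple i)) (1 / v) := by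
    have h := hnM (-v) (neg_ne_zero.2 hu') (1 / v)
    rw [show -((-v) ^ 2) * (1 / v) = -v by field_simp] at h
    rw [show neOf D R.xe (D.simple i) (-v) = R.xe (D.simple i) (-v) * R.xe (D.neg (D.simple i)) (1 / v) *
      R.xe (D.simple i) (-v) by simp [neOf, neg_div]] at h ⊢
    exact (mul_left_cancel (a := R.xe (D.simple i) (-v)) (by simpa [mul_assoc] using h)).symm
  have key : heOf D R.xe (D.simple i) u =
      neOf D R.xe (D.simple i) (u * v) * neOf D R.xe (D.simple i) (-v) := by
    have hmid : R.xe (D.simple i) (-v) = R.xe (D.neg (D.simple i)) (-(1 / v)) *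
        neOf D R.xe (D.simple i) (-v) * R.xe (D.neg (D.simple i)) (-(1 / v)) := by
      rw [R.xe_neg ⟨_, hq⟩, hyxy]; group
    calc heOf D R.xe (D.simple i) u
        = R.xe (D.simple i) u * R.xe (D.neg (D.simple i)) (-u⁻¹) * (R.xe (D.simple i) u * R.xe (D.simple i) (-1)) *
          R.xe (D.neg (D.simple i)) 1 * R.xe (D.simple i) (-1) := by simp [heOf, neOf, mul_assoc]
      _ = R.xe (D.simple i) u * (R.xe (D.neg (D.simple i)) (-u⁻¹) * R.xe (D.neg (D.simple i)) (-(1 / v))) *
          neOf D R.xe (D.simple i) (-v) * (R.xe (D.neg (D.simple i)) (-(1 / v)) * R.xe (D.neg (D.simple i)) 1) *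
          R.xe (D.simple i) (-1) := by
        rw [hP, show u + -1 = -v by rw [hv]; ring, hmid]; group
      _ = R.xe (D.simple i) u * R.xe (D.neg (D.simple i)) (-(u * v)⁻¹) *
          (neOf D R.xe (D.simple i) (-v) * R.xe (D.neg (D.simple i)) (-u / v)) * R.xe (D.simple i) (-1) := by
        rw [hM, hM, show -u⁻¹ + -(1 / v) = -(u * v)⁻¹ by field_simp; linear_combination -hv,
          show -(1 / v) + 1 = -u / v by field_simp; linear_combination hv]
        group
      _ = R.xe (D.simple i) u * R.xe (D.neg (D.simple i)) (-(u * v)⁻¹) * R.xe (D.simple i) (u * v) *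
          (neOf D R.xe (D.simple i) (-v) * R.xe (D.simple i) (-1)) := by
        rw [hnM _ (neg_ne_zero.2 hu'), show -((-v) ^ 2) * (-u / v) = u * v by field_simp]
        group
      _ = R.xe (D.simple i) (u + -(u * v)) * neOf D R.xe (D.simple i) (u * v) *
          R.xe (D.neg (D.simple i)) (1 / v ^ 2) * neOf D R.xe (D.simple i) (-v) := by
        rw [hnP _ (neg_ne_zero.2 hu'), neg_neg, neg_sq, ← hP, R.xe_neg ⟨_, hp⟩,
          show neOf D R.xe (D.simple i) (u * v) = R.xe (D.simple i) (u * v) * R.xe (D.neg (D.simple i)) (-(u * v)⁻¹) *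
            R.xe (D.simple i) (u * v) from rfl]
        group
      _ = R.xe (D.simple i) (u + -(u * v)) * (R.xe (D.simple i) (-(u * v) ^ 2 * (1 / v ^ 2)) *
          neOf D R.xe (D.simple i) (u * v)) * neOf D R.xe (D.simple i) (-v) := by
        rw [← hnM _ (mul_ne_zero hu hu')]
        group
      _ = R.xe (D.simple i) 0 * neOf D R.xe (D.simple i) (u * v) * neOf D R.xe (D.simple i) (-v) := by
        rw [← mul_assoc (R.xe (D.simple i) (u + -(u * v))), hP]
        congr 3
        field_simp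
        linear_combination (-u) * hv
      _ = _ := by rw [R.xe_zero ⟨_, hp⟩, one_mul]
  rw [key]
  unfold heOf
  rw [hns v, hns 1]
  group

/-- over a finite field `h_i` is multiplicative -/
theorem he_mul_finite [Finite K] (hgen : Subgroup.closure {g | ∃ r t, g = R.xe r t} = ⊤)
    (hoob : ∀ r t, ¬ r < D.nroots → R.xe r t = 1) (i : Fin D.rank) {a b : K} (ha : a ≠ 0) (hb : b ≠ 0) :
    heOf D R.xe (D.simple i) a * heOf D R.xe (D.simple i) b = heOf D R.xe (D.simple i) (a * b) := by
  obtain ⟨h, hh⟩ : ∃ h : Kˣ → G, h = fun x : Kˣ => heOf D R.xe (D.simple i) (x : K) := ⟨_, rfl⟩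
  suffices ∀ x y : Kˣ, h x * h y = h (x * y) by
    simpa [hh] using this (Units.mk0 a ha) (Units.mk0 b hb)
  have hz : ∀ x y : Kˣ, h x * h y * (h (x * y))⁻¹ ∈ Subgroup.center G := fun x y => by
    simpa [hh] using defect_central R hL hgen hoob i x.ne_zero y.ne_zero
  have hz' : ∀ x y : Kˣ, ∃ z ∈ Subgroup.center G, h (x * y) = z * (h x * h y) := fun x y =>
    ⟨_, inv_mem (hz x y), by group⟩
  obtain ⟨g, hg⟩ := IsCyclic.exists_generator (α := Kˣ)
  have hg' : ∀ x : Kˣ, ∃ m : ℕ, g ^ m = x := fun x => mem_powers_iff_mem_zpowers.2 (hg x)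
  have hpow : ∀ m : ℕ, ∃ z ∈ Subgroup.center G, h (g ^ m) = z * h g ^ m := by
    intro m
    induction m with
    | zero =>
      refine ⟨1, one_mem _, ?_⟩
      simp only [hh, pow_zero, Units.val_one, heOf, mul_one]
      rw [show neOf D R.xe (D.simple i) (-1 : K) = _ from R.neOf_neg ⟨_, R.cert.simple_lt i.2⟩ 1, mul_inv_cancel]
    | succ m ih =>
      obtain ⟨z, hz1, e⟩ := ih
      obtain ⟨z', hz2, e'⟩ := hz' (g ^ m) g
      exact ⟨z' * z, mul_mem hz2 hz1, by rw [pow_succ, e', e, pow_succ, mul_assoc, mul_assoc]⟩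
  have hcomm : ∀ x y : Kˣ, h x * h y = h y * h x := by
    intro x y
    obtain ⟨m, rfl⟩ := hg' x
    obtain ⟨n, rfl⟩ := hg' y
    obtain ⟨z, hz1, e⟩ := hpow m
    obtain ⟨w, hw1, e'⟩ := hpow n
    have c1 : ∀ k, k * z = z * k := Subgroup.mem_center_iff.1 hz1
    have c2 : ∀ k, k * w = w * k := Subgroup.mem_center_iff.1 hw1
    rw [e, e', mul_assoc z, ← mul_assoc (h g ^ m), c2 (h g ^ m), mul_assoc w, ← pow_add, add_comm, pow_add,
      ← mul_assoc z, ← c1 w, mul_assoc w, ← mul_assoc z, ← c1 (h g ^ n)]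
    group
  have hsq : ∀ x y : Kˣ, h (x * x * y) = h y * h (x * x) := by
    intro x y
    have hi := i.2
    have hp := R.cert.simple_lt hi
    have hq := R.cert.neg_lt hp
    obtain ⟨H, hH⟩ : ∃ H, H = heOf D R.xe (D.simple i) (x : K) := ⟨_, rfl⟩
    have e1 : ∀ c : K, H * R.xe (D.simple i) c * H⁻¹ = R.xe (D.simple i) ((x : K) ^ 2 * c) := fun c => by
      rw [hH, he_scale R hL i x.ne_zero hp, mul_inv_cancel_right, R.cert.cartan_simple hi, zpow_two, pow_two]
    have e2 : ∀ c : K, H * R.xe (D.neg (D.simple i)) c * H⁻¹ =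
        R.xe (D.neg (D.simple i)) (((x : K) ^ 2)⁻¹ * c) := fun c => by
      rw [hH, he_scale R hL i x.ne_zero hq, mul_inv_cancel_right, R.cert.cartan_neg hp hi, R.cert.cartan_simple hi,
        zpow_neg, zpow_two, pow_two]
    have e3 : ∀ c : K, H * neOf D R.xe (D.simple i) c * H⁻¹ = neOf D R.xe (D.simple i) ((x : K) ^ 2 * c) := by
      intro c
      show H * (R.xe (D.simple i) c * R.xe (D.neg (D.simple i)) (-c⁻¹) * R.xe (D.simple i) c) * H⁻¹ = _
      rw [show H * (R.xe (D.simple i) c * R.xe (D.neg (D.simple i)) (-c⁻¹) * R.xe (D.simple i) c) * H⁻¹ =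
        (H * R.xe (D.simple i) c * H⁻¹) * (H * R.xe (D.neg (D.simple i)) (-c⁻¹) * H⁻¹) *
        (H * R.xe (D.simple i) c * H⁻¹) by group, e1, e2]
      simp [neOf, mul_comm]
    have e4 : h y = h (x * x * y) * (h (x * x))⁻¹ := by
      have := hcomm x y
      rw [← mul_inv_eq_iff_eq_mul] at this
      rw [← this]
      simp only [hh, ← hH]
      show H * (neOf D R.xe (D.simple i) (y : K) * neOf D R.xe (D.simple i) (-1)) * H⁻¹ = _
      rw [show H * (neOf D R.xe (D.simple i) (y : K) * neOf D R.xe (D.simple i) (-1)) * H⁻¹ =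
        (H * neOf D R.xe (D.simple i) (y : K) * H⁻¹) * (H * neOf D R.xe (D.simple i) (-1) * H⁻¹) by group, e3, e3]
      simp only [heOf, Units.val_mul, mul_neg, mul_one, pow_two, mul_inv_rev]
      rw [R.neOf_neg ⟨_, hp⟩ ((x : K) * x)]
      group
    rw [e4, inv_mul_cancel_right]
  have hsq1 : ∀ x y : Kˣ, IsSquare x → h x * h y = h (x * y) := by
    rintro _ y ⟨x, rfl⟩; rw [hsq, hcomm]
  by_cases hall : ∀ x : Kˣ, IsSquare x
  · exact fun x y => hsq1 x y (hall x)
  simp only [not_forall] at hall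
  obtain ⟨e, he⟩ := hall
  have hns : ∀ x y : Kˣ, ¬ IsSquare x → ¬ IsSquare y → IsSquare (x * y⁻¹) := by
    intro x y hx hy
    obtain ⟨m, rfl⟩ := hg' x
    obtain ⟨n, rfl⟩ := hg' y
    have hm : ¬ Even m := fun ⟨k, hk⟩ => hx ⟨g ^ k, by rw [hk, pow_add]⟩
    have hn : ¬ Even n := fun ⟨k, hk⟩ => hy ⟨g ^ k, by rw [hk, pow_add]⟩
    obtain ⟨k, hk⟩ : Even ((m : ℤ) - n) := by
      rw [Int.even_sub, Int.even_coe_nat, Int.even_coe_nat]; tauto
    exact ⟨g ^ k, by rw [← zpow_add, ← hk, zpow_sub, zpow_natCast, zpow_natCast]⟩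
  obtain ⟨u, v, huu, hvv, huv⟩ : ∃ u v : Kˣ, ¬ IsSquare u ∧ ¬ IsSquare v ∧ (u : K) + v = 1 := by
    by_contra hne
    simp only [not_exists, not_and] at hne
    have h0 : ∀ u : {u : Kˣ // ¬ IsSquare u}, 1 - (u.1 : K) ≠ 0 := by
      rintro ⟨u, hu⟩ h'
      exact hu ⟨1, Units.ext (by simpa using (sub_eq_zero.1 h').symm)⟩
    have h1 : ∀ u : {u : Kˣ // ¬ IsSquare u}, IsSquare (Units.mk0 _ (h0 u)) := fun u =>
      not_not.1 fun h' => hne u.1 _ u.2 h' (by simp)
    let φ : {u : Kˣ // ¬ IsSquare u} → {u : Kˣ // IsSquare u} := fun u => ⟨_, h1 u⟩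
    have hφ : Function.Injective φ := fun a b hab => by
      have : (1 : K) - (a.1 : K) = 1 - (b.1 : K) := congrArg (fun z : {u : Kˣ // IsSquare u} => (z.1 : K)) hab
      exact Subtype.ext (Units.ext (sub_right_injective this))
    have hcard : Nat.card {u : Kˣ // IsSquare u} = Nat.card {u : Kˣ // ¬ IsSquare u} := by
      refine Nat.card_congr (Equiv.subtypeEquiv (Equiv.mulRight e) fun x => ?_)
      simp only [Equiv.coe_mulRight]
      constructor
      · rintro hx hxe
        exact he (by simpa using hx.inv.mul hxe)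
      · intro hxe
        by_contra hx
        exact hxe (by
          obtain ⟨k, hk⟩ := hns x e hx he
          exact ⟨k * e, by rw [mul_mul_mul_comm, ← hk]; group⟩)
    have hb := (hφ.bijective_of_nat_card_le hcard.le).2 ⟨1, IsSquare.one⟩
    obtain ⟨u, hu⟩ := hb
    have : (1 : K) - (u.1 : K) = 1 := congrArg (fun z : {u : Kˣ // IsSquare u} => (z.1 : K)) hu
    exact u.1.ne_zero (sub_eq_self.1 this)
  have huv' : h u * h v = h (u * v) := by
    simp only [hh, Units.val_mul]
    rw [show (v : K) = 1 - u by linear_combination huv]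
    refine he_steinberg_symbol R hL i u.ne_zero ?_
    rw [show (1 : K) - u = v by linear_combination -huv]
    exact v.ne_zero
  intro x y
  by_cases hx : IsSquare x
  · exact hsq1 x y hx
  by_cases hy : IsSquare y
  · rw [hcomm, mul_comm]; exact hsq1 y x hy
  have hxu := hns x u hx huu
  have hyv := hns y v hy hvv
  have ex := hsq1 _ u hxu
  have ey := hsq1 _ v hyv
  rw [inv_mul_cancel_right] at ex ey
  have e : x * y = x * u⁻¹ * (y * v⁻¹) * (u * v) := by rw [mul_mul_mul_comm, inv_mul_cancel_right, inv_mul_cancel_right]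
  rw [← ex, ← ey, e, ← hsq1 _ _ (hxu.mul hyv), ← hsq1 _ _ hxu, ← huv']
  rw [← mul_assoc, mul_assoc (h (x * u⁻¹)) (h u), hcomm u]
  group

end

variable (C) (hL : chkWits D X L = true)
include C hL

theorem commutator_eq_top (h : Rel.PerfectData D K) : commutator (D.SteinbergCover K) = ⊤ :=
  raw_perfect (scRaw C K) hL (closure_scGen K) (fun _ t hr => scGen_oob K hr t) h

theorem center_le_ker (hc : Rel.Connected D) :
    Subgroup.center (D.SteinbergCover K) ≤ (scRaw C K).θ.ker := by
  intro z hz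
  have h1 : scTheta C K z ∈ Subgroup.center ↥(D.group K) := by
    rw [Subgroup.mem_center_iff]
    intro g
    obtain ⟨g, rfl⟩ := scTheta_surjective C K g
    rw [← map_mul, ← map_mul, Subgroup.mem_center_iff.1 hz g]
  rw [(chevRel C K).center_eq_ker hc, (MonoidHom.ker_eq_bot_iff _).2 (chevRel_injective C K),
    Subgroup.mem_bot] at h1
  have e : (scRaw C K).θ z = (D.group K).subtype (scTheta C K z) := MonoidHom.comp_apply _ _ _
  rw [MonoidHom.mem_ker, e, h1, map_one]

omit C hL in
theorem qmap_neOf {H : Type*} [Group H] (q : D.SteinbergCover K →* H) (r : ℕ) (c : K) :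
    q (neOf D (D.scGen K) r c) = neOf D (fun r t => q (D.scGen K r t)) r c := by
  simp only [neOf, map_mul]

omit C hL in
theorem qmap_heOf {H : Type*} [Group H] (q : D.SteinbergCover K →* H) (r : ℕ) (c : K) :
    q (heOf D (D.scGen K) r c) = heOf D (fun r t => q (D.scGen K r t)) r c := by
  simp only [heOf, map_mul, qmap_neOf]

omit hL in
theorem scRaw_xe : (scRaw C K).xe = D.scGen K := rfl

theorem exists_rel_quot (hc : Rel.Connected D) :
    ∃ R : Rel D X K (D.SteinbergCover K ⧸ Subgroup.center (D.SteinbergCover K)),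
      ∀ g, R.θ (QuotientGroup.mk' (Subgroup.center (D.SteinbergCover K)) g) = (scRaw C K).θ g := by
  obtain ⟨q, hq⟩ : ∃ q, q = QuotientGroup.mk' (Subgroup.center (D.SteinbergCover K)) := ⟨_, rfl⟩
  have hqs : Function.Surjective q := hq ▸ QuotientGroup.mk'_surjective _
  obtain ⟨θ', hθ'⟩ : ∃ θ' : D.SteinbergCover K ⧸ Subgroup.center (D.SteinbergCover K) →* GL D.Idx K,
      ∀ g, θ' (q g) = (scRaw C K).θ g :=
    ⟨QuotientGroup.lift _ (scRaw C K).θ (center_le_ker C hL hc), fun g => by
      rw [hq, QuotientGroup.mk'_apply, QuotientGroup.lift_mk]⟩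
  refine ⟨
    { cert := C
      xe := fun r t => q (D.scGen K r t)
      θ := θ'
      θ_xe := fun r t => ?_
      xe_oob := fun r t hr => ?_
      gen := ?_
      xe_add := fun r t u hr => ?_
      xe_comm := fun r s t u hr hs h1 h2 => ?_
      nconj := fun i r c t hi hr hc => ?_
      hmul := fun i a b hi ha hb => ?_ }, hq ▸ hθ'⟩
  · rw [hθ', ← scRaw_xe C]; exact (scRaw C K).θ_xe r t
  · rw [scGen_oob K hr t, map_one]
  · rw [← Subgroup.map_top_of_surjective q hqs, ← closure_scGen K, MonoidHom.map_closure]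
    congr 1; ext g; constructor
    · rintro ⟨r, t, rfl⟩; exact ⟨_, ⟨r, t, rfl⟩, rfl⟩
    · rintro ⟨_, ⟨r, t, rfl⟩, rfl⟩; exact ⟨r, t, rfl⟩
  · rw [← map_mul, scGen_add K r t u hr]
  · rw [← map_mul, scGen_comm K r s t u hr hs h1 h2, map_mul, map_mul, map_list_prod, List.map_map]
    simp only [Function.comp_def]
  · have h := congrArg q ((scRaw C K).nconj_all hL hi hr hc t)
    rw [scRaw_xe C, map_mul, map_mul, qmap_neOf] at h
    exact h
  · have h := defect_central (scRaw C K) hL (closure_scGen K) (fun r t hr => scGen_oob K hr t) ⟨i, hi⟩ ha hb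
    rw [scRaw_xe C] at h
    rw [← qmap_heOf, ← qmap_heOf, ← qmap_heOf, ← map_mul, ← mul_inv_eq_one, ← map_inv, ← map_mul, hq,
      QuotientGroup.mk'_apply, QuotientGroup.eq_one_iff]
    exact h

theorem ker_le_center (hc : Rel.Connected D) (h : Rel.PerfectData D K) :
    (scTheta C K).ker ≤ Subgroup.center (D.SteinbergCover K) := by
  obtain ⟨R, hR⟩ := exists_rel_quot C (K := K) hL hc
  obtain ⟨q, hq⟩ : ∃ q, q = QuotientGroup.mk' (Subgroup.center (D.SteinbergCover K)) := ⟨_, rfl⟩
  rw [← hq] at hR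
  intro g hg
  have h2 : ∀ x, g * x * g⁻¹ * x⁻¹ ∈ Subgroup.center (D.SteinbergCover K) := by
    intro x
    have h1 : q g ∈ Subgroup.center _ := by
      rw [R.center_eq_ker hc, MonoidHom.mem_ker, hR]
      show (D.group K).subtype (scTheta C K g) = 1
      rw [MonoidHom.mem_ker.1 hg, map_one]
    rw [← QuotientGroup.eq_one_iff, ← QuotientGroup.mk'_apply, ← hq]
    simp only [map_mul, map_inv, ← Subgroup.mem_center_iff.1 h1 (q x)]
    group
  exact mem_center_of_perfect (commutator_eq_top C hL h) h2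

theorem equiv_steinbergGroup [Finite K] :
    ∃ e : D.SteinbergCover K ≃* D.SteinbergGroup K, ∀ (r : ℕ) (t : K), e (D.scGen K r t) = D.stGen K r t := by
  have hgen := closure_scGen (D := D) K
  have hoob := fun r (t : K) (hr : ¬ r < D.nroots) => scGen_oob K hr t
  let R : Rel D X K (D.SteinbergCover K) :=
    { cert := C
      xe := D.scGen K
      θ := (scRaw C K).θ
      θ_xe := (scRaw C K).θ_xe
      xe_oob := hoob
      gen := hgen
      xe_add := scGen_add K
      xe_comm := scGen_comm K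
      nconj := fun i r c t hi hr hc => (scRaw C K).nconj_all hL hi hr hc t
      hmul := fun i a b hi ha hb => he_mul_finite (scRaw C K) hL hgen hoob ⟨i, hi⟩ ha hb }
  have hA : ∀ g ∈ D.steinbergRelsAB K,
      FreeGroup.lift (fun p : Fin D.nroots × K => (PresentedGroup.of p : D.SteinbergGroup K)) g = 1 := by
    intro g hg
    rw [show FreeGroup.lift (fun p : Fin D.nroots × K => (PresentedGroup.of p : D.SteinbergGroup K)) =
      PresentedGroup.mk (D.steinbergRels K) from FreeGroup.ext_hom _ _ fun p => FreeGroup.lift_apply_of]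
    exact PresentedGroup.one_of_mem (Or.inl hg)
  have hB : ∀ g ∈ D.steinbergRels K,
      FreeGroup.lift (fun p : Fin D.nroots × K => (PresentedGroup.of p : D.SteinbergCover K)) g = 1 := by
    intro g hg
    rw [show FreeGroup.lift (fun p : Fin D.nroots × K => (PresentedGroup.of p : D.SteinbergCover K)) =
      PresentedGroup.mk (D.steinbergRelsAB K) from FreeGroup.ext_hom _ _ fun p => FreeGroup.lift_apply_of]
    rcases hg with hg | ⟨r, a, b, hr, ha, hb, rfl⟩
    · exact PresentedGroup.one_of_mem hg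
    · have e : ∀ c, PresentedGroup.mk (D.steinbergRelsAB K) (D.stH r c) = R.he r c := fun c => by
        simp [ChevalleyDatum.stH, ChevalleyDatum.stWord, heOf, neOf, ChevalleyDatum.hWord, ChevalleyDatum.nWord,
          R, mul_assoc, ChevalleyDatum.scGen]
      simp only [map_mul, map_inv, e, mul_inv_eq_one]
      exact R.he_mul ⟨r, hr⟩ ha hb
  refine ⟨MonoidHom.toMulEquiv (PresentedGroup.toGroup hA) (PresentedGroup.toGroup hB)
    (PresentedGroup.ext fun p => by simp) (PresentedGroup.ext fun p => by simp), fun r t => ?_⟩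
  show PresentedGroup.toGroup hA (PresentedGroup.mk _ (D.stX r t)) = PresentedGroup.mk _ (D.stX r t)
  unfold ChevalleyDatum.stX
  split_ifs
  · exact PresentedGroup.toGroup.of (h := hA)
  · simp

end CfsgLib.Known.StCover
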