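import Cfsg.Agent.Lib.Known.Collect
import Cfsg.Agent.Lib.Known.StCover
import Cfsg.Agent.Lib.Lie.Rel.Graded
import Cfsg.Agent.Lib.Lie.Rel.Twist

/-!
# Folding: a Chevalley group mapped into another by products over rows of roots
-/

set_option autoImplicit false

namespace CfsgLib.Known.ChevFold

open Cfsg.Lie (ChevalleyDatum)
open CfsgLib.Lie.Chev
open CfsgLib.Known

variable {D H : ChevalleyDatum} {X Y : Aux}

/-- a row of the folding table -/
def rowAt (Q : List (List (ℕ × ℤ))) (a : ℕ) : List (ℕ × ℤ) := Q.getD a []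

/-- coefficients reduced modulo `p` -/
def rowRed (p : ℕ) (L : List (ℕ × ℤ)) : List (ℕ × ℤ) := L.map fun q => (q.1, q.2 % (p : ℤ))

/-- rows consist of commuting roots -/
def chkRows (D H : ChevalleyDatum) (p : ℕ) (Q : List (List (ℕ × ℤ))) : Bool :=
  Nat.beq Q.length H.nroots && (List.range H.nroots).all fun a =>
    ((rowAt Q a).all fun q => Nat.blt q.1 D.nroots) && twComm D p ((rowAt Q a).map Prod.fst)

/-- the terms of a row -/
def rowTerms (Q : List (List (ℕ × ℤ))) (a : ℕ) (c : ℤ) (i j : ℕ) : List Collect.Term :=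
  (rowAt Q a).map fun q => (q.1, q.2 * c, i, j)

/-- both defined and equal -/
def eqSome : Option (List Collect.Term) → Option (List Collect.Term) → Bool
  | some A, some B => decide (A = B)
  | _, _ => false

/-- the commutator relations of `H` hold for the rows -/
def chkRel (D H : ChevalleyDatum) (p f : ℕ) (Q : List (List (ℕ × ℤ))) : Bool :=
  (List.range H.nroots).all fun a => (List.range H.nroots).all fun b => Nat.beq b a || Nat.beq b (H.neg a) ||
    eqSome (Collect.collect D p f (rowTerms Q b 1 0 1 ++ rowTerms Q a 1 1 0))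
      (Collect.collect D p f (rowTerms Q a 1 1 0 ++ rowTerms Q b 1 0 1 ++
        (H.commTerms a b).flatMap fun c => rowTerms Q c.1 (c.2.1 * (-1) ^ c.2.2.1) c.2.2.1 c.2.2.2))

/-- height with all fundamental roots of height one -/
abbrev ht (D : ChevalleyDatum) (X : Aux) (r : ℕ) : ℤ := hgt D X (fun _ => 1) r

/-- rows respect sign and height -/
def chkShape (D H : ChevalleyDatum) (X : Aux) (Q : List (List (ℕ × ℤ))) : Bool :=
  ((List.range D.nroots).all fun r => Nat.blt r (half D) == decide (ht D X r ≤ 0)) &&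
  (List.range H.nroots).all fun a =>
    !(rowAt Q a).isEmpty && decide ((rowAt Q a).map Prod.fst).Nodup &&
    ((rowAt Q a).all fun q => decide (q.2 = 1 ∨ q.2 = -1) && (Nat.blt q.1 (half D) == Nat.blt a (half H)) &&
      (rowAt Q a).all fun q' => decide (ht D X q.1 = ht D X q'.1))

/-- the rows of the fundamental roots and their negatives are the orbits `O` -/
def chkSimple (D H : ChevalleyDatum) (X : Aux) (p : ℕ) (Q : List (List (ℕ × ℤ))) (O : List (List ℕ)) : Bool :=
  (List.range H.rank).all fun j =>
    let L := O.getD j []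
    (L.all fun i => Nat.blt i D.rank) &&
    (rowRed p (rowAt Q (H.simple j))).isPerm (L.map fun i => (D.simple i, 1 % (p : ℤ))) &&
    (rowRed p (rowAt Q (H.neg (H.simple j)))).isPerm (L.map fun i => (D.neg (D.simple i), 1 % (p : ℤ))) &&
    decide L.Nodup &&
    (L.all fun i => L.all fun i' => Nat.beq i i' ||
      Nat.beq (X.w i (D.simple i')) (D.simple i') &&
      twComm D p [D.simple i, D.simple i'] && twComm D p [D.simple i, D.neg (D.simple i')] &&
      twComm D p [D.neg (D.simple i), D.neg (D.simple i')])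

variable (C : Cert D X) (C' : Cert H Y) {F : Type*} [Field F]

/-- product over a list of roots -/
def listG (L : List (ℕ × ℤ)) (t : F) : ↥(D.group F) := (L.map fun q => xG C F q.1 ((q.2 : F) * t)).prod

/-- product over a row -/
def rowG (Q : List (List (ℕ × ℤ))) (a : ℕ) (t : F) : ↥(D.group F) := listG C (rowAt Q a) t

theorem listG_cons (q : ℕ × ℤ) (L : List (ℕ × ℤ)) (t : F) :
    listG C (q :: L) t = xG C F q.1 ((q.2 : F) * t) * listG C L t := by simp [listG]

variable {p : ℕ} (hp : (p : F) = 0)
include hp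

theorem twField_of_cast : TwField F p [1] where
  cast_zero z hz := by
    obtain ⟨k, rfl⟩ := Int.dvd_of_emod_eq_zero hz
    push_cast
    rw [hp, zero_mul]
  add_pow e he t u := by simp only [List.mem_singleton] at he; subst he; simp
  root e he y := by simp only [List.mem_singleton] at he; subst he; exact ⟨y, pow_one y⟩

theorem listG_red (L : List (ℕ × ℤ)) (t : F) : listG C (rowRed p L) t = listG C L t := by
  simp only [listG, rowRed, List.map_map]
  congr 1
  refine List.map_congr_left fun q _ => ?_
  simp [Int.emod_def, hp]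

theorem commute_of_twComm {L : List ℕ} (h : twComm D p L = true) {a b : ℕ} (ha : a ∈ L) (hb : b ∈ L) (t u : F) :
    Commute (xG C F a t) (xG C F b u) := twComm_spec C (twField_of_cast hp) h ha hb t u

theorem listG_add {L : List (ℕ × ℤ)} (h : twComm D p (L.map Prod.fst) = true) (t u : F) :
    listG C L t * listG C L u = listG C L (t + u) := by
  suffices H : ∀ M : List (ℕ × ℤ), M ⊆ L → listG C M t * listG C M u = listG C M (t + u) from H L (List.Subset.refl L)
  intro M
  induction M with
  | nil => intro _; simp [listG]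
  | cons q M ih =>
    intro hM
    rw [List.cons_subset] at hM
    have hc : Commute (listG C M t) (xG C F q.1 ((q.2 : F) * u)) := by
      refine Commute.list_prod_left _ _ fun x hx => ?_
      obtain ⟨q', hq', rfl⟩ := List.mem_map.1 hx
      exact commute_of_twComm C hp h (List.mem_map.2 ⟨q', hM.2 hq', rfl⟩) (List.mem_map.2 ⟨q, hM.1, rfl⟩) _ _
    rw [listG_cons, listG_cons, listG_cons, mul_assoc, ← mul_assoc (listG C M t), hc.eq, mul_assoc, ← mul_assoc,
      ih hM.2]
    congr 1
    show (chevRel C F).xe q.1 _ * (chevRel C F).xe q.1 _ = (chevRel C F).xe q.1 _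
    rw [(chevRel C F).xe_add', mul_add]

theorem listG_perm {L M : List (ℕ × ℤ)} (hLM : (rowRed p L).Perm (rowRed p M))
    (h : twComm D p (L.map Prod.fst) = true) (t : F) : listG C L t = listG C M t := by
  rw [← listG_red C hp L, ← listG_red C hp M]
  refine List.Perm.prod_eq' (hLM.map _) ?_
  rw [List.pairwise_map]
  refine List.pairwise_of_forall_mem_list fun x hx y hy => ?_
  obtain ⟨q, hq, rfl⟩ := List.mem_map.1 hx
  obtain ⟨q', hq', rfl⟩ := List.mem_map.1 hy
  exact commute_of_twComm C hp h (List.mem_map.2 ⟨q, hq, rfl⟩) (List.mem_map.2 ⟨q', hq', rfl⟩) _ _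

variable {Q : List (List (ℕ × ℤ))} (hQ : chkRows D H p Q = true)
include hQ

omit hp in
theorem rows_props {a : ℕ} (ha : a < H.nroots) :
    (∀ q ∈ rowAt Q a, q.1 < D.nroots) ∧ twComm D p ((rowAt Q a).map Prod.fst) = true := by
  simp only [chkRows, Bool.and_eq_true, List.all_eq_true, List.mem_range, nat_blt_iff] at hQ
  exact hQ.2 a ha

omit hp in
theorem rowG_oob {a : ℕ} (ha : ¬ a < H.nroots) (t : F) : rowG C Q a t = 1 := by
  simp only [chkRows, Bool.and_eq_true, nat_beq_iff] at hQ
  have e : rowAt Q a = [] := List.getD_eq_default _ _ (by omega)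
  simp [rowG, listG, e]

theorem rowG_add {a : ℕ} (ha : a < H.nroots) (t u : F) : rowG C Q a t * rowG C Q a u = rowG C Q a (t + u) :=
  listG_add C hp (rows_props hQ ha).2 t u

omit hp hQ in
theorem word_rowTerms (a : ℕ) (c : ℤ) (i j : ℕ) (t u : F) :
    Collect.word (chevRel C F) t u (rowTerms Q a c i j) = rowG C Q a ((c : F) * t ^ i * u ^ j) := by
  simp only [Collect.word, rowTerms, rowG, listG, List.map_map]
  congr 1
  refine List.map_congr_left fun q _ => ?_
  simp only [Function.comp_apply, Collect.val]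
  show xG C F _ _ = xG C F _ _
  congr 1
  push_cast
  ring

omit hp hQ in
theorem word_flat (t u : F) : ∀ L : List (ℕ × ℤ × ℕ × ℕ),
    Collect.word (chevRel C F) t u (L.flatMap fun c => rowTerms Q c.1 (c.2.1 * (-1) ^ c.2.2.1) c.2.2.1 c.2.2.2) =
      ((L.map fun c => (c.1, (c.2.1 : F) * (-t) ^ c.2.2.1 * u ^ c.2.2.2)).map fun q => rowG C Q q.1 q.2).prod
  | [] => rfl
  | c :: L => by
    simp only [List.flatMap_cons, Collect.word_append, List.map_cons, List.prod_cons, word_rowTerms, word_flat t u L]
    congr 2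
    rw [neg_pow t c.2.2.1]
    push_cast
    ring

variable {fuel : ℕ} (hR : chkRel D H p fuel Q = true)
include hR

theorem rowG_comm {a b : ℕ} (ha : a < H.nroots) (hb : b < H.nroots) (h1 : b ≠ a) (h2 : b ≠ H.neg a) (t u : F) :
    rowG C Q b u * rowG C Q a t =
      rowG C Q a t * rowG C Q b u * ((H.commWord F a b t u).map fun q => rowG C Q q.1 q.2).prod := by
  simp only [chkRel, List.all_eq_true, List.mem_range, Bool.or_eq_true, nat_beq_iff] at hR
  rcases hR a ha b hb with (h | h) | h
  · exact absurd h h1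
  · exact absurd h h2
  cases hA : Collect.collect D p fuel (rowTerms Q b 1 0 1 ++ rowTerms Q a 1 1 0) with
  | none => rw [hA] at h; exact absurd h Bool.false_ne_true
  | some A =>
    rw [hA] at h
    cases hB : Collect.collect D p fuel (rowTerms Q a 1 1 0 ++ rowTerms Q b 1 0 1 ++
        (H.commTerms a b).flatMap fun c => rowTerms Q c.1 (c.2.1 * (-1) ^ c.2.2.1) c.2.2.1 c.2.2.2) with
    | none => rw [hB] at h; exact absurd h Bool.false_ne_true
    | some B =>
      rw [hB] at h
      simp only [eqSome, decide_eq_true_iff] at h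
      subst h
      have e := Collect.word_eq_of_collect (chevRel C F) t u hp hA hB
      simp only [Collect.word_append, word_rowTerms, Int.cast_one, one_mul, pow_zero, pow_one, mul_one] at e
      rw [e]
      congr 1
      exact word_flat C t u _

omit hp hR in
theorem lift_stX_row (a : ℕ) (t : F) :
    FreeGroup.lift (fun q : Fin H.nroots × F => rowG C Q q.1 q.2) (H.stX a t) = rowG C Q a t := by
  unfold ChevalleyDatum.stX
  split_ifs with h
  · exact FreeGroup.lift_apply_of
  · rw [map_one, rowG_oob C hQ h]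

theorem rels_row : ∀ g ∈ H.steinbergRelsAB F,
    FreeGroup.lift (fun q : Fin H.nroots × F => rowG C Q q.1 q.2) g = 1 := by
  rintro g (⟨a, t, u, ha, rfl⟩ | ⟨a, b, t, u, ha, hb, h1, h2, rfl⟩)
  · simp only [map_mul, map_inv, lift_stX_row C hQ, mul_inv_eq_one]
    exact rowG_add C hp hQ ha t u
  · simp only [map_mul, map_inv, lift_stX_row C hQ, mul_inv_eq_one, ChevalleyDatum.stWord, map_list_prod,
      List.map_map, Function.comp_def]
    rw [mul_assoc _ (rowG C Q b u), rowG_comm C hp hQ hR ha hb h1 h2 t u]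
    group

include C' in
/-- the folding homomorphism -/
theorem exists_hom [Finite F] {L : List (ℕ × ℕ × ℕ × List ℤ)} (hL : chkWits H Y L = true)
    (hker : (stTheta C' F).ker = ⊥) :
    ∃ ψ : ↥(H.group F) →* ↥(D.group F), ∀ (a : ℕ) (t : F), ψ (xG C' F a t) = rowG C Q a t := by
  obtain ⟨e, he⟩ := StCover.equiv_steinbergGroup C' (K := F) hL
  let θ : H.SteinbergGroup F ≃* ↥(H.group F) :=
    MulEquiv.ofBijective (stTheta C' F) ⟨(MonoidHom.ker_eq_bot_iff _).1 hker, stTheta_surjective C' F⟩
  refine ⟨(PresentedGroup.toGroup (rels_row C hp hQ hR)).comp (e.symm.toMonoidHom.comp θ.symm.toMonoidHom),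
    fun a t => ?_⟩
  have h1 : θ.symm (xG C' F a t) = H.stGen F a t := by
    rw [MulEquiv.symm_apply_eq]; exact (stTheta_gen C' F a t).symm
  have h2 : e.symm (H.stGen F a t) = H.scGen F a t := by rw [MulEquiv.symm_apply_eq, he]
  show PresentedGroup.toGroup (rels_row C hp hQ hR) (e.symm (θ.symm (xG C' F a t))) = _
  rw [h1, h2, ← lift_stX_row C hQ a t]
  rfl

end CfsgLib.Known.ChevFold
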