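import Cfsg.Agent.Lib.Known.ChevFoldHom
import Cfsg.Agent.Lib.Lie.Rel.Bruhat
import Cfsg.Agent.Lib.Lie.Rel.BN
import Cfsg.Agent.Lib.Lie.Twisted.Basic

/-!
# Folding homomorphisms: leading coefficients, monomial elements, injectivity
-/

set_option autoImplicit false

namespace CfsgLib.Known.ChevFold

open Cfsg.Lie (ChevalleyDatum)
open CfsgLib.Lie.Chev
open CfsgLib.Known

variable {D H : ChevalleyDatum} {X Y : Aux} (C : Cert D X) (C' : Cert H Y) {F : Type*} [Field F]

/-- the Chevalley group with its root elements -/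
def rawG : RawRel D X F ↥(D.group F) where
  cert := C
  xe := xG C F
  θ := (D.group F).subtype
  θ_xe _ _ := rfl
  xe_add := (chevRel C F).xe_add
  xe_comm := (chevRel C F).xe_comm

/-- roots of height at least `m` -/
abbrev hS (D : ChevalleyDatum) (X : Aux) (m : ℤ) : Set (Fin D.nroots) := hSet D X (fun _ => 1) m

/-- the coefficient of `v` at the root `r` is `t` -/
def HasCoef (v : ↥(D.group F)) (r : Fin D.nroots) (t : F) : Prop :=
  ∀ k : Fin D.rank, ((v : GL D.Idx F) : Matrix D.Idx D.Idx F) (Sum.inl k) (Sum.inr ⟨D.neg r, C.neg_lt r.2⟩) =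
    (X.cor k r : F) * t

theorem hasCoef_one (r : Fin D.nroots) : HasCoef C (1 : ↥(D.group F)) r 0 := fun k => by
  simp [Matrix.one_apply]

theorem hasCoef_xe (s r : Fin D.nroots) (u : F) : HasCoef C (xG C F (s : ℕ) u) r (if s = r then u else 0) := by
  intro k
  rw [xG_val, C.xM_inl_inr s.2]
  by_cases h : s = r
  · subst h; simp
  · rw [if_neg h, mul_zero, if_neg]
    intro e
    refine h (Fin.ext ?_)
    rw [← C.neg_neg s.2, show D.neg (s : ℕ) = D.neg r from e.symm, C.neg_neg r.2]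

theorem hasCoef_mul {m : ℤ} (hm : 1 ≤ m) {v w : ↥(D.group F)} (hv : v ∈ (rawG C).RS (hS D X m))
    (hw : w ∈ (rawG C).RS (hS D X m)) {r : Fin D.nroots} (hr : ht D X r = m) {s t : F} (h1 : HasCoef C v r s)
    (h2 : HasCoef C w r t) : HasCoef C (v * w) r (s + t) := by
  intro k
  have hv' := ((rawG C).isGr_mem (fun _ => 1) hm (Set.Subset.refl _) hv).1
  have hw' := ((rawG C).isGr_mem (fun _ => 1) hm (Set.Subset.refl _) hw).1
  have h := (RawRel.IsGr.mul (fun _ => 1) hm hv' hw').2 (Sum.inl k) (Sum.inr ⟨D.neg r, C.neg_lt r.2⟩)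
    Sum.inl_ne_inr (by
      simp only [RawRel.wt, Sum.elim_inl, Sum.elim_inr]
      rw [(rawG (F := F) C).hgt_neg (fun _ => 1) r.2, show hgt D X (fun _ => 1) (r : ℕ) = m from hr]
      omega)
  rw [mul_add, ← h1 k, ← h2 k, Subgroup.coe_mul, Units.val_mul]
  exact h

theorem hasCoef_unique {v : ↥(D.group F)} {r : Fin D.nroots} {s t : F} (h1 : HasCoef C v r s)
    (h2 : HasCoef C v r t) : s = t := by
  obtain ⟨a, ha⟩ := (chevRel C F).exists_cor_ne_zero r.2
  exact mul_left_cancel₀ ha ((h1 a).symm.trans (h2 a))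

/-- product over a list of roots: the coefficient at a root outside is zero -/
theorem hasCoef_listG {m : ℤ} (hm : 1 ≤ m) :
    ∀ L : List (ℕ × ℤ), (∀ q ∈ L, q.1 < D.nroots ∧ m ≤ ht D X q.1) → ∀ t : F,
      listG C L t ∈ (rawG C).RS (hS D X m) ∧
        ∀ r : Fin D.nroots, ht D X r = m → (r : ℕ) ∉ L.map Prod.fst → HasCoef C (listG C L t) r 0
  | [], _, t => ⟨by rw [show listG C [] t = 1 from rfl]; exact one_mem _, fun r _ _ => hasCoef_one C r⟩
  | q :: L, hq, t => by
    obtain ⟨h1, h2⟩ := hasCoef_listG hm L (fun x hx => hq x (List.mem_cons_of_mem _ hx)) t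
    obtain ⟨hlt, hht⟩ := hq q List.mem_cons_self
    have hx : xG C F ((⟨q.1, hlt⟩ : Fin D.nroots) : ℕ) ((q.2 : F) * t) ∈ (rawG C).RS (hS D X m) :=
      (rawG C).xe_mem_RS (r := ⟨q.1, hlt⟩) hht _
    refine ⟨by rw [listG_cons]; exact mul_mem hx h1, fun r hr hn => ?_⟩
    simp only [List.map_cons, List.mem_cons, not_or] at hn
    rw [listG_cons]
    have := hasCoef_mul C hm hx h1 hr (hasCoef_xe C ⟨q.1, hlt⟩ r _) (h2 r hr hn.2)
    rwa [if_neg (fun e : (⟨q.1, hlt⟩ : Fin D.nroots) = r => hn.1 (congrArg Fin.val e).symm), add_zero] at this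

theorem hasCoef_listG_head {m : ℤ} (hm : 1 ≤ m) {q : ℕ × ℤ} {L : List (ℕ × ℤ)}
    (hq : ∀ x ∈ q :: L, x.1 < D.nroots ∧ m ≤ ht D X x.1) (hnd : ((q :: L).map Prod.fst).Nodup)
    (hr : ht D X q.1 = m) (t : F) :
    HasCoef C (listG C (q :: L) t) ⟨q.1, (hq q List.mem_cons_self).1⟩ ((q.2 : F) * t) := by
  obtain ⟨h1, h2⟩ := hasCoef_listG C hm L (fun x hx => hq x (List.mem_cons_of_mem _ hx)) t
  obtain ⟨hlt, hht⟩ := hq q List.mem_cons_self
  simp only [List.map_cons, List.nodup_cons] at hnd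
  rw [listG_cons]
  have := hasCoef_mul C hm ((rawG C).xe_mem_RS (r := ⟨q.1, hlt⟩) hht _) h1 (r := ⟨q.1, hlt⟩) hr
    (hasCoef_xe C ⟨q.1, hlt⟩ ⟨q.1, hlt⟩ ((q.2 : F) * t)) (h2 ⟨q.1, hlt⟩ hr hnd.1)
  rwa [if_pos rfl, add_zero] at this

/-- `∏ x`, `∏ y`, `∏ x` is `∏ x y x` -/
theorem prod_sandwich {M ι : Type*} [Monoid M] (x y : ι → M) :
    ∀ L : List ι, L.Pairwise (fun i j => Commute (x i) (x j) ∧ Commute (x i) (y j) ∧ Commute (y i) (x j)) →
      (L.map x).prod * (L.map y).prod * (L.map x).prod = (L.map fun i => x i * y i * x i).prod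
  | [], _ => by simp
  | i :: L, h => by
    rw [List.pairwise_cons] at h
    have h1 : Commute (L.map x).prod (y i) := Commute.list_prod_left _ _ fun z hz => by
      obtain ⟨j, hj, rfl⟩ := List.mem_map.1 hz; exact (h.1 j hj).2.2.symm
    have h2 : Commute (L.map y).prod (x i) := Commute.list_prod_left _ _ fun z hz => by
      obtain ⟨j, hj, rfl⟩ := List.mem_map.1 hz; exact (h.1 j hj).2.1.symm
    have h3 : Commute (L.map x).prod (x i) := Commute.list_prod_left _ _ fun z hz => by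
      obtain ⟨j, hj, rfl⟩ := List.mem_map.1 hz; exact (h.1 j hj).1.symm
    simp only [List.map_cons, List.prod_cons]
    rw [← prod_sandwich x y L h.2,
      show x i * (L.map x).prod * (y i * (L.map y).prod) * (x i * (L.map x).prod) =
        x i * ((L.map x).prod * y i) * ((L.map y).prod * x i) * (L.map x).prod by simp only [mul_assoc],
      h1.eq, h2.eq,
      show x i * (y i * (L.map x).prod) * (x i * (L.map y).prod) * (L.map x).prod =
        x i * y i * ((L.map x).prod * x i) * ((L.map y).prod * (L.map x).prod) by simp only [mul_assoc],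
      h3.eq]
    simp only [mul_assoc]

/-- commuting families multiply factorwise -/
theorem prod_mul_prod {M ι : Type*} [Monoid M] (x y : ι → M) :
    ∀ L : List ι, L.Pairwise (fun i j => Commute (y i) (x j)) →
      (L.map x).prod * (L.map y).prod = (L.map fun i => x i * y i).prod
  | [], _ => by simp
  | i :: L, h => by
    rw [List.pairwise_cons] at h
    have h1 : Commute (L.map x).prod (y i) := Commute.list_prod_left _ _ fun z hz => by
      obtain ⟨j, hj, rfl⟩ := List.mem_map.1 hz; exact (h.1 j hj).symm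
    simp only [List.map_cons, List.prod_cons]
    rw [← prod_mul_prod x y L h.2, mul_assoc, ← mul_assoc (L.map x).prod, h1.eq]
    simp only [mul_assoc]

variable {p : ℕ} {Q : List (List (ℕ × ℤ))} {O : List (List ℕ)}
  (hp : (p : F) = 0) (hQ : chkRows D H p Q = true) (hO : chkSimple D H X p Q O = true)
include hO

theorem simple_props {j : ℕ} (hj : j < H.rank) :
    (∀ i ∈ O.getD j [], i < D.rank) ∧
    (rowRed p (rowAt Q (H.simple j))).Perm ((O.getD j []).map fun i => (D.simple i, 1 % (p : ℤ))) ∧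
    (rowRed p (rowAt Q (H.neg (H.simple j)))).Perm
      ((O.getD j []).map fun i => (D.neg (D.simple i), 1 % (p : ℤ))) ∧
    (O.getD j []).Nodup ∧
    ∀ i ∈ O.getD j [], ∀ i' ∈ O.getD j [], i ≠ i' → X.w i (D.simple i') = D.simple i' ∧
      twComm D p [D.simple i, D.simple i'] = true ∧ twComm D p [D.simple i, D.neg (D.simple i')] = true ∧
      twComm D p [D.neg (D.simple i), D.neg (D.simple i')] = true := by
  simp only [chkSimple, Bool.and_eq_true, List.all_eq_true, List.mem_range, nat_blt_iff, List.isPerm_iff,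
    decide_eq_true_iff, Bool.or_eq_true, nat_beq_iff] at hO
  obtain ⟨⟨⟨⟨h1, h2⟩, h3⟩, h4⟩, h5⟩ := hO j hj
  exact ⟨h1, h2, h3, h4, fun i hi i' hi' hne => by
    obtain ⟨⟨⟨a, b⟩, c⟩, d⟩ := (h5 i hi i' hi').resolve_left hne
    exact ⟨a, b, c, d⟩⟩

include hp hQ C' in
theorem row_simple {j : ℕ} (hj : j < H.rank) (t : F) :
    rowG C Q (H.simple j) t = ((O.getD j []).map fun i => xG C F (D.simple i) t).prod ∧
    rowG C Q (H.neg (H.simple j)) t = ((O.getD j []).map fun i => xG C F (D.neg (D.simple i)) t).prod := by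
  obtain ⟨-, h2, h3, -, -⟩ := simple_props hO hj
  have key : ∀ (a : ℕ) (g : ℕ → ℕ), a < H.nroots →
      (rowRed p (rowAt Q a)).Perm ((O.getD j []).map fun i => (g i, 1 % (p : ℤ))) →
      rowG C Q a t = ((O.getD j []).map fun i => xG C F (g i) t).prod := by
    intro a g ha hperm
    have e : rowRed p ((O.getD j []).map fun i => (g i, (1 : ℤ))) =
        (O.getD j []).map fun i => (g i, 1 % (p : ℤ)) := by simp [rowRed, List.map_map]
    rw [← e] at hperm
    rw [rowG, listG_perm C hp hperm (rows_props hQ ha).2]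
    simp [listG, List.map_map, Function.comp_def]
  exact ⟨key _ _ (C'.simple_lt hj) h2, key _ _ (C'.neg_lt (C'.simple_lt hj)) h3⟩

include hp in
theorem simple_pairwise {j : ℕ} (hj : j < H.rank) :
    (O.getD j []).Pairwise fun i i' => ∀ t u : F, Commute (xG C F (D.simple i) t) (xG C F (D.simple i') u) ∧
      Commute (xG C F (D.simple i) t) (xG C F (D.neg (D.simple i')) u) ∧
      Commute (xG C F (D.neg (D.simple i)) t) (xG C F (D.simple i') u) ∧
      Commute (xG C F (D.neg (D.simple i)) t) (xG C F (D.neg (D.simple i')) u) := by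
  obtain ⟨-, -, -, hnd, h5⟩ := simple_props hO hj
  refine hnd.imp_of_mem fun hi hi' hne t u => ?_
  obtain ⟨-, a, b, c⟩ := h5 _ hi _ hi' hne
  obtain ⟨-, -, b', -⟩ := h5 _ hi' _ hi (Ne.symm hne)
  exact ⟨commute_of_twComm C hp a List.mem_cons_self (List.mem_cons_of_mem _ List.mem_cons_self) t u,
    commute_of_twComm C hp b List.mem_cons_self (List.mem_cons_of_mem _ List.mem_cons_self) t u,
    (commute_of_twComm C hp b' List.mem_cons_self (List.mem_cons_of_mem _ List.mem_cons_self) u t).symm,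
    commute_of_twComm C hp c List.mem_cons_self (List.mem_cons_of_mem _ List.mem_cons_self) t u⟩

variable (ψ : ↥(H.group F) →* ↥(D.group F)) (hψ : ∀ (a : ℕ) (t : F), ψ (xG C' F a t) = rowG C Q a t)
include hp hQ hψ

theorem psi_ne {j : ℕ} (hj : j < H.rank) (u : F) :
    ψ ((chevRel C' F).ne (H.simple j) u) = ((O.getD j []).map fun i => (chevRel C F).ne (D.simple i) u).prod := by
  show ψ (xG C' F (H.simple j) u * xG C' F (H.neg (H.simple j)) (-u⁻¹) * xG C' F (H.simple j) u) = _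
  rw [map_mul, map_mul, hψ, hψ, (row_simple C C' hp hQ hO hj u).1, (row_simple C C' hp hQ hO hj (-u⁻¹)).2]
  exact prod_sandwich _ _ _ ((simple_pairwise C hp hO hj).imp fun h => ⟨(h _ _).1, (h _ _).2.1, (h _ _).2.2.1⟩)

theorem psi_he {j : ℕ} (hj : j < H.rank) (u : F) :
    ψ ((chevRel C' F).he (H.simple j) u) = ((O.getD j []).map fun i => (chevRel C F).he (D.simple i) u).prod := by
  show ψ ((chevRel C' F).ne (H.simple j) u * (chevRel C' F).ne (H.simple j) (-1)) = _
  rw [map_mul, psi_ne C C' hp hQ hO ψ hψ hj, psi_ne C C' hp hQ hO ψ hψ hj]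
  refine prod_mul_prod _ _ _ ((simple_pairwise C hp hO hj).imp fun {i i'} h => ?_)
  show Commute (xG C F (D.simple i) (-1) * xG C F (D.neg (D.simple i)) (-(-1)⁻¹) * xG C F (D.simple i) (-1))
    (xG C F (D.simple i') u * xG C F (D.neg (D.simple i')) (-u⁻¹) * xG C F (D.simple i') u)
  have a := fun t u => (h t u).1
  have b := fun t u => (h t u).2.1
  have c := fun t u => (h t u).2.2.1
  have d := fun t u => (h t u).2.2.2
  exact Commute.mul_left (Commute.mul_left
    (((a _ _).mul_right (b _ _)).mul_right (a _ _))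
    (((c _ _).mul_right (d _ _)).mul_right (c _ _)))
    (((a _ _).mul_right (b _ _)).mul_right (a _ _))

theorem psi_mem_HS {g : ↥(H.group F)} (hg : g ∈ (chevRel C' F).HS) : ψ g ∈ (chevRel C F).HS := by
  refine (show (chevRel C' F).HS ≤ (chevRel C F).HS.comap ψ from (Subgroup.closure_le _).2 ?_) hg
  rintro _ ⟨j, c, hc, rfl⟩
  rw [SetLike.mem_coe, Subgroup.mem_comap, psi_he C C' hp hQ hO ψ hψ j.2]
  refine list_prod_mem fun x hx => ?_
  obtain ⟨i, hi, rfl⟩ := List.mem_map.1 hx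
  exact (chevRel C F).he_mem_HS ⟨i, (simple_props hO j.2).1 i hi⟩ hc

theorem psi_mem_NS {g : ↥(H.group F)} (hg : g ∈ (chevRel C' F).NS) : ψ g ∈ (chevRel C F).NS := by
  refine (show (chevRel C' F).NS ≤ (chevRel C F).NS.comap ψ from
    sup_le (fun h hh => (chevRel C F).HS_le_NS (psi_mem_HS C C' hp hQ hO ψ hψ hh))
      ((Subgroup.closure_le _).2 ?_)) hg
  rintro _ ⟨j, rfl⟩
  rw [SetLike.mem_coe, Subgroup.mem_comap, psi_ne C C' hp hQ hO ψ hψ j.2]
  refine list_prod_mem fun x hx => ?_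
  obtain ⟨i, hi, rfl⟩ := List.mem_map.1 hx
  exact (chevRel C F).ne_simple_mem_NS ⟨i, (simple_props hO j.2).1 i hi⟩ one_ne_zero

variable (hS' : chkShape D H X Q = true)
include hS'

omit hp hO hψ in
theorem shape_props :
    (∀ r : Fin D.nroots, half D ≤ (r : ℕ) ↔ 1 ≤ ht D X r) ∧
    ∀ a, a < H.nroots → rowAt Q a ≠ [] ∧ ((rowAt Q a).map Prod.fst).Nodup ∧
      ∀ q ∈ rowAt Q a, q.1 < D.nroots ∧ (q.2 = 1 ∨ q.2 = -1) ∧ (half D ≤ q.1 ↔ half H ≤ a) ∧
        ∀ q' ∈ rowAt Q a, ht D X q.1 = ht D X q'.1 := by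
  simp only [chkShape, Bool.and_eq_true, List.all_eq_true, List.mem_range, decide_eq_true_iff, beq_iff_eq,
    Bool.not_eq_true', List.isEmpty_eq_false_iff] at hS'
  refine ⟨fun r => ?_, fun a ha => ⟨(hS'.2 a ha).1.1, (hS'.2 a ha).1.2, fun q hq => ?_⟩⟩
  · have h := congrArg (fun b => b = true) (hS'.1 r r.2)
    simp only [nat_blt_iff, decide_eq_true_iff, eq_iff_iff] at h
    omega
  · obtain ⟨⟨h1, h2⟩, h3⟩ := (hS'.2 a ha).2 q hq
    have h := congrArg (fun b => b = true) h2
    simp only [nat_blt_iff, eq_iff_iff] at h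
    exact ⟨(rows_props hQ ha).1 q hq, h1, by omega, h3⟩

omit hp hO in
theorem psi_mem_UP {g : ↥(H.group F)} (hg : g ∈ (chevRel C' F).UP) : ψ g ∈ (chevRel C F).UP := by
  refine (show (chevRel C' F).UP ≤ (chevRel C F).UP.comap ψ from (chevRel C' F).US_le fun a ha t => ?_) hg
  show ψ (xG C' F a t) ∈ (chevRel C F).UP
  rw [hψ]
  refine list_prod_mem fun x hx => ?_
  obtain ⟨q, hq, rfl⟩ := List.mem_map.1 hx
  obtain ⟨h1, -, h2, -⟩ := ((shape_props hQ hS').2 a a.2).2.2 q hq
  exact (chevRel C F).xe_mem_US (S := posSet D) (r := ⟨q.1, h1⟩) (h2.2 ha) _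

/-- folding homomorphisms are injective -/
theorem psi_injective : Function.Injective ψ := by
  rw [← MonoidHom.ker_eq_bot_iff, eq_bot_iff]
  have hker : ψ.ker ≤ (chevRel C' F).BS := by
    intro g hg
    rw [MonoidHom.mem_ker] at hg
    obtain ⟨b, hb, n, u, hu, rfl⟩ := (chevRel C' F).exists_bnu g
    obtain ⟨v, hv, h, hh, rfl⟩ := (chevRel C' F).exists_of_mem_BS hb
    rw [map_mul, map_mul, map_mul] at hg
    have hv' := (chevRel C F).UP_le_BS (psi_mem_UP C C' hQ ψ hψ hS' hv)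
    have hh' := (chevRel C F).HS_le_BS (psi_mem_HS C C' hp hQ hO ψ hψ hh)
    have hu' := (chevRel C F).UP_le_BS (psi_mem_UP C C' hQ ψ hψ hS'
      ((chevRel C' F).US_mono (Rel.invSet_subset _) hu))
    have hnB : ψ n ∈ (chevRel C F).BS := by
      rw [show ψ n = (ψ v * ψ h)⁻¹ * (ψ v * ψ h * ψ n * ψ u) * (ψ u)⁻¹ by group, hg, mul_one]
      exact mul_mem (inv_mem (mul_mem hv' hh')) (inv_mem hu')
    have hnH : ψ n ∈ (chevRel C F).HS :=
      (chevRel C F).BS_inf_NS.le ⟨hnB, psi_mem_NS C C' hp hQ hO ψ hψ n.2⟩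
    have hnb : (n : ↥(H.group F)) ∈ (chevRel C' F).HS := by
      refine (chevRel C' F).nsPerm_eq_one_of_pos n fun i => ?_
      by_contra hneg
      obtain ⟨a, ha⟩ := (chevRel C' F).isMon_nsPerm n
      obtain ⟨b, hb'⟩ : ∃ b, b = (chevRel C' F).nsPerm n ((chevRel C' F).sroot i) := ⟨_, rfl⟩
      have e := congrArg ψ ((ha ((chevRel C' F).sroot i)).2.2.2 1)
      rw [← hb'] at e hneg
      rw [map_mul, map_mul, map_inv] at e
      have hxa : ψ ((chevRel C' F).xe ((chevRel C' F).sroot i : ℕ) 1) ∈ (chevRel C F).UP :=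
        psi_mem_UP C C' hQ ψ hψ hS' ((chevRel C' F).xe_mem_US (S := posSet H) ((chevRel C' F).sroot_pos i) 1)
      have hL : ψ n * ψ ((chevRel C' F).xe ((chevRel C' F).sroot i : ℕ) 1) * (ψ n)⁻¹ ∈ (chevRel C F).UP :=
        (Subgroup.mem_normalizer_iff.1 ((chevRel C F).HS_le_normalizer_US (posSet D) hnH) _).1 hxa
      have hR' : ψ ((chevRel C' F).xe (b : ℕ) (a ((chevRel C' F).sroot i) * 1)) ∈ (chevRel C F).UN := by
        show ψ (xG C' F b _) ∈ (chevRel C F).UN
        rw [hψ]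
        refine list_prod_mem fun x hx => ?_
        obtain ⟨q, hq, rfl⟩ := List.mem_map.1 hx
        obtain ⟨h1, -, h2, -⟩ := ((shape_props hQ hS').2 b b.2).2.2 q hq
        exact (chevRel C F).xe_mem_US (S := negSet D) (r := ⟨q.1, h1⟩) (fun hq' => hneg (h2.1 hq')) _
      rw [← e] at hR'
      have h1 : ψ n * ψ ((chevRel C' F).xe ((chevRel C' F).sroot i : ℕ) 1) * (ψ n)⁻¹ = 1 :=
        (chevRel C F).BS_inf_UN ((chevRel C F).UP_le_BS hL) hR'
      rw [mul_inv_eq_one, mul_eq_left] at h1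
      change ψ (xG C' F ((chevRel C' F).sroot i : ℕ) 1) = 1 at h1
      rw [hψ, rowG] at h1
      obtain ⟨hne, hnd, hrow⟩ := (shape_props hQ hS').2 _ ((chevRel C' F).sroot i).2
      cases hL' : rowAt Q ((chevRel C' F).sroot i : ℕ) with
      | nil => exact hne hL'
      | cons q L =>
        rw [hL'] at h1 hnd hrow
        obtain ⟨hq1, hq2, hq3, hq4⟩ := hrow q List.mem_cons_self
        have hm : 1 ≤ ht D X q.1 :=
          ((shape_props hQ hS').1 ⟨q.1, hq1⟩).1 (hq3.2 ((chevRel C' F).sroot_pos i))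
        have := hasCoef_listG_head C hm (fun x hx => ⟨(hrow x hx).1, ((hrow x hx).2.2.2 q List.mem_cons_self).ge⟩)
          hnd rfl (1 : F)
        rw [h1] at this
        have h0 := hasCoef_unique C this (hasCoef_one C _)
        rcases hq2 with h | h <;> simp [h] at h0
    have hu1 : u = 1 := by
      refine Subgroup.mem_bot.1 (((chevRel C' F).US_le (H := ⊥) fun r hr _ => absurd ?_ hr.2) hu)
      rw [(chevRel C' F).nsPerm_of_mem_HS n hnb, Equiv.Perm.one_apply]
      exact hr.1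
    rw [hu1, mul_one]
    exact mul_mem (mul_mem ((chevRel C' F).UP_le_BS hv) ((chevRel C' F).HS_le_BS hh))
      ((chevRel C' F).HS_le_BS hnb)
  refine le_trans (Subgroup.normal_le_normalCore.2 hker) ?_
  rw [(chevRel C' F).core_eq_ker, (MonoidHom.ker_eq_bot_iff _).2 (chevRel_injective C' F)]

end CfsgLib.Known.ChevFold
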