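import Cfsg.Prelude.Def_ChevAutomorphisms
import Cfsg.Agent.Lib.Lie.Rel.Inst
import Cfsg.Agent.Lib.Lie.Chev.All

/-!
# Graph automorphisms of D4, E6 send root elements to root elements up to sign
-/

set_option autoImplicit false

namespace CfsgLib.Known.ChevGraphSign

open Cfsg.Lie (ChevalleyDatum)
open CfsgLib.Lie.Chev

/-- one root length: symmetric Cartan matrix, coroot coordinates equal root coordinates and determine the root -/
def chkOneLength (D : ChevalleyDatum) (X : Aux) : Bool :=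
  (List.range D.rank).all (fun i => (List.range D.rank).all fun j =>
    Nat.beq i j || decide (D.cartan i (D.simple j) = -(D.bonds i j))) &&
  (List.range D.nroots).all (fun s => (List.range D.rank).all fun j => decide (corD D s j = X.coef j s)) &&
  decide ((List.range D.nroots).map fun s => (List.range D.rank).map fun j => corD D s j).Nodup

theorem oneLengthD4 : chkOneLength Cfsg.Lie.chevD4 auxD4 = true := by decide +kernel
theorem oneLengthE6 : chkOneLength Cfsg.Lie.chevE6 auxE6 = true := by decide +kernel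

variable {D : ChevalleyDatum} {X : Aux} (C : Cert D X) {F : Type*} [Field F]

theorem oneLength_spec (h : chkOneLength D X = true) :
    (∀ i j, i < D.rank → j < D.rank → i ≠ j → D.cartan i (D.simple j) = -(D.bonds i j)) ∧
    (∀ s, s < D.nroots → ∀ j, j < D.rank → corD D s j = X.coef j s) ∧
    ∀ s s', s < D.nroots → s' < D.nroots → (∀ j, j < D.rank → corD D s j = corD D s' j) → s = s' := by
  simp only [chkOneLength, Bool.and_eq_true, List.all_eq_true, List.mem_range, Bool.or_eq_true, decide_eq_true_iff,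
    nat_beq_iff] at h
  obtain ⟨⟨h1, h2⟩, h3⟩ := h
  refine ⟨fun i j hi hj hne => (h1 i hi j hj).resolve_left hne, h2, fun s s' hs hs' e => ?_⟩
  exact List.inj_on_of_nodup_map h3 (List.mem_range.2 hs) (List.mem_range.2 hs')
    (List.map_congr_left fun j hj => e j (List.mem_range.1 hj))

theorem permRoot_eq (h : chkOneLength D X = true) (π : Equiv.Perm (Fin D.rank)) {r s : ℕ} (hr : r < D.nroots)
    (hs : s < D.nroots) (he : ∀ j : Fin D.rank, X.coef (π j) s = X.coef j r) : D.permRoot π r = s := by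
  obtain ⟨-, hcor, hinj⟩ := oneLength_spec h
  unfold ChevalleyDatum.permRoot
  have hp : ((List.finRange D.rank).all fun i =>
      (D.coroot.getD s #[]).getD (π i).val 0 == (D.coroot.getD r #[]).getD i.val 0) = true := by
    simp only [List.all_eq_true, beq_iff_eq]
    intro j _
    show corD D s (π j) = corD D r j
    rw [hcor s hs _ (π j).2, hcor r hr _ j.2, he]
  cases hf : (List.range D.nroots).find? _ with
  | none => exact absurd hp (List.find?_eq_none.1 hf s (List.mem_range.2 hs))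
  | some u =>
    have h1 := List.find?_some hf
    have hu := List.mem_range.1 (List.mem_of_find?_eq_some hf)
    simp only [List.all_eq_true, beq_iff_eq] at h1 hp
    refine hinj u s hu hs fun j hj => ?_
    have a := h1 (π.symm ⟨j, hj⟩) (List.mem_finRange _)
    have b := hp (π.symm ⟨j, hj⟩) (List.mem_finRange _)
    rw [Equiv.apply_symm_apply] at a b
    exact a.trans b.symm

include C in
/-- images of root elements -/
theorem exists_image (h : chkOneLength D X = true) (π : Equiv.Perm (Fin D.rank)) (hπ : D.IsDiagramSymmetry π)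
    (φ : ↥(D.group F) ≃* ↥(D.group F))
    (hφ : ∀ (i : Fin D.rank) (t : F), φ (xG C F (D.simple i) t) = xG C F (D.simple (π i)) t ∧
      φ (xG C F (D.neg (D.simple i)) t) = xG C F (D.neg (D.simple (π i))) t) :
    ∀ r, r < D.nroots → ∃ s, s < D.nroots ∧ (∀ j : Fin D.rank, X.coef (π j) s = X.coef j r) ∧
      ∃ ε : F, (ε = 1 ∨ ε = -1) ∧ ∀ t, φ (xG C F r t) = xG C F s (ε * t) := by
  obtain ⟨hsym, -, -⟩ := oneLength_spec h
  have hA : ∀ a b : Fin D.rank, D.cartan (π a) (D.simple (π b)) = D.cartan a (D.simple b) := by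
    intro a b
    by_cases hab : a = b
    · subst hab; rw [C.cartan_simple a.2, C.cartan_simple (π a).2]
    · rw [hsym _ _ (π a).2 (π b).2 (fun e => hab (π.injective (Fin.ext e))),
        hsym _ _ a.2 b.2 (fun e => hab (Fin.ext e)), hπ a b hab]
  have step : ∀ (i : Fin D.rank) (r : ℕ), r < D.nroots →
      (∃ s, s < D.nroots ∧ (∀ j : Fin D.rank, X.coef (π j) s = X.coef j r) ∧
        ∃ ε : F, (ε = 1 ∨ ε = -1) ∧ ∀ t, φ (xG C F r t) = xG C F s (ε * t)) →
      ∃ s, s < D.nroots ∧ (∀ j : Fin D.rank, X.coef (π j) s = X.coef j (X.w i r)) ∧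
        ∃ ε : F, (ε = 1 ∨ ε = -1) ∧ ∀ t, φ (xG C F (X.w i r) t) = xG C F s (ε * t) := by
    rintro i r hr ⟨s, hs, hc, ε, hε, hφs⟩
    have hcart : D.cartan (π i) s = D.cartan i r := by
      rw [C.cartan_eq hs (π i).2, C.cartan_eq hr i.2, Finset.sum_range, Finset.sum_range, ← Equiv.sum_comp π]
      exact Finset.sum_congr rfl fun j _ => by rw [hc, hA]
    refine ⟨X.w (π i) s, C.w_lt (π i).2 hs, fun j => ?_,
      (X.eta (π i) s : F) * ε * (X.eta i r : F), ?_, fun t => ?_⟩
    · rw [C.coef_w (π i).2 hs (π j).2, C.coef_w i.2 hr j.2, hcart, hc]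
      simp [Fin.val_inj]
    · have e1 : ∀ k u, (X.eta k u : F) = 1 ∨ (X.eta k u : F) = -1 := fun k u => by
        unfold Aux.eta; cases X.sg k u <;> simp
      rcases e1 (π i) s with a | a <;> rcases e1 i r with b | b <;> rcases hε with c | c <;> simp [a, b, c]
    · have hn : φ (neOf D (xG C F) (D.simple i) 1) = neOf D (xG C F) (D.simple (π i)) 1 := by
        simp only [neOf, map_mul, (hφ i _).1, (hφ i _).2]
      have h1 := (chevRel C F).nconj i r 1 ((X.eta i r : F) * t) i.2 hr one_ne_zero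
      have h2 := (chevRel C F).nconj (π i) s 1 (ε * ((X.eta i r : F) * t)) (π i).2 hs one_ne_zero
      have hx : (chevRel C F).xe = xG C F := rfl
      rw [hx] at h1 h2
      rw [one_zpow, mul_one, ← mul_assoc, X.eta_sq_cast, one_mul] at h1
      rw [one_zpow, mul_one] at h2
      have h3 := congrArg φ h1
      rw [map_mul, map_mul, hn, hφs, h2] at h3
      rw [show (X.eta (π i) s : F) * ε * (X.eta i r : F) * t = (X.eta (π i) s : F) * (ε * ((X.eta i r : F) * t)) by ring]
      exact (mul_right_cancel h3).symm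
  have hbase : ∀ i : Fin D.rank, ∃ s, s < D.nroots ∧ (∀ j : Fin D.rank, X.coef (π j) s = X.coef j (D.simple i)) ∧
      ∃ ε : F, (ε = 1 ∨ ε = -1) ∧ ∀ t, φ (xG C F (D.simple i) t) = xG C F s (ε * t) := fun i =>
    ⟨D.simple (π i), C.simple_lt (π i).2, fun j => by
      rw [C.coef_simple (π i).2 (π j).2, C.coef_simple i.2 j.2]; simp [Fin.val_inj],
      1, Or.inl rfl, fun t => by rw [one_mul, (hφ i t).1]⟩
  have hpos : ∀ r, r < D.nroots → half D ≤ r →
      (∃ s, s < D.nroots ∧ (∀ j : Fin D.rank, X.coef (π j) s = X.coef j r) ∧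
        ∃ ε : F, (ε = 1 ∨ ε = -1) ∧ ∀ t, φ (xG C F r t) = xG C F s (ε * t)) ∧
      (∃ s, s < D.nroots ∧ (∀ j : Fin D.rank, X.coef (π j) s = X.coef j (D.neg r)) ∧
        ∃ ε : F, (ε = 1 ∨ ε = -1) ∧ ∀ t, φ (xG C F (D.neg r) t) = xG C F s (ε * t)) := by
    intro r
    induction r using Nat.strong_induction_on with
    | _ r ih =>
      intro hr hp
      obtain ⟨i, hi, h'⟩ := C.cover'.2.2.1 r hr hp
      rcases h' with h' | ⟨h1, h2⟩
      · subst h'
        refine ⟨hbase ⟨i, hi⟩, ?_⟩
        rw [← C.w_simple hi]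
        exact step ⟨i, hi⟩ _ hr (hbase ⟨i, hi⟩)
      · have hw := C.w_lt hi hr
        obtain ⟨a, b⟩ := ih _ h2 hw h1
        refine ⟨?_, ?_⟩
        · have := step ⟨i, hi⟩ _ hw a
          rwa [C.w_w hi hr] at this
        · have := step ⟨i, hi⟩ _ (C.neg_lt hw) b
          rwa [C.w_neg hi hw, C.w_w hi hr] at this
  intro r hr
  by_cases hp : half D ≤ r
  · exact (hpos r hr hp).1
  · have := (hpos _ (C.neg_lt hr) ((C.half_le_neg_iff hr).2 (by omega))).2
    rwa [C.neg_neg hr] at this

include C in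
theorem main (h : chkOneLength D X = true) (π : Equiv.Perm (Fin D.rank)) (hπ : D.IsDiagramSymmetry π)
    (φ : ↥(D.group F) ≃* ↥(D.group F))
    (hφ : ∀ (g : ↥(D.group F)) (i : Fin D.rank) (t : F),
      (((g : GL D.Idx F) : Matrix D.Idx D.Idx F) = D.x F (D.simple i) t →
        ((φ g : GL D.Idx F) : Matrix D.Idx D.Idx F) = D.x F (D.simple (π i)) t) ∧
      (((g : GL D.Idx F) : Matrix D.Idx D.Idx F) = D.x F (D.neg (D.simple i)) t →
        ((φ g : GL D.Idx F) : Matrix D.Idx D.Idx F) = D.x F (D.neg (D.simple (π i))) t))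
    (r : ℕ) (hr : r < D.nroots) :
    ∃ ε : F, (ε = 1 ∨ ε = -1) ∧ ∀ (g : ↥(D.group F)) (t : F),
      ((g : GL D.Idx F) : Matrix D.Idx D.Idx F) = D.x F r t →
        ((φ g : GL D.Idx F) : Matrix D.Idx D.Idx F) = D.x F (D.permRoot π r) (ε * t) := by
  obtain ⟨s, hs, hc, ε, hε, he⟩ := exists_image C h π hπ φ
    (fun i t => ⟨Subtype.ext (Units.ext ((hφ _ i t).1 (xG_val C F _ t))),
      Subtype.ext (Units.ext ((hφ _ i t).2 (xG_val C F _ t)))⟩) r hr
  refine ⟨ε, hε, fun g t hg => ?_⟩
  rw [show g = xG C F r t from Subtype.ext (Units.ext hg), he, permRoot_eq h π hr hs hc]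
  rfl

end CfsgLib.Known.ChevGraphSign
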