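import Cfsg.Agent.Lib.Lie.Rel.BN
import Cfsg.Agent.Lib.Lie.Rel.Bruhat
import Cfsg.Agent.Lib.Lie.Rel.Inst
import Cfsg.Agent.Lib.Lie.Chev.All

/-!
# The centralizer of a highest root element
-/

set_option autoImplicit false

namespace CfsgLib.Known.ChevLongRoot

open Cfsg.Lie (ChevalleyDatum)
open CfsgLib.Lie.Chev

/-- `D.nroots - 1` is the highest root, dual to node `k`; `L` lists the other negative simple roots -/
def chkHigh (D : ChevalleyDatum) (X : Aux) (k : ℕ) (L : List ℕ) : Bool :=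
  let R := D.nroots - 1
  Nat.blt k D.rank && Nat.blt R D.nroots &&
  (List.range D.rank).all (fun j =>
    decide (D.cartan j R = if j = k then 1 else 0) && (Nat.beq j k || (L.any (Nat.beq (D.neg (D.simple j))))) &&
      (Nat.beq j k || Nat.beq (X.w j R) R)) &&
  L.all (fun s => (List.range D.rank).any fun j => !Nat.beq j k && Nat.beq s (D.neg (D.simple j))) &&
  (List.range D.nroots).all (fun s => (List.range D.rank).all fun j => decide (X.coef j s ≤ X.coef j R)) &&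
  (List.range D.rank).all (fun j => decide (X.coef j R = X.coef j (D.simple k) + X.coef j (X.w k R))) &&
  (List.range D.nroots).all fun s =>
    Nat.beq s R || !(Nat.ble (half D) s || L.any (Nat.beq s)) ||
      (!Nat.beq s (D.neg R) && (D.commTerms R s).isEmpty)

variable {D : ChevalleyDatum} {X : Aux} {F : Type*} [Field F] {G : Type*} [Group G] (R : Rel D X F G)
variable {k : ℕ} {L : List ℕ}

theorem high_spec (h : chkHigh D X k L = true) :
    k < D.rank ∧ D.nroots - 1 < D.nroots ∧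
    (∀ j, j < D.rank → D.cartan j (D.nroots - 1) = (if j = k then 1 else 0) ∧
      (j ≠ k → D.neg (D.simple j) ∈ L ∧ X.w j (D.nroots - 1) = D.nroots - 1)) ∧
    (∀ s ∈ L, ∃ j < D.rank, j ≠ k ∧ s = D.neg (D.simple j)) ∧
    (∀ s, s < D.nroots → ∀ j, j < D.rank → X.coef j s ≤ X.coef j (D.nroots - 1)) ∧
    (∀ j, j < D.rank → X.coef j (D.nroots - 1) = X.coef j (D.simple k) + X.coef j (X.w k (D.nroots - 1))) ∧
    ∀ s, s < D.nroots → s ≠ D.nroots - 1 → (half D ≤ s ∨ s ∈ L) →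
      s ≠ D.neg (D.nroots - 1) ∧ D.commTerms (D.nroots - 1) s = [] := by
  simp only [chkHigh, Bool.and_eq_true, List.all_eq_true, List.any_eq_true, List.mem_range, Bool.or_eq_true,
    decide_eq_true_iff, nat_beq_iff, nat_blt_iff, Bool.not_eq_true', List.isEmpty_iff] at h
  obtain ⟨⟨⟨⟨⟨⟨h1, h2⟩, h3⟩, h4⟩, h5⟩, h6⟩, h7⟩ := h
  refine ⟨h1, h2, fun j hj => ⟨(h3 j hj).1.1, fun hne => ?_⟩, fun s hs => ?_, h5, h6, fun s hs hne hor => ?_⟩
  · refine ⟨?_, ((h3 j hj).2).resolve_left hne⟩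
    obtain ⟨x, hx, hx'⟩ := ((h3 j hj).1.2).resolve_left hne
    exact hx' ▸ hx
  · obtain ⟨j, hj, hne, he⟩ := h4 s hs
    exact ⟨j, hj, fun e => by simp [e] at hne, he⟩
  · rcases h7 s hs with (h | h) | ⟨ha, hb⟩
    · exact absurd h hne
    · rw [Bool.or_eq_false_iff] at h
      rcases hor with hor | hor
      · exact absurd (nat_ble_iff.2 hor) (by simp [h.1])
      · have := h.2
        rw [List.any_eq_false] at this
        exact absurd (nat_beq_iff.2 rfl) (this s hor)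
    · exact ⟨fun e => by simp [e] at ha, hb⟩

/-- the subgroup generated by `U` and the negative simple root elements in `L` -/
def CS (L : List ℕ) : Subgroup G := R.UP ⊔ Subgroup.closure {g | ∃ s ∈ L, ∃ c, g = R.xe s c}

theorem CS_le_centralizer (h : chkHigh D X k L = true) (u : F) :
    CS R L ≤ Subgroup.centralizer {R.xe (D.nroots - 1) u} := by
  obtain ⟨-, hR, -, hL, -, -, hc⟩ := high_spec h
  have key : ∀ s, s < D.nroots → (half D ≤ s ∨ s ∈ L) → ∀ c,
      R.xe s c ∈ Subgroup.centralizer {R.xe (D.nroots - 1) u} := by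
    intro s hs hor c
    rw [Subgroup.mem_centralizer_singleton_iff]
    by_cases he : s = D.nroots - 1
    · rw [he, R.xe_add', R.xe_add', add_comm]
    · obtain ⟨hne, hnil⟩ := hc s hs he hor
      have := R.xe_comm (D.nroots - 1) s u c hR hs he hne
      simp only [ChevalleyDatum.commWord, hnil, List.map_nil, List.prod_nil, mul_one] at this
      exact this
  refine sup_le (R.US_le fun r hr t => key r r.2 (Or.inl hr) t) ((Subgroup.closure_le _).2 ?_)
  rintro _ ⟨s, hs, c, rfl⟩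
  obtain ⟨j, hj, -, rfl⟩ := hL s hs
  exact key _ (R.cert.neg_lt (R.cert.simple_lt hj)) (Or.inr hs) c

theorem ne_mem_CS (h : chkHigh D X k L = true) {j : Fin D.rank} (hj : (j : ℕ) ≠ k) (c : F) :
    R.ne (D.simple j) c ∈ CS R L := by
  obtain ⟨-, -, hJ, -, -, -, -⟩ := high_spec h
  have h1 : ∀ t, R.xe (D.simple j) t ∈ CS R L := fun t =>
    (le_sup_left : R.UP ≤ CS R L) (R.xe_mem_US (S := posSet D) (r := R.sroot j) (R.sroot_pos j) t)
  have h2 : ∀ t, R.xe (D.neg (D.simple j)) t ∈ CS R L := fun t =>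
    (le_sup_right : _ ≤ CS R L) (Subgroup.subset_closure ⟨_, ((hJ j j.2).2 hj).1, t, rfl⟩)
  exact mul_mem (mul_mem (h1 _) (h2 _)) (h1 _)

theorem HS_le_normalizer_CS (h : chkHigh D X k L = true) : R.HS ≤ Subgroup.normalizer (CS R L : Set G) := by
  obtain ⟨-, -, -, hL, -, -, -⟩ := high_spec h
  intro x hx
  have key : ∀ x ∈ R.HS, ∀ g ∈ CS R L, x * g * x⁻¹ ∈ CS R L := by
    intro x hx g hg
    obtain ⟨a, ha⟩ := R.isMon_of_mem_HS hx
    have : CS R L ≤ (CS R L).comap (MulAut.conj x).toMonoidHom := by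
      refine sup_le (R.US_le fun r hr t => ?_) ((Subgroup.closure_le _).2 ?_)
      · show x * R.xe r t * x⁻¹ ∈ CS R L
        rw [(ha r).2.2.2 t]
        exact (le_sup_left : R.UP ≤ CS R L) (R.xe_mem_US (S := posSet D) hr _)
      · rintro _ ⟨s, hs, c, rfl⟩
        obtain ⟨j, hj, -, rfl⟩ := hL s hs
        show x * R.xe (⟨_, R.cert.neg_lt (R.cert.simple_lt hj)⟩ : Fin D.nroots) c * x⁻¹ ∈ CS R L
        rw [(ha _).2.2.2 c]
        exact (le_sup_right : _ ≤ CS R L) (Subgroup.subset_closure ⟨_, hs, _, rfl⟩)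
    exact this hg
  rw [Subgroup.mem_normalizer_iff]
  refine fun g => ⟨key x hx g, fun hg => ?_⟩
  have := key _ (inv_mem hx) _ hg
  rwa [show x⁻¹ * (x * g * x⁻¹) * x⁻¹⁻¹ = g by group] at this

theorem qact_linear (w : R.WQ) (a b c : Fin D.nroots)
    (e : ∀ j, j < D.rank → X.coef j c = X.coef j a + X.coef j b) :
    ∀ j, j < D.rank → X.coef j (R.qact w c : ℕ) = X.coef j (R.qact w a : ℕ) + X.coef j (R.qact w b : ℕ) := by
  obtain ⟨g, rfl⟩ := R.qmk_surjective w
  obtain ⟨l, hl⟩ := R.exists_word g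
  rw [hl]
  clear hl
  induction l generalizing a b c with
  | nil => simpa using e
  | cons i l ih =>
    intro j hj
    simp only [CfsgLib.Lie.Exchange.wprod_cons, map_mul, Equiv.Perm.mul_apply, R.qact_qgen, Rel.wperm_apply]
    rw [R.cert.coef_w i.2 (R.qact _ c).2 hj, R.cert.coef_w i.2 (R.qact _ a).2 hj,
      R.cert.coef_w i.2 (R.qact _ b).2 hj]
    have hh := ih a b c e
    split_ifs with hji
    · rw [R.cert.cartan_eq (R.qact _ c).2 i.2, R.cert.cartan_eq (R.qact _ a).2 i.2,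
        R.cert.cartan_eq (R.qact _ b).2 i.2, Finset.sum_congr rfl fun m hm => by
          rw [hh m (Finset.mem_range.1 hm), add_mul], Finset.sum_add_distrib, hh j hj]
      ring
    · exact hh j hj

theorem stab_le (h : chkHigh D X k L = true) : ∀ (N : ℕ) (n : R.NS),
    CfsgLib.Lie.Exchange.wlen R.qgen (R.qmk n) ≤ N → (R.nsPerm n ⟨_, (high_spec h).2.1⟩ : ℕ) = D.nroots - 1 →
    (n : G) ∈ CS R L ⊔ R.HS := by
  obtain ⟨hk, hR, hJ, -, hmax, hsum, -⟩ := high_spec h
  intro N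
  induction N with
  | zero =>
    intro n hN _
    have := R.rootPerm.toGenInv.wlen_eq_zero (Nat.le_zero.1 hN)
    exact (le_sup_right : R.HS ≤ _) (R.qmk_eq_one.1 this)
  | succ N ih =>
    intro n hN hfix
    by_cases h1 : R.qmk n = 1
    · exact (le_sup_right : R.HS ≤ _) (R.qmk_eq_one.1 h1)
    obtain ⟨l, hl, hll⟩ := R.rootPerm.toGenInv.exists_reduced (R.qmk n)
    obtain ⟨l', i, rfl⟩ : ∃ l' i, l = l' ++ [i] := by
      cases l using List.reverseRecOn with
      | nil => simp at hl; exact absurd hl.symm h1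
      | append_singleton l' i => exact ⟨l', i, rfl⟩
    have hlt : CfsgLib.Lie.Exchange.wlen R.qgen (R.qmk n * R.qgen i) <
        CfsgLib.Lie.Exchange.wlen R.qgen (R.qmk n) := by
      rw [← hll, ← hl, CfsgLib.Lie.Exchange.wprod_append, CfsgLib.Lie.Exchange.wprod_cons,
        CfsgLib.Lie.Exchange.wprod_nil, mul_one, R.rootPerm.toGenInv.cancel_right]
      have := CfsgLib.Lie.Exchange.wlen_le R.qgen l'
      simp only [List.length_append, List.length_cons, List.length_nil]; omega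
    have hneg := (R.rootPerm.wlen_mul_simple_lt_iff _ _).1 hlt
    have hik : (i : ℕ) ≠ k := by
      intro e
      subst e
      have hlin := qact_linear R (R.qmk n) (R.sroot i) ⟨_, R.cert.w_lt i.2 hR⟩ ⟨_, hR⟩ hsum
      obtain ⟨s, hs⟩ : ∃ s, s = R.qact (R.qmk n) (R.sroot i) := ⟨_, rfl⟩
      rw [← hs] at hneg hlin
      rw [R.qact_qmk] at hlin
      obtain ⟨a, ha, b, hb', hg⟩ := R.cert.cor_primitive s.2
      obtain ⟨c, hc, hne⟩ : ∃ c, c < D.rank ∧ X.cor c s ≠ 0 := by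
        by_contra hall
        simp only [not_exists, not_and, not_not] at hall
        rw [hall a ha, hall b hb'] at hg
        simp at hg
      have hne' : X.coef c s ≠ 0 := fun e => hne ((R.cert.coef_zero_iff s.2 hc).1 e)
      have hp : X.coef c (s : ℕ) ≤ 0 := by
        have h3 := R.cert.coef_nonneg (R.cert.neg_lt s.2) hc ((R.cert.half_le_neg_iff s.2).2 (not_le.1 hneg))
        rw [R.cert.coef_neg s.2 hc] at h3
        omega
      have h4 := hlin c hc
      rw [hfix] at h4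
      have h5 := hmax _ (R.nsPerm n ⟨_, R.cert.w_lt i.2 hR⟩).2 c hc
      omega
    have hn' : R.qmk (n * R.nS i) = R.qmk n * R.qgen i := map_mul _ _ _
    have hfix' : (R.nsPerm (n * R.nS i) ⟨_, hR⟩ : ℕ) = D.nroots - 1 := by
      rw [map_mul, Equiv.Perm.mul_apply, R.nsPerm_nS,
        show R.wperm i ⟨_, hR⟩ = ⟨_, hR⟩ from Fin.ext ((hJ i i.2).2 hik).2]
      exact hfix
    have h6 := ih (n * R.nS i) (by rw [hn']; omega) hfix'
    have h7 : ((n * R.nS i : R.NS) : G) * (R.ne (D.simple i) 1)⁻¹ ∈ CS R L ⊔ R.HS :=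
      mul_mem h6 (inv_mem ((le_sup_left : CS R L ≤ _) (ne_mem_CS R h hik 1)))
    rwa [Subgroup.coe_mul, show ((R.nS i : R.NS) : G) = R.ne (D.simple i) 1 from rfl, mul_inv_cancel_right] at h7

theorem HS_decomp (h : chkHigh D X k L = true) {x : G} (hx : x ∈ R.HS) :
    ∃ l ∈ CS R L, ∃ c : F, c ≠ 0 ∧ x = l * R.he (D.simple k) c := by
  obtain ⟨hk, -⟩ := high_spec h
  refine closure_induction_symm ?hinv ?h1 ?hmul hx
  case hinv =>
    rintro _ ⟨i, c, hc, rfl⟩
    exact ⟨i, c⁻¹, inv_ne_zero hc, inv_eq_of_mul_eq_one_right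
      (by rw [R.hmul' i i.2 hc (inv_ne_zero hc), mul_inv_cancel₀ hc, R.he_one])⟩
  case h1 => exact ⟨1, one_mem _, 1, one_ne_zero, by rw [R.he_one, one_mul]⟩
  case hmul =>
    rintro _ ⟨i, c, hc, rfl⟩ y ⟨l, hl, d, hd, rfl⟩
    by_cases hik : (i : ℕ) = k
    · refine ⟨R.he (D.simple k) c * l * (R.he (D.simple k) c)⁻¹,
        (Subgroup.mem_normalizer_iff.1 (HS_le_normalizer_CS R h (R.he_mem_HS ⟨k, hk⟩ hc)) l).1 hl,
        c * d, mul_ne_zero hc hd, ?_⟩
      rw [← R.hmul' k hk hc hd, hik]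
      group
    · exact ⟨R.he (D.simple i) c * l, mul_mem (mul_mem (ne_mem_CS R h hik _) (ne_mem_CS R h hik _)) hl, d, hd,
        by rw [mul_assoc]⟩

theorem centralizer_eq (h : chkHigh D X k L = true) :
    Subgroup.centralizer {R.xe (D.nroots - 1) 1} = CS R L := by
  refine le_antisymm (fun g hg => ?_) (CS_le_centralizer R h 1)
  obtain ⟨hk, hR, hJ, -⟩ := high_spec h
  have hC := CS_le_centralizer R h (1 : F)
  have hUP : R.UP ≤ CS R L := le_sup_left
  obtain ⟨b, hb, n, u, hu, rfl⟩ := R.exists_bnu g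
  have huU : u ∈ CS R L := hUP (R.US_mono (Rel.invSet_subset _) hu)
  obtain ⟨v, hv, x, hx, rfl⟩ := R.exists_of_mem_BS hb
  have hm : x * (n : G) ∈ Subgroup.centralizer {R.xe (D.nroots - 1) 1} := by
    have := mul_mem (mul_mem (inv_mem (hC (hUP hv))) hg) (inv_mem (hC huU))
    rwa [show v⁻¹ * (v * x * ↑n * u) * u⁻¹ = x * ↑n by group] at this
  obtain ⟨m, hmdef⟩ : ∃ m : R.NS, m = ⟨x, R.HS_le_NS hx⟩ * n := ⟨_, rfl⟩
  have hmG : (m : G) = x * (n : G) := by rw [hmdef]; rfl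
  rw [← hmG] at hm
  obtain ⟨a, ha⟩ := R.isMon_nsPerm m
  have h1 := (ha ⟨_, hR⟩).2.2.2 1
  rw [mul_one, show (m : G) * R.xe (D.nroots - 1) 1 = R.xe (D.nroots - 1) 1 * (m : G) from
    Subgroup.mem_centralizer_singleton_iff.1 hm, mul_inv_cancel_right] at h1
  have hfix : R.nsPerm m ⟨_, hR⟩ = ⟨_, hR⟩ := (R.xe_inj_root (r := ⟨_, hR⟩) one_ne_zero h1).symm
  have h2 := stab_le R h _ m le_rfl (congrArg Fin.val hfix)
  obtain ⟨l, hl, y, hy, hly⟩ := exists_mul_of_mem_sup (HS_le_normalizer_CS R h) h2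
  obtain ⟨l', hl', c, hc, rfl⟩ := HS_decomp R h hy
  have h3 : R.he (D.simple k) c ∈ Subgroup.centralizer {R.xe (D.nroots - 1) 1} := by
    have := mul_mem (inv_mem (hC (mul_mem hl hl'))) hm
    rwa [hly, show (l * l')⁻¹ * (l * (l' * R.he (D.simple k) c)) = R.he (D.simple k) c by group] at this
  have h4 := (R.isMon_he_simple ⟨k, hk⟩ hc ⟨_, hR⟩).2.2.2 1
  rw [show R.he (D.simple k) c * R.xe (D.nroots - 1) 1 = R.xe (D.nroots - 1) 1 * R.he (D.simple k) c from
    Subgroup.mem_centralizer_singleton_iff.1 h3, mul_inv_cancel_right, mul_one] at h4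
  have h5 : (1 : F) = c ^ D.cartan k (D.nroots - 1) := R.xe_inj_param (r := ⟨_, hR⟩) h4
  rw [(hJ k hk).1, if_pos rfl, zpow_one] at h5
  rw [show v * x * (n : G) * u = v * (m : G) * u by rw [hmG]; group, hly, ← h5, R.he_one, mul_one]
  exact mul_mem (mul_mem (hUP hv) (mul_mem hl hl')) huU

theorem chev (C : Cert D X) (h : chkHigh D X k L = true) (t : GL D.Idx F)
    (ht : (t : Matrix D.Idx D.Idx F) = D.x F (D.nroots - 1) 1) :
    D.group F ⊓ Subgroup.centralizer {t} = D.posUnipotent F ⊔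
      Subgroup.closure {g : GL D.Idx F | ∃ s ∈ L, ∃ c : F, (g : Matrix D.Idx D.Idx F) = D.x F s c} := by
  have hcl : Subgroup.closure {g : GL D.Idx F | ∃ s ∈ L, ∃ c : F, (g : Matrix D.Idx D.Idx F) = D.x F s c} =
      (Subgroup.closure {g | ∃ s ∈ L, ∃ c, g = (chevRel C F).xe s c}).map (D.group F).subtype := by
    rw [MonoidHom.map_closure]
    congr 1
    ext g
    constructor
    · rintro ⟨s, hs, c, e⟩
      exact ⟨xG C F s c, ⟨s, hs, c, rfl⟩, Units.ext ((xG_val C F s c).trans e.symm)⟩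
    · rintro ⟨_, ⟨s, hs, c, rfl⟩, rfl⟩
      exact ⟨s, hs, c, (chevRel C F).θ_xe s c⟩
  have ht' : t = ((chevRel C F).xe (D.nroots - 1) 1 : ↥(D.group F)) :=
    Units.ext (ht.trans ((chevRel C F).θ_xe _ 1).symm)
  rw [posUnipotent_eq C F, hcl, ← Subgroup.map_sup]
  show _ = (CS (chevRel C F) L).map _
  rw [← centralizer_eq (chevRel C F) h, ht']
  ext g
  simp only [Subgroup.mem_inf, Subgroup.mem_centralizer_singleton_iff, Subgroup.mem_map]
  constructor
  · rintro ⟨hg, e⟩; exact ⟨⟨g, hg⟩, Subtype.ext e, rfl⟩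
  · rintro ⟨⟨g, hg⟩, e, rfl⟩; exact ⟨hg, congrArg Subtype.val e⟩

theorem highE6 : chkHigh Cfsg.Lie.chevE6 auxE6 1 [15, 29, 32, 34, 35] = true := by decide +kernel
theorem highE7 : chkHigh Cfsg.Lie.chevE7 auxE7 0 [47, 52, 56, 59, 61, 62] = true := by decide +kernel
theorem highE8 : chkHigh Cfsg.Lie.chevE8 auxE8 7 [77, 98, 104, 109, 113, 116, 118] = true := by decide +kernel

end CfsgLib.Known.ChevLongRoot
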