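import Cfsg.Agent.Lib.Lie.Rel.Bruhat
import Cfsg.Agent.Lib.Lie.Rel.Sylow
import Cfsg.Agent.Lib.Lie.Rel.Inst
import Cfsg.Agent.Lib.Lie.Chev.All

/-!
# Two conjugates of the highest root subgroup generate a `p`-group or are opposite
-/

set_option autoImplicit false
set_option Elab.async false

namespace CfsgLib.Known.ChevRootPair

open Cfsg.Lie (ChevalleyDatum)
open CfsgLib.Lie.Chev

/-- greedily moves `s` into the positive roots while keeping `a` positive -/
def lift (D : ChevalleyDatum) (X : Aux) : ℕ → ℕ → ℕ → Bool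
  | 0, _, _ => false
  | fuel + 1, a, s =>
      if Nat.ble (half D) s then Nat.ble (half D) a
      else match (List.range D.rank).find? (fun i => !Nat.beq a (D.simple i) && decide (D.cartan i s < 0)) with
        | none => false
        | some i => lift D X fuel (X.w i a) (X.w i s)

/-- every root other than the lowest lifts together with the highest; the highest commutes with positive roots -/
def chkPairs (D : ChevalleyDatum) (X : Aux) : Bool :=
  let R := D.nroots - 1
  Nat.ble (half D) R && Nat.blt R D.nroots && Nat.beq (D.neg R) 0 &&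
  (List.range D.nroots).all (fun s => Nat.beq s 0 || Nat.ble (half D) s ||
    lift D X (D.nroots + 1) R s) &&
  (List.range D.nroots).all fun s => Nat.beq s R || Nat.blt s (half D) || (!Nat.beq s (D.neg R) && (D.commTerms R s).isEmpty)

theorem pairG2 : chkPairs Cfsg.Lie.chevG2 auxG2 = true := by decide +kernel
theorem pairD4 : chkPairs Cfsg.Lie.chevD4 auxD4 = true := by decide +kernel
theorem pairE6 : chkPairs Cfsg.Lie.chevE6 auxE6 = true := by decide +kernel
theorem pairE7 : chkPairs Cfsg.Lie.chevE7 auxE7 = true := by decide +kernel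
/-- the first check of one root for `pairE8` -/
def liftRowE8 (s : ℕ) : Bool :=
  Nat.beq s 0 || Nat.ble (half Cfsg.Lie.chevE8) s ||
    lift Cfsg.Lie.chevE8 auxE8 (Cfsg.Lie.chevE8.nroots + 1) (Cfsg.Lie.chevE8.nroots - 1) s

/-- the second check of one root for `pairE8` -/
def commRowE8 (s : ℕ) : Bool :=
  Nat.beq s (Cfsg.Lie.chevE8.nroots - 1) || Nat.blt s (half Cfsg.Lie.chevE8) ||
    (!Nat.beq s (Cfsg.Lie.chevE8.neg (Cfsg.Lie.chevE8.nroots - 1)) &&
      (Cfsg.Lie.chevE8.commTerms (Cfsg.Lie.chevE8.nroots - 1) s).isEmpty)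

theorem headE8 : (Nat.ble (half Cfsg.Lie.chevE8) (Cfsg.Lie.chevE8.nroots - 1) &&
    Nat.blt (Cfsg.Lie.chevE8.nroots - 1) Cfsg.Lie.chevE8.nroots &&
    Nat.beq (Cfsg.Lie.chevE8.neg (Cfsg.Lie.chevE8.nroots - 1)) 0) = true ∧
    Cfsg.Lie.chevE8.nroots = 240 := by decide +kernel

theorem liftE8_low : (List.range' 0 70).all liftRowE8 = true := by decide +kernel

theorem liftE8_high : (List.range' 70 170).all liftRowE8 = true := by decide +kernel

theorem commE8_low : (List.range' 0 180).all commRowE8 = true := by decide +kernel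

theorem commE8_high : (List.range' 180 60).all commRowE8 = true := by decide +kernel

theorem pairE8 : chkPairs Cfsg.Lie.chevE8 auxE8 = true := by
  have split : ∀ (f : ℕ → Bool) (m k : ℕ), m + k = 240 → (List.range' 0 m).all f = true →
      (List.range' m k).all f = true → (List.range Cfsg.Lie.chevE8.nroots).all f = true := by
    intro f m k e h1 h2
    rw [List.all_eq_true] at h1 h2 ⊢
    intro s hs
    rw [List.mem_range, headE8.2] at hs
    by_cases c : s < m
    · exact h1 s (List.mem_range'_1.2 (by omega))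
    · exact h2 s (List.mem_range'_1.2 (by omega))
  unfold chkPairs
  dsimp only
  rw [Bool.and_eq_true, Bool.and_eq_true]
  exact ⟨⟨headE8.1, split liftRowE8 70 170 (by norm_num) liftE8_low liftE8_high⟩,
    split commRowE8 180 60 (by norm_num) commE8_low commE8_high⟩

variable {D : ChevalleyDatum} {X : Aux} {F : Type*} [Field F] {G : Type*} [Group G] (R : Rel D X F G)

theorem pairs_spec (h : chkPairs D X = true) :
    D.nroots - 1 < D.nroots ∧ half D ≤ D.nroots - 1 ∧ D.neg (D.nroots - 1) = 0 ∧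
    (∀ s, s < D.nroots → s = 0 ∨ half D ≤ s ∨ lift D X (D.nroots + 1) (D.nroots - 1) s = true) ∧
    ∀ s, s < D.nroots → half D ≤ s → s ≠ D.nroots - 1 →
      s ≠ D.neg (D.nroots - 1) ∧ D.commTerms (D.nroots - 1) s = [] := by
  simp only [chkPairs, Bool.and_eq_true, List.all_eq_true, List.mem_range, Bool.or_eq_true, nat_beq_iff, nat_ble_iff,
    nat_blt_iff, Bool.not_eq_true', List.isEmpty_iff] at h
  obtain ⟨⟨⟨⟨h1, h2⟩, h3⟩, h4⟩, h5⟩ := h
  refine ⟨h2, h1, h3, fun s hs => or_assoc.1 (h4 s hs), fun s hs hp hne => ?_⟩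
  rcases h5 s hs with (h | h) | ⟨ha, hb⟩
  · exact absurd h hne
  · exact absurd hp h.not_ge
  · exact ⟨fun e => by simp [e] at ha, hb⟩

theorem lift_spec : ∀ (fuel : ℕ) (a s : Fin D.nroots), lift D X fuel a s = true →
    ∃ n : R.NS, half D ≤ (R.nsPerm n a : ℕ) ∧ half D ≤ (R.nsPerm n s : ℕ) := by
  intro fuel
  induction fuel with
  | zero => intro a s h; simp [lift] at h
  | succ fuel ih =>
    intro a s h
    unfold lift at h
    by_cases hs : half D ≤ (s : ℕ)
    · rw [if_pos (nat_ble_iff.2 hs), nat_ble_iff] at h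
      exact ⟨1, by rw [map_one]; exact h, by rw [map_one]; exact hs⟩
    · rw [if_neg (fun e => hs (nat_ble_iff.1 e))] at h
      cases hf : (List.range D.rank).find? _ with
      | none => rw [hf] at h; simp at h
      | some i =>
        rw [hf] at h
        have hi := List.mem_range.1 (List.mem_of_find?_eq_some hf)
        obtain ⟨n, h1, h2⟩ := ih (R.wperm ⟨i, hi⟩ a) (R.wperm ⟨i, hi⟩ s) h
        exact ⟨n * R.nS ⟨i, hi⟩, by rwa [map_mul, Equiv.Perm.mul_apply, R.nsPerm_nS],
          by rwa [map_mul, Equiv.Perm.mul_apply, R.nsPerm_nS]⟩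

theorem pair (h : chkPairs D X = true) {p : ℕ} (hU : IsPGroup p R.UP) (g : G) (A : Subgroup G)
    (hA : A = R.US {⟨_, (pairs_spec h).1⟩}) :
    IsPGroup p ↥(A ⊔ A.map (MulAut.conj g).toMonoidHom) ∨
      ∃ x : G, (A ⊔ A.map (MulAut.conj g).toMonoidHom).map (MulAut.conj x).toMonoidHom =
        A ⊔ R.US {⟨0, Nat.zero_lt_of_lt (pairs_spec h).1⟩} := by
  obtain ⟨hR, hRp, hneg, hlift, hcomm⟩ := pairs_spec h
  obtain ⟨b, hb, n, u, hu, rfl⟩ := R.exists_bnu g
  obtain ⟨v, hv, t, ht, rfl⟩ := R.exists_of_mem_BS hb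
  have hUA : ∀ x ∈ R.UP, A.map (MulAut.conj x).toMonoidHom = A := by
    intro x hx
    have hc : ∀ a ∈ A, x * a * x⁻¹ = a := by
      intro a ha
      have hcl : A ≤ Subgroup.centralizer (R.UP : Set G) := by
        rw [hA]
        refine R.US_le fun r hr t => ?_
        obtain rfl : r = ⟨_, hR⟩ := hr
        rw [Subgroup.mem_centralizer_iff]
        intro y hy
        have : R.UP ≤ Subgroup.centralizer {R.xe (D.nroots - 1) t} := R.US_le fun s hs u => by
          rw [Subgroup.mem_centralizer_singleton_iff]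
          by_cases he : (s : ℕ) = D.nroots - 1
          · rw [he, R.xe_add', R.xe_add', add_comm]
          · obtain ⟨hne, hnil⟩ := hcomm s s.2 hs he
            have := R.xe_comm (D.nroots - 1) s t u hR s.2 he hne
            simp only [ChevalleyDatum.commWord, hnil, List.map_nil, List.prod_nil, mul_one] at this
            exact this
        exact Subgroup.mem_centralizer_singleton_iff.1 (this hy)
      rw [Subgroup.mem_centralizer_iff.1 (hcl ha) x hx, mul_inv_cancel_right]
    ext y
    constructor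
    · rintro ⟨a, ha, rfl⟩; show x * a * x⁻¹ ∈ A; rw [hc a ha]; exact ha
    · intro hy; exact ⟨y, hy, hc y hy⟩
  have hmon : ∀ (m : R.NS) (r : Fin D.nroots),
      (R.US {r}).map (MulAut.conj (m : G)).toMonoidHom = R.US {R.nsPerm m r} := by
    intro m r
    obtain ⟨a, ha⟩ := R.isMon_nsPerm m
    refine le_antisymm ?_ (R.US_le fun s hs c => ?_)
    · rw [Subgroup.map_le_iff_le_comap]
      refine R.US_le fun s hs c => ?_
      have hsr : s = r := hs
      show (m : G) * R.xe s c * (m : G)⁻¹ ∈ R.US {R.nsPerm m r}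
      rw [(ha s).2.2.2 c, hsr]
      exact R.xe_mem_US (Set.mem_singleton _) _
    · obtain rfl : s = R.nsPerm m r := hs
      refine ⟨R.xe r ((a r)⁻¹ * c), R.xe_mem_US (Set.mem_singleton _) _, ?_⟩
      show (m : G) * R.xe r ((a r)⁻¹ * c) * (m : G)⁻¹ = _
      rw [(ha r).2.2.2, mul_inv_cancel_left₀ (ha r).1]
  have hmul : ∀ (x y : G) (B : Subgroup G), B.map (MulAut.conj (x * y)).toMonoidHom =
      (B.map (MulAut.conj y).toMonoidHom).map (MulAut.conj x).toMonoidHom := fun x y B => by
    rw [Subgroup.map_map]; congr 1; ext z; simp [mul_assoc]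
  obtain ⟨m, hm⟩ : ∃ m : R.NS, m = ⟨t, R.HS_le_NS ht⟩ * n := ⟨_, rfl⟩
  obtain ⟨s, hs⟩ : ∃ s, s = R.nsPerm m ⟨_, hR⟩ := ⟨_, rfl⟩
  have hT : A ⊔ A.map (MulAut.conj (v * t * n * u)).toMonoidHom =
      (A ⊔ R.US {s}).map (MulAut.conj v).toMonoidHom := by
    rw [Subgroup.map_sup, hUA v hv, hs, ← hmon, ← hA, ← hmul, hm, hmul (v * t * n) u,
      hUA u (R.US_mono (Rel.invSet_subset _) hu)]
    congr 3
    simp [mul_assoc]
  rw [hT]
  rcases hlift s s.2 with h0 | hp | hl
  · right
    refine ⟨v⁻¹, ?_⟩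
    rw [← hmul, inv_mul_cancel, show s = ⟨0, Nat.zero_lt_of_lt hR⟩ from Fin.ext h0]
    ext z; simp
  · left
    refine (hU.to_le ?_).map _
    rw [hA]
    exact sup_le (R.US_mono (by intro r hr; obtain rfl : r = ⟨_, hR⟩ := hr; exact hRp))
      (R.US_mono (by intro r hr; obtain rfl : r = s := hr; exact hp))
  · left
    obtain ⟨w, h1, h2⟩ := lift_spec R _ ⟨_, hR⟩ s hl
    refine IsPGroup.map ?_ _
    have hle : (A ⊔ R.US {s}).map (MulAut.conj (w : G)).toMonoidHom ≤ R.UP := by
      rw [Subgroup.map_sup, hA, hmon, hmon]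
      exact sup_le (R.US_mono (by intro r hr; obtain rfl : r = _ := hr; exact h1))
        (R.US_mono (by intro r hr; obtain rfl : r = _ := hr; exact h2))
    exact IsPGroup.of_equiv (hU.to_le hle) (Subgroup.equivMapOfInjective _ _ (MulAut.conj (w : G)).injective).symm

theorem chev [Fintype F] (C : Cert D X) (h : chkPairs D X = true) (p : ℕ) [Fact p.Prime] [CharP F p]
    (g : GL D.Idx F) (hg : g ∈ D.group F) :
    IsPGroup p ↥(D.rootSubgroup F (D.nroots - 1) ⊔ (D.rootSubgroup F (D.nroots - 1)).map (MulAut.conj g).toMonoidHom) ∨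
    ∃ x ∈ D.group F, (D.rootSubgroup F (D.nroots - 1) ⊔ (D.rootSubgroup F (D.nroots - 1)).map
        (MulAut.conj g).toMonoidHom).map (MulAut.conj x).toMonoidHom =
      D.rootSubgroup F (D.nroots - 1) ⊔ D.rootSubgroup F 0 := by
  obtain ⟨P, hP⟩ := pos_unipotent_sylow C F p
  rw [posUnipotent_eq C F, subgroupOf_map C F] at hP
  have hR := (pairs_spec h).1
  have hmap : ∀ (x : ↥(D.group F)) (B : Subgroup ↥(D.group F)),
      (B.map (D.group F).subtype).map (MulAut.conj (x : GL D.Idx F)).toMonoidHom =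
        (B.map (MulAut.conj x).toMonoidHom).map (D.group F).subtype := fun x B => by
    rw [Subgroup.map_map, Subgroup.map_map]; congr 1
  rw [rootSubgroup_eq C F hR, rootSubgroup_eq C F (Nat.zero_lt_of_lt hR), hmap ⟨g, hg⟩, ← Subgroup.map_sup,
    ← Subgroup.map_sup]
  rcases pair (chevRel C F) h (p := p) (hP ▸ P.2) ⟨g, hg⟩ _ rfl with h1 | ⟨x, hx⟩
  · exact Or.inl (h1.map _)
  · exact Or.inr ⟨x, x.2, by rw [hmap, hx]⟩

end CfsgLib.Known.ChevRootPair
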