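import Cfsg.Prelude.Def_ChevAutomorphisms
import Cfsg.Agent.Lib.Lie.Rel.Checks
import Cfsg.Agent.Lib.Lie.Rel.Inst
import Cfsg.Agent.Lib.Known.ChevGen

/-!
# Chevalley groups are generated by the monomial subgroup and one short fundamental root subgroup
-/

set_option autoImplicit false

namespace CfsgLib.Known.ChevShort

open Cfsg.Lie (ChevalleyDatum)
open CfsgLib.Lie.Chev

/-- a bond along which generation propagates from node `k` to node `j` -/
def chkLink (D : ChevalleyDatum) (X : Aux) (ok : ℤ → Bool) (k j : ℕ) : Bool :=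
  Nat.beq (X.w k (X.w j (D.simple k))) (D.simple j) ||
    chkPair D ok j (X.w j (D.simple k)) (D.neg (D.simple k))

/-- nodes reached from `S` in `n` steps -/
def grow (D : ChevalleyDatum) (X : Aux) (ok : ℤ → Bool) (S : List ℕ) : ℕ → List ℕ
  | 0 => S
  | n + 1 => (List.range D.rank).filter fun j =>
      (grow D X ok S n).any fun k => Nat.beq k j || Nat.blt k D.rank && chkLink D X ok k j

/-- every node is reached from any short node -/
def chkOne (D : ChevalleyDatum) (X : Aux) (ok : ℤ → Bool) : Bool :=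
  (List.range D.rank).all fun i => D.isLong (D.simple i) ||
    let L := grow D X ok [i] D.rank
    (List.range D.rank).all fun j => L.any fun k => Nat.beq k j

/-- every node is reached from any bonded pair of nodes of different lengths -/
def chkTwo (D : ChevalleyDatum) (X : Aux) : Bool :=
  (List.range D.rank).all fun i => (List.range D.rank).all fun j =>
    D.isLong (D.simple i) || !D.isLong (D.simple j) || decide (D.bonds i j = 0) ||
    let L := grow D X (fun _ => false) [i, j] D.rank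
    (List.range D.rank).all fun m => L.any fun k => Nat.beq k m

variable {D : ChevalleyDatum} {X : Aux} {F : Type*} [Field F] {G : Type*} [Group G] (R : Rel D X F G)

theorem link_spec {H : Subgroup G} (hN : R.NS ≤ H) {ok : ℤ → Bool} (hok : ∀ c, ok c = true → (c : F) ≠ 0) {k j : ℕ}
    (hk : k < D.rank) (hj : j < D.rank) (h : chkLink D X ok k j = true) (hx : ∀ t, R.xe (D.simple k) t ∈ H) :
    ∀ t, R.xe (D.simple j) t ∈ H := by
  have hw : ∀ i < D.rank, ∀ r < D.nroots, (∀ t, R.xe r t ∈ H) → ∀ t, R.xe (X.w i r) t ∈ H := by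
    intro i hi r hr hP t
    have h1 := R.nconj i r 1 ((X.eta i r : F) * t) hi hr one_ne_zero
    rw [one_zpow, mul_one, ← mul_assoc, X.eta_sq_cast, one_mul, ← mul_inv_eq_iff_eq_mul] at h1
    rw [← h1]
    exact mul_mem (mul_mem (hN (R.ne_simple_mem_NS ⟨i, hi⟩ one_ne_zero)) (hP _))
      (inv_mem (hN (R.ne_simple_mem_NS ⟨i, hi⟩ one_ne_zero)))
  have hk' := R.cert.simple_lt hk
  have hr := hw j hj _ hk' hx
  rw [chkLink, Bool.or_eq_true, nat_beq_iff] at h
  rcases h with h | h
  · rw [← h]; exact hw k hk _ (R.cert.w_lt hj hk') hr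
  · have hneg := hw k hk _ hk' hx
    rw [R.cert.w_simple hk] at hneg
    obtain ⟨h1, h2, E, hE, e⟩ := chkPair_spec h
    have hE' := hok E hE
    intro t
    have h3 := R.xe_comm (X.w j (D.simple k)) (D.neg (D.simple k)) (-t / E) 1 (R.cert.w_lt hj hk')
      (R.cert.neg_lt hk') h1 h2
    simp only [ChevalleyDatum.commWord, e, List.map_cons, List.map_nil, List.prod_cons, List.prod_nil, mul_one,
      pow_one] at h3
    rw [show (E : F) * -(-t / E) = t by field_simp] at h3
    rw [show R.xe (D.simple j) t = (R.xe (X.w j (D.simple k)) (-t / E) * R.xe (D.neg (D.simple k)) 1)⁻¹ *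
      (R.xe (D.neg (D.simple k)) 1 * R.xe (X.w j (D.simple k)) (-t / E)) by rw [h3]; group]
    exact mul_mem (inv_mem (mul_mem (hr _) (hneg _))) (mul_mem (hneg _) (hr _))

theorem grow_spec {H : Subgroup G} (hN : R.NS ≤ H) {ok : ℤ → Bool} (hok : ∀ c, ok c = true → (c : F) ≠ 0)
    {S : List ℕ} (hS : ∀ i ∈ S, ∀ t, R.xe (D.simple i) t ∈ H) :
    ∀ n, ∀ j ∈ grow D X ok S n, ∀ t, R.xe (D.simple j) t ∈ H := by
  intro n
  induction n with
  | zero => exact hS
  | succ n ih =>
    intro j hj
    simp only [grow, List.mem_filter, List.mem_range, List.any_eq_true, Bool.or_eq_true, nat_beq_iff,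
      Bool.and_eq_true, nat_blt_iff] at hj
    obtain ⟨hj, k, hk, rfl | ⟨hkr, hl⟩⟩ := hj
    · exact ih _ hk
    · exact link_spec R hN hok hkr hj hl (ih k hk)

theorem eq_top_of_grow {H : Subgroup G} (hN : R.NS ≤ H) {ok : ℤ → Bool} (hok : ∀ c, ok c = true → (c : F) ≠ 0)
    {S : List ℕ} (hS : ∀ i ∈ S, ∀ t, R.xe (D.simple i) t ∈ H)
    (h : ∀ j < D.rank, ∃ k ∈ grow D X ok S D.rank, k = j) : H = ⊤ := by
  refine CfsgLib.Known.ChevGen.eq_top_of_simple R H fun i t => ?_
  obtain ⟨k, hk, rfl⟩ := h i i.2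
  refine ⟨grow_spec R hN hok hS _ _ hk t, ?_⟩
  have h1 := R.nconj i (D.simple i) 1 ((X.eta i (D.simple i) : F) * t) i.2 (R.cert.simple_lt i.2) one_ne_zero
  rw [one_zpow, mul_one, ← mul_assoc, X.eta_sq_cast, one_mul, ← mul_inv_eq_iff_eq_mul, R.cert.w_simple i.2] at h1
  rw [← h1]
  exact mul_mem (mul_mem (hN (R.ne_simple_mem_NS i one_ne_zero)) (grow_spec R hN hok hS _ _ hk _))
    (inv_mem (hN (R.ne_simple_mem_NS i one_ne_zero)))

theorem le_sup_one (C : Cert D X) {ok : ℤ → Bool} (hok : ∀ c, ok c = true → (c : F) ≠ 0)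
    (h : chkOne D X ok = true) {i : ℕ} (hi : i < D.rank) (hshort : D.isLong (D.simple i) = false) :
    D.group F ≤ D.monomialSubgroup F ⊔ D.rootSubgroup F (D.simple i) := by
  obtain ⟨H, hH⟩ : ∃ H, H = (chevRel C F).NS ⊔ Subgroup.closure {g | ∃ t, g = (chevRel C F).xe (D.simple i) t} :=
    ⟨_, rfl⟩
  simp only [chkOne, List.all_eq_true, List.mem_range, Bool.or_eq_true, List.any_eq_true, nat_beq_iff] at h
  have h' := (h i hi).resolve_left (by rw [hshort]; simp)
  have htop : H = ⊤ := eq_top_of_grow (chevRel C F) (hH ▸ le_sup_left) hok (S := [i])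
    (fun k hk t => by
      rw [List.mem_singleton] at hk; subst hk
      rw [hH]; exact le_sup_right (a := (chevRel C F).NS) (Subgroup.subset_closure ⟨t, rfl⟩))
    fun j hj => h' j hj
  intro g hg
  have h1 : (⟨g, hg⟩ : ↥(D.group F)) ∈ H := by rw [htop]; exact Subgroup.mem_top _
  rw [hH] at h1
  have h2 := Subgroup.mem_map_of_mem (D.group F).subtype h1
  rw [Subgroup.map_sup, ← monomialSubgroup_eq C F] at h2
  refine SetLike.le_def.1 (sup_le le_sup_left ?_) h2
  rw [MonoidHom.map_closure]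
  refine le_trans ((Subgroup.closure_le _).2 ?_) le_sup_right
  rintro _ ⟨_, ⟨t, rfl⟩, rfl⟩
  exact Subgroup.subset_closure ⟨t, (chevRel C F).θ_xe _ t⟩

theorem le_sup_two (C : Cert D X) (h : chkTwo D X = true) {i j : ℕ} (hi : i < D.rank) (hj : j < D.rank)
    (hshort : D.isLong (D.simple i) = false) (hlong : D.isLong (D.simple j) = true) (hb : D.bonds i j ≠ 0) :
    D.group F ≤ D.monomialSubgroup F ⊔ D.rootSubgroup F (D.simple i) ⊔ D.rootSubgroup F (D.simple j) := by
  obtain ⟨H, hH⟩ : ∃ H, H = (chevRel C F).NS ⊔ Subgroup.closure {g | ∃ t, g = (chevRel C F).xe (D.simple i) t} ⊔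
      Subgroup.closure {g | ∃ t, g = (chevRel C F).xe (D.simple j) t} := ⟨_, rfl⟩
  simp only [chkTwo, List.all_eq_true, List.mem_range, Bool.or_eq_true, List.any_eq_true, nat_beq_iff,
    decide_eq_true_iff, Bool.not_eq_true'] at h
  have h' := (h i hi j hj).resolve_left (by simp [hshort, hlong, hb])
  have htop : H = ⊤ := eq_top_of_grow (chevRel C F) (hH ▸ le_sup_left.trans le_sup_left) (ok := fun _ => false)
    (by simp) (S := [i, j])
    (fun k hk t => by
      rw [hH]
      simp only [List.mem_cons, List.not_mem_nil, or_false] at hk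
      rcases hk with rfl | rfl
      · exact (le_sup_right.trans le_sup_left :
          Subgroup.closure {g | ∃ t, g = (chevRel C F).xe (D.simple k) t} ≤ _) (Subgroup.subset_closure ⟨t, rfl⟩)
      · exact (le_sup_right :
          Subgroup.closure {g | ∃ t, g = (chevRel C F).xe (D.simple k) t} ≤ _) (Subgroup.subset_closure ⟨t, rfl⟩))
    fun m hm => h' m hm
  intro g hg
  have h1 : (⟨g, hg⟩ : ↥(D.group F)) ∈ H := by rw [htop]; exact Subgroup.mem_top _
  rw [hH] at h1
  have h2 := Subgroup.mem_map_of_mem (D.group F).subtype h1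
  rw [Subgroup.map_sup, Subgroup.map_sup, ← monomialSubgroup_eq C F, MonoidHom.map_closure,
    MonoidHom.map_closure] at h2
  refine SetLike.le_def.1 (sup_le (sup_le (le_sup_left.trans le_sup_left) ?_) ?_) h2
  · refine le_trans ((Subgroup.closure_le _).2 ?_) (le_sup_right.trans le_sup_left)
    rintro _ ⟨_, ⟨t, rfl⟩, rfl⟩
    exact Subgroup.subset_closure ⟨t, (chevRel C F).θ_xe _ t⟩
  · refine le_trans ((Subgroup.closure_le _).2 ?_) le_sup_right
    rintro _ ⟨_, ⟨t, rfl⟩, rfl⟩
    exact Subgroup.subset_closure ⟨t, (chevRel C F).θ_xe _ t⟩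

/-- coefficients invertible in characteristic not 2 -/
def ok2 : ℤ → Bool := fun c => decide (c = 1 ∨ c = -1 ∨ c = 2 ∨ c = -2)
/-- coefficients invertible in characteristic not 3 -/
def ok3 : ℤ → Bool := fun c => decide (c = 1 ∨ c = -1 ∨ c = 3 ∨ c = -3)

theorem ok2_spec (h : ringChar F ≠ 2) : ∀ c, ok2 c = true → (c : F) ≠ 0 := by
  intro c hc
  have h2 : (2 : F) ≠ 0 := Ring.two_ne_zero h
  rcases of_decide_eq_true hc with rfl | rfl | rfl | rfl <;> simp [h2]

theorem ok3_spec (h : ringChar F ≠ 3) : ∀ c, ok3 c = true → (c : F) ≠ 0 := by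
  intro c hc
  have h3 : (3 : F) ≠ 0 := fun h3 => h (by
    have hd : ringChar F ∣ 3 := ringChar.dvd (by exact_mod_cast h3)
    rcases (Nat.dvd_prime Nat.prime_three).1 hd with h1 | h1
    · exact absurd h1 (CharP.ringChar_ne_one)
    · exact h1)
  rcases of_decide_eq_true hc with rfl | rfl | rfl | rfl <;> simp [h3]

theorem oneB2 : chkOne Cfsg.Lie.chevB2 auxB2 ok2 = true := by decide +kernel
theorem oneF4 : chkOne Cfsg.Lie.chevF4 auxF4 ok2 = true := by decide +kernel
theorem oneG2 : chkOne Cfsg.Lie.chevG2 auxG2 ok3 = true := by decide +kernel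
theorem oneD4 : chkOne Cfsg.Lie.chevD4 auxD4 (fun _ => false) = true := by decide +kernel
theorem oneE6 : chkOne Cfsg.Lie.chevE6 auxE6 (fun _ => false) = true := by decide +kernel
theorem oneE7 : chkOne Cfsg.Lie.chevE7 auxE7 (fun _ => false) = true := by decide +kernel
theorem oneE8 : chkOne Cfsg.Lie.chevE8 auxE8 (fun _ => false) = true := by decide +kernel
theorem twoB2 : chkTwo Cfsg.Lie.chevB2 auxB2 = true := by decide +kernel
theorem twoF4 : chkTwo Cfsg.Lie.chevF4 auxF4 = true := by decide +kernel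
theorem twoG2 : chkTwo Cfsg.Lie.chevG2 auxG2 = true := by decide +kernel

end CfsgLib.Known.ChevShort
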