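import Cfsg.Agent.Lib.Known.ChevFixed
import Cfsg.Agent.Lib.Lie.Rel.BN
import Cfsg.Agent.Lib.Lie.Rel.Poincare

/-!
# Centralizer and normalizer of a subfield subgroup
-/

set_option autoImplicit false

namespace CfsgLib.Known.ChevSubfield

open Cfsg.Lie (ChevalleyDatum)
open CfsgLib.Lie.Chev
open CfsgLib.Known.ChevFixed

variable {D : ChevalleyDatum} {X : Aux} (C : Cert D X) {F : Type*} [Field F] (σ : F ≃+* F)

/-- root elements with parameters fixed by `σ` -/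
def LS : Subgroup ↥(D.group F) :=
  Subgroup.closure {g | ∃ (s : ℕ) (t : F), σ t = t ∧ g = (chevRel C F).xe s t}

theorem xe_mem_LS (s : ℕ) {t : F} (ht : σ t = t) : (chevRel C F).xe s t ∈ LS C σ :=
  Subgroup.subset_closure ⟨s, t, ht, rfl⟩

theorem ne_mem_LS (r : ℕ) : (chevRel C F).ne r 1 ∈ LS C σ :=
  mul_mem (mul_mem (xe_mem_LS C σ _ (map_one σ)) (xe_mem_LS C σ _ (by rw [inv_one, map_neg, map_one])))
    (xe_mem_LS C σ _ (map_one σ))

theorem exists_rep (n : (chevRel C F).NS) :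
    ∃ n' : (chevRel C F).NS, (chevRel C F).qmk n' = (chevRel C F).qmk n ∧ (n' : ↥(D.group F)) ∈ LS C σ := by
  obtain ⟨l, hl⟩ := (chevRel C F).exists_word n
  refine ⟨(l.map (chevRel C F).nS).prod, ?_, ?_⟩
  · rw [hl, map_list_prod, List.map_map]; rfl
  · rw [SubmonoidClass.coe_list_prod, List.map_map]
    refine list_prod_mem fun x hx => ?_
    obtain ⟨i, -, rfl⟩ := List.mem_map.1 hx
    exact ne_mem_LS C σ _

theorem centralizer_trivial {g : ↥(D.group F)} (hg : ∀ x ∈ LS C σ, g * x = x * g) : g = 1 := by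
  obtain ⟨R, hR⟩ : ∃ R, R = chevRel C F := ⟨_, rfl⟩
  subst hR
  have hB : ∀ g : ↥(D.group F), (∀ x ∈ LS C σ, g * x = x * g) → g ∈ (chevRel C F).BS := by
    intro g hg
    obtain ⟨b, hb, n, u, hu, rfl⟩ := (chevRel C F).exists_bnu g
    by_cases h1 : (chevRel C F).qmk n = 1
    · exact mul_mem (mul_mem hb ((chevRel C F).HS_le_BS ((chevRel C F).qmk_eq_one.1 h1)))
        ((chevRel C F).UP_le_BS ((chevRel C F).US_mono (Rel.invSet_subset _) hu))
    exfalso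
    obtain ⟨i, hi⟩ := (chevRel C F).exists_descent h1
    rw [(chevRel C F).qact_qmk] at hi
    have hp := (chevRel C F).sroot_pos i
    have hx : (chevRel C F).xe (D.simple i) 1 ∈ (chevRel C F).US (invSet ((chevRel C F).nsPerm n)) :=
      (chevRel C F).xe_mem_US (r := (chevRel C F).sroot i)
        (show (chevRel C F).sroot i ∈ invSet ((chevRel C F).nsPerm n) from ⟨hp, hi⟩) 1
    have hxB : (chevRel C F).xe (D.simple i) 1 ∈ (chevRel C F).BS :=
      (chevRel C F).xe_pos_mem_BS (r := (chevRel C F).sroot i) hp 1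
    obtain ⟨-, e⟩ := (chevRel C F).bnu_unique (mul_mem hxB hb) hb hu (mul_mem hu hx) (by
      rw [mul_assoc ((chevRel C F).xe (D.simple i) 1) b, mul_assoc ((chevRel C F).xe (D.simple i) 1),
        ← hg _ (xe_mem_LS C σ _ (map_one σ))]
      group)
    have h2 : (chevRel C F).xe (D.simple i) 1 = (chevRel C F).xe (D.simple i) 0 := by
      rw [(chevRel C F).xe_zero]; exact mul_eq_left.1 e.symm
    exact one_ne_zero ((chevRel C F).xe_inj_param (r := (chevRel C F).sroot i) h2)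
  obtain ⟨n0, hn0⟩ := (chevRel C F).exists_opposite
  obtain ⟨n, hn, hnL⟩ := exists_rep C σ n0
  have hperm : (chevRel C F).nsPerm n = (chevRel C F).nsPerm n0 := by
    rw [← (chevRel C F).qact_qmk, hn]; rfl
  obtain ⟨a, ha⟩ := (chevRel C F).isMon_nsPerm n
  have hgB := hB g hg
  obtain ⟨u, hu, h, hh, e⟩ := (chevRel C F).exists_of_mem_BS hgB
  have hgH : g ∈ (chevRel C F).HS := by
    refine (chevRel C F).BS_inf_UN_HS hgB ?_
    have hc : (n : ↥(D.group F)) * g * (n : ↥(D.group F))⁻¹ = g := by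
      rw [← hg _ hnL, mul_inv_cancel_right]
    rw [← hc, e, show (n : ↥(D.group F)) * (u * h) * (n : ↥(D.group F))⁻¹ =
      (n * u * (n : ↥(D.group F))⁻¹) * (n * h * (n : ↥(D.group F))⁻¹) by group]
    refine mul_mem ((le_sup_left : (chevRel C F).UN ≤ _) ?_) ((le_sup_right : (chevRel C F).HS ≤ _)
      ((chevRel C F).HS_conj n.2 hh))
    exact Rel.IsMon.conj_mem_US (chevRel C F) ha (T := negSet D)
      (fun r hr => fun hp => (hn0 r).1 (hperm ▸ hp) hr) hu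
  refine chevRel_injective C F ?_
  rw [map_one]
  refine (chevRel C F).θ_eq_one_of_char hgH fun b hb r => ?_
  have h1 := (hb r).2.2.2 1
  rw [hg _ (xe_mem_LS C σ _ (map_one σ)), mul_inv_cancel_right, Equiv.Perm.one_apply, mul_one] at h1
  exact ((chevRel C F).xe_inj_param (r := r) h1).symm

theorem fixed_eq {g : ↥(D.group F)} (hg : fieldAut D σ g = g) :
    ∃ l ∈ LS C σ, ∃ h ∈ (chevRel C F).HS, fieldAut D σ h = h ∧ g = l * h := by
  have hfix : ∀ x ∈ LS C σ, fieldAut D σ x = x := by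
    intro x hx
    have : LS C σ ≤ (fieldAut D σ).toMonoidHom.eqLocus (MonoidHom.id _) := by
      refine (Subgroup.closure_le _).2 ?_
      rintro _ ⟨s, t, ht, rfl⟩
      show fieldAut D σ _ = _
      rw [fieldAut_xe, ht]; rfl
    exact this hx
  obtain ⟨b, hb, n, u, hu, rfl⟩ := (chevRel C F).exists_bnu g
  obtain ⟨n', hqn, hn'L⟩ := exists_rep C σ n
  have hH : (n : ↥(D.group F)) * (n' : ↥(D.group F))⁻¹ ∈ (chevRel C F).HS :=
    (chevRel C F).qmk_eq_one (g := n * n'⁻¹) |>.1 (by rw [map_mul, map_inv, hqn, mul_inv_cancel])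
  have hperm : (chevRel C F).nsPerm n' = (chevRel C F).nsPerm n := by
    rw [← (chevRel C F).qact_qmk, hqn]; rfl
  rw [← hperm] at hu
  obtain ⟨b', hb'def⟩ : ∃ b', b' = b * ((n : ↥(D.group F)) * (n' : ↥(D.group F))⁻¹) := ⟨_, rfl⟩
  have hb' : b' ∈ (chevRel C F).BS := hb'def ▸ mul_mem hb ((chevRel C F).HS_le_BS hH)
  have hform : b * (n : ↥(D.group F)) * u = b' * n' * u := by rw [hb'def]; group
  rw [hform] at hg ⊢
  rw [map_mul, map_mul, hfix _ hn'L] at hg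
  obtain ⟨eb, eu⟩ := (chevRel C F).bnu_unique (fieldAut_mem_BS C σ hb') hb' (fieldAut_mem_US C σ _ hu) hu hg
  have hUP : ∀ v ∈ (chevRel C F).UP, fieldAut D σ v = v → v ∈ LS C σ := by
    intro v hv hfv
    obtain ⟨t, rfl⟩ := (chevRel C F).exists_oprod_UP hv
    rw [fieldAut_oprod] at hfv
    have ht := (chevRel C F).oprod_inj (half D) (half D) _ t le_rfl (by have := C.nroots_eq; omega)
      (congrArg (chevRel C F).θ hfv)
    refine list_prod_mem fun x hx => ?_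
    obtain ⟨r, hr, rfl⟩ := List.mem_map.1 hx
    rw [List.mem_range'_1] at hr
    exact xe_mem_LS C σ _ (ht r hr.1 hr.2)
  obtain ⟨v, hv, h, hh, rfl⟩ := (chevRel C F).exists_of_mem_BS hb'
  rw [map_mul] at eb
  have h1 : v⁻¹ * fieldAut D σ v = h * (fieldAut D σ h)⁻¹ := by
    rw [eq_mul_inv_iff_mul_eq, mul_assoc, eb]; group
  have h2 : v⁻¹ * fieldAut D σ v ∈ (chevRel C F).UP ⊓ (chevRel C F).HS :=
    Subgroup.mem_inf.2 ⟨mul_mem (inv_mem hv) (fieldAut_mem_US C σ _ hv), h1 ▸ mul_mem hh (inv_mem (fieldAut_mem_HS C σ hh))⟩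
  rw [(chevRel C F).UP_inf_HS, Subgroup.mem_bot, inv_mul_eq_one] at h2
  rw [← h2, inv_mul_cancel] at h1
  have h3 : fieldAut D σ h = h := (inv_inv (fieldAut D σ h)).symm.trans (inv_eq_of_mul_eq_one_left h1.symm)
  have huL : (n' : ↥(D.group F)) * u ∈ LS C σ :=
    mul_mem hn'L (hUP u ((chevRel C F).US_mono (Rel.invSet_subset _) hu) eu)
  refine ⟨v * (h * ((n' : ↥(D.group F)) * u) * h⁻¹), mul_mem (hUP v hv h2.symm) ?_, h, hh, h3, by group⟩
  exact conj_mem hh h3 huL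
where
  conj_mem {h x : ↥(D.group F)} (hh : h ∈ (chevRel C F).HS) (h3 : fieldAut D σ h = h) (hx : x ∈ LS C σ) :
      h * x * h⁻¹ ∈ LS C σ := by
    have : LS C σ ≤ (LS C σ).comap (MulAut.conj h).toMonoidHom := by
      refine (Subgroup.closure_le _).2 ?_
      rintro _ ⟨s, t, ht, rfl⟩
      show h * (chevRel C F).xe s t * h⁻¹ ∈ LS C σ
      by_cases hs : s < D.nroots
      · obtain ⟨a, ha⟩ := (chevRel C F).isMon_of_mem_HS hh
        have e := (ha ⟨s, hs⟩).2.2.2 t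
        rw [Equiv.Perm.one_apply] at e
        rw [e]
        refine xe_mem_LS C σ _ ?_
        have h4 := congrArg (fieldAut D σ) e
        rw [map_mul, map_mul, map_inv, h3, fieldAut_xe, fieldAut_xe, ht, e] at h4
        exact ((chevRel C F).xe_inj_param (r := ⟨s, hs⟩) h4).symm
      · rw [(chevRel C F).xe_oob s t hs, mul_one, mul_inv_cancel]; exact one_mem _
    exact this hx

theorem main (K : Subgroup (GL D.Idx F)) (hKG : K ≤ D.group F)
    (hLK : ∀ g ∈ LS C σ, (g : GL D.Idx F) ∈ K)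
    (hKfix : ∀ g ∈ K, ∀ i j : D.Idx, σ ((g : Matrix D.Idx D.Idx F) i j) = (g : Matrix D.Idx D.Idx F) i j) :
    D.group F ⊓ Subgroup.centralizer (K : Set (GL D.Idx F)) = ⊥ ∧
    ∀ g : GL D.Idx F, g ∈ D.group F → (g ∈ Subgroup.normalizer (K : Set (GL D.Idx F)) ↔
      ∀ i j : D.Idx, σ ((g : Matrix D.Idx D.Idx F) i j) = (g : Matrix D.Idx D.Idx F) i j) := by
  have hval : ∀ g : ↥(D.group F), fieldAut D σ g = g ↔
      ∀ i j, σ (((g : GL D.Idx F) : Matrix D.Idx D.Idx F) i j) = ((g : GL D.Idx F) : Matrix D.Idx D.Idx F) i j :=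
    fun g => ⟨fun h i j => congrFun (congrFun (congrArg (fun x : ↥(D.group F) =>
      ((x : GL D.Idx F) : Matrix D.Idx D.Idx F)) h) i) j, fun h => Subtype.ext (Units.ext (Matrix.ext h))⟩
  have hcent : ∀ x : ↥(D.group F), (∀ y ∈ K, y * (x : GL D.Idx F) = x * y) → x = 1 := fun x hx =>
    centralizer_trivial C σ fun y hy => Subtype.ext (hx y (hLK y hy)).symm
  refine ⟨?_, fun g hg => ⟨fun hN => ?_, fun hfix => ?_⟩⟩
  · rw [eq_bot_iff]
    rintro g ⟨hg, hc⟩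
    exact Subgroup.mem_bot.2 (congrArg Subtype.val (hcent ⟨g, hg⟩ fun y hy => Subgroup.mem_centralizer_iff.1 hc y hy))
  · rw [Subgroup.mem_normalizer_iff] at hN
    refine (hval ⟨g, hg⟩).1 ?_
    obtain ⟨x, hx⟩ : ∃ x : ↥(D.group F), x = (⟨g, hg⟩ : ↥(D.group F))⁻¹ * fieldAut D σ ⟨g, hg⟩ := ⟨_, rfl⟩
    suffices x = 1 by rw [this, eq_comm, inv_mul_eq_one] at hx; exact hx.symm
    refine hcent x fun y hy => ?_
    have e1 : fieldAut D σ ⟨y, hKG hy⟩ = ⟨y, hKG hy⟩ := (hval _).2 (hKfix y hy)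
    have e2 : fieldAut D σ (⟨g, hg⟩ * ⟨y, hKG hy⟩ * (⟨g, hg⟩ : ↥(D.group F))⁻¹) =
        ⟨g, hg⟩ * ⟨y, hKG hy⟩ * (⟨g, hg⟩ : ↥(D.group F))⁻¹ := (hval _).2 (hKfix _ ((hN y).1 hy))
    rw [map_mul, map_mul, map_inv, e1, mul_inv_eq_iff_eq_mul] at e2
    have e3 : (⟨y, hKG hy⟩ : ↥(D.group F)) * x = x * ⟨y, hKG hy⟩ := by
      rw [hx, mul_assoc (⟨g, hg⟩ : ↥(D.group F))⁻¹, e2]; group
    exact congrArg Subtype.val e3
  · obtain ⟨l, hl, h, hh, h3, e⟩ := fixed_eq C σ ((hval ⟨g, hg⟩).2 hfix)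
    have key : ∀ (l h : ↥(D.group F)), l ∈ LS C σ → h ∈ (chevRel C F).HS → fieldAut D σ h = h → ∀ y ∈ K,
        ((l * h : ↥(D.group F)) : GL D.Idx F) * y * ((l * h : ↥(D.group F)) : GL D.Idx F)⁻¹ ∈ K := by
      intro l h hl hh h3 y hy
      obtain ⟨l', hl', h', hh', h3', e'⟩ := fixed_eq C σ ((hval ⟨y, hKG hy⟩).2 (hKfix y hy))
      have hm : l * h * ⟨y, hKG hy⟩ * (l * h)⁻¹ * (⟨y, hKG hy⟩ : ↥(D.group F))⁻¹ ∈ LS C σ := by
        rw [e', show l * h * (l' * h') * (l * h)⁻¹ * (l' * h')⁻¹ =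
          l * (h * l' * h⁻¹) * ((h * h' * h⁻¹) * l⁻¹ * h'⁻¹) * l'⁻¹ by group,
          (chevRel C F).HS_isMulCommutative hh hh', mul_inv_cancel_right]
        exact mul_mem (mul_mem (mul_mem hl (fixed_eq.conj_mem C σ hh h3 hl'))
          (fixed_eq.conj_mem C σ hh' h3' (inv_mem hl))) (inv_mem hl')
      have := mul_mem (hLK _ hm) hy
      simpa using this
    have hgv : g = ((l * h : ↥(D.group F)) : GL D.Idx F) := congrArg Subtype.val e
    rw [Subgroup.mem_normalizer_iff]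
    refine fun y => ⟨fun hy => hgv ▸ key l h hl hh h3 y hy, fun hy => ?_⟩
    have hinv : (l * h)⁻¹ = h⁻¹ * l⁻¹ * h⁻¹⁻¹ * h⁻¹ := by group
    have h3i : fieldAut D σ h⁻¹ = h⁻¹ := by rw [map_inv, h3]
    have := key (h⁻¹ * l⁻¹ * h⁻¹⁻¹) h⁻¹ (fixed_eq.conj_mem C σ (inv_mem hh) h3i (inv_mem hl)) (inv_mem hh) h3i _ hy
    rw [← hinv, Subgroup.coe_inv, ← hgv] at this
    simpa [mul_assoc] using this

end CfsgLib.Known.ChevSubfield
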