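import Mathlib
import Cfsg.Prelude.Def_Classical
import Cfsg.Agent.Lib.Classical.FieldNorm

/-!
# Standard small subgroups of the classical groups

`SL_k → SL_n` (block), permutation matrices, the Levi embedding of `SL_m` in the symplectic and
orthogonal groups, and `SL₂(q) → SU_n(q)`.
-/

set_option autoImplicit false

open Matrix

namespace CfsgLib.Known.ClassicalSections

variable {F : Type*} [Field F]

/-- Block embedding `A ↦ diag(A, 1)` in coordinates given by an equivalence. -/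
def blockSL {ι κ μ : Type*} [Fintype ι] [DecidableEq ι] [Fintype κ] [DecidableEq κ] [Fintype μ]
    [DecidableEq μ] (e : ι ⊕ κ ≃ μ) :
    Matrix.SpecialLinearGroup ι F →* Matrix.SpecialLinearGroup μ F where
  toFun A := ⟨reindex e e (fromBlocks A.1 0 0 1), by
    rw [det_reindex_self, det_fromBlocks_zero₂₁, A.2, det_one, one_mul]⟩
  map_one' := Subtype.ext (by simp [fromBlocks_one])
  map_mul' A B := Subtype.ext (by
    change reindex e e (fromBlocks (A.1 * B.1) 0 0 1) =
      reindex e e (fromBlocks A.1 0 0 1) * reindex e e (fromBlocks B.1 0 0 1)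
    simp only [reindex_apply, submatrix_mul_equiv, fromBlocks_multiply]
    simp)

theorem blockSL_injective {ι κ μ : Type*} [Fintype ι] [DecidableEq ι] [Fintype κ] [DecidableEq κ]
    [Fintype μ] [DecidableEq μ] (e : ι ⊕ κ ≃ μ) : Function.Injective (blockSL (F := F) e) := by
  intro A B h
  have h1 := (reindex e e).injective (congrArg Subtype.val h)
  exact Subtype.ext (fromBlocks_inj.1 h1).1

/-- Permutation matrices of even permutations. -/
def altSL (k : ℕ) : alternatingGroup (Fin k) →* Matrix.SpecialLinearGroup (Fin k) F :=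
  MonoidHom.mk' (fun s => ⟨Matrix.permMatrixHom (n := Fin k) (R := F) s.1, by
    rw [permMatrixHom_apply, det_permutation, Equiv.Perm.sign_inv,
      Equiv.Perm.mem_alternatingGroup.1 s.2]
    simp⟩) fun s t => Subtype.ext (map_mul _ _ _)

theorem altSL_injective (k : ℕ) : Function.Injective (altSL (F := F) k) := by
  intro s t h
  apply Subtype.ext
  refine Equiv.ext fun i => ?_
  have h0 : ((s.1)⁻¹).permMatrix F = ((t.1)⁻¹).permMatrix F := congrArg Subtype.val h
  have h1 := congrFun (congrFun h0 (s.1 i)) i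
  by_contra hne
  simp [Equiv.Perm.permMatrix, PEquiv.toMatrix_apply, Equiv.toPEquiv_apply, Equiv.Perm.inv_def,
    Equiv.symm_apply_eq, hne] at h1

/-- `A ↦ diag(A, A⁻ᵀ)`. -/
def levi (m : ℕ) : Matrix.SpecialLinearGroup (Fin m) F →* Matrix (Fin m ⊕ Fin m) (Fin m ⊕ Fin m) F where
  toFun A := fromBlocks A.1 0 0 (A⁻¹).1.transpose
  map_one' := by simp [fromBlocks_one]
  map_mul' A B := by
    rw [fromBlocks_multiply, _root_.mul_inv_rev, Matrix.SpecialLinearGroup.coe_mul,
      Matrix.SpecialLinearGroup.coe_mul, transpose_mul]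
    simp

theorem levi_injective (m : ℕ) : Function.Injective (levi (F := F) m) := fun _ _ h =>
  Subtype.ext (fromBlocks_inj.1 h).1

theorem levi_mem_symplectic {m : ℕ} (A : Matrix.SpecialLinearGroup (Fin m) F) :
    levi m A ∈ Matrix.symplecticGroup (Fin m) F := by
  rw [SymplecticGroup.mem_iff]
  have h1 : A.1 * (A⁻¹).1 = 1 := by rw [← Matrix.SpecialLinearGroup.coe_mul, mul_inv_cancel]; rfl
  change fromBlocks A.1 0 0 (A⁻¹).1.transpose * Matrix.J _ _ *
    (fromBlocks A.1 0 0 (A⁻¹).1.transpose).transpose = Matrix.J _ _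
  rw [Matrix.J, fromBlocks_transpose, fromBlocks_multiply, fromBlocks_multiply]
  simp [h1, ← transpose_mul, -Matrix.SpecialLinearGroup.coe_inv]

/-- The embedding `SL_m → Sp_{2m}`. -/
def leviSp (m : ℕ) : Matrix.SpecialLinearGroup (Fin m) F →* Matrix.symplecticGroup (Fin m) F :=
  MonoidHom.mk' (fun A => ⟨levi m A, levi_mem_symplectic A⟩)
    fun A B => Subtype.ext (map_mul (levi m) A B)

theorem leviSp_injective (m : ℕ) : Function.Injective (leviSp (F := F) m) := fun _ _ h =>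
  levi_injective m (congrArg Subtype.val h)

theorem levi_preserves_plus {m : ℕ} (A : Matrix.SpecialLinearGroup (Fin m) F)
    (v : Fin m ⊕ Fin m → F) :
    Cfsg.quadFormPlus m F (levi m A *ᵥ v) = Cfsg.quadFormPlus m F v := by
  have h1 : (A⁻¹).1 * A.1 = 1 := by rw [← Matrix.SpecialLinearGroup.coe_mul, inv_mul_cancel]; rfl
  have key : ∀ w : Fin m ⊕ Fin m → F,
      Cfsg.quadFormPlus m F w = (w ∘ Sum.inl) ⬝ᵥ (w ∘ Sum.inr) := fun w => rfl
  rw [key, key]
  simp only [levi, MonoidHom.coe_mk, OneHom.coe_mk, fromBlocks_mulVec, Sum.elim_comp_inl,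
    Sum.elim_comp_inr, Matrix.zero_mulVec, add_zero, zero_add]
  rw [dotProduct_mulVec, vecMul_transpose, mulVec_mulVec, h1, one_mulVec]

/-- The embedding in `O⁺`. -/
noncomputable def leviPlus (m : ℕ) :
    Matrix.SpecialLinearGroup (Fin m) F →* ↥(Cfsg.isometryGroup F (Cfsg.quadFormPlus m F)) :=
  (levi (F := F) m).toHomUnits.codRestrict _ fun A u _ => levi_preserves_plus A u

theorem leviPlus_injective (m : ℕ) : Function.Injective (leviPlus (F := F) m) := fun _ _ h =>
  levi_injective m (congrArg (fun g : ↥(Cfsg.isometryGroup F (Cfsg.quadFormPlus m F)) =>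
    ((g : GL (Fin m ⊕ Fin m) F) : Matrix (Fin m ⊕ Fin m) (Fin m ⊕ Fin m) F)) h)

/-- `diag(1, A, A⁻ᵀ)`. -/
def leviOddMat (m : ℕ) :
    Matrix.SpecialLinearGroup (Fin m) F →*
      Matrix (Unit ⊕ (Fin m ⊕ Fin m)) (Unit ⊕ (Fin m ⊕ Fin m)) F where
  toFun A := fromBlocks 1 0 0 (levi m A)
  map_one' := by simp [fromBlocks_one]
  map_mul' A B := by rw [fromBlocks_multiply]; simp

/-- The embedding in `O_{2m+1}`. -/
noncomputable def leviOdd (m : ℕ) :
    Matrix.SpecialLinearGroup (Fin m) F →* ↥(Cfsg.isometryGroup F (Cfsg.quadFormOdd m F)) :=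
  (leviOddMat (F := F) m).toHomUnits.codRestrict _ fun A v _ => by
    change Cfsg.quadFormOdd m F (fromBlocks 1 0 0 (levi m A) *ᵥ v) = Cfsg.quadFormOdd m F v
    have key : ∀ w : Unit ⊕ (Fin m ⊕ Fin m) → F, Cfsg.quadFormOdd m F w =
        (w ∘ Sum.inl) () ^ 2 + Cfsg.quadFormPlus m F (w ∘ Sum.inr) := fun w => rfl
    rw [key, key, fromBlocks_mulVec]
    simp only [Sum.elim_comp_inl, Sum.elim_comp_inr, Matrix.zero_mulVec, add_zero, zero_add,
      Matrix.one_mulVec, levi_preserves_plus]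

theorem leviOdd_injective (m : ℕ) : Function.Injective (leviOdd (F := F) m) := fun _ _ h =>
  levi_injective m (fromBlocks_inj.1
    (congrArg (fun g : ↥(Cfsg.isometryGroup F (Cfsg.quadFormOdd m F)) =>
      ((g : GL (Unit ⊕ (Fin m ⊕ Fin m)) F) :
        Matrix (Unit ⊕ (Fin m ⊕ Fin m)) (Unit ⊕ (Fin m ⊕ Fin m)) F)) h)).2.2.2

/-- `diag(A, A⁻ᵀ, 1)`. -/
def leviMinusMat (m : ℕ) :
    Matrix.SpecialLinearGroup (Fin m) F →*
      Matrix ((Fin m ⊕ Fin m) ⊕ Fin 2) ((Fin m ⊕ Fin m) ⊕ Fin 2) F where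
  toFun A := fromBlocks (levi m A) 0 0 1
  map_one' := by simp [fromBlocks_one]
  map_mul' A B := by rw [fromBlocks_multiply]; simp

/-- The embedding in `O⁻`. -/
noncomputable def leviMinus (m : ℕ) (a b : F) :
    Matrix.SpecialLinearGroup (Fin m) F →* ↥(Cfsg.isometryGroup F (Cfsg.quadFormMinus m F a b)) :=
  (leviMinusMat (F := F) m).toHomUnits.codRestrict _ fun A v _ => by
    change Cfsg.quadFormMinus m F a b (fromBlocks (levi m A) 0 0 1 *ᵥ v) =
      Cfsg.quadFormMinus m F a b v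
    have key : ∀ w : (Fin m ⊕ Fin m) ⊕ Fin 2 → F, Cfsg.quadFormMinus m F a b w =
        Cfsg.quadFormPlus m F (w ∘ Sum.inl) + ((w ∘ Sum.inr) 0 ^ 2 +
          a * (w ∘ Sum.inr) 0 * (w ∘ Sum.inr) 1 + b * (w ∘ Sum.inr) 1 ^ 2) := fun w => rfl
    rw [key, key, fromBlocks_mulVec]
    simp only [Sum.elim_comp_inl, Sum.elim_comp_inr, Matrix.zero_mulVec, add_zero, zero_add,
      Matrix.one_mulVec, levi_preserves_plus]

theorem leviMinus_injective (m : ℕ) (a b : F) : Function.Injective (leviMinus (F := F) m a b) :=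
  fun _ _ h => levi_injective m (fromBlocks_inj.1
    (congrArg (fun g : ↥(Cfsg.isometryGroup F (Cfsg.quadFormMinus m F a b)) =>
      ((g : GL ((Fin m ⊕ Fin m) ⊕ Fin 2) F) :
        Matrix ((Fin m ⊕ Fin m) ⊕ Fin 2) ((Fin m ⊕ Fin m) ⊕ Fin 2) F)) h)).1

/-- Even permutation matrices are special unitary. -/
def altSU (n : ℕ) (F : Type*) [Field F] (q : ℕ) : alternatingGroup (Fin n) →* ↥(Cfsg.SU n F q) :=
  (altSL (F := F) n).codRestrict _ fun s u v => by
    change Cfsg.hermForm n F q ((s.1⁻¹ : Equiv.Perm (Fin n)).permMatrix F *ᵥ u)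
      ((s.1⁻¹ : Equiv.Perm (Fin n)).permMatrix F *ᵥ v) = Cfsg.hermForm n F q u v
    rw [permMatrix_mulVec, permMatrix_mulVec]
    exact Equiv.sum_comp (s.1⁻¹ : Equiv.Perm (Fin n)) fun i => u i * v i ^ q

theorem altSU_injective (n q : ℕ) : Function.Injective (altSU n F q) := fun _ _ h =>
  altSL_injective n (congrArg Subtype.val h)

/-- In `SU_n(q)`, `n ≥ 2`, there is a copy of `SL₂` over a field with at least `q - 1` elements. -/
theorem exists_SL_two_in_SU {F : Type} [Field F] [Fintype F] {n q : ℕ} (hn : 2 ≤ n)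
    (hF : Fintype.card F = q ^ 2) :
    ∃ (K : Subfield F), q - 1 ≤ Nat.card K ∧
      ∃ φ : Matrix.SpecialLinearGroup (Fin 2) K →* ↥(Cfsg.SU n F q), Function.Injective φ := by
  classical
  have hq2 := CfsgLib.Classical.two_le_of_card_sq hF
  obtain ⟨p, hp⟩ := CharP.exists F
  haveI := hp
  obtain ⟨a, hpp, hpa⟩ := FiniteField.card F p
  haveI : Fact p.Prime := ⟨hpp⟩
  obtain ⟨f, -, rfl⟩ : ∃ f ≤ (a : ℕ), q = p ^ f :=
    (Nat.dvd_prime_pow hpp).1 (hpa ▸ hF ▸ dvd_pow_self q two_ne_zero)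
  set q := p ^ f with hq
  let σ : F →+* F := iterateFrobenius F p f
  have hσ : ∀ x, σ x = x ^ q := fun x => iterateFrobenius_def p f x
  have hσσ : ∀ x, σ (σ x) = x := fun x => by
    rw [hσ, hσ, ← pow_mul, ← sq, ← hF, FiniteField.pow_card]
  let K : Subfield F := σ.eqLocusField (RingHom.id F)
  have hK : ∀ x : F, x ∈ K ↔ σ x = x := fun x => Iff.rfl
  have hKcard : q - 1 ≤ Nat.card K := by
    have hr : (powMonoidHom (q + 1) : Fˣ →* Fˣ).range = (powMonoidHom (q - 1) : Fˣ →* Fˣ).ker :=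
      CfsgLib.Classical.range_norm_units hF
    have hc : Nat.card (powMonoidHom (q - 1) : Fˣ →* Fˣ).ker = q - 1 := by
      rw [IsCyclic.card_powMonoidHom_ker, CfsgLib.Classical.card_units_of_card_sq hF,
        Nat.gcd_mul_left_left]
    rw [← hc]
    refine Nat.card_le_card_of_injective
      (fun x : (powMonoidHom (q - 1) : Fˣ →* Fˣ).ker => (⟨((x : Fˣ) : F), ?_⟩ : K)) ?_
    · have h1 : (x : Fˣ) ^ (q - 1) = 1 := x.2
      have h2 : ((x : Fˣ) : F) ^ (q - 1) = 1 := by
        rw [← Units.val_pow_eq_pow_val, h1, Units.val_one]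
      rw [hK, hσ]
      calc ((x : Fˣ) : F) ^ q = ((x : Fˣ) : F) ^ (q - 1) * (x : Fˣ) := by
            rw [← pow_succ]; congr 1; omega
        _ = _ := by rw [h2, one_mul]
    · intro x y h
      exact Subtype.ext (Units.ext (congrArg Subtype.val h))
  -- two isotropic vectors spanning the plane
  have hneg : (-1 : F) ^ q = -1 := by rw [← hσ]; simp
  have hcs := CfsgLib.Classical.card_norm_eq hF (neg_ne_zero.2 (one_ne_zero : (1 : F) ≠ 0)) hneg
  obtain ⟨⟨c, hc⟩, ⟨c', hc'⟩, hcc⟩ := (Finite.one_lt_card_iff_nontrivial.1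
    (by rw [hcs]; omega : 1 < Nat.card {x : F // x ^ (q + 1) = -1})).exists_pair_ne
  have hc0 : c ≠ 0 := fun h => by simp [h] at hc
  have hne : 1 + c * σ c' ≠ 0 := by
    intro h
    apply hcc
    have h1 : c * σ c = c * σ c' := by
      rw [eq_neg_of_add_eq_zero_right h, ← hc, hσ]
      ring
    exact Subtype.ext (σ.injective (mul_left_cancel₀ hc0 h1))
  obtain ⟨x, hx⟩ : ∃ x : F, σ x ≠ x := by
    by_contra hcon
    push Not at hcon
    have h1 : Polynomial.X ^ q - Polynomial.X = (0 : Polynomial F) :=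
      Polynomial.eq_zero_of_natDegree_lt_card_of_eval_eq_zero _ Function.injective_id
        (fun y => by simpa [sub_eq_zero, hσ] using hcon y)
        (by rw [FiniteField.X_pow_card_sub_X_natDegree_eq F (by omega), hF]; nlinarith)
    exact FiniteField.X_pow_card_sub_X_ne_zero F (by omega) h1
  set δ : F := x - σ x with hδ
  have hδ0 : δ ≠ 0 := sub_ne_zero.2 (Ne.symm hx)
  set l : F := σ (δ / (1 + c * σ c')) with hl
  let P : Matrix (Fin 2) (Fin 2) F := !![1, l; c, c' * l]
  have hP : ∀ u v : Fin 2 → F, (∑ i, (P *ᵥ u) i * σ ((P *ᵥ v) i)) =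
      δ * (u 0 * σ (v 1) - u 1 * σ (v 0)) := by
    intro u v
    have e1 : c * σ c = -1 := by rw [hσ, ← hc]; ring
    have e2 : c' * σ c' = -1 := by rw [hσ, ← hc']; ring
    have e3 : σ l * (1 + c * σ c') = δ := by rw [hl, hσσ, div_mul_cancel₀ _ hne]
    have e4 : l * (1 + c' * σ c) = -δ := by
      have h := congrArg σ e3
      rw [map_mul, map_add, map_one, map_mul, hσσ, hσσ, hδ, map_sub, hσσ] at h
      rw [hδ, mul_comm c' (σ c), h]
      ring
    simp only [Fin.sum_univ_two, P, mulVec, dotProduct, of_apply, cons_val', cons_val_zero,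
      cons_val_one, empty_val', cons_val_fin_one, map_add, map_mul, map_one, one_mul]
    linear_combination (u 0 * σ (v 0)) * e1 + (u 0 * σ (v 1)) * e3 + (u 1 * σ (v 0)) * e4 +
      (u 1 * σ (v 1) * l * σ l) * e2
  have hPdet : P.det ≠ 0 := by
    rw [det_fin_two_of, one_mul]
    have hl0 : l ≠ 0 := by rw [hl]; exact (map_ne_zero σ).2 (div_ne_zero hδ0 hne)
    intro h
    have h1 : (c' - c) * l = 0 := by linear_combination h
    rcases mul_eq_zero.1 h1 with h2 | h2
    · exact hcc (Subtype.ext (sub_eq_zero.1 h2).symm)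
    · exact hl0 h2
  have hPu : IsUnit P.det := isUnit_iff_ne_zero.2 hPdet
  let φ₁ : Matrix.SpecialLinearGroup (Fin 2) K →* Matrix.SpecialLinearGroup (Fin 2) F :=
    MonoidHom.mk' (fun g => ⟨P * (Matrix.SpecialLinearGroup.map K.subtype g).1 * P⁻¹, by
      rw [det_conj ((isUnit_iff_isUnit_det P).2 hPu)]
      exact (Matrix.SpecialLinearGroup.map K.subtype g).2⟩) fun g h => Subtype.ext (by
        change P * (Matrix.SpecialLinearGroup.map K.subtype (g * h)).1 * P⁻¹ =
          (P * (Matrix.SpecialLinearGroup.map K.subtype g).1 * P⁻¹) *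
            (P * (Matrix.SpecialLinearGroup.map K.subtype h).1 * P⁻¹)
        rw [map_mul, Matrix.SpecialLinearGroup.coe_mul]
        simp only [Matrix.mul_assoc]
        rw [← Matrix.mul_assoc P⁻¹ P, nonsing_inv_mul _ hPu, Matrix.one_mul])
  have hval : ∀ g, (φ₁ g).1 = P * (Matrix.SpecialLinearGroup.map K.subtype g).1 * P⁻¹ := fun g => rfl
  have hφ₁ : ∀ g u v, (∑ i, ((φ₁ g).1 *ᵥ u) i * σ (((φ₁ g).1 *ᵥ v) i)) = ∑ i, u i * σ (v i) := by
    intro g u v
    have hu : u = P *ᵥ (P⁻¹ *ᵥ u) := by rw [mulVec_mulVec, mul_nonsing_inv _ hPu, one_mulVec]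
    have hv : v = P *ᵥ (P⁻¹ *ᵥ v) := by rw [mulVec_mulVec, mul_nonsing_inv _ hPu, one_mulVec]
    have hM : ∀ w : Fin 2 → F, (φ₁ g).1 *ᵥ (P *ᵥ w) =
        P *ᵥ ((Matrix.SpecialLinearGroup.map K.subtype g).1 *ᵥ w) := fun w => by
      rw [hval, mulVec_mulVec, Matrix.mul_assoc, nonsing_inv_mul _ hPu, Matrix.mul_one,
        mulVec_mulVec]
    rw [hu, hv, hM, hM, hP, hP]
    set u' := P⁻¹ *ᵥ u
    set v' := P⁻¹ *ᵥ v
    have hg : ∀ i j, σ ((Matrix.SpecialLinearGroup.map K.subtype g).1 i j) =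
        (Matrix.SpecialLinearGroup.map K.subtype g).1 i j := fun i j => (g.1 i j).2
    have hd := (Matrix.SpecialLinearGroup.map K.subtype g).2
    rw [det_fin_two] at hd
    simp only [mulVec, dotProduct, Fin.sum_univ_two, map_add, map_mul, hg]
    linear_combination (δ * (u' 0 * σ (v' 1) - u' 1 * σ (v' 0))) * hd
  let e : Fin 2 ⊕ Fin (n - 2) ≃ Fin n := finSumFinEquiv.trans (finCongr (by omega))
  refine ⟨K, hKcard, ((blockSL e).comp φ₁).codRestrict _ ?_, ?_⟩
  · intro g u v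
    change Cfsg.hermForm n F q (reindex e e (fromBlocks (φ₁ g).1 0 0 1) *ᵥ u)
      (reindex e e (fromBlocks (φ₁ g).1 0 0 1) *ᵥ v) = Cfsg.hermForm n F q u v
    simp only [Cfsg.hermForm, reindex_apply, submatrix_mulVec_equiv, Equiv.symm_symm]
    rw [← Equiv.sum_comp e, ← Equiv.sum_comp e (fun i => u i * v i ^ q)]
    simp only [Function.comp_apply, Equiv.symm_apply_apply, fromBlocks_mulVec, Fintype.sum_sum_type,
      Sum.elim_inl, Sum.elim_inr, Matrix.zero_mulVec, add_zero, zero_add, Matrix.one_mulVec]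
    congr 1
    simpa [hσ] using hφ₁ g ((u ∘ e) ∘ Sum.inl) ((v ∘ e) ∘ Sum.inl)
  · intro g h hgh
    have h1 : (φ₁ g).1 = (φ₁ h).1 :=
      congrArg Subtype.val (blockSL_injective e (congrArg Subtype.val hgh))
    rw [hval, hval] at h1
    have h2 := congrArg (fun M => P⁻¹ * M * P) h1
    have hcancel : ∀ M : Matrix (Fin 2) (Fin 2) F, P⁻¹ * (P * M * P⁻¹) * P = M := fun M => by
      rw [← Matrix.mul_assoc, ← Matrix.mul_assoc, nonsing_inv_mul _ hPu, Matrix.one_mul,
        Matrix.mul_assoc, nonsing_inv_mul _ hPu, Matrix.mul_one]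
    simp only [hcancel] at h2
    ext i j
    exact congrFun (congrFun h2 i) j

end CfsgLib.Known.ClassicalSections
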