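import Cfsg.Agent.Lib.Lie.Rel.Checks
import Cfsg.Agent.Lib.Lie.Rel.Inst

/-!
# Collection of words in root elements whose parameters are monomials in two variables
-/

set_option autoImplicit false

namespace CfsgLib.Known.Collect

open Cfsg.Lie (ChevalleyDatum)
open CfsgLib.Lie.Chev

/-- a term `(r, C, i, j)` stands for `x_r(C t^i u^j)` -/
abbrev Term := ℕ × ℤ × ℕ × ℕ

/-- reduction of a coefficient -/
def red (p : ℕ) (x : Term) : Term := (x.1, x.2.1 % (p : ℤ), x.2.2)

/-- sorting key -/
def key (x : Term) : ℕ := (x.1 * 100 + x.2.2.1) * 100 + x.2.2.2

/-- is the coefficient zero -/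
def isNil (x : Term) : Bool := decide (x.2.1 = 0)

/-- same root and monomial -/
def sameKey (x y : Term) : Bool := Nat.beq x.1 y.1 && Nat.beq x.2.2.1 y.2.2.1 && Nat.beq x.2.2.2 y.2.2.2

/-- `x` and `y` lie in non-opposite distinct roots -/
def canSwap (D : ChevalleyDatum) (x y : Term) : Bool :=
  Nat.blt x.1 D.nroots && Nat.blt y.1 D.nroots && !Nat.beq x.1 y.1 && !Nat.beq x.1 (D.neg y.1)

/-- terms created when `x` moves to the right of `y` -/
def cmb (D : ChevalleyDatum) (p : ℕ) (y x : Term) : List Term :=
  (D.commTerms y.1 x.1).map fun c => red p
    (c.1, c.2.1 * (-y.2.1) ^ c.2.2.1 * x.2.1 ^ c.2.2.2, c.2.2.1 * y.2.2.1 + c.2.2.2 * x.2.2.1,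
      c.2.2.1 * y.2.2.2 + c.2.2.2 * x.2.2.2)

/-- right fold of insertions -/
def foldOpt (g : Term → List Term → Option (List Term)) : List Term → List Term → Option (List Term)
  | [], r => some r
  | z :: L, r => (foldOpt g L r).bind (g z)

/-- insertion into a sorted word -/
def ins (D : ChevalleyDatum) (p : ℕ) : ℕ → Term → List Term → Option (List Term)
  | 0, _, _ => none
  | f + 1, x, [] => some (bif isNil x then [] else [x])
  | f + 1, x, y :: r =>
    bif isNil x then some (y :: r)
    else bif Nat.blt (key x) (key y) then some (x :: y :: r)
    else bif sameKey x y then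
      some (bif isNil (red p (x.1, x.2.1 + y.2.1, x.2.2)) then r else red p (x.1, x.2.1 + y.2.1, x.2.2) :: r)
    else bif Nat.beq x.1 y.1 then (ins D p f x r).bind (ins D p f y)
    else bif canSwap D x y then (foldOpt (ins D p f) (x :: cmb D p y x) r).bind (ins D p f y)
    else none

/-- collected form of a word -/
def collect (D : ChevalleyDatum) (p f : ℕ) (L : List Term) : Option (List Term) :=
  foldOpt (ins D p f) (L.map (red p)) []

variable {D : ChevalleyDatum} {X : Aux} {F : Type*} [Field F] {G : Type*} [Group G] (R : Rel D X F G) (t u : F)

/-- value of a term -/
def val (x : Term) : G := R.xe x.1 ((x.2.1 : F) * t ^ x.2.2.1 * u ^ x.2.2.2)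

/-- value of a word -/
def word (L : List Term) : G := (L.map (val R t u)).prod

theorem word_cons (x : Term) (L : List Term) : word R t u (x :: L) = val R t u x * word R t u L := by
  simp [word]

theorem word_append (L M : List Term) : word R t u (L ++ M) = word R t u L * word R t u M := by
  simp [word]

theorem val_nil {x : Term} (h : isNil x = true) : val R t u x = 1 := by
  rw [isNil, decide_eq_true_iff] at h
  simp [val, h, R.xe_zero]

variable {p : ℕ} (hp : (p : F) = 0)
include hp

theorem val_red (x : Term) : val R t u (red p x) = val R t u x := by
  simp [val, red, Int.emod_def, hp]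

theorem word_red : ∀ L : List Term, word R t u (L.map (red p)) = word R t u L
  | [] => rfl
  | x :: L => by rw [List.map_cons, word_cons, word_cons, val_red R t u hp, word_red L]

theorem swap_val {x y : Term} (h : canSwap D x y = true) :
    val R t u x * val R t u y = val R t u y * word R t u (x :: cmb D p y x) := by
  simp only [canSwap, Bool.and_eq_true, Bool.not_eq_true', nat_blt_iff] at h
  obtain ⟨⟨⟨hx, hy⟩, h1⟩, h2⟩ := h
  rw [← Bool.not_eq_true, nat_beq_iff] at h1 h2
  rw [word_cons, ← mul_assoc, val, val, R.xe_comm _ _ _ _ hy hx h1 h2]
  congr 1
  simp only [word, cmb, ChevalleyDatum.commWord, List.map_map]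
  congr 1
  refine List.map_congr_left fun c _ => ?_
  simp only [Function.comp_apply, val_red R t u hp]
  simp only [val]
  congr 1
  push_cast
  rw [← neg_mul, ← neg_mul, mul_pow, mul_pow, mul_pow, mul_pow, ← pow_mul, ← pow_mul, ← pow_mul, ← pow_mul,
    pow_add, pow_add]
  ring

theorem ins_word : ∀ (f : ℕ) (x : Term) (L L' : List Term), ins D p f x L = some L' →
    word R t u L' = val R t u x * word R t u L := by
  intro f
  induction f with
  | zero => intro x L L' h; simp [ins] at h
  | succ f ih =>
    have hfold : ∀ (M L L' : List Term), foldOpt (ins D p f) M L = some L' →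
        word R t u L' = word R t u M * word R t u L := by
      intro M
      induction M with
      | nil => intro L L' h; simp only [foldOpt, Option.some.injEq] at h; subst h; simp [word]
      | cons z M ihM =>
        intro L L' h
        simp only [foldOpt, Option.bind_eq_some_iff] at h
        obtain ⟨L1, h1, h2⟩ := h
        rw [ih _ _ _ h2, ihM _ _ h1, word_cons, mul_assoc]
    intro x L L' h
    cases L with
    | nil =>
      simp only [ins, Option.some.injEq] at h
      subst h
      cases hx : isNil x with
      | true => simp [word, val_nil R t u hx]
      | false => simp [word]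
    | cons y r =>
      simp only [ins] at h
      cases hx : isNil x with
      | true =>
        simp only [hx, cond_true, Option.some.injEq] at h
        subst h
        rw [val_nil R t u hx, one_mul]
      | false =>
        simp only [hx, cond_false] at h
        cases hlt : Nat.blt (key x) (key y) with
        | true =>
          simp only [hlt, cond_true, Option.some.injEq] at h
          subst h
          rw [word_cons]
        | false =>
          simp only [hlt, cond_false] at h
          cases hsk : sameKey x y with
          | true =>
            simp only [hsk, cond_true, Option.some.injEq] at h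
            subst h
            simp only [sameKey, Bool.and_eq_true, nat_beq_iff] at hsk
            obtain ⟨⟨e1, e2⟩, e3⟩ := hsk
            have e : val R t u (red p (x.1, x.2.1 + y.2.1, x.2.2)) = val R t u x * val R t u y := by
              rw [val_red R t u hp]
              simp only [val, ← e1, ← e2, ← e3]
              rw [R.xe_add']
              push_cast
              congr 1
              ring
            rw [word_cons, ← mul_assoc, ← e]
            cases hz : isNil (red p (x.1, x.2.1 + y.2.1, x.2.2)) with
            | true => simp [val_nil R t u hz]
            | false => simp [word_cons]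
          | false =>
            simp only [hsk, cond_false] at h
            cases heq : Nat.beq x.1 y.1 with
            | true =>
              simp only [heq, cond_true, Option.bind_eq_some_iff] at h
              obtain ⟨L1, h1, h2⟩ := h
              rw [nat_beq_iff] at heq
              rw [ih _ _ _ h2, ih _ _ _ h1, word_cons, ← mul_assoc, ← mul_assoc]
              congr 1
              simp only [val, ← heq, R.xe_add']
              rw [add_comm]
            | false =>
              simp only [heq, cond_false] at h
              cases hsw : canSwap D x y with
              | false => simp [hsw] at h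
              | true =>
                simp only [hsw, cond_true, Option.bind_eq_some_iff] at h
                obtain ⟨L1, h1, h2⟩ := h
                rw [ih _ _ _ h2, hfold _ _ _ h1, word_cons R t u y r, ← mul_assoc, ← mul_assoc,
                  swap_val R t u hp hsw]

theorem collect_word {f : ℕ} {L L' : List Term} (h : collect D p f L = some L') :
    word R t u L' = word R t u L := by
  suffices H : ∀ (M L0 L1 : List Term), foldOpt (ins D p f) M L0 = some L1 →
      word R t u L1 = word R t u M * word R t u L0 by
    rw [H _ _ _ h, word_red R t u hp, show word R t u [] = 1 from rfl, mul_one]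
  intro M
  induction M with
  | nil => intro L0 L1 h; simp only [foldOpt, Option.some.injEq] at h; subst h; simp [word]
  | cons z M ihM =>
    intro L0 L1 h
    simp only [foldOpt, Option.bind_eq_some_iff] at h
    obtain ⟨L2, h1, h2⟩ := h
    rw [ins_word R t u hp _ _ _ _ h2, ihM _ _ h1, word_cons, mul_assoc]

/-- two words with the same collected form have the same value -/
theorem word_eq_of_collect {f : ℕ} {L M N : List Term} (hL : collect D p f L = some N)
    (hM : collect D p f M = some N) : word R t u L = word R t u M :=
  (collect_word R t u hp hL).symm.trans (collect_word R t u hp hM)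

end CfsgLib.Known.Collect
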