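import Mathlib

/-!
# Square matrices over the field with three elements, rows packed in lanes of six bits

Products are exact for at most fifteen rows.
-/

set_option autoImplicit false

namespace CfsgLib.Known.F3Packed

/-- The field. -/
abbrev Z : Type := ZMod 3

/-- One lane. -/
def lane (r : ℕ) : ℕ → ℕ
  | 0 => r % 64
  | j + 1 => lane (r / 64) j

/-- Reduction of the first lanes. -/
def red : ℕ → ℕ → ℕ
  | 0, _ => 0
  | n + 1, r => r % 64 % 3 + 64 * red n (r / 64)

/-- A combination of rows. -/
def rowMul : ℕ → List ℕ → ℕ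
  | _, [] => 0
  | a, b :: B => a % 64 * b + rowMul (a / 64) B

/-- The product. -/
def pm (n : ℕ) (A B : List ℕ) : List ℕ := A.map fun a => red n (rowMul a B)

/-- The negative. -/
def ng (n : ℕ) (A : List ℕ) : List ℕ := A.map fun a => red n (2 * a)

/-- The identity. -/
def idm (n : ℕ) : List ℕ := (List.range n).map fun i => 64 ^ i

/-- Equality of lists. -/
def sameList : List ℕ → List ℕ → Bool
  | [], [] => true
  | a :: A, b :: B => Nat.beq a b && sameList A B
  | _, _ => false

/-- The right shape with reduced rows. -/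
def okMat (n : ℕ) (A : List ℕ) : Bool := Nat.beq A.length n && A.all fun a => Nat.beq (red n a) a

/-- The matrix. -/
def toMat (n : ℕ) (A : List ℕ) : Matrix (Fin n) (Fin n) Z :=
  Matrix.of fun i j => (lane (A.getD i.val 0) j.val : Z)

theorem sameList_eq : ∀ {A B : List ℕ}, sameList A B = true → A = B
  | [], [], _ => rfl
  | a :: A, b :: B, h => by
    simp only [sameList, Bool.and_eq_true] at h
    rw [Nat.eq_of_beq_eq_true h.1, sameList_eq h.2]
  | [], _ :: _, h => by simp [sameList] at h
  | _ :: _, [], h => by simp [sameList] at h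

theorem lane_red : ∀ {n j : ℕ} (r : ℕ), j < n → lane (red n r) j = lane r j % 3
  | n + 1, 0, r, _ => by simp only [red, lane]; omega
  | n + 1, j + 1, r, h => by
    simp only [red, lane]
    rw [show (r % 64 % 3 + 64 * red n (r / 64)) / 64 = red n (r / 64) by omega]
    exact lane_red _ (by omega)

theorem red_red : ∀ (n r : ℕ), red n (red n r) = red n r
  | 0, _ => rfl
  | n + 1, r => by
    simp only [red]
    rw [show (r % 64 % 3 + 64 * red n (r / 64)) / 64 = red n (r / 64) by omega, red_red n]
    omega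

theorem lane_lt {n j a : ℕ} (h : Nat.beq (red n a) a = true) (hj : j < n) : lane a j < 3 := by
  rw [← Nat.eq_of_beq_eq_true h, lane_red a hj]
  exact Nat.mod_lt _ (by norm_num)

theorem lane_zero : ∀ j, lane 0 j = 0
  | 0 => rfl
  | j + 1 => by rw [lane, Nat.zero_div, lane_zero j]

theorem lane_combo : ∀ (j : ℕ) (x b R : ℕ), (∀ i ≤ j, x * lane b i + lane R i < 64) →
    lane (x * b + R) j = x * lane b j + lane R j := by
  intro j
  induction j with
  | zero =>
    intro x b R h
    have h0 := h 0 le_rfl
    simp only [lane] at h0 ⊢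
    rw [Nat.add_mod, Nat.mul_mod, ← Nat.mul_mod]
    have e : x * b = x * (b % 64) + 64 * (x * (b / 64)) := by
      conv_lhs => rw [← Nat.mod_add_div b 64]
      ring
    omega
  | succ j ih =>
    intro x b R h
    have h0 := h 0 (Nat.zero_le _)
    simp only [lane] at h0 ⊢
    have e : x * b = x * (b % 64) + 64 * (x * (b / 64)) := by
      conv_lhs => rw [← Nat.mod_add_div b 64]
      ring
    rw [show (x * b + R) / 64 = x * (b / 64) + R / 64 by omega]
    exact ih x (b / 64) (R / 64) fun i hi => h (i + 1) (by omega)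

/-- The lane sums of a combination of rows. -/
def comb (a : ℕ) (B : List ℕ) (j : ℕ) : ℕ :=
  ((List.range B.length).map fun k => lane a k * lane (B.getD k 0) j).sum

theorem comb_cons (a b : ℕ) (B : List ℕ) (j : ℕ) :
    comb a (b :: B) j = a % 64 * lane b j + comb (a / 64) B j := by
  simp only [comb, List.length_cons, List.range_succ_eq_map, List.map_cons, List.map_map, List.sum_cons,
    List.getD_cons_zero]
  rfl

theorem lane_rowMul {n : ℕ} : ∀ (B : List ℕ) (a j : ℕ), j < n → B.length ≤ 15 →
    (∀ k < B.length, lane a k < 3) → (∀ b ∈ B, ∀ i < n, lane b i < 3) →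
    lane (rowMul a B) j = comb a B j ∧ comb a B j ≤ 4 * B.length
  | [], a, j, _, _, _, _ => by simp [rowMul, comb, lane_zero]
  | b :: B, a, j, hj, hl, ha, hB => by
    have hl' : B.length ≤ 15 := by simp at hl; omega
    have ha' : ∀ k < B.length, lane (a / 64) k < 3 := fun k hk => ha (k + 1) (by simp; omega)
    have hB' : ∀ c ∈ B, ∀ i < n, lane c i < 3 := fun c hc => hB c (List.mem_cons_of_mem _ hc)
    have h0 : a % 64 < 3 := ha 0 (by simp)
    have hm : ∀ i < n, a % 64 * lane b i ≤ 4 := fun i hi =>
      Nat.mul_le_mul (Nat.le_of_lt_succ h0) (Nat.le_of_lt_succ (hB b List.mem_cons_self i hi))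
    have hi : ∀ i ≤ j, a % 64 * lane b i + lane (rowMul (a / 64) B) i < 64 := fun i hij => by
      obtain ⟨e, hle⟩ := lane_rowMul B (a / 64) i (by omega) hl' ha' hB'
      have := hm i (by omega)
      simp only [List.length_cons] at hl
      omega
    obtain ⟨e, hle⟩ := lane_rowMul B (a / 64) j hj hl' ha' hB'
    rw [rowMul, lane_combo j _ _ _ hi, comb_cons, e]
    have := hm j hj
    simp only [List.length_cons]
    exact ⟨trivial, by omega⟩

theorem okMat_getD {n : ℕ} {A : List ℕ} (h : okMat n A = true) :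
    A.length = n ∧ (∀ a ∈ A, Nat.beq (red n a) a = true) ∧ ∀ i < n, A.getD i 0 ∈ A := by
  simp only [okMat, Bool.and_eq_true, List.all_eq_true] at h
  refine ⟨Nat.eq_of_beq_eq_true h.1, h.2, fun i hi => ?_⟩
  have hi' : i < A.length := by rw [Nat.eq_of_beq_eq_true h.1]; exact hi
  rw [List.getD_eq_getElem _ _ hi']
  exact List.getElem_mem hi'

theorem okMat_pm {n : ℕ} {A B : List ℕ} (hA : okMat n A = true) : okMat n (pm n A B) = true := by
  simp only [okMat, Bool.and_eq_true, List.all_eq_true, pm, List.length_map, List.mem_map]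
  refine ⟨(Bool.and_eq_true _ _ ▸ hA : _ ∧ _).1, ?_⟩
  rintro _ ⟨a, -, rfl⟩
  rw [red_red]; exact Nat.beq_refl _

theorem toMat_pm {n : ℕ} (hn : n ≤ 15) {A B : List ℕ} (hA : okMat n A = true) (hB : okMat n B = true) :
    toMat n (pm n A B) = toMat n A * toMat n B := by
  obtain ⟨la, a1, a2⟩ := okMat_getD hA
  obtain ⟨lb, b1, b2⟩ := okMat_getD hB
  ext i j
  rw [Matrix.mul_apply]
  simp only [toMat, Matrix.of_apply, pm]
  rw [List.getD_eq_getElem _ _ (by rw [List.length_map, la]; exact i.2), List.getElem_map,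
    lane_red _ j.2, ZMod.natCast_mod]
  set a := A[i.val]'(la.symm ▸ i.2) with ha
  have hai : A.getD i.val 0 = a := List.getD_eq_getElem _ _ _
  rw [(lane_rowMul B a j.val j.2 (by omega) (fun k hk => lane_lt (a1 a (hai ▸ a2 _ i.2)) (lb ▸ hk))
    (fun b hb i hi => lane_lt (b1 b hb) hi)).1, comb, hai, lb, ← List.sum_toFinset _ List.nodup_range]
  rw [List.toFinset_range, Finset.sum_range]
  push_cast
  rfl

theorem toMat_ng {n : ℕ} {A : List ℕ} (hA : okMat n A = true) : toMat n (ng n A) = -toMat n A := by
  obtain ⟨la, a1, a2⟩ := okMat_getD hA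
  ext i j
  simp only [toMat, Matrix.of_apply, ng, Matrix.neg_apply]
  rw [List.getD_eq_getElem _ _ (by rw [List.length_map, la]; exact i.2), List.getElem_map, lane_red _ j.2,
    List.getD_eq_getElem _ _ (la.symm ▸ i.2), ZMod.natCast_mod]
  set a := A[i.val]'(la.symm ▸ i.2)
  have hb : ∀ k < n, lane a k < 3 := fun k hk => lane_lt (a1 a (List.getElem_mem _)) hk
  have h := lane_combo j.val 2 a 0 fun k hk => by
    rw [lane_zero]; have := hb k (by omega); omega
  rw [add_zero, lane_zero, add_zero] at h
  rw [h, Nat.cast_mul, Nat.cast_ofNat, show (2 : Z) = -1 from rfl, neg_one_mul]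

theorem lane_pow : ∀ i j : ℕ, lane (64 ^ i) j = if i = j then 1 else 0
  | 0, 0 => rfl
  | 0, j + 1 => by simp [lane, lane_zero]
  | i + 1, 0 => by simp [lane, pow_succ]
  | i + 1, j + 1 => by
    rw [lane, pow_succ, Nat.mul_div_cancel _ (by norm_num), lane_pow i j]
    simp

theorem toMat_idm (n : ℕ) : toMat n (idm n) = 1 := by
  ext i j
  simp only [toMat, Matrix.of_apply, idm]
  rw [List.getD_eq_getElem _ _ (by simp), List.getElem_map, List.getElem_range, lane_pow]
  by_cases h : i = j <;> simp [h, Fin.val_inj, Matrix.one_apply]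

/-- Equality up to sign. -/
def sgEq (n : ℕ) (A B : List ℕ) : Bool := sameList A B || sameList A (ng n B)

theorem sgEq_spec {n : ℕ} {A B : List ℕ} (hB : okMat n B = true) (h : sgEq n A B = true) :
    toMat n A = toMat n B ∨ toMat n A = -toMat n B := by
  simp only [sgEq, Bool.or_eq_true] at h
  rcases h with h | h
  · exact Or.inl (by rw [sameList_eq h])
  · exact Or.inr (by rw [sameList_eq h, toMat_ng hB])

end CfsgLib.Known.F3Packed
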