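import Cfsg.Agent.Lib.Known.UnivBasic
import Cfsg.Agent.Lib.Schur.Multiplier
import Cfsg.Agent.Lib.Schur.Perfect
import Cfsg.Agent.Lib.Lie.Rel.BruhatFacts

/-!
# From sections of central extensions to multipliers
-/

set_option autoImplicit false

namespace CfsgLib.Known.Univ

open Cfsg.Lie (ChevalleyDatum)
open CfsgLib.Lie.Chev
open CfsgLib.Known

universe u v

variable {D : ChevalleyDatum} {X : Aux} (C : Cert D X) (K : Type u) [Field K]

/-- sections satisfying (R1), (R2) exist in every central extension of the group presented by (R1), (R2) -/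
def HasSections : Prop :=
  ∀ (E : Type u) [Group E] (S : CentExt D X K (D.SteinbergCover K) E), S.R.xe = D.scGen K →
    ∃ f : ℕ → K → E, (∀ r, r < D.nroots → ∀ t, S.π (f r t) = S.R.xe r t) ∧
      (∀ r t u, r < D.nroots → f r t * f r u = f r (t + u)) ∧
      (∀ r t, ¬ r < D.nroots → f r t = 1) ∧
      ∀ r s t u, r < D.nroots → s < D.nroots → s ≠ r → s ≠ D.neg r →
        f s u * f r t = f r t * f s u * ((D.commWord K r s t u).map fun p => f p.1 p.2).prod

variable {K}

/-- sections give a splitting -/
theorem exists_split {E : Type v} [Group E] (π : E →* D.SteinbergCover K) {f : ℕ → K → E}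
    (h0 : ∀ r, r < D.nroots → ∀ t, π (f r t) = D.scGen K r t)
    (h1 : ∀ r t u, r < D.nroots → f r t * f r u = f r (t + u))
    (hoob : ∀ r t, ¬ r < D.nroots → f r t = 1)
    (h2 : ∀ r s t u, r < D.nroots → s < D.nroots → s ≠ r → s ≠ D.neg r →
      f s u * f r t = f r t * f s u * ((D.commWord K r s t u).map fun p => f p.1 p.2).prod) :
    ∃ τ : D.SteinbergCover K →* E, π.comp τ = MonoidHom.id _ := by
  have hlift : ∀ r t, FreeGroup.lift (fun p : Fin D.nroots × K => f p.1 p.2) (D.stX r t) = f r t := by
    intro r t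
    unfold ChevalleyDatum.stX
    split_ifs with h
    · exact FreeGroup.lift_apply_of
    · rw [map_one, hoob r t h]
  have hrels : ∀ g ∈ D.steinbergRelsAB K, FreeGroup.lift (fun p : Fin D.nroots × K => f p.1 p.2) g = 1 := by
    rintro g (⟨r, t, u, hr, rfl⟩ | ⟨r, s, t, u, hr, hs, hne, hneg, rfl⟩)
    · simp only [map_mul, map_inv, hlift, mul_inv_eq_one]
      exact h1 r t u hr
    · simp only [map_mul, map_inv, hlift, mul_inv_eq_one, ChevalleyDatum.stWord, map_list_prod, List.map_map,
        Function.comp_def]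
      rw [mul_assoc _ (f s u), h2 r s t u hr hs hne hneg]
      group
  refine ⟨PresentedGroup.toGroup hrels, PresentedGroup.ext fun p => ?_⟩
  rw [MonoidHom.comp_apply, PresentedGroup.toGroup.of, MonoidHom.id_apply, h0 _ p.1.2,
    ChevalleyDatum.scGen, ChevalleyDatum.stX, dif_pos p.1.2]
  rfl

include C in
/-- universality: every central extension pulls back to a split one -/
theorem exists_lift {L : List (ℕ × ℕ × ℕ × List ℤ)} (hL : chkWits D X L = true) (h : HasSections (X := X) (D := D) K)
    {E : Type u} [Group E] (π : E →* D.SteinbergCover K) (hs : Function.Surjective π)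
    (hc : π.ker ≤ Subgroup.center E) : ∃ τ : D.SteinbergCover K →* E, π.comp τ = MonoidHom.id _ := by
  obtain ⟨f, h0, h1, hoob, h2⟩ := h E
    { R := StCover.scRaw C K, L := L, hL := hL, π := π, surj := hs, central := hc } rfl
  exact exists_split π h0 h1 hoob h2

variable [Finite K]

/-- the multiplier of a central quotient of the cover is the kernel -/
theorem hasSchurMultiplier {L : List (ℕ × ℕ × ℕ × List ℤ)} (C : Cert D X) (hL : chkWits D X L = true)
    (h : HasSections (X := X) (D := D) K) (hp : Rel.PerfectData D K) {Q : Type u} [Group Q]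
    (θ : D.SteinbergCover K →* Q) (hθ : Function.Surjective θ)
    (hker : θ.ker ≤ Subgroup.center (D.SteinbergCover K)) {A : Type v} [CommGroup A] (e : θ.ker ≃* A) :
    Cfsg.HasSchurMultiplier Q A := by
  obtain ⟨eS, -⟩ := StCover.equiv_steinbergGroup C (K := K) hL
  have : Finite (D.SteinbergGroup K) := (stRel C K hL).Finite_of_field
  have : Finite (D.SteinbergCover K) := Finite.of_equiv _ eS.symm.toEquiv
  have hperf := StCover.commutator_eq_top C hL hp
  refine ⟨⟨_, inferInstance, inferInstance, θ, ⟨hθ, hker, by rw [hperf]; exact le_top⟩, ⟨e⟩⟩, ?_⟩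
  intro Γ _ _ σ hσ
  obtain ⟨hσs, hσc, hσd⟩ := hσ
  let P : Subgroup (Γ × D.SteinbergCover K) :=
    (σ.comp (MonoidHom.fst _ _)).eqLocus (θ.comp (MonoidHom.snd _ _))
  let π : P →* D.SteinbergCover K := (MonoidHom.snd _ _).comp P.subtype
  have hπs : Function.Surjective π := fun x => by
    obtain ⟨g, hg⟩ := hσs (θ x)
    exact ⟨⟨(g, x), hg⟩, rfl⟩
  have hπc : π.ker ≤ Subgroup.center P := fun y hy => by
    rw [Subgroup.mem_center_iff]
    intro z
    have h2 : (y : Γ × D.SteinbergCover K).2 = 1 := hy
    have h1 : σ (y : Γ × D.SteinbergCover K).1 = 1 := by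
      have := y.2
      change σ (y : Γ × D.SteinbergCover K).1 = θ (y : Γ × D.SteinbergCover K).2 at this
      rw [this, h2, map_one]
    refine Subtype.ext (Prod.ext ?_ ?_)
    · exact Subgroup.mem_center_iff.1 (hσc h1) _
    · show _ * (y : Γ × D.SteinbergCover K).2 = (y : Γ × D.SteinbergCover K).2 * _
      rw [h2, mul_one, one_mul]
  obtain ⟨τ, hτ⟩ := exists_lift C hL h π hπs hπc
  let ψ : D.SteinbergCover K →* Γ := ((MonoidHom.fst _ _).comp P.subtype).comp τ
  have hψ : ∀ x, σ (ψ x) = θ x := fun x => by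
    have := (τ x).2
    change σ (τ x : Γ × D.SteinbergCover K).1 = θ (τ x : Γ × D.SteinbergCover K).2 at this
    have h2 : (τ x : Γ × D.SteinbergCover K).2 = x := DFunLike.congr_fun hτ x
    rw [h2] at this
    exact this
  have hψs : Function.Surjective ψ := by
    have hQ : commutator Q = ⊤ := by
      have h1 : (commutator (D.SteinbergCover K)).map θ ≤ commutator Q := by
        rw [commutator_def, commutator_def, Subgroup.map_commutator]
        exact Subgroup.commutator_mono le_top le_top
      rw [hperf, Subgroup.map_top_of_surjective θ hθ] at h1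
      exact top_le_iff.1 h1
    have hΓ : commutator Γ = ⊤ := CfsgLib.Schur.commutator_eq_top_of_central hQ σ hσs hσd
    have hsup : ψ.range ⊔ σ.ker = ⊤ := eq_top_iff.2 fun g _ => by
      obtain ⟨x, hx⟩ := hθ (σ g)
      have : g = ψ x * ((ψ x)⁻¹ * g) := by group
      rw [this]
      exact Subgroup.mul_mem_sup ⟨x, rfl⟩ (by rw [MonoidHom.mem_ker, map_mul, map_inv, hψ, hx, inv_mul_cancel])
    rw [← MonoidHom.range_eq_top, eq_top_iff, ← hΓ]
    rw [CfsgLib.Schur.commutator_eq_map_of_range_sup ψ σ.ker hσc hsup]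
    exact Subgroup.map_le_range _ _
  let ρ : θ.ker →* σ.ker := (ψ.comp θ.ker.subtype).codRestrict σ.ker fun x => by
    rw [MonoidHom.mem_ker]
    exact (hψ (x : D.SteinbergCover K)).trans (MonoidHom.mem_ker.1 x.2)
  have hρ : Function.Surjective ρ := fun y => by
    obtain ⟨x, hx⟩ := hψs y
    exact ⟨⟨x, by rw [MonoidHom.mem_ker, ← hψ, hx]; exact y.2⟩, Subtype.ext hx⟩
  exact ⟨ρ.comp e.symm.toMonoidHom, hρ.comp e.symm.surjective⟩

/-- the multiplier of the Chevalley group is cyclic of the order of the centre of Steinberg's group -/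
theorem hasCyclicSchurMultiplier {L : List (ℕ × ℕ × ℕ × List ℤ)} (C : Cert D X) (hL : chkWits D X L = true)
    (h : HasSections (X := X) (D := D) K) (hp : Rel.PerfectData D K) (hc : Rel.Connected D) {n : ℕ}
    (hn : Nat.card (Subgroup.center (D.SteinbergGroup K)) = n) (hcyc : n = 1 ∨ n.Prime) :
    Cfsg.HasCyclicSchurMultiplier ↥(D.group K) n := by
  obtain ⟨eS, -⟩ := StCover.equiv_steinbergGroup C (K := K) hL
  have hker : (StCover.scTheta C K).ker = Subgroup.center (D.SteinbergCover K) := by
    refine le_antisymm (StCover.ker_le_center C (K := K) hL hc hp) fun z hz => ?_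
    exact Subtype.ext (MonoidHom.mem_ker.1 (StCover.center_le_ker C (K := K) hL hc hz))
  have hcard : Nat.card (StCover.scTheta C K).ker = n := by
    rw [hker, ← hn]
    exact Nat.card_congr (Subgroup.centerCongr eS).toEquiv
  have hcy : IsCyclic (StCover.scTheta C K).ker := by
    rcases hcyc with h1 | h1
    · have : Subsingleton (StCover.scTheta C K).ker := (Nat.card_eq_one_iff_unique.1 (hcard.trans h1)).1
      exact isCyclic_of_subsingleton
    · have := Fact.mk h1
      exact isCyclic_of_prime_card hcard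
  exact hasSchurMultiplier C hL h hp _ (StCover.scTheta_surjective C K) (StCover.ker_le_center C (K := K) hL hc hp)
    (mulEquivOfCyclicCardEq (hcard.trans (Nat.card_zmod n).symm))

end CfsgLib.Known.Univ
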