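import Cfsg.Agent.Lib.Known.FieldExtension

/-!
# The five embeddings
-/

set_option autoImplicit false

open Matrix Cfsg CfsgLib.Classical CfsgLib.Known.QuadClassify CfsgLib.Known.FieldExtension

namespace CfsgLib.Known.FieldExtensionEmbed

universe u

theorem plus_of_count {F : Type*} [Field F] [Fintype F] {V : Type u} [AddCommGroup V] [Module F V]
    [FiniteDimensional F V] {m : ℕ} (hV : Module.finrank F V = 2 * m) (Q : QuadraticForm F V)
    (hQ : (QuadraticMap.polarBilin Q).Nondegenerate)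
    (hN : Fintype.card F * Nat.card {v : V // Q v = 0} + Fintype.card F ^ m =
      Fintype.card F ^ (2 * m) + Fintype.card F ^ (m + 1)) :
    ∃ e : (Fin m ⊕ Fin m → F) ≃ₗ[F] V, ∀ v, Q (e v) = quadFormPlus m F v := by
  rcases classify_even hV Q hQ with h | ⟨hm, ζ, e, hζ, he⟩
  · exact h
  exfalso
  obtain ⟨k, rfl⟩ : ∃ k, m = k + 1 := ⟨m - 1, by omega⟩
  have h2 := card_zeros_minus k 1 ζ (aniso_of_no_root hζ)
  let e' : ((Fin k ⊕ Fin k) ⊕ Fin 2 → F) ≃ₗ[F] V := e
  rw [← Nat.card_congr (e'.toEquiv.subtypeEquiv (p := fun v => quadFormMinus k F 1 ζ v = 0)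
    (q := fun v => Q v = 0) fun v => by show _ ↔ Q (e' v) = 0; rw [he]; rfl)] at hN
  have h3 : Fintype.card F ^ (k + 1) < Fintype.card F ^ (k + 2) := Nat.pow_lt_pow_right Fintype.one_lt_card (by omega)
  simp only [show 2 * (k + 1) = 2 * k + 2 by ring, show k + 1 + 1 = k + 2 by ring] at hN
  omega

theorem minus_of_count {F : Type*} [Field F] [Fintype F] {V : Type u} [AddCommGroup V] [Module F V]
    [FiniteDimensional F V] {k : ℕ} (hV : Module.finrank F V = 2 * (k + 1)) (Q : QuadraticForm F V)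
    (hQ : (QuadraticMap.polarBilin Q).Nondegenerate)
    (hN : Fintype.card F * Nat.card {v : V // Q v = 0} + Fintype.card F ^ (k + 2) =
      Fintype.card F ^ (2 * k + 2) + Fintype.card F ^ (k + 1)) :
    ∃ (ζ : F) (e : ((Fin k ⊕ Fin k) ⊕ Fin 2 → F) ≃ₗ[F] V), (∀ t : F, t ^ 2 + t + ζ ≠ 0) ∧
      ∀ v, Q (e v) = quadFormMinus k F 1 ζ v := by
  rcases classify_even hV Q hQ with ⟨e, he⟩ | ⟨-, ζ, e, hζ, he⟩
  · exfalso
    have h2 := card_zeros_plus (F := F) (k + 1)
    rw [← Nat.card_congr (e.toEquiv.subtypeEquiv (p := fun v => quadFormPlus (k + 1) F v = 0)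
      (q := fun v => Q v = 0) fun v => by show _ ↔ Q (e v) = 0; rw [he])] at hN
    have h3 : Fintype.card F ^ (k + 1) < Fintype.card F ^ (k + 2) :=
      Nat.pow_lt_pow_right Fintype.one_lt_card (by omega)
    simp only [show 2 * (k + 1) = 2 * k + 2 by ring, show k + 1 + 1 = k + 2 by ring] at h2
    omega
  · exact ⟨ζ, e, hζ, he⟩

variable {K F : Type*} [Field K] [Fintype K] [Field F] [Fintype F] {q : ℕ}

theorem gu_plus (hK : Fintype.card K = q ^ 2) (hF : Fintype.card F = q) (m : ℕ) (hm : Even m) :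
    ∃ φ : ↥(Cfsg.GU m K q) →* ↥(Cfsg.isometryGroup F (Cfsg.quadFormPlus m F)), Function.Injective φ := by
  obtain ⟨ι, hι⟩ := exists_embedding hK hF
  letI := ι.toAlgebra
  obtain ⟨Q, hQ, hpres, hcount⟩ := gu_quadratic hK hF hι m
  obtain ⟨e, he⟩ := plus_of_count ((finrank_space hK hF (Fin m)).trans (by rw [Fintype.card_fin])) Q hQ (by
    rw [hcount, Herm.normCount_zero (Herm.powHom_isInvol hK) m, if_pos hm, Herm.card_fixed_powHom hK, hF]
    rcases Nat.eq_zero_or_pos m with rfl | hm0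
    · simp; ring
    obtain ⟨k, rfl⟩ : ∃ k, m = k + 1 := ⟨m - 1, by omega⟩
    have h1 : 1 ≤ q ^ (k + 1) := Nat.one_le_pow _ _ (hF ▸ Fintype.card_pos)
    obtain ⟨b, hb⟩ : ∃ b, q ^ (k + 1) = b + 1 := ⟨q ^ (k + 1) - 1, by omega⟩
    rw [Nat.add_sub_cancel, two_mul (k + 1), pow_add q (k + 1) (k + 1), pow_succ q (k + 1), hb, Nat.add_sub_cancel]
    rw [pow_succ] at hb
    linear_combination b * hb)
  exact exists_hom_isometry Q _ e he ((resHom (Fin m)).comp (Cfsg.GU m K q).subtype)
    (resHom_injective.comp Subtype.val_injective) fun g v => hpres g v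

theorem gu_minus (hK : Fintype.card K = q ^ 2) (hF : Fintype.card F = q) (m : ℕ) (hm : Odd m) (a b : F)
    (hab : ∀ z₁ z₂ : F, z₁ ^ 2 + a * z₁ * z₂ + b * z₂ ^ 2 = 0 → z₁ = 0 ∧ z₂ = 0) :
    ∃ φ : ↥(Cfsg.GU m K q) →* ↥(Cfsg.isometryGroup F (Cfsg.quadFormMinus (m - 1) F a b)),
      Function.Injective φ := by
  obtain ⟨ι, hι⟩ := exists_embedding hK hF
  letI := ι.toAlgebra
  obtain ⟨Q, hQ, hpres, hcount⟩ := gu_quadratic hK hF hι m
  obtain ⟨k, rfl⟩ : ∃ k, m = k + 1 := ⟨m - 1, by obtain ⟨c, rfl⟩ := hm; omega⟩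
  obtain ⟨ζ, e, hζ, he⟩ := minus_of_count ((finrank_space hK hF (Fin (k + 1))).trans (by rw [Fintype.card_fin])) Q hQ (by
    rw [hcount, Herm.normCount_zero (Herm.powHom_isInvol hK) (k + 1), if_neg (Nat.not_even_iff_odd.2 hm),
      Herm.card_fixed_powHom hK, hF]
    have h1 : 1 ≤ q ^ k := Nat.one_le_pow _ _ (hF ▸ Fintype.card_pos)
    obtain ⟨c, hc⟩ : ∃ c, q ^ k = c + 1 := ⟨q ^ k - 1, by omega⟩
    rw [show 2 * k + 2 = (k + 1) + (k + 1) by ring, pow_add q (k + 1) (k + 1),
      show q ^ (k + 2) = q ^ (k + 1) * q from pow_succ q (k + 1), Nat.add_sub_cancel, hc, Nat.add_sub_cancel]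
    rw [show q ^ (k + 1) = (c + 1) * q by rw [pow_succ, hc]]
    ring)
  obtain ⟨R, hR, hRn⟩ := minus_form_exists k a b hab
  obtain ⟨η, f, hη, hf⟩ := minus_of_count (V := (Fin k ⊕ Fin k) ⊕ Fin 2 → F)
    (by simp; ring) R hRn (by rw [hR]; exact card_zeros_minus k a b hab)
  obtain ⟨σ, hσ⟩ := minus_equiv k hζ hη
  refine exists_hom_isometry Q _ ((f.symm.trans σ).trans e) (fun v => ?_)
    ((resHom (Fin (k + 1))).comp (Cfsg.GU (k + 1) K q).subtype) (resHom_injective.comp Subtype.val_injective)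
    fun g v => hpres g v
  obtain ⟨w, rfl⟩ := f.surjective v
  show Q (e (σ (f.symm (f w)))) = quadFormMinus k F a b (f w)
  rw [f.symm_apply_apply, he, hσ, ← hf, hR]

theorem sp_extension (hK : Fintype.card K = q ^ 2) (hF : Fintype.card F = q) (a : ℕ) :
    ∃ φ : ↥(Matrix.symplecticGroup (Fin a) K) →* ↥(Matrix.symplecticGroup (Fin (2 * a)) F),
      Function.Injective φ := by
  obtain ⟨ι, -⟩ := exists_embedding hK hF
  letI := ι.toAlgebra
  obtain ⟨ℓ, -, hℓ⟩ := exists_functional (F := F) (x := (0 : K)) (y := 1) (by simp)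
  let B : LinearMap.BilinForm F (Fin a ⊕ Fin a → K) :=
    LinearMap.mk₂ F (fun u v => ℓ (Symp.sympBil a K u v))
      (fun u u' v => by simp)
      (fun c u v => by
        simp only [← map_smul ℓ]
        congr 1
        rw [← algebraMap_smul K c u, ← algebraMap_smul K c (Symp.sympBil a K u v), map_smul, LinearMap.smul_apply])
      (fun u v v' => by simp)
      (fun c u v => by
        simp only [← map_smul ℓ]
        congr 1
        rw [← algebraMap_smul K c v, ← algebraMap_smul K c (Symp.sympBil a K u v), map_smul])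
  have hB : ∀ u v, B u v = ℓ (Symp.sympBil a K u v) := fun _ _ => rfl
  refine exists_hom_symplectic B (fun u => ?_) ⟨fun u h => ?_, fun u h => ?_⟩
    ((finrank_space hK hF (Fin a ⊕ Fin a)).trans (by simp; ring))
    ({ toFun := fun g => ((Symp.symplecticEquiv a K g : Symp.Sp (Symp.sympBil a K)) :
          (Fin a ⊕ Fin a → K) ≃ₗ[K] (Fin a ⊕ Fin a → K)).restrictScalars F
       map_one' := by rw [map_one]; rfl
       map_mul' := fun g h => by rw [map_mul]; rfl } :
      ↥(Matrix.symplecticGroup (Fin a) K) →* ((Fin a ⊕ Fin a → K) ≃ₗ[F] (Fin a ⊕ Fin a → K))) ?_ ?_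
  · show ℓ _ = 0
    rw [Symp.sympBil_isAlt a K u, map_zero]
  · refine (Symp.sympBil_nondegenerate a K).1 u fun v => ?_
    by_contra hc
    have h' := h ((Symp.sympBil a K u v)⁻¹ • v)
    rw [hB, map_smul, smul_eq_mul, inv_mul_cancel₀ hc, hℓ] at h'
    exact one_ne_zero h'
  · refine (Symp.sympBil_nondegenerate a K).2 u fun v => ?_
    by_contra hc
    have h' := h ((Symp.sympBil a K v u)⁻¹ • v)
    rw [hB, map_smul, LinearMap.smul_apply, smul_eq_mul, inv_mul_cancel₀ hc, hℓ] at h'
    exact one_ne_zero h'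
  · intro g h hgh
    apply (Symp.symplecticEquiv a K).injective
    refine Subtype.ext (LinearEquiv.ext fun v => ?_)
    exact LinearEquiv.congr_fun hgh v
  · intro g u v
    exact congrArg ℓ ((Symp.symplecticEquiv a K g).2 u v)

theorem minus_to_plus (hF : Fintype.card F = q) (hK : Fintype.card K = q ^ 2) {m : ℕ} (hm : 1 ≤ m) (a c : F)
    (hac : ∀ z₁ z₂ : F, z₁ ^ 2 + a * z₁ * z₂ + c * z₂ ^ 2 = 0 → z₁ = 0 ∧ z₂ = 0) :
    ∃ φ : ↥(Cfsg.isometryGroup F (Cfsg.quadFormMinus (m - 1) F a c)) →* ↥(Cfsg.isometryGroup K (Cfsg.quadFormPlus m K)),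
      Function.Injective φ := by
  classical
  obtain ⟨k, rfl⟩ : ∃ k, m = k + 1 := ⟨m - 1, by omega⟩
  obtain ⟨ι, hι⟩ := exists_embedding hK hF
  letI := ι.toAlgebra
  -- a root of the binary form over `K`
  obtain ⟨r, hr⟩ : ∃ r : K, r ^ 2 + ι a * r + ι c = 0 := by
    have hdeg : (Polynomial.X ^ 2 + Polynomial.C a * Polynomial.X + Polynomial.C c : Polynomial F).natDegree = 2 := by
      compute_degree!
    have hirr : Irreducible (Polynomial.X ^ 2 + Polynomial.C a * Polynomial.X + Polynomial.C c : Polynomial F) := by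
      refine (Polynomial.irreducible_iff_roots_eq_zero_of_degree_le_three hdeg.ge (by omega)).2 ?_
      refine Multiset.eq_zero_of_forall_notMem fun t ht => ?_
      have h := (Polynomial.mem_roots'.1 ht).2
      simp [Polynomial.IsRoot.def] at h
      exact one_ne_zero (hac t 1 (by linear_combination h)).2
    haveI : Fact (Irreducible _) := ⟨hirr⟩
    haveI : FiniteDimensional F (AdjoinRoot (Polynomial.X ^ 2 + Polynomial.C a * Polynomial.X + Polynomial.C c)) :=
      (AdjoinRoot.powerBasis hirr.ne_zero).finite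
    obtain ⟨f⟩ : Nonempty (AdjoinRoot (Polynomial.X ^ 2 + Polynomial.C a * Polynomial.X + Polynomial.C c) →ₐ[F] K) :=
      FiniteField.nonempty_algHom_of_finrank_dvd (by
        rw [(AdjoinRoot.powerBasis hirr.ne_zero).finrank, finrank_eq_two hK hF]
        exact dvd_of_eq hdeg)
    refine ⟨f (AdjoinRoot.root _), ?_⟩
    have h0 : Polynomial.aeval (f (AdjoinRoot.root _))
        (Polynomial.X ^ 2 + Polynomial.C a * Polynomial.X + Polynomial.C c : Polynomial F) = 0 := by
      rw [Polynomial.aeval_algHom_apply, AdjoinRoot.aeval_eq, AdjoinRoot.mk_self, map_zero]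
    simp only [map_add, map_mul, map_pow, Polynomial.aeval_X, Polynomial.aeval_C] at h0
    exact h0
  have hrr : r - (-ι a - r) ≠ 0 := by
    intro h
    have hD : ι (a ^ 2 - 4 * c) = 0 := by
      simp only [map_sub, map_mul, map_pow, map_ofNat]
      linear_combination (r * 2 + ι a) * h - 4 * hr
    have hD' : a ^ 2 - 4 * c = 0 := (map_eq_zero ι).1 hD
    by_cases h2 : (2 : F) = 0
    · haveI : CharP F 2 := CharTwo.of_one_ne_zero_of_two_eq_zero one_ne_zero h2
      have ha : a = 0 := by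
        rw [show (4 : F) = 2 * 2 by norm_num, h2] at hD'
        simpa using hD'
      obtain ⟨s, hs⟩ := isSquare_of_charTwo' c
      exact one_ne_zero (hac s 1 (by rw [ha, hs]; linear_combination s * s * h2)).2
    · exact one_ne_zero (hac (-a / 2) 1 (by field_simp; linear_combination -hD')).2
  obtain ⟨R, hR, -⟩ := minus_form_exists k a c hac
  obtain ⟨RK, hRK⟩ : ∃ RK : QuadraticForm K ((Fin k ⊕ Fin k) ⊕ Fin 2 → K), ⇑RK = quadFormMinus k K (ι a) (ι c) :=
    ⟨QuadraticMap.ofPolar (quadFormMinus k K (ι a) (ι c))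
      (fun t z => by
        simp only [quadFormMinus, Pi.smul_apply, smul_eq_mul, mul_add, Finset.mul_sum]
        congr 1
        · exact Finset.sum_congr rfl fun i _ => by ring
        · ring)
      (fun x y z => by
        simp only [QuadraticMap.polar, polar_minus, Pi.add_apply, mul_add, add_mul, Finset.sum_add_distrib]
        ring)
      (fun t x z => by
        simp only [QuadraticMap.polar, polar_minus, smul_eq_mul, Pi.smul_apply]
        rw [mul_add t, Finset.mul_sum]
        congr 1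
        · exact Finset.sum_congr rfl fun i _ => by ring
        · ring), rfl⟩
  -- the base change of a matrix preserves the extended form
  let ρ : ↥(Cfsg.isometryGroup F (Cfsg.quadFormMinus k F a c)) →*
      (((Fin k ⊕ Fin k) ⊕ Fin 2 → K) ≃ₗ[K] ((Fin k ⊕ Fin k) ⊕ Fin 2 → K)) :=
    ((LinearMap.GeneralLinearGroup.generalLinearEquiv K _).toMonoidHom.comp
      (Matrix.GeneralLinearGroup.toLin.toMonoidHom.comp (Matrix.GeneralLinearGroup.map ι))).comp
      (Cfsg.isometryGroup F (Cfsg.quadFormMinus k F a c)).subtype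
  have hbase : ∀ v : (Fin k ⊕ Fin k) ⊕ Fin 2 → F,
      quadFormMinus k K (ι a) (ι c) (ι ∘ v) = ι (quadFormMinus k F a c v) := fun v => by
    simp [quadFormMinus]
  have hρe : ∀ (g : ↥(Cfsg.isometryGroup F (Cfsg.quadFormMinus k F a c))) (v : (Fin k ⊕ Fin k) ⊕ Fin 2 → F),
      ρ g (ι ∘ v) = ι ∘ (((g : Matrix.GeneralLinearGroup ((Fin k ⊕ Fin k) ⊕ Fin 2) F) :
        Matrix ((Fin k ⊕ Fin k) ⊕ Fin 2) ((Fin k ⊕ Fin k) ⊕ Fin 2) F) *ᵥ v) := fun g v => by
    funext i
    exact (RingHom.map_mulVec ι _ v i).symm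
  have hpres : ∀ g v, RK (ρ g v) = RK v := by
    intro g
    suffices h : RK.comp ((ρ g : ((Fin k ⊕ Fin k) ⊕ Fin 2 → K) ≃ₗ[K] _) : _ →ₗ[K] _) = RK from
      fun v => DFunLike.congr_fun h v
    have hsingle : ∀ i, (Pi.single i (1 : K) : (Fin k ⊕ Fin k) ⊕ Fin 2 → K) = ι ∘ Pi.single i (1 : F) := fun i => by
      funext j
      rw [Function.comp_apply, Pi.single_apply, Pi.single_apply]
      split_ifs <;> simp
    have hQF : ∀ v : (Fin k ⊕ Fin k) ⊕ Fin 2 → F,
        quadFormMinus k F a c (((g : Matrix.GeneralLinearGroup ((Fin k ⊕ Fin k) ⊕ Fin 2) F) :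
          Matrix ((Fin k ⊕ Fin k) ⊕ Fin 2) ((Fin k ⊕ Fin k) ⊕ Fin 2) F) *ᵥ v) =
        quadFormMinus k F a c v := fun v => g.2 v v
    have hpt : ∀ v : (Fin k ⊕ Fin k) ⊕ Fin 2 → F, RK (ρ g (ι ∘ v)) = RK (ι ∘ v) := fun v => by
      rw [hρe, hRK, hbase, hbase, hQF]
    refine QuadraticMap.ext fun v => ?_
    rw [← (Pi.basisFun K _).sum_repr v]
    simp only [QuadraticMap.comp_apply, LinearEquiv.coe_coe]
    rw [map_sum]
    simp only [map_smul, Pi.basisFun_apply, hsingle]
    rw [QuadraticMap.map_sum, QuadraticMap.map_sum]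
    congr 1
    · refine Finset.sum_congr rfl fun i _ => ?_
      rw [QuadraticMap.map_smul, QuadraticMap.map_smul, hpt]
    · refine Finset.sum_congr rfl fun p _ => ?_
      induction p using Sym2.ind with
      | _ i j =>
        simp only [Sym2.map_mk, QuadraticMap.polarSym2_sym2Mk, QuadraticMap.polar_smul_left, QuadraticMap.polar_smul_right]
        congr 2
        simp only [QuadraticMap.polar, ← map_add]
        have hadd : ι ∘ (Pi.single i (1 : F)) + ι ∘ (Pi.single j 1) =
            ι ∘ (Pi.single i 1 + Pi.single j 1 : (Fin k ⊕ Fin k) ⊕ Fin 2 → F) := by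
          funext x; simp
        rw [hadd, hpt, hpt, hpt]
  -- coordinates in which the extended form is hyperbolic
  let r' : K := -ι a - r
  let T : (Fin (k + 1) ⊕ Fin (k + 1) → K) →ₗ[K] ((Fin k ⊕ Fin k) ⊕ Fin 2 → K) :=
    { toFun := fun w => Sum.elim (consEquiv k w).2
        ![(r * (consEquiv k w).1.2 - r' * (consEquiv k w).1.1) / (r - r'),
          ((consEquiv k w).1.2 - (consEquiv k w).1.1) / (r - r')]
      map_add' := fun u v => by
        funext x; rcases x with x | x
        · simp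
        · fin_cases x <;> simp <;> ring
      map_smul' := fun t v => by
        funext x; rcases x with x | x
        · simp
        · fin_cases x <;> simp <;> ring }
  have hrr' : r - r' ≠ 0 := hrr
  have hT : Function.Injective T := by
    intro u v h
    apply (consEquiv k).injective
    have h0 := congrFun h (.inr 0)
    have h1 := congrFun h (.inr 1)
    simp [T] at h0 h1
    rw [div_left_inj' hrr'] at h0 h1
    refine Prod.ext (Prod.ext ?_ ?_) (funext fun x => congrFun h (.inl x))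
    · apply mul_left_cancel₀ hrr'
      linear_combination h0 - r * h1
    · apply mul_left_cancel₀ hrr'
      linear_combination h0 - r' * h1
  let e := LinearMap.linearEquivOfInjective T hT (by simp; ring)
  refine exists_hom_isometry RK _ e (fun w => ?_) ρ ?_ hpres
  · show RK (T w) = _
    rw [hRK, consEquiv_plus]
    simp only [T, quadFormMinus, quadFormPlus, LinearMap.coe_mk, AddHom.coe_mk, Sum.elim_inl, Sum.elim_inr,
      Matrix.cons_val_zero, Matrix.cons_val_one]
    rw [add_comm]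
    congr 1
    have hsum : r + r' = -ι a := by simp [r']
    have hprod : r * r' = ι c := by simp only [r']; linear_combination -hr
    field_simp
    rw [← hprod, show ι a = -(r + r') by rw [hsum, neg_neg]]
    ring
  · intro g h hgh
    refine Subtype.ext (Units.ext (Matrix.ext fun i j => ι.injective ?_))
    have h' := congrFun (LinearEquiv.congr_fun hgh (ι ∘ Pi.single j 1)) i
    rw [hρe, hρe] at h'
    simpa using h'

end CfsgLib.Known.FieldExtensionEmbed
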