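import Mathlib
import Cfsg.Agent.Lib.Known.GLFourTwoFacts
import Cfsg.Agent.Lib.Core.Basic
import Cfsg.Agent.Lib.Components.Subnormal

/-!
Orders of insoluble subgroups of `A₈` with trivial soluble radical.
-/

set_option autoImplicit false
set_option linter.style.haveILetI false

namespace CfsgLib.Known.GLFourTwo

open Subgroup
open scoped commutatorElement

variable {G : Type} [Group G] [Finite G]

/-- The trivial soluble radical condition. -/
def NoSolvNormal (G : Type) [Group G] : Prop :=
  ∀ N : Subgroup G, N.Normal → Group.IsSolvable N → N = ⊥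

theorem card_dvd (φ : G →* alternatingGroup (Fin 8)) (hφ : Function.Injective φ) :
    Nat.card G ∣ 20160 := card_A8 ▸ Subgroup.card_dvd_of_injective φ hφ

theorem perm_injective (φ : G →* alternatingGroup (Fin 8)) (hφ : Function.Injective φ) :
    Function.Injective ((alternatingGroup (Fin 8)).subtype.comp φ) :=
  (alternatingGroup (Fin 8)).subtype_injective.comp hφ

theorem map_centralizer_le {H : Type} [Group H] (f : G →* H) (x : G) :
    (centralizer {x}).map f ≤ centralizer {f x} := by
  rintro _ ⟨c, hc, rfl⟩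
  rw [mem_centralizer_singleton_iff, ← map_mul, ← map_mul,
    mem_centralizer_singleton_iff.1 hc]

theorem card_centralizer_seven (φ : G →* alternatingGroup (Fin 8)) (hφ : Function.Injective φ)
    {x : G} (hx : orderOf x = 7) : Nat.card (centralizer {x}) = 7 := by
  have hi := perm_injective φ hφ
  have h1 := Subgroup.card_dvd_of_le
    (map_centralizer_le ((alternatingGroup (Fin 8)).subtype.comp φ) x)
  rw [Subgroup.card_map_of_injective hi,
    card_centralizer_perm_seven (by rw [orderOf_injective _ hi, hx])] at h1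
  refine Nat.dvd_antisymm h1 ?_
  rw [← hx, ← Nat.card_zpowers]
  exact Subgroup.card_dvd_of_le (zpowers_le.2 (mem_centralizer_singleton_iff.2 rfl))

theorem card_centralizer_five (φ : G →* alternatingGroup (Fin 8)) (hφ : Function.Injective φ)
    {x : G} (hx : orderOf x = 5) : Nat.card (centralizer {x}) ∣ 15 := by
  have hi := perm_injective φ hφ
  rw [← card_centralizer_alt_five (σ := ((alternatingGroup (Fin 8)).subtype.comp φ) x)
    (by rw [orderOf_injective _ hi, hx]), ← Subgroup.card_map_of_injective hi]
  refine Subgroup.card_dvd_of_le (le_inf (map_centralizer_le _ x) ?_)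
  rintro _ ⟨c, _, rfl⟩
  exact (φ c).2

theorem centralizer_zpowers (x : G) :
    centralizer ((zpowers x : Subgroup G) : Set G) = centralizer {x} := by
  rw [zpowers_eq_closure, centralizer_closure]

/-- The normaliser of a subgroup of prime order: centraliser order times a divisor of `p - 1`. -/
theorem card_normalizer_prime {p : ℕ} [Fact p.Prime] {x : G} (hx : orderOf x = p) :
    ∃ k, k ∣ p - 1 ∧ Nat.card (normalizer ((zpowers x : Subgroup G) : Set G)) =
      Nat.card (centralizer {x}) * k ∧
      (k = 1 → normalizer ((zpowers x : Subgroup G) : Set G) ≤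
        centralizer ((zpowers x : Subgroup G) : Set G)) := by
  classical
  set P : Subgroup G := zpowers x
  set f := P.normalizerMonoidHom
  have hle : centralizer (P : Set G) ≤ normalizer (P : Set G) := centralizer_le_normalizer _
  have hk : Nat.card f.ker = Nat.card (centralizer {x}) := by
    rw [Subgroup.normalizerMonoidHom_ker, Nat.card_congr (subgroupOfEquivOfLe hle).toEquiv,
      centralizer_zpowers]
  haveI : IsCyclic P := Subgroup.isCyclic_zpowers x
  have hA : Nat.card (MulAut P) = p - 1 := by
    rw [IsCyclic.card_mulAut, Nat.card_zpowers, hx, Nat.totient_prime Fact.out]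
  refine ⟨f.ker.index, ?_, ?_, ?_⟩
  · rw [Subgroup.index_ker, ← hA]
    exact Subgroup.card_subgroup_dvd_card _
  · rw [← hk, mul_comm, Subgroup.index_mul_card]
  · intro h1 g hg
    rw [Subgroup.index_eq_one, Subgroup.normalizerMonoidHom_ker] at h1
    exact mem_subgroupOf.1 (h1.ge (mem_top (⟨g, hg⟩ : normalizer (P : Set G))))

theorem card_normalizer_seven (φ : G →* alternatingGroup (Fin 8)) (hφ : Function.Injective φ)
    {x : G} (hx : orderOf x = 7) :
    (Nat.card (normalizer ((zpowers x : Subgroup G) : Set G)) = 7 ∧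
      normalizer ((zpowers x : Subgroup G) : Set G) ≤ centralizer ((zpowers x : Subgroup G) : Set G)) ∨
    Nat.card (normalizer ((zpowers x : Subgroup G) : Set G)) = 21 := by
  classical
  haveI : Fact (Nat.Prime 7) := ⟨by norm_num⟩
  obtain ⟨k, hk, hN, h1⟩ := card_normalizer_prime hx
  rw [card_centralizer_seven φ hφ hx] at hN
  have hodd : ¬ 2 ∣ Nat.card (normalizer ((zpowers x : Subgroup G) : Set G)) := by
    intro h2
    haveI : Fact (Nat.Prime 2) := ⟨by norm_num⟩
    obtain ⟨u, hu⟩ := exists_prime_orderOf_dvd_card' 2 h2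
    have hu' : orderOf (u : G) = 2 := by rw [Subgroup.orderOf_coe, hu]
    have hu2 : (u : G) * u = 1 := by rw [← pow_two, ← hu', pow_orderOf_eq_one]
    have hy : (u : G) * x * (u : G)⁻¹ ∈ zpowers x :=
      (Subgroup.mem_normalizer_iff.1 u.2 x).1 (mem_zpowers x)
    rw [← mem_powers_iff_mem_zpowers, Submonoid.mem_powers_iff] at hy
    obtain ⟨j₀, hj₀⟩ := hy
    rw [pow_mod_orderOf x j₀ |>.symm, hx] at hj₀
    set j := j₀ % 7
    have hj7 : j < 7 := Nat.mod_lt _ (by norm_num)
    have hjj : x ^ (j * j) = x := by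
      rw [pow_mul, hj₀, conj_pow, hj₀]
      have : ((u : G))⁻¹ = u := inv_eq_of_mul_eq_one_right hu2
      rw [this]
      calc (u : G) * (u * x * u) * u = (u * u) * x * (u * u) := by group
        _ = x := by rw [hu2]; group
    have hmod : j * j ≡ 1 [MOD 7] := by
      rw [← hx, ← pow_eq_pow_iff_modEq, hjj, pow_one]
    interval_cases j <;> (try (exact absurd hmod (by decide)))
    · -- the centralising case
      have hc : (u : G) ∈ centralizer {x} := by
        rw [mem_centralizer_singleton_iff]
        rw [pow_one] at hj₀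
        calc (u : G) * x = ((u : G) * x * (u : G)⁻¹) * u := by group
          _ = x * u := by rw [← hj₀]
      have := Subgroup.orderOf_dvd_natCard (s := centralizer {x}) hc
      rw [hu', card_centralizer_seven φ hφ hx] at this
      omega
    · -- the inverting case
      have hinv : (u : G) * x * (u : G)⁻¹ = x⁻¹ := by
        rw [← hj₀, eq_inv_iff_mul_eq_one, ← pow_succ]
        have := pow_orderOf_eq_one x
        rwa [hx] at this
      set ψ := (alternatingGroup (Fin 8)).subtype.comp φ
      have h := sign_eq_neg_of_invert (σ := ψ x) (u := ψ u)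
        (by rw [orderOf_injective ψ (perm_injective φ hφ), hx])
        (by rw [← map_inv, ← map_mul, ← map_mul, hinv, map_inv])
      have h' : Equiv.Perm.sign (ψ u) = 1 := Equiv.Perm.mem_alternatingGroup.1 (φ u).2
      rw [h'] at h
      exact absurd h (by decide)
  have hk' : k ∣ 6 := hk
  have hkle := Nat.le_of_dvd (by norm_num) hk'
  interval_cases k
  all_goals first
    | exact Or.inl ⟨by omega, h1 rfl⟩
    | exact Or.inr (by omega)
    | exact absurd hk' (by decide)
    | (exfalso; exact hodd (by omega))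

theorem card_normalizer_five (φ : G →* alternatingGroup (Fin 8)) (hφ : Function.Injective φ)
    {x : G} (hx : orderOf x = 5) :
    Nat.card (normalizer ((zpowers x : Subgroup G) : Set G)) ∣ 60 ∧
      (¬ 2 ∣ Nat.card (normalizer ((zpowers x : Subgroup G) : Set G)) →
        normalizer ((zpowers x : Subgroup G) : Set G) ≤
          centralizer ((zpowers x : Subgroup G) : Set G)) := by
  haveI : Fact (Nat.Prime 5) := ⟨by norm_num⟩
  obtain ⟨k, hk, hN, h1⟩ := card_normalizer_prime hx
  refine ⟨?_, fun hodd => h1 ?_⟩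
  · rw [hN]
    exact (Nat.mul_dvd_mul (card_centralizer_five φ hφ hx) hk).trans (by norm_num)
  · rw [hN] at hodd
    have hk2 : ¬ 2 ∣ k := fun h => hodd (h.mul_left _)
    have hk' : k ∣ 4 := hk
    have hkle := Nat.le_of_dvd (by norm_num) hk'
    interval_cases k <;> omega

/-- A Sylow subgroup of order `p` is generated by an element of order `p`. -/
theorem sylow_eq_zpowers {p : ℕ} [Fact p.Prime] (hp : (Nat.card G).factorization p = 1)
    (P : Sylow p G) : ∃ x : G, orderOf x = p ∧ (P : Subgroup G) = zpowers x := by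
  have hc : Nat.card (P : Subgroup G) = p := by rw [P.card_eq_multiplicity, hp, pow_one]
  obtain ⟨x, hx⟩ := exists_prime_orderOf_dvd_card' (G := (P : Subgroup G)) p hc.symm.dvd
  refine ⟨x, by rw [Subgroup.orderOf_coe, hx], (Subgroup.eq_of_le_of_card_ge (zpowers_le.2 x.2) ?_).symm⟩
  rw [hc, Nat.card_zpowers, Subgroup.orderOf_coe, hx]

theorem normalizer_eq {p : ℕ} {P : Sylow p G} {x : G} (hP : (P : Subgroup G) = zpowers x) :
    normalizer (P : Set G) = normalizer ((zpowers x : Subgroup G) : Set G) :=
  congrArg (fun s : Set G => normalizer s) (congrArg SetLike.coe hP)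

theorem centralizer_eq {p : ℕ} {P : Sylow p G} {x : G} (hP : (P : Subgroup G) = zpowers x) :
    centralizer (P : Set G) = centralizer ((zpowers x : Subgroup G) : Set G) :=
  congrArg (fun s : Set G => centralizer s) (congrArg SetLike.coe hP)

theorem factorization_eq_one {p : ℕ} (hp : p.Prime) {n m : ℕ} (hn : n ≠ 0) (h : p ∣ n)
    (hnm : n ∣ m) (hm : ¬ p ^ 2 ∣ m) : n.factorization p = 1 := by
  have h1 := (hp.pow_dvd_iff_le_factorization hn (k := 1)).1 (by rwa [pow_one])
  have h2 : ¬ 2 ≤ n.factorization p := fun hle =>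
    hm (((hp.pow_dvd_iff_le_factorization hn (k := 2)).2 hle).trans hnm)
  omega

theorem one_lt_card_sylow (hrad : NoSolvNormal G) {p : ℕ} [Fact p.Prime] (hdvd : p ∣ Nat.card G) :
    1 < Nat.card (Sylow p G) := by
  by_contra h
  haveI : Subsingleton (Sylow p G) := by
    rw [← Finite.card_le_one_iff_subsingleton]
    omega
  obtain ⟨P⟩ : Nonempty (Sylow p G) := inferInstance
  haveI : (P : Subgroup G).Normal := Sylow.normal_of_subsingleton P
  haveI := P.2.isNilpotent
  exact (P.ne_bot_of_dvd_card hdvd) (hrad _ inferInstance inferInstance)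

/-- The numerical content of the Sylow data for the prime seven. -/
theorem seven_orders {N : ℕ} (hN : N ∣ 20160) (n : ℕ) (h : N = 21 * n) (hn : 1 < n)
    (hmod : n % 7 = 1) : N = 168 ∨ N = 315 ∨ N = 1344 ∨ N = 2520 ∨ N = 20160 := by
  have hn960 : n ∣ 960 := Nat.dvd_of_mul_dvd_mul_left (show 0 < 21 by norm_num) (h ▸ hN)
  have key : ∀ d ∈ Nat.divisors 960, d % 7 = 1 → 1 < d →
      21 * d = 168 ∨ 21 * d = 315 ∨ 21 * d = 1344 ∨ 21 * d = 2520 ∨ 21 * d = 20160 := by
    decide +kernel
  subst h
  exact key n (Nat.mem_divisors.2 ⟨hn960, by norm_num⟩) hmod hn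

theorem five_orders {N : ℕ} (hN : N ∣ 2880) (n m : ℕ) (h : N = n * m) (hn : 1 < n)
    (hmod : n % 5 = 1) (hm : m ∣ 60) (hm5 : 5 ∣ m) (hm2 : 2 ∣ m) :
    N = 60 ∨ N = 120 ∨ N = 160 ∨ N = 180 ∨ N = 320 ∨ N = 360 ∨ N = 480 ∨ N = 720 ∨ N = 960 ∨
      N = 2880 := by
  have key : ∀ m ∈ Nat.divisors 60, ∀ n ∈ Nat.divisors 2880, 5 ∣ m → 2 ∣ m → n % 5 = 1 → 1 < n →
      n * m ∣ 2880 → n * m = 60 ∨ n * m = 120 ∨ n * m = 160 ∨ n * m = 180 ∨ n * m = 320 ∨
      n * m = 360 ∨ n * m = 480 ∨ n * m = 720 ∨ n * m = 960 ∨ n * m = 2880 := by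
    decide +kernel
  subst h
  exact key m (Nat.mem_divisors.2 ⟨hm, by norm_num⟩) n
    (Nat.mem_divisors.2 ⟨(dvd_mul_right n m).trans hN, by norm_num⟩) hm5 hm2 hmod hn hN

theorem five_seven_normalizer {M : ℕ} (hM : M ∣ 60) : ¬ 7 ∣ M := fun h =>
  absurd (h.trans hM) (by decide)

/-- No proper subgroup of `A₈` has index less than eight. -/
theorem index_A8_ge (K : Subgroup (alternatingGroup (Fin 8))) (hK : K ≠ ⊤) : 8 ≤ K.index := by
  by_contra hlt
  push Not at hlt
  haveI : IsSimpleGroup (alternatingGroup (Fin 8)) :=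
    alternatingGroup.isSimpleGroup (by rw [Nat.card_fin]; norm_num)
  have hne : K.normalCore ≠ ⊤ := fun h => hK (top_le_iff.1 (h ▸ K.normalCore_le))
  have hbot : K.normalCore = ⊥ :=
    (Subgroup.normalCore_normal K).eq_bot_or_eq_top.resolve_right hne
  have h1 : K.normalCore.index ∣ K.index.factorial := by
    rw [Subgroup.normalCore_eq_ker, Subgroup.index_ker]
    have h2 := Subgroup.card_subgroup_dvd_card
      (MulAction.toPermHom (alternatingGroup (Fin 8)) (alternatingGroup (Fin 8) ⧸ K)).range
    rwa [Nat.card_perm, ← Subgroup.index_eq_card] at h2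
  rw [hbot, Subgroup.index_bot, card_A8] at h1
  have h3 := Nat.le_of_dvd (Nat.factorial_pos _) h1
  have h4 : K.index.factorial ≤ Nat.factorial 7 := Nat.factorial_le (by omega)
  have : Nat.factorial 7 = 5040 := rfl
  omega

theorem card_ne_of_lt (φ : G →* alternatingGroup (Fin 8)) (hφ : Function.Injective φ)
    (h1 : Nat.card G < 20160) : Nat.card G ≤ 2520 := by
  have hr : Nat.card φ.range = Nat.card G :=
    Nat.card_congr (MonoidHom.ofInjective hφ).toEquiv.symm
  have hne : φ.range ≠ ⊤ := fun h => by
    rw [h, Subgroup.card_top, card_A8] at hr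
    omega
  have h8 := index_A8_ge φ.range hne
  have := φ.range.index_mul_card
  rw [card_A8, hr] at this
  nlinarith

/-- The possible orders. -/
theorem order_cases (φ : G →* alternatingGroup (Fin 8)) (hφ : Function.Injective φ)
    (hrad : NoSolvNormal G) (hns : ¬ Group.IsSolvable G) :
    Nat.card G ∈ [60, 120, 180, 360, 480, 720, 960, 168, 1344, 2520, 20160] := by
  have hd := card_dvd φ hφ
  have hpos : Nat.card G ≠ 0 := Nat.card_pos.ne'
  haveI : Fact (Nat.Prime 5) := ⟨by norm_num⟩
  haveI : Fact (Nat.Prime 7) := ⟨by norm_num⟩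
  -- data at the prime five
  have five : 5 ∣ Nat.card G → ∃ n m, Nat.card G = n * m ∧ n % 5 = 1 ∧ 1 < n ∧ m ∣ 60 ∧ 5 ∣ m ∧
      (¬ 2 ∣ m → ∀ q r a b : ℕ, q.Prime → r.Prime → ¬ Nat.card G ∣ 5 * (q ^ a * r ^ b)) := by
    intro h5
    obtain ⟨P⟩ : Nonempty (Sylow 5 G) := inferInstance
    obtain ⟨x, hx, hP⟩ := sylow_eq_zpowers
      (factorization_eq_one (p := 5) (by norm_num) hpos h5 hd (by norm_num)) P
    obtain ⟨hm, hodd⟩ := card_normalizer_five φ hφ hx
    refine ⟨Nat.card (Sylow 5 G), Nat.card (normalizer ((zpowers x : Subgroup G) : Set G)), ?_,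
      ?_, one_lt_card_sylow hrad h5, hm, ?_, ?_⟩
    · rw [P.card_eq_index_normalizer, normalizer_eq hP, Subgroup.index_mul_card]
    · exact card_sylow_modEq_one 5 G
    · rw [← hx, ← Nat.card_zpowers]
      exact Subgroup.card_dvd_of_le Subgroup.le_normalizer
    · intro h2 q r a b hq hr hG
      refine hns (isSolvable_of_normalizer_le_centralizer P (by rw [normalizer_eq hP, centralizer_eq hP]; exact hodd h2) hq hr
        (a := a) (b := b) ?_)
      have hi := (P : Subgroup G).index_mul_card
      rw [hP, Nat.card_zpowers, hx, mul_comm] at hi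
      rw [hP]
      rw [← hi] at hG
      exact Nat.dvd_of_mul_dvd_mul_left (by norm_num) hG
  by_cases h7 : 7 ∣ Nat.card G
  · obtain ⟨P⟩ : Nonempty (Sylow 7 G) := inferInstance
    obtain ⟨x, hx, hP⟩ := sylow_eq_zpowers
      (factorization_eq_one (p := 7) (by norm_num) hpos h7 hd (by norm_num)) P
    have hn := one_lt_card_sylow hrad h7
    have hmul : Nat.card (Sylow 7 G) * Nat.card (normalizer ((zpowers x : Subgroup G) : Set G)) =
        Nat.card G := by
      rw [P.card_eq_index_normalizer, normalizer_eq hP, Subgroup.index_mul_card]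
    rcases card_normalizer_seven φ hφ hx with ⟨h7N, hle⟩ | h21
    · exfalso
      by_cases h5 : 5 ∣ Nat.card G
      · -- the complement contains the Sylow five-subgroups
        obtain ⟨Q⟩ : Nonempty (Sylow 5 G) := inferInstance
        obtain ⟨y, hy, hQ⟩ := sylow_eq_zpowers
          (factorization_eq_one (p := 5) (by norm_num) hpos h5 hd (by norm_num)) Q
        have hle' : normalizer (P : Set G) ≤ centralizer (P : Set G) := by rw [normalizer_eq hP, centralizer_eq hP]; exact hle
        set K := (MonoidHom.transferSylow P hle').ker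
        have hK := MonoidHom.ker_transferSylow_isComplement' P hle'
        have hK7 : ¬ 7 ∣ Nat.card K := MonoidHom.not_dvd_card_ker_transferSylow P hle'
        have hQK : (Q : Subgroup G) ≤ K := by
          intro g hg
          rw [hQ] at hg
          refine MonoidHom.mem_ker.2 ?_
          have h1 : orderOf (MonoidHom.transferSylow P hle' g) ∣ 5 := by
            refine (orderOf_map_dvd _ g).trans ?_
            rw [← hy]
            exact (Subgroup.orderOf_dvd_natCard _ hg).trans (Nat.card_zpowers y).dvd
          have h2 : orderOf (MonoidHom.transferSylow P hle' g) ∣ 7 := by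
            have : Nat.card (P : Subgroup G) = 7 := by rw [hP, Nat.card_zpowers, hx]
            exact (_root_.orderOf_dvd_natCard _).trans this.dvd
          exact orderOf_eq_one_iff.1 (Nat.dvd_one.1 (Nat.dvd_gcd h1 h2))
        have htop := Q.normalizer_sup_eq_top' hQK
        have h3 := CfsgLib.Core.card_sup_dvd (normalizer (Q : Set G)) K
          (by rw [Subgroup.normalizer_eq_top]; exact le_top)
        rw [htop, Subgroup.card_top] at h3
        rcases (Nat.Prime.dvd_mul (by norm_num)).1 (h7.trans h3) with h | h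
        · rw [normalizer_eq hQ] at h
          exact five_seven_normalizer (card_normalizer_five φ hφ hy).1 h
        · exact hK7 h
      · refine hns (isSolvable_of_normalizer_le_centralizer P (by rw [normalizer_eq hP, centralizer_eq hP]; exact hle)
          Nat.prime_two Nat.prime_three (a := 6) (b := 2) ?_)
        have hi := (P : Subgroup G).index_mul_card
        rw [hP, Nat.card_zpowers, hx, mul_comm] at hi
        rw [hP]
        have hc : Nat.Coprime (zpowers x).index 5 :=
          ((Nat.prime_five.coprime_iff_not_dvd).2 fun h => h5 (hi ▸ h.mul_left 7)).symm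
        have h' : (zpowers x).index ∣ 5 * (2 ^ 6 * 3 ^ 2) :=
          Nat.dvd_of_mul_dvd_mul_left (show 0 < 7 by norm_num) (hi ▸ hd)
        exact hc.dvd_of_dvd_mul_left h'
    · rw [h21] at hmul
      rcases seven_orders hd _ (hmul.symm.trans (mul_comm _ _)) hn (card_sylow_modEq_one 7 G) with
        h | h | h | h | h
      all_goals try (simp [h]; done)
      -- order 315
      exfalso
      obtain ⟨n, m, hnm, -, -, hm, -, hodd⟩ := five (by rw [h]; norm_num)
      refine hodd ?_ 3 7 2 1 (by norm_num) (by norm_num) (by rw [h]; norm_num)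
      intro h2
      have : 2 ∣ Nat.card G := hnm ▸ h2.mul_left n
      omega
  · have hd' : Nat.card G ∣ 2880 :=
      Nat.Coprime.dvd_of_dvd_mul_left ((Nat.Prime.coprime_iff_not_dvd (by norm_num)).2 h7).symm
        (show Nat.card G ∣ 7 * 2880 from hd)
    by_cases h5 : 5 ∣ Nat.card G
    · obtain ⟨n, m, hnm, hmod, hn, hm, hm5, hodd⟩ := five h5
      by_cases h2 : 2 ∣ m
      · have h160 : ∀ a, Nat.card G ≠ 2 ^ a * 5 ^ 1 := fun a h =>
          hns (CfsgLib.Burnside.isSolvable_of_card_eq Nat.prime_two Nat.prime_five h)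
        have := h160 5; have := h160 6
        rcases five_orders hd' n m hnm hn hmod hm hm5 h2 with
          h | h | h | h | h | h | h | h | h | h
        all_goals try (simp [h]; done)
        all_goals try omega
        have := card_ne_of_lt φ hφ (by omega)
        omega
      · exact absurd hd' (hodd h2 2 3 6 2 Nat.prime_two Nat.prime_three)
    · exfalso
      have hd'' : Nat.card G ∣ 2 ^ 6 * 3 ^ 2 :=
        Nat.Coprime.dvd_of_dvd_mul_left ((Nat.prime_five.coprime_iff_not_dvd).2 h5).symm
          (show Nat.card G ∣ 5 * (2 ^ 6 * 3 ^ 2) from hd')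
      obtain ⟨d₁, d₂, h1, h2, hdd⟩ := Nat.dvd_mul.mp hd''
      obtain ⟨i, -, rfl⟩ := (Nat.dvd_prime_pow Nat.prime_two).mp h1
      obtain ⟨j, -, rfl⟩ := (Nat.dvd_prime_pow Nat.prime_three).mp h2
      exact hns (CfsgLib.Burnside.isSolvable_of_card_eq Nat.prime_two Nat.prime_three hdd.symm)

end CfsgLib.Known.GLFourTwo
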