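import Mathlib
import Cfsg.Agent.Lib.Known.GLFourTwoOrders
import Cfsg.Agent.Lib.ClassSizes.AlternatingAut
import Cfsg.Agent.Lib.Classical.AutRankFour
import Cfsg.Agent.Lib.Classical.SevenTwo
import Cfsg.Agent.S0494
import Cfsg.Agent.S0495
import Cfsg.Agent.S0497

/-!
Subgroups of `GL(4, 2)` with trivial `O₂` and trivial odd core.
-/

set_option autoImplicit false
set_option linter.style.haveILetI false

namespace CfsgLib.Known.GLFourTwo

open Subgroup
open scoped commutatorElement

variable {G : Type} [Group G] [Finite G]

/-- The trivial radical condition passes to normal subgroups. -/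
theorem noSolvNormal_normal (hrad : NoSolvNormal G) (N : Subgroup G) [N.Normal] :
    NoSolvNormal ↥N := by
  intro K hK hKs
  set S : Subgroup ↥N := sSup {K | K.Normal ∧ Group.IsSolvable K}
  have hSn : S.Normal := Subgroup.sSup_normal _ fun L hL => hL.1
  have hSs : Group.IsSolvable S :=
    CfsgLib.Core.sSup_normal_induction (fun L => Group.IsSolvable L) inferInstance
      (fun A B hA _ hAs hBs => by
        haveI := hA
        exact CfsgLib.Components.isSolvable_sup (by rw [Subgroup.normalizer_eq_top]; exact le_top)
          hAs hBs)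
      _ fun L hL => hL
  have himg : (S.map N.subtype).Normal := by
    constructor
    rintro _ ⟨s, hs, rfl⟩ g
    refine ⟨MulAut.conjNormal g s, ?_, MulAut.conjNormal_apply g s⟩
    have h1 : (S.map (MulAut.conjNormal g : MulAut N).toMonoidHom) ≤ S :=
      le_sSup ⟨hSn.map _ (MulAut.conjNormal g : MulAut N).surjective,
        Group.isSolvable_of_surjective (MonoidHom.subgroupMap_surjective _ S)⟩
    exact h1 ⟨s, hs, rfl⟩
  have hb : S.map N.subtype = ⊥ :=
    hrad _ himg (Group.isSolvable_of_surjective (MonoidHom.subgroupMap_surjective _ S))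
  rw [Subgroup.map_eq_bot_iff_of_injective _ N.subtype_injective] at hb
  exact le_bot_iff.1 (hb ▸ le_sSup (show K ∈ {K : Subgroup ↥N | K.Normal ∧ Group.IsSolvable K} from
    ⟨hK, hKs⟩))

theorem mem_list {n : ℕ} (h : n ∈ [60, 120, 180, 360, 480, 720, 960, 168, 1344, 2520, 20160]) :
    n = 60 ∨ n = 120 ∨ n = 180 ∨ n = 360 ∨ n = 480 ∨ n = 720 ∨ n = 960 ∨ n = 168 ∨ n = 1344 ∨
      n = 2520 ∨ n = 20160 := by
  simpa using h

theorem card_le_of_ne (φ : G →* alternatingGroup (Fin 8)) (hφ : Function.Injective φ)
    (h : Nat.card G ≠ 20160) : Nat.card G ≤ 2520 :=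
  card_ne_of_lt φ hφ (lt_of_le_of_ne (Nat.le_of_dvd (by norm_num) (card_dvd φ hφ)) h)

/-- A minimal insoluble normal subgroup is simple. -/
theorem exists_simple_normal (φ : G →* alternatingGroup (Fin 8)) (hφ : Function.Injective φ)
    (hrad : NoSolvNormal G) (hns : ¬ Group.IsSolvable G) (h2520 : Nat.card G ≤ 2520) :
    ∃ D : Subgroup G, D.Normal ∧ IsSimpleGroup D ∧ ¬ IsMulCommutative D ∧
      Subgroup.centralizer (D : Set G) = ⊥ := by
  classical
  have hex : ∃ n, ∃ D : Subgroup G, D.Normal ∧ ¬ Group.IsSolvable D ∧ Nat.card D = n :=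
    ⟨_, ⊤, inferInstance, fun h => hns (Group.isSolvable_of_surjective
      (f := (Subgroup.topEquiv : (⊤ : Subgroup G) ≃* G).toMonoidHom) (MulEquiv.surjective _)), rfl⟩
  obtain ⟨D, hDn, hDs, hDc⟩ := Nat.find_spec hex
  have hmin : ∀ E : Subgroup G, E.Normal → ¬ Group.IsSolvable E → Nat.card D ≤ Nat.card E :=
    fun E hE hEs => hDc ▸ Nat.find_le ⟨E, hE, hEs, rfl⟩
  haveI := hDn
  have hDG : Nat.card D ≤ Nat.card G :=
    Nat.le_of_dvd Nat.card_pos (Subgroup.card_subgroup_dvd_card D)
  have hradD := noSolvNormal_normal hrad D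
  -- perfectness
  have hperf : commutator ↥D = ⊤ := by
    have hn : ((commutator ↥D).map D.subtype).Normal := by
      rw [Subgroup.map_subtype_commutator]
      exact Subgroup.commutator_normal D D
    have hs : ¬ Group.IsSolvable ↥((commutator ↥D).map D.subtype) := by
      intro h
      haveI := h
      haveI : Group.IsSolvable ↥(commutator ↥D) := Group.isSolvable_of_isSolvable_injective
        (f := ((commutator ↥D).equivMapOfInjective D.subtype D.subtype_injective).toMonoidHom)
        (MulEquiv.injective _)
      haveI : Group.IsSolvable (↥D ⧸ commutator ↥D) :=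
        Group.isSolvable_of_comm fun a b => mul_comm (G := Abelianization ↥D) a b
      exact hDs ((Group.isSolvable_iff_subgroup_quotient (commutator ↥D)).2
        ⟨inferInstance, inferInstance⟩)
    have h1 := hmin _ hn hs
    rw [Subgroup.card_map_of_injective D.subtype_injective] at h1
    exact Subgroup.eq_top_of_le_card _ h1
  have hsimple : IsSimpleGroup D := by
    haveI : Nontrivial D := by
      by_contra h
      haveI := not_nontrivial_iff_subsingleton.1 h
      exact hDs inferInstance
    refine ⟨fun K hK => or_iff_not_imp_left.2 fun hKb => ?_⟩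
    haveI := hK
    by_contra hKt
    have hKs : ¬ Group.IsSolvable K := fun h => hKb (hradD K hK h)
    have h60 : 60 ≤ Nat.card K := by
      by_contra h
      exact hKs (isSolvable_of_lt_sixty (by omega))
    have hi := K.index_mul_card
    have hsq : Group.IsSolvable (↥D ⧸ K) := by
      refine isSolvable_of_lt_sixty ?_
      rw [← Subgroup.index_eq_card]
      nlinarith
    haveI := hsq
    have hq : commutator (↥D ⧸ K) = ⊤ := by
      have h := congrArg (Subgroup.map (QuotientGroup.mk' K)) hperf
      rwa [_root_.commutator_def, Subgroup.map_commutator,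
        Subgroup.map_top_of_surjective _ (QuotientGroup.mk'_surjective K)] at h
    have hsub : Subsingleton (↥D ⧸ K) := by
      by_contra hne
      haveI := not_subsingleton_iff_nontrivial.1 hne
      exact (Group.IsSolvable.commutator_lt_top_of_nontrivial (↥D ⧸ K)).ne hq
    exact hKt (QuotientGroup.subgroup_eq_top_of_subsingleton K hsub)
  haveI := hsimple
  refine ⟨D, hDn, hsimple, fun h => hDs (Group.isSolvable_of_comm fun a b => h.is_comm.comm a b), ?_⟩
  set C := Subgroup.centralizer (D : Set G)
  haveI : C.Normal := Subgroup.normal_centralizer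
  refine hrad C inferInstance ?_
  let f : C →* G ⧸ D := (QuotientGroup.mk' D).comp C.subtype
  have hf : Function.Injective f := by
    rw [injective_iff_map_eq_one]
    intro c hc
    have hcD : (c : G) ∈ D := (QuotientGroup.eq_one_iff _).1 hc
    have hz : (⟨(c : G), hcD⟩ : D) ∈ Subgroup.center D :=
      Subgroup.mem_center_iff.2 fun d => Subtype.ext (c.2 d d.2)
    have hzb : Subgroup.center D = ⊥ :=
      (Subgroup.Normal.eq_bot_or_eq_top (inferInstance : (Subgroup.center D).Normal)).resolve_right
        fun ht => hDs (Group.isSolvable_of_comm fun a b =>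
          Subgroup.mem_center_iff.1 (ht.ge (Subgroup.mem_top b)) a)
    rw [hzb, Subgroup.mem_bot] at hz
    exact Subtype.ext (show (c : G) = 1 from congrArg Subtype.val hz)
  haveI : Group.IsSolvable (G ⧸ D) := by
    refine isSolvable_of_lt_sixty ?_
    have h60 : 60 ≤ Nat.card D := by
      by_contra h
      exact hDs (isSolvable_of_lt_sixty (by omega))
    have hi := D.index_mul_card
    rw [← Subgroup.index_eq_card]
    nlinarith
  exact Group.isSolvable_of_isSolvable_injective hf

/-- Groups of order 2520 in `A₈` are `A₇`. -/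
theorem iso_seven (φ : G →* alternatingGroup (Fin 8)) (hφ : Function.Injective φ)
    (h : Nat.card G = 2520) : Nonempty (G ≃* alternatingGroup (Fin 7)) := by
  classical
  set R := φ.range
  have hR : Nat.card R = 2520 := (Nat.card_congr (MonoidHom.ofInjective hφ).toEquiv).symm.trans h
  have hidx : R.index = 8 := by
    have := R.index_mul_card
    rw [card_A8, hR] at this
    omega
  set Q := alternatingGroup (Fin 8) ⧸ R
  haveI : IsSimpleGroup (alternatingGroup (Fin 8)) :=
    alternatingGroup.isSimpleGroup (by rw [Nat.card_fin]; norm_num)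
  set T := MulAction.toPermHom (alternatingGroup (Fin 8)) Q
  have hinj : Function.Injective T := by
    rw [← MonoidHom.ker_eq_bot_iff]
    refine ((inferInstance : T.ker.Normal).eq_bot_or_eq_top).resolve_right fun ht => ?_
    have hc : R.normalCore = ⊤ := (Subgroup.normalCore_eq_ker R).trans ht
    have : R = ⊤ := top_le_iff.1 (hc ▸ R.normalCore_le)
    rw [this, Subgroup.card_top, card_A8] at hR
    omega
  -- the action on the remaining seven cosets
  let o : Q := QuotientGroup.mk 1
  have hfix : ∀ r : R, ∀ q : Q, ((r : alternatingGroup (Fin 8)) • q ≠ o ↔ q ≠ o) := by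
    intro r q
    have hr : (r : alternatingGroup (Fin 8)) • o = o := by
      show QuotientGroup.mk _ = QuotientGroup.mk _
      rw [QuotientGroup.eq]
      show ((r : alternatingGroup (Fin 8)) * 1)⁻¹ * 1 ∈ R
      rw [mul_one, mul_one]
      exact R.inv_mem r.2
    constructor
    · intro h1 h2; exact h1 (h2 ▸ hr)
    · intro h1 h2
      exact h1 (smul_left_cancel (r : alternatingGroup (Fin 8)) (h2.trans hr.symm))
  let g : R →* Equiv.Perm {q : Q // q ≠ o} :=
    { toFun := fun r => (T r).subtypePerm fun q => hfix r q
      map_one' := Equiv.ext fun q => Subtype.ext (one_smul (alternatingGroup (Fin 8)) (q : Q))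
      map_mul' := fun a b => Equiv.ext fun q => Subtype.ext
        (mul_smul (a : alternatingGroup (Fin 8)) (b : alternatingGroup (Fin 8)) (q : Q)) }
  have hg : Function.Injective g := by
    intro a b hab
    refine Subtype.ext (hinj (Equiv.ext fun q => ?_))
    by_cases hq : q = o
    · have hr : ∀ r : R, T r o = o := fun r => by
        by_contra hne
        exact ((hfix r o).1 hne) rfl
      rw [hq, hr, hr]
    · exact congrArg Subtype.val (Equiv.congr_fun hab ⟨q, hq⟩)
  haveI : Fintype Q := Fintype.ofFinite Q
  have hQ : Fintype.card Q = 8 := by rw [← Nat.card_eq_fintype_card, ← Subgroup.index_eq_card, hidx]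
  have hsev : Fintype.card {q : Q // q ≠ o} = 7 := by
    rw [Fintype.card_subtype_compl, Fintype.card_subtype_eq, hQ]
  have hgr : Nat.card g.range = 2520 :=
    (Nat.card_congr (MonoidHom.ofInjective hg).toEquiv).symm.trans hR
  have hgi : g.range.index = 2 := by
    have := g.range.index_mul_card
    rw [hgr, Nat.card_perm, Nat.card_eq_fintype_card, hsev] at this
    have h7 : Nat.factorial 7 = 5040 := rfl
    omega
  have halt := Equiv.Perm.eq_alternatingGroup_of_index_eq_two hgi
  exact ⟨((MonoidHom.ofInjective hφ).trans (MonoidHom.ofInjective hg)).trans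
    ((MulEquiv.subgroupCongr halt).trans
      (Equiv.altCongrHom (Fintype.equivFinOfCardEq hsev)))⟩

theorem zmod_two_eq_zero : ∀ a : ZMod 2, a ≠ 1 → a = 0 := by decide
theorem zmod_two_cases : ∀ a : ZMod 2, a = 0 ∨ a = 1 := by decide
theorem card_coord : ∀ i : Fin 4, Fintype.card {w : Fin 4 → ZMod 2 // w i = 0} = 8 := by
  decide +kernel

/-- A simple group of order 1344 does not embed in `GL(4, 2)`. -/
theorem not_simple_1344 [IsSimpleGroup G] (ψ : G →* GL (Fin 4) (ZMod 2)) (hψ : Function.Injective ψ)
    (h : Nat.card G = 1344) : False := by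
  classical
  haveI : Fact (Nat.Prime 2) := ⟨by norm_num⟩
  letI : MulAction G (Fin 4 → ZMod 2) :=
    { smul := fun g v => Matrix.mulVec ((ψ g : GL (Fin 4) (ZMod 2)) : Matrix (Fin 4) (Fin 4) (ZMod 2)) v
      one_smul := fun v => by
        show Matrix.mulVec _ v = v
        rw [map_one, Units.val_one, Matrix.one_mulVec]
      mul_smul := fun a b v => by
        show Matrix.mulVec _ v = Matrix.mulVec _ (Matrix.mulVec _ v)
        rw [map_mul, Units.val_mul, Matrix.mulVec_mulVec] }
  have hlin : ∀ (g : G) (a b : Fin 4 → ZMod 2), g • (a + b) = g • a + g • b :=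
    fun g a b => Matrix.mulVec_add _ a b
  have hzero : ∀ g : G, g • (0 : Fin 4 → ZMod 2) = 0 := fun g => Matrix.mulVec_zero _
  have hdbl : ∀ a : Fin 4 → ZMod 2, a + a = 0 := fun a => by
    funext i; exact CharTwo.add_self_eq_zero _
  have hfaith : ∀ g : G, (∀ i, g • (Pi.single i 1 : Fin 4 → ZMod 2) = Pi.single i 1) → g = 1 := by
    intro g hg
    refine hψ (Units.ext ?_)
    rw [map_one, Units.val_one]
    ext r c
    have := congrFun (hg c) r
    rw [show g • (Pi.single c 1 : Fin 4 → ZMod 2) = Matrix.mulVec
      ((ψ g : GL (Fin 4) (ZMod 2)) : Matrix (Fin 4) (Fin 4) (ZMod 2)) (Pi.single c 1) from rfl,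
      Matrix.mulVec_single_one] at this
    simpa [Matrix.one_apply, Pi.single_apply] using this
  have hV : Nat.card (Fin 4 → ZMod 2) = 16 := by simp
  obtain ⟨S⟩ : Nonempty (Sylow 2 G) := inferInstance
  have hS : (S : Subgroup G).index ∣ 21 := by
    have hi := (S : Subgroup G).index_mul_card
    rw [S.card_eq_multiplicity, h] at hi
    have hf : Nat.factorization 1344 2 = 6 := by
      rw [show (1344 : ℕ) = 2 ^ 6 * 21 by norm_num, Nat.factorization_mul (by norm_num) (by norm_num),
        Finsupp.add_apply, Nat.prime_two.factorization_pow, Finsupp.single_eq_same,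
        Nat.factorization_eq_zero_of_not_dvd (by norm_num)]
    rw [hf] at hi
    exact ⟨1, by omega⟩
  -- a fixed non-zero vector of the Sylow subgroup
  obtain ⟨e, he0, he⟩ := S.2.exists_fixed_point_of_prime_dvd_card_of_fixed_point
    (Fin 4 → ZMod 2) (by rw [hV]; norm_num) (a := 0) (fun g => hzero g)
  have he0' : e ≠ 0 := fun hh => he (hh ▸ rfl)
  clear he
  have heS : ∀ g ∈ S, g • e = e := fun g hg => he0 ⟨g, hg⟩
  -- the orbit of `e`
  have hst : (S : Subgroup G) ≤ MulAction.stabilizer G e := fun g hg => heS g hg
  have horb : Nat.card (MulAction.orbit G e) = (MulAction.stabilizer G e).index :=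
    (MulAction.index_stabilizer G e).symm ▸ (Nat.card_coe_set_eq _)
  have hle16 : Nat.card (MulAction.orbit G e) ≤ 16 :=
    hV ▸ Nat.card_le_card_of_injective _ Subtype.val_injective
  have hidx : (MulAction.stabilizer G e).index ∣ 21 := (Subgroup.index_dvd_of_le hst).trans hS
  have hfixed : ∀ g : G, g • e = e := by
    intro g
    by_contra hne
    have hst' : MulAction.stabilizer G e ≠ ⊤ := fun hh => hne (hh.ge (Subgroup.mem_top g))
    have hk : (MulAction.stabilizer G e).index ≤ 7 := by
      have h1 := Nat.le_of_dvd (by norm_num) hidx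
      rw [horb] at hle16
      interval_cases hi : (MulAction.stabilizer G e).index <;> omega
    set T := MulAction.toPermHom G (G ⧸ MulAction.stabilizer G e)
    have hT : T.ker = ⊥ := by
      refine ((inferInstance : T.ker.Normal).eq_bot_or_eq_top).resolve_right fun ht => hst' ?_
      exact top_le_iff.1 (((Subgroup.normalCore_eq_ker _).trans ht) ▸ Subgroup.normalCore_le _)
    have h1 := Subgroup.card_subgroup_dvd_card T.range
    rw [Nat.card_perm, ← Subgroup.index_eq_card, ← Nat.card_congr
      (MonoidHom.ofInjective ((MonoidHom.ker_eq_bot_iff T).1 hT)).toEquiv, h] at h1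
    have h2 := h1.trans (Nat.factorial_dvd_factorial hk)
    revert h2
    decide +kernel
  -- the transvection subgroup
  let K : Subgroup G :=
    { carrier := {g | ∀ v : Fin 4 → ZMod 2, g • v = v ∨ g • v = v + e}
      one_mem' := fun v => Or.inl (one_smul _ v)
      mul_mem' := fun {a b} ha hb v => by
        rw [mul_smul]
        rcases hb v with h1 | h1 <;> rw [h1]
        · exact ha v
        · rw [hlin, hfixed]
          rcases ha v with h2 | h2 <;> rw [h2]
          · exact Or.inr rfl
          · left; rw [add_assoc, hdbl, add_zero]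
      inv_mem' := fun {a} ha v => by
        rcases ha (a⁻¹ • v) with h1 | h1 <;> rw [smul_inv_smul] at h1
        · exact Or.inl h1.symm
        · right
          conv_rhs => rw [h1]
          rw [add_assoc, hdbl, add_zero] }
  haveI : K.Normal := ⟨fun k hk g v => by
    rcases hk (g⁻¹ • v) with h1 | h1
    · left; rw [mul_smul, mul_smul, h1, smul_inv_smul]
    · right; rw [mul_smul, mul_smul, h1, hlin, smul_inv_smul, hfixed]⟩
  have hsq : ∀ g ∈ K, g * g = 1 := fun g hg => hfaith _ fun i => by
    rw [mul_smul]
    rcases hg (Pi.single i 1) with h1 | h1 <;> rw [h1]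
    · rw [h1]
    · rw [hlin, hfixed, h1, add_assoc, hdbl, add_zero]
  rcases (inferInstance : K.Normal).eq_bot_or_eq_top with hK | hK
  · obtain ⟨i, hi⟩ : ∃ i, e i = 1 := by
      by_contra hh
      push Not at hh
      refine he0' (funext fun i => ?_)
      exact zmod_two_eq_zero _ (hh i)
    -- classes modulo `e`
    let cl : (Fin 4 → ZMod 2) → {w : Fin 4 → ZMod 2 // w i = 0} := fun w =>
      ⟨w + (w i) • e, by
        rw [Pi.add_apply, Pi.smul_apply, hi, smul_eq_mul, mul_one]
        exact CharTwo.add_self_eq_zero _⟩
    have hcl : ∀ a b, cl a = cl b → b = a ∨ b = a + e := by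
      intro a b hab
      have h1 : a + (a i) • e = b + (b i) • e := congrArg Subtype.val hab
      have key : ∀ x y : ZMod 2, x + y = 0 ∨ x + y = 1 := fun x y => zmod_two_cases _
      have h2 : b = a + ((a i) + (b i)) • e := by
        rw [add_smul, ← add_assoc, h1, add_assoc, hdbl, add_zero]
      rcases key (a i) (b i) with h3 | h3 <;> rw [h3] at h2
      · left; rw [h2, zero_smul, add_zero]
      · right; rw [h2, one_smul]
    let Φ : G → ({j : Fin 4 // j ≠ i} → {w : Fin 4 → ZMod 2 // w i = 0}) := fun g j =>
      cl (g • (Pi.single (j : Fin 4) 1 : Fin 4 → ZMod 2))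
    have hΦ : Function.Injective Φ := by
      intro g₁ g₂ hgg
      have hmem : g₁⁻¹ * g₂ ∈ K := by
        -- agreement modulo `e` on a basis
        let P : (Fin 4 → ZMod 2) → Prop := fun v => g₂ • v = g₁ • v ∨ g₂ • v = g₁ • v + e
        have hadd : ∀ a b, P a → P b → P (a + b) := by
          intro a b ha hb
          show g₂ • (a + b) = _ ∨ _
          rw [hlin, hlin]
          rcases ha with ha | ha <;> rcases hb with hb | hb <;> rw [ha, hb]
          · exact Or.inl rfl
          · exact Or.inr (add_assoc _ _ _).symm
          · exact Or.inr (add_right_comm _ _ _)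
          · left
            rw [add_add_add_comm, hdbl, add_zero]
        have hP0 : P 0 := Or.inl (by rw [hzero, hzero])
        have hb : ∀ j, j ≠ i → P (Pi.single j 1) := fun j hj => hcl _ _ (congrFun hgg ⟨j, hj⟩)
        have hPe : P e := Or.inl (by rw [hfixed, hfixed])
        have hsum : ∀ j, j ≠ i → ∀ c : ZMod 2, P (Pi.single j c) := by
          intro j hj c
          have key := zmod_two_cases
          rcases key c with rfl | rfl
          · rw [Pi.single_zero]; exact hP0
          · exact hb j hj
        have hker : ∀ w : Fin 4 → ZMod 2, w i = 0 → P w := by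
          intro w hw
          rw [← Finset.univ_sum_single w]
          refine Finset.sum_induction _ P hadd hP0 fun j _ => ?_
          by_cases hj : j = i
          · subst hj; rw [hw, Pi.single_zero]; exact hP0
          · exact hsum j hj _
        intro v
        have hv : P v := by
          have key := zmod_two_cases
          rcases key (v i) with h1 | h1
          · exact hker v h1
          · have h2 := hadd _ _ (hker (v + e) (by
              rw [Pi.add_apply, h1, hi]; rfl)) hPe
            rwa [add_assoc, hdbl, add_zero] at h2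
        rw [mul_smul]
        rcases hv with h1 | h1 <;> rw [h1]
        · exact Or.inl (inv_smul_smul _ _)
        · right; rw [hlin, inv_smul_smul, hfixed]
      rw [hK, Subgroup.mem_bot, inv_mul_eq_one] at hmem
      exact hmem
    have hc := Nat.card_le_card_of_injective Φ hΦ
    have hw8 : Nat.card {w : Fin 4 → ZMod 2 // w i = 0} = 8 := by
      rw [Nat.card_eq_fintype_card, ← card_coord i]
    rw [Nat.card_fun, hw8, Nat.card_eq_fintype_card (α := {j : Fin 4 // j ≠ i}),
      Fintype.card_subtype_compl, Fintype.card_subtype_eq, Fintype.card_fin, h] at hc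
    norm_num at hc
  · haveI : Fact (Nat.Prime 7) := ⟨by norm_num⟩
    obtain ⟨g, hg⟩ := exists_prime_orderOf_dvd_card' (G := G) 7 (by rw [h]; norm_num)
    have h2 : orderOf g ∣ 2 :=
      orderOf_dvd_of_pow_eq_one ((pow_two g).trans (hsq g (hK.ge (Subgroup.mem_top g))))
    rw [hg] at h2
    norm_num at h2

end CfsgLib.Known.GLFourTwo
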