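import Mathlib
import Cfsg.Prelude.Def_Solvable
import Cfsg.Agent.Lib.Known.GLFourTwoSubgroups
import Cfsg.Agent.Lib.Core.Cores

/-!
Classification of the subgroups of `GL(4, 2)` with trivial `O₂` and trivial odd core.
-/

set_option autoImplicit false
set_option linter.style.haveILetI false

namespace CfsgLib.Known.GLFourTwo

open Subgroup
open scoped commutatorElement

variable {G : Type} [Group G] [Finite G]

/-- An injective homomorphism between finite groups of the same order is an isomorphism. -/
theorem nonempty_equiv_of_card {A B : Type} [Group A] [Group B] [Finite B] (f : A →* B)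
    (hf : Function.Injective f) (h : Nat.card A = Nat.card B) : Nonempty (A ≃* B) :=
  ⟨MulEquiv.ofBijective f (hf.bijective_of_nat_card_le h.ge)⟩

/-- Trivial `O₂` and trivial odd core force a trivial soluble radical. -/
theorem noSolvNormal_of_cores (hO : Cfsg.pPrimeCore 2 G = ⊥) (hO2 : Cfsg.pCore 2 G = ⊥) :
    NoSolvNormal G := by
  intro N hN hs
  haveI := hN
  by_contra hne
  obtain ⟨M, hMn, hMb, hMle, hMmin⟩ := CfsgLib.Components.exists_minimal_normal_le hN hne
  haveI := hMn
  haveI := hs
  haveI : Group.IsSolvable M := Group.isSolvable_of_isSolvable_injective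
    (f := Subgroup.inclusion hMle) (Subgroup.inclusion_injective hMle)
  -- `M` is abelian
  have hab : ∀ a b : M, a * b = b * a := by
    have hlt := Group.IsSolvable.commutator_lt_of_ne_bot (G := N) (H := M.subgroupOf N) (by
      intro h
      rw [Subgroup.subgroupOf_eq_bot, disjoint_iff, inf_of_le_left hMle] at h
      exact hMb h)
    have hle : ⁅M, M⁆ ≤ M := Subgroup.commutator_le_self M
    rcases hMmin ⁅M, M⁆ (Subgroup.commutator_normal M M) hle with h | h
    · intro a b
      have := h.le (Subgroup.commutator_mem_commutator a.2 b.2)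
      rw [Subgroup.mem_bot, commutatorElement_eq_one_iff_mul_comm] at this
      exact Subtype.ext this
    · exfalso
      refine hlt.ne (Subgroup.map_injective N.subtype_injective ?_)
      rw [Subgroup.map_commutator, Subgroup.map_subgroupOf_eq_of_le hMle, h]
  -- one of the prime parts is everything
  obtain ⟨p, hp, hpd⟩ : ∃ p : ℕ, p.Prime ∧ p ∣ Nat.card M := by
    refine ⟨_, Nat.minFac_prime ?_, Nat.minFac_dvd _⟩
    intro h
    exact hMb (Subgroup.card_eq_one.1 h)
  haveI := Fact.mk hp
  let A : Subgroup G :=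
    { carrier := {g | g ∈ M ∧ g ^ p = 1}
      one_mem' := ⟨M.one_mem, one_pow p⟩
      mul_mem' := fun {a b} ha hb => ⟨M.mul_mem ha.1 hb.1, by
        have hc : Commute a b := congrArg Subtype.val (hab ⟨a, ha.1⟩ ⟨b, hb.1⟩)
        rw [hc.mul_pow, ha.2, hb.2, one_mul]⟩
      inv_mem' := fun {a} ha => ⟨M.inv_mem ha.1, by rw [inv_pow, ha.2, inv_one]⟩ }
  haveI hAn : A.Normal := ⟨fun a ha g => ⟨hMn.conj_mem a ha.1 g, by
    rw [conj_pow, ha.2, mul_one, mul_inv_cancel]⟩⟩
  have hA : A = M := by
    refine (hMmin A hAn fun g hg => hg.1).resolve_left fun hA => ?_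
    obtain ⟨x, hx⟩ := exists_prime_orderOf_dvd_card' (G := M) p hpd
    have hx' : orderOf (x : G) = p := by rw [Subgroup.orderOf_coe, hx]
    have h1 : (x : G) ∈ A := ⟨x.2, by rw [← hx', pow_orderOf_eq_one]⟩
    rw [hA, Subgroup.mem_bot] at h1
    rw [h1, orderOf_one] at hx'
    exact hp.one_lt.ne hx'
  have hpM : IsPGroup p M := fun m => ⟨1, by
    have := (hA.ge m.2).2
    rw [pow_one]
    exact Subtype.ext (by rw [SubmonoidClass.coe_pow, this, Subgroup.coe_one])⟩
  rcases eq_or_ne p 2 with rfl | hp2
  · exact hMb (le_bot_iff.1 (hO2 ▸ CfsgLib.Core.le_pCore hpM))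
  · obtain ⟨n, hn⟩ := hpM.exists_card_eq
    exact hMb (le_bot_iff.1 (hO ▸ CfsgLib.Core.le_pPrimeCore (hn ▸
      Nat.Coprime.pow_left n ((Nat.coprime_primes hp Nat.prime_two).2 hp2))))

theorem nonsolvable_of_noSolvNormal [Nontrivial G] (hrad : NoSolvNormal G) :
    ¬ Group.IsSolvable G := fun h => by
  haveI := h
  have := hrad ⊤ inferInstance (Group.isSolvable_of_isSolvable_injective
    (f := (⊤ : Subgroup G).subtype) (Subgroup.subtype_injective _))
  exact top_ne_bot this

/-- The action on an invariant set of six points in the case of a normal `A₆`. -/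
theorem iso_six (φ : G →* alternatingGroup (Fin 8)) (hφ : Function.Injective φ) (D : Subgroup G)
    [D.Normal] [IsSimpleGroup D] (hD : Nat.card D = 360)
    (hC : Subgroup.centralizer (D : Set G) = ⊥) (h : Nat.card G = 720) :
    Nonempty (G ≃* Equiv.Perm (Fin 6)) := by
  classical
  set ψ := (alternatingGroup (Fin 8)).subtype.comp φ
  have hψ : Function.Injective ψ := perm_injective φ hφ
  letI : MulAction G (Fin 8) := MulAction.compHom _ ψ
  have hsm : ∀ (g : G) (a : Fin 8), g • a = ψ g a := fun _ _ => rfl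
  -- the moved points
  set Δ := {a : Fin 8 | ∃ d ∈ D, d • a ≠ a}
  have hinv : ∀ (g : G) (a : Fin 8), a ∈ Δ → g • a ∈ Δ := by
    rintro g a ⟨d, hd, hne⟩
    refine ⟨g * d * g⁻¹, Subgroup.Normal.conj_mem ‹D.Normal› d hd g, fun h1 => hne ?_⟩
    rw [smul_smul, inv_mul_cancel_right, mul_smul] at h1
    exact smul_left_cancel g h1
  have horbit : ∀ a ∈ Δ, (MulAction.stabilizer D a).index = 6 := by
    rintro a ⟨d, hd, hne⟩
    set S := MulAction.stabilizer D a
    have hS : S ≠ ⊤ := fun h => hne (h.ge (Subgroup.mem_top ⟨d, hd⟩))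
    have hle8 : S.index ≤ 8 := by
      rw [MulAction.index_stabilizer]
      exact (Set.ncard_le_ncard (Set.subset_univ _) (Set.toFinite _)).trans_eq
        (by rw [Set.ncard_univ, Nat.card_fin])
    have hdvd : S.index ∣ 360 := hD ▸ S.index_dvd_card
    have hge : 6 ≤ S.index := by
      by_contra hlt
      push Not at hlt
      set T := MulAction.toPermHom D (D ⧸ S)
      have hT : T.ker = ⊥ := by
        refine ((inferInstance : T.ker.Normal).eq_bot_or_eq_top).resolve_right fun ht => hS ?_
        exact top_le_iff.1 (((Subgroup.normalCore_eq_ker _).trans ht) ▸ Subgroup.normalCore_le _)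
      have h1 := Subgroup.card_subgroup_dvd_card T.range
      rw [Nat.card_perm, ← Subgroup.index_eq_card, ← Nat.card_congr
        (MonoidHom.ofInjective ((MonoidHom.ker_eq_bot_iff T).1 hT)).toEquiv, hD] at h1
      have h2 := h1.trans (Nat.factorial_dvd_factorial (show S.index ≤ 5 by omega))
      exact absurd h2 (by decide)
    have h8 : S.index ≠ 8 := by
      intro h8
      have hc : Nat.card S = 45 := by
        have := S.index_mul_card
        rw [h8, hD] at this
        omega
      haveI : Fact (Nat.Prime 5) := ⟨by norm_num⟩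
      haveI : Fact (Nat.Prime 3) := ⟨by norm_num⟩
      -- the Sylow five-subgroup of the stabiliser is central
      obtain ⟨x, hx⟩ := exists_prime_orderOf_dvd_card' (G := S) 5 (by rw [hc]; norm_num)
      obtain ⟨y, hy⟩ := exists_prime_orderOf_dvd_card' (G := S) 3 (by rw [hc]; norm_num)
      obtain ⟨P⟩ : Nonempty (Sylow 5 S) := inferInstance
      have hP1 : Nat.card (Sylow 5 S) = 1 := by
        have h1 := card_sylow_modEq_one 5 S
        have h2 : Nat.card (Sylow 5 S) ∣ 45 :=
          hc ▸ (P.card_dvd_index.trans (Subgroup.index_dvd_card _))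
        have key : ∀ n ∈ Nat.divisors 45, n % 5 = 1 → n = 1 := by decide
        exact key _ (Nat.mem_divisors.2 ⟨h2, by norm_num⟩) h1
      haveI : Subsingleton (Sylow 5 S) := (Nat.card_eq_one_iff_unique.1 hP1).1
      obtain ⟨x', hx', hP⟩ := sylow_eq_zpowers (G := S) (p := 5) (by
        refine factorization_eq_one (m := 45) (by norm_num) Nat.card_pos.ne' ?_ hc.dvd (by norm_num)
        rw [hc]; norm_num) P
      have hPn : (P : Subgroup S).Normal := Sylow.normal_of_subsingleton P
      rw [hP] at hPn
      obtain ⟨k, hk, hN, h1⟩ := card_normalizer_prime hx'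
      have htop : normalizer ((zpowers x' : Subgroup S) : Set S) = ⊤ :=
        Subgroup.normalizer_eq_top_iff.2 hPn
      have hk1 : k = 1 := by
        rw [htop, Subgroup.card_top, hc] at hN
        have hk4 : k ∣ 45 := hN ▸ dvd_mul_left _ _
        exact Nat.dvd_one.1 (Nat.dvd_gcd hk hk4)
      have hcomm : Commute x' y := by
        have h2 := h1 hk1 (htop.ge (Subgroup.mem_top y))
        exact (h2 x' (mem_zpowers x'))
      have ho : orderOf (x' * y) = 15 := by
        rw [hcomm.orderOf_mul_eq_mul_orderOf_of_coprime (by rw [hx', hy]; norm_num), hx', hy]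
      set σ := ψ (((x' * y : S) : D) : G)
      have hσ : orderOf σ = 15 := by
        rw [orderOf_injective ψ hψ, Subgroup.orderOf_coe, Subgroup.orderOf_coe, ho]
      have hfix : σ a = a := (x' * y : S).2
      obtain ⟨n5, h5m, h5⟩ := mem_cycleType_of_dvd (σ := σ) (p := 5) (by norm_num) (by rw [hσ]; norm_num)
      obtain ⟨n3, h3m, h3⟩ := mem_cycleType_of_dvd (σ := σ) (p := 3) (by norm_num) (by rw [hσ]; norm_num)
      have hn5 := Nat.le_of_dvd (by linarith [Equiv.Perm.two_le_of_mem_cycleType h5m]) h5
      have hn3 := Nat.le_of_dvd (by linarith [Equiv.Perm.two_le_of_mem_cycleType h3m]) h3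
      have hsupp : σ.support.card ≤ 7 := by
        have : σ.support ⊆ Finset.univ.erase a := fun b hb => Finset.mem_erase.2
          ⟨fun e => Equiv.Perm.mem_support.1 (e ▸ hb) hfix, Finset.mem_univ b⟩
        exact (Finset.card_le_card this).trans (by simp)
      rw [← Equiv.Perm.sum_cycleType] at hsupp
      by_cases he : n5 = n3
      · subst he
        have h15 := Nat.le_of_dvd (by linarith [Equiv.Perm.two_le_of_mem_cycleType h5m])
          (Nat.Coprime.mul_dvd_of_dvd_of_dvd (show Nat.Coprime 5 3 by norm_num) h5 h3)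
        have := Multiset.single_le_sum (fun _ _ => Nat.zero_le _) _ h5m
        omega
      · obtain ⟨t, ht⟩ := Multiset.exists_cons_of_mem h5m
        rw [ht, Multiset.mem_cons] at h3m
        have h3t := h3m.resolve_left (Ne.symm he)
        have := Multiset.single_le_sum (fun _ _ => Nat.zero_le _) _ h3t
        rw [ht, Multiset.sum_cons] at hsupp
        omega
    have h7 : S.index ≠ 7 := fun h7 => by rw [h7] at hdvd; norm_num at hdvd
    omega
  have hne : Δ.Nonempty := by
    by_contra h0
    rw [Set.not_nonempty_iff_eq_empty] at h0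
    haveI : Subsingleton D := ⟨fun a b => by
      have key : ∀ d ∈ D, ψ d = 1 := fun d hd => Equiv.ext fun a => by
        by_contra hm
        exact (Set.eq_empty_iff_forall_notMem.1 h0 a) ⟨d, hd, hm⟩
      exact Subtype.ext (hψ ((key a a.2).trans (key b b.2).symm))⟩
    rw [Nat.card_of_subsingleton (1 : D)] at hD
    norm_num at hD
  obtain ⟨a₀, ha₀⟩ := hne
  have horb6 : ∀ a ∈ Δ, (MulAction.orbit D a).ncard = 6 := fun a ha =>
    (MulAction.index_stabilizer D a).symm.trans (horbit a ha)
  have hsub : ∀ a ∈ Δ, MulAction.orbit D a ⊆ Δ := by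
    rintro a ha _ ⟨d, rfl⟩
    exact hinv _ a ha
  have hΔ : Δ = MulAction.orbit D a₀ := by
    refine Set.Subset.antisymm (fun a ha => ?_) (hsub a₀ ha₀)
    by_contra hna
    have hdis : Disjoint (MulAction.orbit D a) (MulAction.orbit D a₀) := by
      rw [Set.disjoint_left]
      intro b hb hb'
      exact hna (MulAction.orbit_eq_iff.1 ((MulAction.orbit_eq_iff.2 hb).symm.trans
        (MulAction.orbit_eq_iff.2 hb')))
    have h12 := Set.ncard_union_eq hdis (Set.toFinite _) (Set.toFinite _)
    rw [horb6 a ha, horb6 a₀ ha₀] at h12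
    have := Set.ncard_le_ncard (Set.subset_univ (MulAction.orbit D a ∪ MulAction.orbit D a₀))
      (Set.toFinite _)
    rw [Set.ncard_univ, Nat.card_fin] at this
    omega
  have hiff : ∀ (g : G) (a : Fin 8), g • a ∈ Δ ↔ a ∈ Δ := fun g a =>
    ⟨fun ha => by simpa using hinv g⁻¹ _ ha, hinv g a⟩
  let r : G →* Equiv.Perm {a : Fin 8 // a ∈ Δ} :=
    { toFun := fun g => (ψ g).subtypePerm fun a => hiff g a
      map_one' := Equiv.ext fun a => Subtype.ext (show ψ 1 (a : Fin 8) = a by simp)
      map_mul' := fun x y => Equiv.ext fun a => Subtype.ext (show ψ (x * y) (a : Fin 8) = ψ x (ψ y a) by rw [map_mul, Equiv.Perm.mul_apply]) }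
  have hr : Function.Injective r := by
    rw [← MonoidHom.ker_eq_bot_iff]
    have hd0 : r.ker ⊓ D = ⊥ := by
      rw [eq_bot_iff]
      rintro g ⟨hg, hgD⟩
      refine Subgroup.mem_bot.2 (hψ ?_)
      rw [map_one]
      refine Equiv.ext fun a => ?_
      by_cases ha : a ∈ Δ
      · exact congrArg Subtype.val (Equiv.congr_fun (MonoidHom.mem_ker.1 hg) ⟨a, ha⟩)
      · by_contra hm
        exact ha ⟨g, hgD, hm⟩
    refine le_bot_iff.1 (hC ▸ ?_)
    intro g hg
    rw [Subgroup.mem_centralizer_iff]
    intro d hd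
    have h1 : d * g * d⁻¹ * g⁻¹ ∈ r.ker ⊓ D := ⟨r.ker.mul_mem
      ((inferInstance : r.ker.Normal).conj_mem g hg d) (r.ker.inv_mem hg), by
        rw [mul_assoc, mul_assoc, ← mul_assoc g]
        exact D.mul_mem hd (Subgroup.Normal.conj_mem ‹D.Normal› _ (D.inv_mem hd) g)⟩
    rw [hd0, Subgroup.mem_bot, mul_inv_eq_one, mul_inv_eq_iff_eq_mul] at h1
    exact h1
  have hcard : Fintype.card {a : Fin 8 // a ∈ Δ} = 6 := by
    rw [← Nat.card_eq_fintype_card]
    exact (Nat.card_coe_set_eq Δ).trans (hΔ ▸ horb6 a₀ ha₀)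
  obtain ⟨e⟩ := nonempty_equiv_of_card r hr (by
    rw [h, Nat.card_perm, Nat.card_eq_fintype_card, hcard]; rfl)
  exact ⟨e.trans (Equiv.permCongrHom (Fintype.equivFinOfCardEq hcard))⟩

/-- The classification. -/
theorem classify (ψ : G →* GL (Fin 4) (ZMod 2)) (hψ : Function.Injective ψ)
    (hrad : NoSolvNormal G) (hns : ¬ Group.IsSolvable G) :
    (∃ n : ℕ, 5 ≤ n ∧ n ≤ 8 ∧ Nonempty (G ≃* alternatingGroup (Fin n))) ∨
    Nonempty (G ≃* Equiv.Perm (Fin 5)) ∨ Nonempty (G ≃* Equiv.Perm (Fin 6)) ∨
    Nonempty (G ≃* GL (Fin 3) (ZMod 2)) := by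
  classical
  obtain ⟨f, hf⟩ := CfsgLib.Classical.AutRankFour.gl_four_two
  set φ := f.comp ψ
  have hφ : Function.Injective φ := hf.comp hψ
  by_cases h20 : Nat.card G = 20160
  · exact Or.inl ⟨8, by norm_num, le_rfl, nonempty_equiv_of_card φ hφ (h20.trans card_A8.symm)⟩
  by_cases h25 : Nat.card G = 2520
  · exact Or.inl ⟨7, by norm_num, by norm_num, iso_seven φ hφ h25⟩
  have hle := card_le_of_ne φ hφ h20
  obtain ⟨D, hDn, hDs, hDc, hC⟩ := exists_simple_normal φ hφ hrad hns hle
  haveI := hDn; haveI := hDs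
  have hDnc : ¬ Group.IsSolvable D := fun h =>
    hDc ⟨⟨fun a b => IsSimpleGroup.comm_iff_isSolvable.2 h a b⟩⟩
  have hDl := mem_list (order_cases (G := D) (φ.comp D.subtype) (hφ.comp D.subtype_injective)
    (noSolvNormal_normal hrad D) hDnc)
  have hdvd : Nat.card D ∣ Nat.card G := Subgroup.card_subgroup_dvd_card D
  have hGl := mem_list (order_cases φ hφ hrad hns)
  have hD' : Nat.card D = 60 ∨ Nat.card D = 168 ∨ Nat.card D = 360 := by
    by_cases hb : Nat.card D ≤ 1092
    · rcases Cfsg.Agent.S0496.result hDc hb with h | h | h | h | h | h <;> omega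
    · exfalso
      by_cases hd : Nat.card D = 1344
      · exact not_simple_1344 (ψ.comp D.subtype) (hψ.comp D.subtype_injective) hd
      · have := Nat.le_of_dvd Nat.card_pos hdvd
        have hG : Nat.card G = 1344 := by omega
        rw [hG] at hdvd
        rcases hDl with h | h | h | h | h | h | h | h | h | h | h <;> omega
  let c : G →* MulAut D := MulAut.conjNormal
  have hc : Function.Injective c := by
    rw [← MonoidHom.ker_eq_bot_iff, eq_bot_iff]
    intro g hg
    rw [← hC, Subgroup.mem_centralizer_iff]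
    intro d hd
    have h1 : g * d * g⁻¹ = d := by
      have := DFunLike.congr_fun (MonoidHom.mem_ker.1 hg) ⟨d, hd⟩
      exact congrArg Subtype.val this
    exact (mul_inv_eq_iff_eq_mul.1 h1).symm
  rcases hD' with hD | hD | hD
  · obtain ⟨e⟩ := Cfsg.Agent.S0494.result hD
    set b := MulEquiv.ofBijective _ (CfsgLib.ClassSizes.AlternatingAut.conjNormal_bijective
      (α := Fin 5) (by simp) (by simp))
    let F : G →* Equiv.Perm (Fin 5) := ((MulAut.congr e).trans b.symm).toMonoidHom.comp c
    have hF : Function.Injective F := ((MulAut.congr e).trans b.symm).injective.comp hc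
    have h120 : Nat.card G ∣ 120 := by
      have := Subgroup.card_dvd_of_injective F hF
      rwa [Nat.card_perm, Nat.card_fin] at this
    rcases hGl with h | h | h | h | h | h | h | h | h | h | h <;> rw [h] at h120 <;>
      (try (norm_num at h120; done))
    · have hDtop : D = ⊤ := Subgroup.eq_top_of_card_eq D (hD.trans h.symm)
      exact Or.inl ⟨5, le_rfl, by norm_num,
        ⟨((MulEquiv.subgroupCongr hDtop).trans Subgroup.topEquiv).symm.trans e⟩⟩
    · exact Or.inr (Or.inl (nonempty_equiv_of_card F hF (by rw [h, Nat.card_perm, Nat.card_fin]; rfl)))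
  · right; right; right
    have hG : Nat.card G = 168 ∨ Nat.card G = 1344 := by
      rw [hD] at hdvd
      rcases hGl with h | h | h | h | h | h | h | h | h | h | h <;> rw [h] at hdvd <;> omega
    have h168 : Nat.card G = 168 := by
      refine hG.resolve_right fun h => ?_
      haveI : Fact (Nat.Prime 7) := ⟨by norm_num⟩
      obtain ⟨P⟩ : Nonempty (Sylow 7 G) := inferInstance
      obtain ⟨x, hx, hP⟩ := sylow_eq_zpowers (factorization_eq_one (p := 7) (m := 20160)
        (by norm_num) Nat.card_pos.ne' (by rw [h]; norm_num) (card_dvd φ hφ) (by norm_num)) P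
      have hPD : (P : Subgroup G) ≤ D := by
        intro g hg
        have h2 : orderOf (QuotientGroup.mk' D g) ∣ 7 := by
          refine (orderOf_map_dvd _ g).trans ((Subgroup.orderOf_dvd_natCard _ hg).trans ?_)
          rw [hP, Nat.card_zpowers, hx]
        have h3 : orderOf (QuotientGroup.mk' D g) ∣ 8 := by
          refine (_root_.orderOf_dvd_natCard _).trans ?_
          rw [← Subgroup.index_eq_card]
          have hi := D.index_mul_card
          rw [hD, h] at hi
          exact ⟨1, by omega⟩
        have h1 : orderOf (QuotientGroup.mk' D g) = 1 := Nat.dvd_one.1 (Nat.dvd_gcd h2 h3)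
        exact (QuotientGroup.eq_one_iff g).1 (orderOf_eq_one_iff.1 h1)
      have h3 := CfsgLib.Core.card_sup_dvd (normalizer (P : Set G)) D
        (by rw [Subgroup.normalizer_eq_top]; exact le_top)
      rw [P.normalizer_sup_eq_top' hPD, Subgroup.card_top, h, hD] at h3
      rw [normalizer_eq hP] at h3
      rcases card_normalizer_seven φ hφ hx with ⟨h7, -⟩ | h21
      · rw [h7] at h3; norm_num at h3
      · rw [h21] at h3; norm_num at h3
    have hDtop : D = ⊤ := Subgroup.eq_top_of_card_eq D (hD.trans h168.symm)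
    obtain ⟨e⟩ := Cfsg.Agent.S0495.result (F := ZMod 7) hD (ZMod.card 7)
    obtain ⟨e3⟩ := CfsgLib.Classical.Seven.nonempty_sl_three_equiv
    haveI : Subsingleton (ZMod 2)ˣ := ⟨CfsgLib.Classical.AutRankFour.units_zmod_two⟩
    have hbij : Function.Bijective
        (Matrix.SpecialLinearGroup.toGL : Matrix.SpecialLinearGroup (Fin 3) (ZMod 2) →*
          GL (Fin 3) (ZMod 2)) :=
      ⟨fun A B hAB => Subtype.ext (congrArg Units.val hAB), fun A =>
        ⟨⟨(A : Matrix (Fin 3) (Fin 3) (ZMod 2)), (Matrix.GeneralLinearGroup.val_det_apply A).symm.trans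
          (by rw [Subsingleton.elim (Matrix.GeneralLinearGroup.det A) 1, Units.val_one])⟩,
          Units.ext rfl⟩⟩
    exact ⟨(((MulEquiv.subgroupCongr hDtop).trans Subgroup.topEquiv).symm.trans e).trans
      (e3.symm.trans (MulEquiv.ofBijective _ hbij))⟩
  · have hG : Nat.card G = 360 ∨ Nat.card G = 720 := by
      rw [hD] at hdvd
      rcases hGl with h | h | h | h | h | h | h | h | h | h | h <;> rw [h] at hdvd <;> omega
    rcases hG with h | h
    · have hDtop : D = ⊤ := Subgroup.eq_top_of_card_eq D (hD.trans h.symm)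
      obtain ⟨e⟩ := Cfsg.Agent.S0497.result hD
      exact Or.inl ⟨6, by norm_num, by norm_num,
        ⟨((MulEquiv.subgroupCongr hDtop).trans Subgroup.topEquiv).symm.trans e⟩⟩
    · exact Or.inr (Or.inr (Or.inl (iso_six φ hφ D hD hC h)))

end CfsgLib.Known.GLFourTwo
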