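import Cfsg.Agent.Lib.Known.OmegaCriterion
import Cfsg.Agent.Lib.Known.AltRank
import Cfsg.Agent.Lib.Classical.SLGroup

/-!
# The standard hyperbolic form: Levi subgroup, parity and classes of maximal singular subspaces
-/

set_option autoImplicit false

namespace CfsgLib.Known.HyperbolicClasses

open QuadraticMap (polar polarBilin)
open CfsgLib.Classical.Quad CfsgLib.Known.OmegaCriterion
open scoped Matrix

variable {F : Type*} [Field F] {m : ℕ}

/-- `x ↦ (x, 0)`. -/
def inlV (x : Fin m → F) : Fin m ⊕ Fin m → F := Sum.elim x 0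

/-- `{(x, 0)}`. -/
abbrev U0 (m : ℕ) (F : Type*) [Field F] : Submodule F (Fin m ⊕ Fin m → F) :=
  LinearMap.ker (LinearMap.funLeft F F (Sum.inr : Fin m → Fin m ⊕ Fin m))

theorem mem_U0 {z : Fin m ⊕ Fin m → F} : z ∈ U0 m F ↔ ∀ i, z (Sum.inr i) = 0 :=
  ⟨fun h i => congrFun h i, fun h => funext h⟩

theorem finrank_U0 : Module.finrank F (U0 m F) = m := by
  have h := (LinearMap.funLeft F F (Sum.inr : Fin m → Fin m ⊕ Fin m)).finrank_range_add_finrank_ker
  rw [LinearMap.range_eq_top.2 (LinearMap.funLeft_surjective_of_injective F F _ Sum.inr_injective), finrank_top,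
    Module.finrank_pi, Module.finrank_pi, Fintype.card_fin, Fintype.card_sum, Fintype.card_fin] at h
  simp only [U0]
  omega

theorem qPlus_apply (z : Fin m ⊕ Fin m → F) : qPlus m F z = (z ∘ Sum.inl) ⬝ᵥ (z ∘ Sum.inr) := by
  rw [coe_qPlus]
  rfl

theorem U0_singular {z : Fin m ⊕ Fin m → F} (hz : z ∈ U0 m F) : qPlus m F z = 0 := by
  rw [qPlus_apply]
  exact Finset.sum_eq_zero fun i _ => by simp [mem_U0.1 hz i]

/-- The Levi element `diag(A, A⁻ᵀ)`. -/
noncomputable def levi (A : GL (Fin m) F) : OQ (qPlus m F) :=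
  ofPreserves (qPlus_nondeg m)
    (Matrix.mulVecLin (Matrix.fromBlocks (A : Matrix (Fin m) (Fin m) F) 0 0
      ((A⁻¹ : GL (Fin m) F) : Matrix (Fin m) (Fin m) F)ᵀ)) fun z => by
    show qPlus m F (Matrix.mulVec _ z) = _
    rw [qPlus_apply, qPlus_apply, Matrix.fromBlocks_mulVec]
    simp only [Matrix.zero_mulVec, add_zero, zero_add, Sum.elim_comp_inl, Sum.elim_comp_inr]
    rw [Matrix.mulVec_transpose, dotProduct_comm, ← Matrix.dotProduct_mulVec, Matrix.mulVec_mulVec,
      ← Units.val_mul, inv_mul_cancel, Units.val_one, Matrix.one_mulVec, dotProduct_comm]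

theorem levi_apply (A : GL (Fin m) F) (z : Fin m ⊕ Fin m → F) :
    (levi A : (Fin m ⊕ Fin m → F) ≃ₗ[F] (Fin m ⊕ Fin m → F)) z =
      Sum.elim ((A : Matrix (Fin m) (Fin m) F) *ᵥ (z ∘ Sum.inl))
        (((A⁻¹ : GL (Fin m) F) : Matrix (Fin m) (Fin m) F)ᵀ *ᵥ (z ∘ Sum.inr)) := by
  rw [levi, ofPreserves_apply]
  show Matrix.mulVec _ z = _
  rw [Matrix.fromBlocks_mulVec]
  simp

theorem levi_mul (A B : GL (Fin m) F) : levi (A * B) = levi A * levi B := by
  refine Subtype.ext (LinearEquiv.ext fun z => ?_)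
  show (levi (A * B) : (Fin m ⊕ Fin m → F) ≃ₗ[F] (Fin m ⊕ Fin m → F)) z =
    (levi A : (Fin m ⊕ Fin m → F) ≃ₗ[F] (Fin m ⊕ Fin m → F)) ((levi B : (Fin m ⊕ Fin m → F) ≃ₗ[F] (Fin m ⊕ Fin m → F)) z)
  simp only [levi_apply, Sum.elim_comp_inl, Sum.elim_comp_inr, Matrix.mulVec_mulVec, _root_.mul_inv_rev,
    Units.val_mul, Matrix.transpose_mul]

/-- The Levi embedding. -/
noncomputable def leviHom : GL (Fin m) F →* OQ (qPlus m F) :=
  MonoidHom.mk' levi levi_mul

theorem levi_map_U0 (A : GL (Fin m) F) :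
    (U0 m F).map ((levi A : (Fin m ⊕ Fin m → F) ≃ₗ[F] (Fin m ⊕ Fin m → F)) : (Fin m ⊕ Fin m → F) →ₗ[F] (Fin m ⊕ Fin m → F)) = U0 m F := by
  refine Submodule.eq_of_le_of_finrank_eq ?_ (LinearEquiv.finrank_map_eq _ _)
  rintro _ ⟨z, hz, rfl⟩
  refine mem_U0.2 fun i => ?_
  show (levi A : (Fin m ⊕ Fin m → F) ≃ₗ[F] (Fin m ⊕ Fin m → F)) z (Sum.inr i) = 0
  rw [levi_apply, Sum.elim_inr, show z ∘ Sum.inr = 0 from funext (mem_U0.1 hz), Matrix.mulVec_zero,
    Pi.zero_apply]

theorem single_facts (i : Fin m) :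
    qPlus m F (Pi.single (Sum.inl i) 1) = 0 ∧ qPlus m F (Pi.single (Sum.inr i) 1) = 0 ∧
      (∀ z, polar (qPlus m F) z (Pi.single (Sum.inl i) 1) = z (Sum.inr i)) ∧
      ∀ z, polar (qPlus m F) z (Pi.single (Sum.inr i) 1) = z (Sum.inl i) := by
  refine ⟨?_, ?_, fun z => ?_, fun z => ?_⟩
  · rw [qPlus_apply]; simp [dotProduct, Pi.single_apply]
  · rw [qPlus_apply]; simp [dotProduct, Pi.single_apply]
  · rw [polar_qPlus]; simp [Pi.single_apply]
  · rw [polar_qPlus]; simp [Pi.single_apply]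

/-- `diag(d, 1, …, 1)` at the place `i`. -/
noncomputable def diagAt (i : Fin m) (d : Fˣ) : GL (Fin m) F where
  val := Matrix.diagonal (Function.update 1 i (d : F))
  inv := Matrix.diagonal (Function.update 1 i ((d⁻¹ : Fˣ) : F))
  val_inv := by
    rw [Matrix.diagonal_mul_diagonal, ← Matrix.diagonal_one]
    congr 1; funext j
    by_cases h : j = i <;> simp [Function.update, h]
  inv_val := by
    rw [Matrix.diagonal_mul_diagonal, ← Matrix.diagonal_one]
    congr 1; funext j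
    by_cases h : j = i <;> simp [Function.update, h]

theorem det_diagAt (i : Fin m) (d : Fˣ) : Matrix.GeneralLinearGroup.det (diagAt i d) = d := by
  refine Units.ext ?_
  show (Matrix.diagonal (Function.update 1 i (d : F))).det = _
  rw [Matrix.det_diagonal, Finset.prod_update_of_mem (Finset.mem_univ i)]
  simp

theorem invariants_diagAt (i : Fin m) (d : Fˣ) :
    par (levi (diagAt i d)) = 0 ∧ spinor (levi (diagAt i d)) = sqc (d : F) := by
  obtain ⟨h1, h2, h3, h4⟩ := single_facts (F := F) i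
  obtain ⟨g, hg, hp, hs⟩ := exists_dil (qPlus_nondeg m) h1 h2
    (by rw [h4, Pi.single_eq_same]) d.ne_zero
  have : levi (diagAt i d) = g := by
    refine Subtype.ext (LinearEquiv.ext fun z => funext fun l => ?_)
    rw [levi_apply, hg, h3, h4]
    rcases l with j | j
    · rw [Sum.elim_inl]
      show (Matrix.diagonal _ *ᵥ (z ∘ Sum.inl)) j = _
      rw [Matrix.mulVec_diagonal]
      by_cases hj : j = i
      · subst hj; simp; ring
      · simp [Function.update, hj, Pi.single_apply]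
    · rw [Sum.elim_inr]
      show ((Matrix.diagonal (Function.update 1 i ((d⁻¹ : Fˣ) : F)))ᵀ *ᵥ (z ∘ Sum.inr)) j = _
      rw [Matrix.diagonal_transpose, Matrix.mulVec_diagonal]
      by_cases hj : j = i
      · subst hj; simp; ring
      · simp [Function.update, hj, Pi.single_apply]
  exact this ▸ ⟨hp, hs⟩

theorem invariants_levi [Finite F] (hR : reflGroup (qPlus m F) = ⊤) (hm : m = 2 → ∃ a : F, a ≠ 0 ∧ a ≠ 1)
    (i : Fin m) (A : GL (Fin m) F) :
    par (levi A) = 0 ∧ spinor (levi A) = sqc (A : Matrix (Fin m) (Fin m) F).det := by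
  set d := Matrix.GeneralLinearGroup.det A with hd
  have hk : A * (diagAt i d)⁻¹ ∈ commutator (GL (Fin m) F) := by
    rw [CfsgLib.Classical.commutator_GL_eq_ker_det hm, MonoidHom.mem_ker, map_mul, map_inv, det_diagAt, ← hd,
      mul_inv_cancel]
  have h1 : ((invHom (qPlus_nondeg m) hR).comp leviHom) (A * (diagAt i d)⁻¹) = 1 :=
    MonoidHom.mem_ker.1 (Abelianization.commutator_subset_ker _ hk)
  rw [map_mul, map_inv, mul_inv_eq_one] at h1
  have h2 : invariants (levi A) = invariants (levi (diagAt i d)) := h1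
  rw [invariants_eq, invariants_eq, Prod.mk.injEq] at h2
  obtain ⟨e1, e2⟩ := invariants_diagAt i d
  exact ⟨(Multiplicative.ofAdd.injective h2.1).trans e1, h2.2.trans e2⟩

theorem exists_levi_spinor [Finite F] (i : Fin m) (s : SqClass F) :
    ∃ A : GL (Fin m) F, par (levi A) = 0 ∧ spinor (levi A) = s := by
  obtain ⟨c, hc, rfl⟩ := exists_sqc_eq s
  exact ⟨diagAt i (Units.mk0 c hc), invariants_diagAt i _⟩

/-- The stabiliser of `U0` has parity zero. -/
theorem par_of_map_U0 [Finite F] (hR : reflGroup (qPlus m F) = ⊤) (hm : m = 2 → ∃ a : F, a ≠ 0 ∧ a ≠ 1)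
    (h : OQ (qPlus m F))
    (hh : (U0 m F).map ((h : (Fin m ⊕ Fin m → F) ≃ₗ[F] (Fin m ⊕ Fin m → F)) : (Fin m ⊕ Fin m → F) →ₗ[F] (Fin m ⊕ Fin m → F)) = U0 m F) :
    par h = 0 := by
  rcases Nat.eq_zero_or_pos m with rfl | hm0
  · have : Module.finrank F (mov h) = 0 := Nat.eq_zero_of_le_zero ((Submodule.finrank_le _).trans (by simp))
    rw [par, this, Nat.cast_zero]
  let e : (Fin m → F) →ₗ[F] (Fin m ⊕ Fin m → F) :=
    { toFun := inlV
      map_add' := fun a b => funext fun j => by rcases j with j | j <;> simp [inlV]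
      map_smul' := fun c a => funext fun j => by rcases j with j | j <;> simp [inlV] }
  have he : ∀ x, e x ∈ U0 m F := fun x => mem_U0.2 fun j => rfl
  let a : (Fin m → F) →ₗ[F] (Fin m → F) :=
    (LinearMap.funLeft F F Sum.inl).comp
      (((h : (Fin m ⊕ Fin m → F) ≃ₗ[F] (Fin m ⊕ Fin m → F)) : (Fin m ⊕ Fin m → F) →ₗ[F] (Fin m ⊕ Fin m → F)).comp e)
  have hha : ∀ x, (h : (Fin m ⊕ Fin m → F) ≃ₗ[F] (Fin m ⊕ Fin m → F)) (e x) = inlV (a x) := fun x => by
    have h1 : (h : (Fin m ⊕ Fin m → F) ≃ₗ[F] (Fin m ⊕ Fin m → F)) (e x) ∈ U0 m F := hh.le (Submodule.mem_map_of_mem (he x))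
    funext j
    rcases j with j | j
    · rfl
    · exact mem_U0.1 h1 j
  have hainj : Function.Injective a := fun x y hxy => by
    have h1 := (h : (Fin m ⊕ Fin m → F) ≃ₗ[F] (Fin m ⊕ Fin m → F)).injective ((hha x).trans (hxy ▸ (hha y).symm))
    exact funext fun j => congrFun h1 (Sum.inl j)
  have hAu : IsUnit (LinearMap.toMatrix' a) := by
    rw [← Matrix.mulVec_injective_iff_isUnit]
    intro x y hxy
    exact hainj (by simpa [LinearMap.toMatrix'_mulVec] using hxy)
  set A : GL (Fin m) F := hAu.unit with hA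
  set u : OQ (qPlus m F) := (levi A)⁻¹ * h with hu
  have hu0 : ∀ x, (u : (Fin m ⊕ Fin m → F) ≃ₗ[F] (Fin m ⊕ Fin m → F)) (inlV x) = inlV x := fun x => by
    show (levi A : (Fin m ⊕ Fin m → F) ≃ₗ[F] (Fin m ⊕ Fin m → F)).symm ((h : (Fin m ⊕ Fin m → F) ≃ₗ[F] (Fin m ⊕ Fin m → F)) (inlV x)) = inlV x
    rw [LinearEquiv.symm_apply_eq, show inlV x = e x from rfl, hha, levi_apply]
    funext j
    rcases j with j | j
    · show a x j = ((A : Matrix (Fin m) (Fin m) F) *ᵥ x) j
      rw [hA, IsUnit.unit_spec, LinearMap.toMatrix'_mulVec]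
    · show (0 : F) = (_ *ᵥ (0 : Fin m → F)) j
      rw [Matrix.mulVec_zero, Pi.zero_apply]
  -- `u` is unipotent given by an alternating matrix
  have hr : ∀ z i, (u : (Fin m ⊕ Fin m → F) ≃ₗ[F] (Fin m ⊕ Fin m → F)) z (Sum.inr i) = z (Sum.inr i) := fun z i => by
    have h1 := OQ.map_polar u z (inlV (Pi.single i 1))
    rw [hu0] at h1
    have h2 : inlV (Pi.single i (1 : F)) = Pi.single (Sum.inl i) 1 := funext fun j => by
      rcases j with j | j <;> simp [inlV, Pi.single_apply]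
    rw [h2, (single_facts i).2.2.1, (single_facts i).2.2.1] at h1
    exact h1
  let c : (Fin m → F) →ₗ[F] (Fin m → F) :=
    { toFun := fun y i => (u : (Fin m ⊕ Fin m → F) ≃ₗ[F] (Fin m ⊕ Fin m → F)) (Sum.elim (0 : Fin m → F) y) (Sum.inl i)
      map_add' := fun y y' => funext fun i => by
        rw [show Sum.elim (0 : Fin m → F) (y + y') = Sum.elim (0 : Fin m → F) y + Sum.elim (0 : Fin m → F) y' from
          funext fun j => by rcases j with j | j <;> simp, map_add]
        rfl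
      map_smul' := fun r y => funext fun i => by
        rw [show Sum.elim (0 : Fin m → F) (r • y) = r • Sum.elim (0 : Fin m → F) y from
          funext fun j => by rcases j with j | j <;> simp, map_smul]
        rfl }
  have hdec : ∀ z, (u : (Fin m ⊕ Fin m → F) ≃ₗ[F] (Fin m ⊕ Fin m → F)) z = z + inlV (c (z ∘ Sum.inr)) := fun z => by
    conv_lhs => rw [show z = inlV (z ∘ Sum.inl) + Sum.elim (0 : Fin m → F) (z ∘ Sum.inr) from
      funext fun j => by rcases j with j | j <;> simp [inlV]]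
    rw [map_add, hu0]
    funext j
    rcases j with j | j
    · simp [inlV, c]
    · simp [inlV, hr]
  have halt : ∀ v, v ⬝ᵥ (LinearMap.toMatrix' c) *ᵥ v = 0 := fun v => by
    have h1 := OQ.map_apply u (Sum.elim (0 : Fin m → F) v)
    rw [hdec, qPlus_apply, qPlus_apply] at h1
    rw [LinearMap.toMatrix'_mulVec, dotProduct_comm]
    simpa [inlV, dotProduct] using h1
  obtain ⟨r, hrank⟩ := CfsgLib.Known.AltRank.even_rank _ halt
  have hpu : par u = 0 := by
    have hmov : mov u = (LinearMap.range c).map e := by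
      refine le_antisymm ?_ ?_
      · rintro _ ⟨z, rfl⟩
        rw [movMap_apply, hdec, sub_add_cancel_left]
        exact neg_mem (Submodule.mem_map_of_mem (f := e) (LinearMap.mem_range_self c (z ∘ Sum.inr)))
      · rintro _ ⟨_, ⟨y, rfl⟩, rfl⟩
        refine ⟨-Sum.elim (0 : Fin m → F) y, ?_⟩
        rw [map_neg, movMap_apply, hdec, sub_add_cancel_left, neg_neg]
        exact congrArg inlV (congrArg c (Sum.elim_comp_inr _ _))
    rw [par, hmov, LinearEquiv.finrank_eq (Submodule.equivMapOfInjective e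
      (fun x y hxy => funext fun j => congrFun hxy (Sum.inl j)) _).symm]
    rw [show Module.finrank F (LinearMap.range c) = (LinearMap.toMatrix' c).rank by
      rw [Matrix.rank, ← Matrix.toLin'_apply', Matrix.toLin'_toMatrix'], hrank, Nat.cast_add]
    exact CharTwo.add_self_eq_zero _
  have hh' : h = levi A * u := by rw [hu, mul_inv_cancel_left]
  rw [hh', par_mul (qPlus_nondeg m) hR, (invariants_levi hR hm ⟨0, hm0⟩ A).1, hpu, add_zero]

/-- Moving `U0` onto a maximal singular subspace by reflections. -/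
theorem exists_to (W : Submodule F (Fin m ⊕ Fin m → F)) (hW : Module.finrank F W = m)
    (hW0 : ∀ w ∈ W, qPlus m F w = 0) :
    ∀ d, m - Module.finrank F ↥(U0 m F ⊓ W) = d → ∃ s : OQ (qPlus m F),
      (U0 m F).map ((s : (Fin m ⊕ Fin m → F) ≃ₗ[F] (Fin m ⊕ Fin m → F)) : (Fin m ⊕ Fin m → F) →ₗ[F] (Fin m ⊕ Fin m → F)) = W ∧
        par s = (d : ZMod 2) := by
  intro d
  induction d generalizing W with
  | zero =>
    intro hd
    have hle : Module.finrank F ↥(U0 m F ⊓ W) ≤ Module.finrank F (U0 m F) := Submodule.finrank_mono inf_le_left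
    rw [finrank_U0] at hle
    have e1 : U0 m F ⊓ W = U0 m F := Submodule.eq_of_le_of_finrank_eq inf_le_left (by rw [finrank_U0]; omega)
    have e2 : U0 m F ⊓ W = W := Submodule.eq_of_le_of_finrank_eq inf_le_right (by rw [hW]; omega)
    refine ⟨1, ?_, by rw [par_one (qPlus_nondeg m), Nat.cast_zero]⟩
    rw [show (((1 : OQ (qPlus m F)) : (Fin m ⊕ Fin m → F) ≃ₗ[F] (Fin m ⊕ Fin m → F)) : (Fin m ⊕ Fin m → F) →ₗ[F] (Fin m ⊕ Fin m → F)) =
      LinearMap.id from rfl, Submodule.map_id, ← e1, e2]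
  | succ d ih =>
    intro hd
    obtain ⟨u, huU, huW⟩ : ∃ u ∈ U0 m F, u ∉ W := by
      by_contra hcon
      push Not at hcon
      rw [inf_eq_left.2 hcon, finrank_U0] at hd
      omega
    -- `W` is its own orthogonal
    have hmax : ∀ x, (∀ w ∈ W, polar (qPlus m F) w x = 0) → x ∈ W := fun x hx => by
      have hle : W ≤ LinearMap.BilinForm.orthogonal (polarBilin (qPlus m F)) W := fun w hw y hy => by
        show polar (qPlus m F) y w = 0
        simp only [polar, hW0 _ (W.add_mem hy hw), hW0 y hy, hW0 w hw, sub_zero]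
      have he := Submodule.eq_of_le_of_finrank_eq hle (by
        rw [LinearMap.BilinForm.finrank_orthogonal (qPlus_nondeg m), hW, Module.finrank_pi, Fintype.card_sum,
          Fintype.card_fin]
        omega)
      rw [he]
      exact hx
    obtain ⟨w, hw, hp⟩ : ∃ w ∈ W, polar (qPlus m F) w u ≠ 0 := by
      by_contra hcon
      push Not at hcon
      exact huW (hmax u hcon)
    set v := u + (-1 : F) • w with hv_def
    have hv : qPlus m F v ≠ 0 := by
      rw [hv_def, apply_add, apply_smul, polar_smul_right', U0_singular huU, hW0 w hw,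
        QuadraticMap.polar_comm (⇑(qPlus m F)) u w]
      simpa using hp
    set W' := W.map (((refl hv : OQ (qPlus m F)) : (Fin m ⊕ Fin m → F) ≃ₗ[F] (Fin m ⊕ Fin m → F)) :
      (Fin m ⊕ Fin m → F) →ₗ[F] (Fin m ⊕ Fin m → F)) with hW'
    have hQv : qPlus m F v = -polar (qPlus m F) w u := by
      rw [hv_def, apply_add, apply_smul, polar_smul_right', U0_singular huU, hW0 w hw,
        QuadraticMap.polar_comm (⇑(qPlus m F)) u w]
      ring
    have hfix : ∀ x ∈ U0 m F ⊓ W, polar (qPlus m F) x v = 0 := fun x hx => by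
      rw [hv_def, polar_add_right', polar_smul_right']
      have e1 : polar (qPlus m F) x u = 0 := by
        simp only [polar, U0_singular ((U0 m F).add_mem hx.1 huU), U0_singular hx.1, U0_singular huU, sub_zero]
      have e2 : polar (qPlus m F) x w = 0 := by
        simp only [polar, hW0 _ (W.add_mem hx.2 hw), hW0 x hx.2, hW0 w hw, sub_zero]
      rw [e1, e2]; ring
    have hrw : ((refl hv : OQ (qPlus m F)) : (Fin m ⊕ Fin m → F) ≃ₗ[F] (Fin m ⊕ Fin m → F)) w = u := by
      rw [refl_apply, hQv, hv_def, polar_add_right', polar_smul_right', polar_self', hW0 w hw, mul_zero, mul_zero,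
        add_zero, inv_neg, neg_mul, inv_mul_cancel₀ hp]
      module
    have hinf : U0 m F ⊓ W' = (U0 m F ⊓ W) ⊔ (F ∙ u) := by
      refine le_antisymm ?_ (sup_le (fun x hx => ⟨hx.1, ⟨x, hx.2, ?_⟩⟩)
        ((Submodule.span_singleton_le_iff_mem _ _).2 ⟨huU, ⟨w, hw, hrw⟩⟩))
      · rintro x ⟨hxU, y, hy, hxy⟩
        replace hxy : ((refl hv : OQ (qPlus m F)) : (Fin m ⊕ Fin m → F) ≃ₗ[F] (Fin m ⊕ Fin m → F)) y = x := hxy
        rw [refl_apply] at hxy
        set t := (qPlus m F v)⁻¹ * polar (qPlus m F) y v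
        have hy' : y + t • w = x + t • u := by
          rw [← hxy, hv_def]; module
        have hmem : x + t • u ∈ U0 m F ⊓ W :=
          ⟨(U0 m F).add_mem hxU ((U0 m F).smul_mem _ huU), hy' ▸ W.add_mem hy (W.smul_mem _ hw)⟩
        rw [show x = (x + t • u) + (-t) • u by module]
        exact Submodule.add_mem_sup hmem (Submodule.smul_mem _ _ (Submodule.mem_span_singleton_self u))
      · show ((refl hv : OQ (qPlus m F)) : (Fin m ⊕ Fin m → F) ≃ₗ[F] (Fin m ⊕ Fin m → F)) x = x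
        rw [refl_apply, hfix x hx, mul_zero, zero_smul, sub_zero]
    have hdim : Module.finrank F ↥(U0 m F ⊓ W') = Module.finrank F ↥(U0 m F ⊓ W) + 1 := by
      have hu0 : u ≠ 0 := fun h => huW (h ▸ W.zero_mem)
      have hdisj : (U0 m F ⊓ W) ⊓ (F ∙ u) = ⊥ := by
        refine eq_bot_iff.2 fun x hx => ?_
        obtain ⟨r, rfl⟩ := Submodule.mem_span_singleton.1 hx.2
        by_cases hr : r = 0
        · simp [hr]
        · exact absurd ((W.smul_mem_iff hr).1 hx.1.2) huW
      have h1 := Submodule.finrank_sup_add_finrank_inf_eq (U0 m F ⊓ W) (F ∙ u)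
      rw [hdisj, finrank_bot, finrank_span_singleton hu0, ← hinf, add_zero] at h1
      exact h1
    obtain ⟨s, hs, hps⟩ := ih W' ((LinearEquiv.finrank_map_eq _ W).trans hW)
      (by rintro _ ⟨y, hy, rfl⟩; exact (OQ.map_apply (refl hv) y).trans (hW0 y hy)) (by omega)
    refine ⟨refl hv * s, ?_, by rw [par_refl_mul (qPlus_nondeg m), hps, Nat.cast_succ]⟩
    rw [map_mul_eq, hs, hW', ← map_mul_eq, refl_mul_self]
    exact Submodule.map_id W

/-- The parity is the codimension of `U0 ∩ g U0`. -/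
theorem par_eq [Finite F] (hR : reflGroup (qPlus m F) = ⊤) (hm : m = 2 → ∃ a : F, a ≠ 0 ∧ a ≠ 1)
    (g : OQ (qPlus m F)) :
    par g = ((m - Module.finrank F ↥(U0 m F ⊓ (U0 m F).map
      ((g : (Fin m ⊕ Fin m → F) ≃ₗ[F] (Fin m ⊕ Fin m → F)) : (Fin m ⊕ Fin m → F) →ₗ[F] (Fin m ⊕ Fin m → F))) : ℕ) : ZMod 2) := by
  set W := (U0 m F).map ((g : (Fin m ⊕ Fin m → F) ≃ₗ[F] (Fin m ⊕ Fin m → F)) : (Fin m ⊕ Fin m → F) →ₗ[F] (Fin m ⊕ Fin m → F)) with hW
  obtain ⟨s, hs, hp⟩ := exists_to W ((LinearEquiv.finrank_map_eq _ _).trans finrank_U0)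
    (by rintro _ ⟨y, hy, rfl⟩; exact (OQ.map_apply g y).trans (U0_singular hy)) _ rfl
  have hst : (U0 m F).map (((s⁻¹ * g : OQ (qPlus m F)) : (Fin m ⊕ Fin m → F) ≃ₗ[F] (Fin m ⊕ Fin m → F)) :
      (Fin m ⊕ Fin m → F) →ₗ[F] (Fin m ⊕ Fin m → F)) = U0 m F := by
    rw [map_mul_eq, ← hW]
    conv_lhs => rw [← hs]
    rw [← map_mul_eq, inv_mul_cancel]
    exact Submodule.map_id _
  calc par g = par (s * (s⁻¹ * g)) := congrArg par (mul_inv_cancel_left s g).symm
    _ = par s + par (s⁻¹ * g) := par_mul (qPlus_nondeg m) hR _ _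
    _ = par s := by rw [par_of_map_U0 hR hm _ hst, add_zero]
    _ = _ := hp

theorem det_eq [Finite F] (hR : reflGroup (qPlus m F) = ⊤) (g : OQ (qPlus m F)) :
    LinearMap.det ((g : (Fin m ⊕ Fin m → F) ≃ₗ[F] (Fin m ⊕ Fin m → F)) : (Fin m ⊕ Fin m → F) →ₗ[F] (Fin m ⊕ Fin m → F)) =
      (-1) ^ (par g).val := by
  have hg : g ∈ reflGroup (qPlus m F) := by rw [hR]; exact Subgroup.mem_top g
  have hval : ∀ a b : ZMod 2, ((-1 : F)) ^ (a + b).val = (-1) ^ a.val * (-1) ^ b.val := by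
    intro a b
    rw [← pow_add, ZMod.val_add, ← neg_one_pow_eq_pow_mod_two]
  rw [reflGroup] at hg
  induction hg using Subgroup.closure_induction with
  | mem x hx => ?_
  | one => ?_
  | mul a b _ _ ha hb => ?_
  | inv a _ ha => ?_
  · obtain ⟨v, hv, rfl⟩ := hx
    rw [par_refl (qPlus_nondeg m), ZMod.val_one, pow_one]
    exact det_refl hv
  · rw [par_one (qPlus_nondeg m), ZMod.val_zero, pow_zero]
    exact LinearMap.det_id
  ·
    rw [par_mul (qPlus_nondeg m) hR, hval, ← ha, ← hb]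
    exact LinearMap.det_comp _ _
  ·
    have h1 : par a⁻¹ = par a := by
      have := par_mul (qPlus_nondeg m) hR a a⁻¹
      rw [mul_inv_cancel, par_one (qPlus_nondeg m)] at this
      exact (CharTwo.add_eq_zero.1 this.symm).symm
    have hmul : LinearMap.det ((a : (Fin m ⊕ Fin m → F) ≃ₗ[F] (Fin m ⊕ Fin m → F)) : (Fin m ⊕ Fin m → F) →ₗ[F] (Fin m ⊕ Fin m → F)) *
        LinearMap.det (((a⁻¹ : OQ (qPlus m F)) : (Fin m ⊕ Fin m → F) ≃ₗ[F] (Fin m ⊕ Fin m → F)) :
          (Fin m ⊕ Fin m → F) →ₗ[F] (Fin m ⊕ Fin m → F)) = 1 := by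
      rw [← LinearMap.det_comp, ← LinearMap.det_id (A := F) (M := Fin m ⊕ Fin m → F)]
      congr 1
      exact LinearMap.ext fun z => (a : (Fin m ⊕ Fin m → F) ≃ₗ[F] (Fin m ⊕ Fin m → F)).apply_symm_apply z
    rw [ha] at hmul
    rw [h1]
    have h2 : ((-1 : F)) ^ (par a).val * (-1) ^ (par a).val = 1 := by rw [← mul_pow]; simp
    exact mul_left_cancel₀ (pow_ne_zero _ (neg_ne_zero.2 one_ne_zero)) (hmul.trans h2.symm)

end CfsgLib.Known.HyperbolicClasses
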