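import Mathlib

/-!
# Lang's theorem for `GL n` over an algebraically closed field
-/

set_option autoImplicit false

namespace CfsgLib.Known.LangGL

open Polynomial

variable {K : Type*} [Field K] [IsAlgClosed K] {q : ℕ} {φ : K →+* K}
  {V : Type*} [AddCommGroup V] [Module K V]

/-- `x ↦ x ^ q - x` is onto. -/
theorem exists_pow_sub_self (hq : 2 ≤ q) (b : K) : ∃ x : K, x ^ q - x = b := by
  have hdeg : ((X : K[X]) ^ q - (X + C b)).degree ≠ 0 := by
    rw [degree_sub_eq_left_of_degree_lt]
    · rw [degree_X_pow]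
      exact_mod_cast (by omega : q ≠ 0)
    · rw [degree_X_pow, degree_X_add_C]
      exact_mod_cast hq
  obtain ⟨x, hx⟩ := IsAlgClosed.exists_root _ hdeg
  refine ⟨x, ?_⟩
  rw [IsRoot, eval_sub, eval_pow, eval_add, eval_X, eval_C] at hx
  linear_combination hx

/-- The coefficients of a candidate fixed vector, as polynomials in the last coefficient. -/
noncomputable def fixPoly (q : ℕ) (a : ℕ → K) : ℕ → K[X]
  | 0 => C (a 0) * X ^ q
  | i + 1 => fixPoly q a i ^ q + C (a (i + 1)) * X ^ q

theorem fixPoly_spec (hq : 2 ≤ q) (a : ℕ → K) (ha : a 0 ≠ 0) :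
    ∀ i, X ^ q ∣ fixPoly q a i ∧ (fixPoly q a i).natDegree = q ^ (i + 1)
  | 0 => ⟨dvd_mul_left _ _, by rw [fixPoly, natDegree_C_mul_X_pow q _ ha, zero_add, pow_one]⟩
  | i + 1 => by
    obtain ⟨h1, h2⟩ := fixPoly_spec hq a ha i
    refine ⟨dvd_add (h1.trans (dvd_pow_self _ (by omega))) (dvd_mul_left _ _), ?_⟩
    rw [fixPoly, natDegree_add_eq_left_of_natDegree_lt]
    · rw [natDegree_pow, h2, pow_succ' q (i + 1)]
    · rw [natDegree_pow, h2, ← pow_succ']
      exact (natDegree_C_mul_X_pow_le _ _).trans_lt (lt_self_pow₀ (by omega) (by omega))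

/-- An injective `q`-semilinear map of a nonzero space has a nonzero fixed vector. -/
theorem exists_fixed [Module.Finite K V] [Nontrivial V] (hq : 2 ≤ q) (hφ : ∀ x, φ x = x ^ q)
    (T : V →ₛₗ[φ] V) (hT : Function.Injective T) : ∃ w : V, w ≠ 0 ∧ T w = w := by
  classical
  obtain ⟨v, hv⟩ := exists_ne (0 : V)
  set e : ℕ → V := fun i => T^[i] v with he
  have hes : ∀ i, T (e i) = e (i + 1) := fun i => (Function.iterate_succ_apply' T i v).symm
  have hsurj : Function.Surjective φ := fun y => by
    obtain ⟨x, hx⟩ := IsAlgClosed.exists_pow_nat_eq y (show 0 < q by omega)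
    exact ⟨x, by rw [hφ, hx]⟩
  have hex : ∃ k, ¬ LinearIndependent K (fun i : Fin k => e i) := by
    refine ⟨Module.finrank K V + 1, fun h => ?_⟩
    have := h.fintype_card_le_finrank
    rw [Fintype.card_fin] at this
    omega
  obtain ⟨m, hm, hmin⟩ : ∃ m, ¬ LinearIndependent K (fun i : Fin (m + 1) => e i) ∧
      LinearIndependent K (fun i : Fin m => e i) := by
    cases hk : Nat.find hex with
    | zero =>
      exact absurd (linearIndependent_empty_type) (hk ▸ Nat.find_spec hex)
    | succ m =>
      exact ⟨m, hk ▸ Nat.find_spec hex, not_not.1 (Nat.find_min hex (by omega))⟩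
  obtain ⟨k, rfl⟩ : ∃ k, m = k + 1 := by
    refine Nat.exists_eq_succ_of_ne_zero fun h0 => ?_
    subst h0
    refine hm ?_
    rw [Fintype.linearIndependent_iff]
    intro g hg i
    rw [Fin.sum_univ_one] at hg
    obtain rfl : i = 0 := Fin.ext (by omega)
    exact (smul_eq_zero.1 hg).resolve_right (by simpa [e] using hv)
  have hmem : e (k + 1) ∈ Submodule.span K (Set.range fun i : Fin (k + 1) => e i) := by
    by_contra hn
    refine hm ?_
    rw [show (fun i : Fin (k + 1 + 1) => e i) = Fin.snoc (fun i : Fin (k + 1) => e i) (e (k + 1)) from ?_]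
    · exact linearIndependent_finSnoc.2 ⟨hmin, hn⟩
    · funext i
      refine Fin.lastCases ?_ (fun j => ?_) i
      · simp
      · simp
  rw [Submodule.mem_span_range_iff_exists_fun] at hmem
  obtain ⟨a', ha'⟩ := hmem
  set a : ℕ → K := fun i => if h : i < k + 1 then a' ⟨i, h⟩ else 0 with ha_def
  have hsum : ∑ i ∈ Finset.range (k + 1), a i • e i = e (k + 1) := by
    rw [Finset.sum_range, ← ha']
    exact Finset.sum_congr rfl fun i _ => by simp only [a, dif_pos i.2]
  have ha0 : a 0 ≠ 0 := by
    intro h0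
    -- pull the relation back along `T`
    choose r hr using fun i => hsurj (a (i + 1))
    have h1 : T (∑ i ∈ Finset.range k, r i • e i) = T (e k) := by
      rw [hes k, ← hsum, Finset.sum_range_succ', h0, zero_smul, add_zero, map_sum]
      exact Finset.sum_congr rfl fun i _ => by rw [LinearMap.map_smulₛₗ, hr, hes]
    have h2 := hT h1
    have hnot := (linearIndependent_finSnoc.1 (by
      rw [show (fun i : Fin (k + 1) => e i) = Fin.snoc (fun i : Fin k => e i) (e k) from ?_] at hmin
      · exact hmin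
      · funext i
        refine Fin.lastCases ?_ (fun j => ?_) i
        · simp
        · simp)).2
    refine hnot ?_
    rw [← h2, Finset.sum_range, Submodule.mem_span_range_iff_exists_fun]
    exact ⟨fun i => r i, rfl⟩
  -- the equation for the last coefficient
  obtain ⟨⟨R, hR⟩, hdeg⟩ := fixPoly_spec hq a ha0 k
  set P := fixPoly q a k
  have hfac : P - X = X * (X ^ (q - 1) * R - 1) := by
    conv_lhs => rw [hR, show q = q - 1 + 1 by omega, pow_succ']
    ring
  have hRdeg : (X ^ (q - 1) * R - 1).degree ≠ 0 := by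
    intro h0
    have h1 : (P - X).natDegree ≤ 1 := by
      rw [hfac]
      refine natDegree_mul_le.trans ?_
      rw [natDegree_X, natDegree_eq_zero_iff_degree_le_zero.2 h0.le]
    rw [natDegree_sub_eq_left_of_natDegree_lt] at h1
    · rw [hdeg] at h1
      exact absurd h1 (not_le.2 (one_lt_pow₀ (by omega) (by omega)))
    · rw [hdeg, natDegree_X]
      exact one_lt_pow₀ (by omega) (by omega)
  obtain ⟨x, hx⟩ := IsAlgClosed.exists_root _ hRdeg
  rw [IsRoot] at hx
  have hxP : P.eval x = x := by
    have := congrArg (eval x) hfac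
    rw [eval_mul, hx, mul_zero, eval_sub, eval_X, sub_eq_zero] at this
    exact this
  have hx0 : x ≠ 0 := by
    rintro rfl
    simp [zero_pow (show q - 1 ≠ 0 by omega)] at hx
  set c : ℕ → K := fun i => (fixPoly q a i).eval x with hc
  refine ⟨∑ i ∈ Finset.range (k + 1), c i • e i, fun h0 => ?_, ?_⟩
  · rw [Finset.sum_range] at h0
    exact hx0 (hxP ▸ Fintype.linearIndependent_iff.1 hmin (fun i => c i) h0 (Fin.last k))
  · have hrec : ∀ i, c (i + 1) = c i ^ q + a (i + 1) * c k ^ q := fun i => by
      rw [show c k = x from hxP]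
      simp [c, fixPoly]
    have hzero : c 0 = a 0 * c k ^ q := by
      rw [show c k = x from hxP]
      simp [c, fixPoly]
    rw [map_sum]
    simp only [LinearMap.map_smulₛₗ, hφ, hes]
    conv_lhs => rw [Finset.sum_range_succ, ← hsum, Finset.smul_sum, Finset.sum_range_succ' (fun i => c k ^ q • a i • e i),
      ← add_assoc, ← Finset.sum_add_distrib]
    rw [Finset.sum_range_succ' (fun i => c i • e i)]
    congr 1
    · exact Finset.sum_congr rfl fun i _ => by rw [hrec, add_smul, smul_smul, mul_comm (a _)]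
    · rw [hzero, smul_smul, mul_comm]

/-- The fixed vectors of an injective `q`-semilinear map span the space. -/
theorem span_fixed_eq_top [Module.Finite K V] (hq : 2 ≤ q) (hφ : ∀ x, φ x = x ^ q)
    (T : V →ₛₗ[φ] V) (hT : Function.Injective T) : Submodule.span K {v | T v = v} = ⊤ := by
  set W := Submodule.span K {v | T v = v} with hW
  by_contra hne
  have hsurj : Function.Surjective φ := fun y => by
    obtain ⟨x, hx⟩ := IsAlgClosed.exists_pow_nat_eq y (show 0 < q by omega)
    exact ⟨x, by rw [hφ, hx]⟩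
  have hsol : ∀ b ∈ W, ∀ c : K, (∃ u ∈ W, T u - u = c • b) ∧ ∃ u ∈ W, T u = c • b := by
    intro b hb
    induction hb using Submodule.span_induction with
    | mem w hw =>
      intro c
      obtain ⟨x, hx⟩ := exists_pow_sub_self hq c
      obtain ⟨y, hy⟩ := hsurj c
      refine ⟨⟨x • w, W.smul_mem x (Submodule.subset_span hw), ?_⟩, y • w, W.smul_mem y (Submodule.subset_span hw), ?_⟩
      · rw [LinearMap.map_smulₛₗ, hφ, (show T w = w from hw), ← sub_smul, hx]
      · rw [LinearMap.map_smulₛₗ, hy, (show T w = w from hw)]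
    | zero =>
      intro c
      exact ⟨⟨0, W.zero_mem, by simp⟩, 0, W.zero_mem, by simp⟩
    | add u v _ _ hu hv =>
      intro c
      obtain ⟨⟨a, ha, hau⟩, a', ha', hau'⟩ := hu c
      obtain ⟨⟨b, hb, hbv⟩, b', hb', hbv'⟩ := hv c
      refine ⟨⟨a + b, W.add_mem ha hb, ?_⟩, a' + b', W.add_mem ha' hb', ?_⟩
      · rw [map_add, smul_add, ← hau, ← hbv]; abel
      · rw [map_add, smul_add, ← hau', ← hbv']
    | smul d u _ hu =>
      intro c
      simpa [smul_smul] using hu (c * d)
  have hTW : W ≤ W.comap T := Submodule.span_le.2 fun v hv => by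
    show T v ∈ W
    rw [show T v = v from hv]
    exact Submodule.subset_span hv
  set T' : V ⧸ W →ₛₗ[φ] V ⧸ W := W.mapQ W T hTW
  have hT' : Function.Injective T' := by
    rw [injective_iff_map_eq_zero]
    intro x
    induction x using Submodule.Quotient.induction_on with
    | H v =>
      intro hv
      rw [Submodule.mapQ_apply, Submodule.Quotient.mk_eq_zero] at hv
      obtain ⟨-, u, hu, hTu⟩ := hsol _ hv 1
      rw [one_smul] at hTu
      exact (Submodule.Quotient.mk_eq_zero W).2 (hT hTu ▸ hu)
  haveI : Nontrivial (V ⧸ W) := Submodule.Quotient.nontrivial_iff.2 hne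
  obtain ⟨x, hx0, hx⟩ := exists_fixed hq hφ T' hT'
  obtain ⟨v, rfl⟩ := Submodule.Quotient.mk_surjective W x
  rw [Submodule.mapQ_apply, Submodule.Quotient.eq] at hx
  obtain ⟨⟨u, hu, hTu⟩, -⟩ := hsol _ hx 1
  rw [one_smul] at hTu
  refine hx0 ((Submodule.Quotient.mk_eq_zero W).2 ?_)
  have hvu : v - u ∈ W := Submodule.subset_span (show T (v - u) = v - u by
    rw [map_sub, sub_eq_sub_iff_sub_eq_sub, hTu])
  simpa using W.add_mem hvu hu

/-- Lang's theorem for `GL n`. -/
theorem exists_eq_mul_map_inv {n : ℕ} (hq : 2 ≤ q) (hφ : ∀ x, φ x = x ^ q) (g : GL (Fin n) K) :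
    ∃ x : GL (Fin n) K, g = x * (Matrix.GeneralLinearGroup.map φ x)⁻¹ := by
  classical
  let T : (Fin n → K) →ₛₗ[φ] (Fin n → K) :=
    { toFun := fun v => (g : Matrix (Fin n) (Fin n) K).mulVec (φ ∘ v)
      map_add' := fun u v => by
        rw [show φ ∘ (u + v) = φ ∘ u + φ ∘ v from funext fun i => map_add φ _ _, Matrix.mulVec_add]
      map_smul' := fun c v => by
        rw [show φ ∘ (c • v) = φ c • (φ ∘ v) from funext fun i => map_mul φ _ _, Matrix.mulVec_smul] }
  have hT : Function.Injective T := fun u v h => by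
    have h1 : φ ∘ u = φ ∘ v := Matrix.mulVec_injective_iff_isUnit.2 g.isUnit h
    funext i
    exact φ.injective (congrFun h1 i)
  have hspan := span_fixed_eq_top hq hφ T hT
  obtain ⟨b, hbV, hbsp, hbli⟩ := exists_linearIndependent K {v : Fin n → K | T v = v}
  rw [hspan] at hbsp
  let B : Module.Basis b K (Fin n → K) := Module.Basis.mk hbli (by rw [Subtype.range_coe]; exact hbsp.ge)
  let B' := B.reindex (B.indexEquiv (Pi.basisFun K (Fin n)))
  have hfix : ∀ i, T (B' i) = B' i := fun i => by
    simp only [B', Module.Basis.reindex_apply, B, Module.Basis.mk_apply]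
    exact hbV (Subtype.prop _)
  have hu : IsUnit (Matrix.of fun k i => (B' i) k) := by
    rw [← Matrix.linearIndependent_cols_iff_isUnit]
    exact B'.linearIndependent
  refine ⟨hu.unit, ?_⟩
  rw [eq_mul_inv_iff_mul_eq]
  refine Units.ext (Matrix.ext fun k i => ?_)
  rw [Units.val_mul, Matrix.mul_apply]
  exact congrFun (hfix i) k

end CfsgLib.Known.LangGL
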