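import Mathlib

/-!
# No nontrivial law holds in all large `PSL₂` or alternating groups
-/

set_option autoImplicit false

namespace CfsgLib.Known.Laws

open Polynomial

/-- The law `w` holds in `G`. -/
def Holds (w : FreeGroup ℕ) (G : Type*) [Group G] : Prop :=
  ∀ f : ℕ → G, FreeGroup.lift f w = 1

theorem lift_comp {G H : Type*} [Group G] [Group H] (φ : G →* H) (f : ℕ → G) (w : FreeGroup ℕ) :
    φ (FreeGroup.lift f w) = FreeGroup.lift (φ ∘ f) w :=
  DFunLike.congr_fun (FreeGroup.ext_hom (φ.comp (FreeGroup.lift f)) (FreeGroup.lift (φ ∘ f))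
    (fun a => by simp)) w

/-- A law passes to sections. -/
theorem Holds.of_section {w : FreeGroup ℕ} {H G K : Type*} [Group H] [Group G] [Group K]
    (h : Holds w G) (φ : H →* G) (ψ : H →* K) (hψ : Function.Surjective ψ)
    (hk : ∀ x, φ x = 1 → ψ x = 1) : Holds w K := by
  intro f
  choose f' hf' using fun i => hψ (f i)
  have h1 : φ (FreeGroup.lift f' w) = 1 := by rw [lift_comp]; exact h _
  have h2 := hk _ h1
  rw [lift_comp] at h2
  rwa [show ψ ∘ f' = f from funext hf'] at h2

theorem Holds.of_injective {w : FreeGroup ℕ} {H G : Type*} [Group H] [Group G]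
    (h : Holds w G) (φ : H →* G) (hφ : Function.Injective φ) : Holds w H :=
  h.of_section φ (MonoidHom.id H) Function.surjective_id fun x hx => hφ (by simpa using hx)

theorem Holds.of_mulEquiv {w : FreeGroup ℕ} {H G : Type*} [Group H] [Group G]
    (h : Holds w G) (e : G ≃* H) : Holds w H :=
  h.of_injective e.symm.toMonoidHom e.symm.injective

/-! ### Ping-pong in `SL₂(R[X])` -/

section PingPong

variable {R : Type*} [CommRing R]

/-- The action of a letter on pairs of polynomials. -/
noncomputable def letterAct : ℕ × Bool → R[X] × R[X] → R[X] × R[X]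
  | (i, true), (a, b) =>
      (a + X ^ (i + 1) * (b + X ^ (i + 1) * a), b + X ^ (i + 1) * a)
  | (i, false), (a, b) =>
      (a - X ^ (i + 1) * b, b - X ^ (i + 1) * (a - X ^ (i + 1) * b))

/-- The action of a word on `(1, 1)`. -/
noncomputable def wordAct (L : List (ℕ × Bool)) : R[X] × R[X] :=
  L.foldr (fun s v => letterAct s v) (1, 1)

/-- A bound for the degree. -/
def wordBound (L : List (ℕ × Bool)) : ℕ :=
  (L.map fun s => 2 * (s.1 + 1)).sum

variable [IsDomain R]

theorem grow {f a b : R[X]} (hf : 1 ≤ f.natDegree) (hb : b ≠ 0) (h : a.natDegree ≤ b.natDegree) :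
    b.natDegree < (a + f * b).natDegree := by
  have hf0 : f ≠ 0 := fun h0 => by simp [h0] at hf
  rw [natDegree_add_eq_right_of_natDegree_lt] <;> rw [natDegree_mul hf0 hb] <;> omega

theorem one_le_natDegree_X_pow (i : ℕ) : 1 ≤ (X ^ (i + 1) : R[X]).natDegree := by simp

theorem one_le_natDegree_sub {i j : ℕ} (h : i ≠ j) :
    1 ≤ (X ^ (i + 1) - X ^ (j + 1) : R[X]).natDegree := by
  refine le_trans (by omega : 1 ≤ i + 1) (le_natDegree_of_ne_zero ?_)
  simp [coeff_X_pow, h]

/-- Where a reduced word starting with the given letter sends `(1, 1)`. -/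
def Lands : ℕ × Bool → R[X] × R[X] → Prop
  | (i, true), v => ∃ w : R[X] × R[X],
      w.1.natDegree < w.2.natDegree ∧ v = (w.1 + X ^ (i + 1) * w.2, w.2)
  | (i, false), v => ∃ w : R[X] × R[X],
      w.2.natDegree < w.1.natDegree ∧ v = (w.1, w.2 - X ^ (i + 1) * w.1)

theorem lands_ne {s : ℕ × Bool} {v : R[X] × R[X]} (h : Lands s v) :
    v.1.natDegree ≠ v.2.natDegree := by
  obtain ⟨i, _ | _⟩ := s <;> obtain ⟨w, hw, rfl⟩ := h
  · have h0 : w.1 ≠ 0 := fun h0 => by simp [h0] at hw
    have := grow (f := -(X ^ (i + 1) : R[X])) (a := w.2) (b := w.1) (by simp) h0 hw.le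
    rw [neg_mul, ← sub_eq_add_neg] at this
    exact this.ne
  · have h0 : w.2 ≠ 0 := fun h0 => by simp [h0] at hw
    exact (grow (one_le_natDegree_X_pow i) h0 hw.le).ne'

theorem lands_wordAct : ∀ (s : ℕ × Bool) (L : List (ℕ × Bool)), FreeGroup.IsReduced (s :: L) →
    Lands s (wordAct (R := R) (s :: L))
  | (i, true), L, hL => by
    refine ⟨((wordAct L).1, (wordAct L).2 + X ^ (i + 1) * (wordAct L).1), ?_, rfl⟩
    dsimp only
    cases L with
    | nil =>
      simp only [wordAct, List.foldr_nil]
      exact lt_of_le_of_lt le_rfl (grow (one_le_natDegree_X_pow i) one_ne_zero le_rfl)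
    | cons t L =>
      have hL' : FreeGroup.IsReduced (t :: L) := (List.isChain_cons_cons.1 hL).2
      have hst := (List.isChain_cons_cons.1 hL).1
      obtain ⟨j, _ | _⟩ := t <;> obtain ⟨w, hw, he⟩ := lands_wordAct _ L hL' <;> rw [he]
      · have hij : i ≠ j := fun h => by simpa [h] using hst h
        have h0 : w.1 ≠ 0 := fun h0 => by simp [h0] at hw
        have := grow (a := w.2) (one_le_natDegree_sub (R := R) hij) h0 hw.le
        calc w.1.natDegree < _ := this
          _ = _ := by congr 1; ring
      · have h0 : w.2 ≠ 0 := fun h0 => by simp [h0] at hw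
        have h1 := grow (one_le_natDegree_X_pow j) h0 hw.le
        exact grow (one_le_natDegree_X_pow i) (fun h => absurd h1 (by simp only at h; rw [h, natDegree_zero]; omega)) h1.le
  | (i, false), L, hL => by
    refine ⟨((wordAct L).1 - X ^ (i + 1) * (wordAct L).2, (wordAct L).2), ?_, rfl⟩
    dsimp only
    cases L with
    | nil =>
      simp only [wordAct, List.foldr_nil]
      have := grow (f := -(X ^ (i + 1) : R[X])) (a := 1) (b := 1) (by simp) one_ne_zero le_rfl
      rwa [neg_mul, ← sub_eq_add_neg] at this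
    | cons t L =>
      have hL' : FreeGroup.IsReduced (t :: L) := (List.isChain_cons_cons.1 hL).2
      have hst := (List.isChain_cons_cons.1 hL).1
      obtain ⟨j, _ | _⟩ := t <;> obtain ⟨w, hw, he⟩ := lands_wordAct _ L hL' <;> rw [he]
      · have h0 : w.1 ≠ 0 := fun h0 => by simp [h0] at hw
        have h1 := grow (f := -(X ^ (j + 1) : R[X])) (a := w.2) (by simp) h0 hw.le
        rw [neg_mul, ← sub_eq_add_neg] at h1
        have := grow (f := -(X ^ (i + 1) : R[X])) (a := w.1)
          (b := w.2 - X ^ (j + 1) * w.1) (by simp) (fun h => by simp [h] at h1) h1.le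
        rwa [neg_mul, ← sub_eq_add_neg] at this
      · have hij : j ≠ i := fun h => by simpa [h] using hst h.symm
        have h0 : w.2 ≠ 0 := fun h0 => by simp [h0] at hw
        have := grow (a := w.1) (one_le_natDegree_sub (R := R) hij) h0 hw.le
        calc w.2.natDegree < _ := this
          _ = _ := by congr 1; ring

theorem natDegree_wordAct : ∀ L : List (ℕ × Bool),
    (wordAct (R := R) L).1.natDegree ≤ wordBound L ∧ (wordAct (R := R) L).2.natDegree ≤ wordBound L
  | [] => by simp [wordAct, wordBound]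
  | (i, b) :: L => by
    obtain ⟨h1, h2⟩ := natDegree_wordAct L
    have key : ∀ (c : R[X]) (v : R[X]) {k : ℕ}, c.natDegree ≤ k → v.natDegree ≤ k - (i + 1) →
        i + 1 ≤ k → (c + X ^ (i + 1) * v).natDegree ≤ k := by
      intro c v k hc hv hik
      refine natDegree_add_le_of_degree_le hc (natDegree_mul_le.trans ?_)
      rw [natDegree_X_pow]
      omega
    have hsub : ∀ (c v : R[X]), c - X ^ (i + 1) * v = c + X ^ (i + 1) * (-v) := fun c v => by ring
    have hB : wordBound ((i, b) :: L) = 2 * (i + 1) + wordBound L := by simp [wordBound]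
    rw [hB]
    cases b
    · change ((wordAct L).1 - X ^ (i + 1) * (wordAct L).2).natDegree ≤ _ ∧
        ((wordAct L).2 - X ^ (i + 1) * ((wordAct L).1 - X ^ (i + 1) * (wordAct L).2)).natDegree ≤ _
      simp only [hsub]
      refine ⟨key _ _ (by omega) (by rw [natDegree_neg]; omega) (by omega),
        key _ _ (by omega) ?_ (by omega)⟩
      rw [natDegree_neg]
      exact key _ _ (by omega) (by rw [natDegree_neg]; omega) (by omega)
    · change ((wordAct L).1 + X ^ (i + 1) * ((wordAct L).2 + X ^ (i + 1) * (wordAct L).1)).natDegree ≤ _ ∧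
        ((wordAct L).2 + X ^ (i + 1) * (wordAct L).1).natDegree ≤ _
      refine ⟨key _ _ (by omega) ?_ (by omega), key _ _ (by omega) (by omega) (by omega)⟩
      exact key _ _ (by omega) (by omega) (by omega)

/-- The generators. -/
noncomputable def gen (i : ℕ) : Matrix.SpecialLinearGroup (Fin 2) R[X] :=
  ⟨!![1 + X ^ (i + 1) * X ^ (i + 1), X ^ (i + 1); X ^ (i + 1), 1], by
    rw [Matrix.det_fin_two_of]; ring⟩

omit [IsDomain R] in
theorem wordAct_eq : ∀ L : List (ℕ × Bool),
    ((FreeGroup.lift gen (FreeGroup.mk L) : Matrix.SpecialLinearGroup (Fin 2) R[X]) :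
        Matrix (Fin 2) (Fin 2) R[X]).mulVec ![1, 1] = ![(wordAct L).1, (wordAct L).2]
  | [] => by simp [FreeGroup.lift_mk, wordAct]
  | (i, b) :: L => by
    have ih := wordAct_eq L
    rw [FreeGroup.lift_mk] at ih ⊢
    rw [List.map_cons, List.prod_cons, Matrix.SpecialLinearGroup.coe_mul, ← Matrix.mulVec_mulVec,
      ih]
    have hw0 : wordAct (R := R) ((i, b) :: L) = letterAct (i, b) (wordAct L) := rfl
    rw [hw0]
    cases b
    · simp only [cond_false]
      rw [Matrix.SpecialLinearGroup.coe_inv]
      funext j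
      fin_cases j <;>
        simp [letterAct, gen, Matrix.SpecialLinearGroup.coe_inv, Matrix.adjugate_fin_two,
          Matrix.mulVec, Matrix.vecHead, Matrix.vecTail] <;> ring
    · simp only [cond_true]
      funext j
      fin_cases j <;>
        simp [letterAct, gen, Matrix.mulVec, Matrix.vecHead, Matrix.vecTail] <;> ring

end PingPong

/-- A nontrivial law fails in `PSL₂` over every sufficiently large finite field. -/
theorem fails_psl_two (w : FreeGroup ℕ) (hw : w ≠ 1) :
    ∀ (F : Type*) [Field F] [Fintype F], wordBound w.toWord + 1 ≤ Fintype.card F →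
      ¬ Holds w (Matrix.ProjectiveSpecialLinearGroup (Fin 2) F) := by
  intro F _ _ hF hlaw
  have hnil : w.toWord ≠ [] := fun h =>
    hw (FreeGroup.toWord_injective (h.trans FreeGroup.toWord_one.symm))
  obtain ⟨s, L, hsL⟩ := List.exists_cons_of_ne_nil hnil
  have hne := lands_ne (lands_wordAct (R := F) s L (hsL ▸ FreeGroup.isReduced_toWord))
  have hdeg := natDegree_wordAct (R := F) w.toWord
  rw [hsL] at hdeg hF
  set a := (wordAct (R := F) (s :: L)).1 with ha
  set b := (wordAct (R := F) (s :: L)).2 with hb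
  obtain ⟨t, ht⟩ : ∃ t : F, (a - b).eval t ≠ 0 := by
    by_contra hcon
    push Not at hcon
    have := eq_zero_of_natDegree_lt_card_of_eval_eq_zero (a - b) Function.injective_id hcon
      (by have := natDegree_sub_le a b; omega)
    exact hne (by rw [sub_eq_zero.1 this])
  let ev : Matrix.SpecialLinearGroup (Fin 2) F[X] →* Matrix.SpecialLinearGroup (Fin 2) F :=
    Matrix.SpecialLinearGroup.map (Polynomial.evalRingHom t)
  have h1 := hlaw (fun i => QuotientGroup.mk' _ (ev (gen i)))
  have e1 := lift_comp ((QuotientGroup.mk' (Subgroup.center (Matrix.SpecialLinearGroup (Fin 2) F))).comp ev) gen w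
  rw [show FreeGroup.lift (⇑((QuotientGroup.mk' _).comp ev) ∘ gen) w = 1 from h1] at e1
  have hmem := (QuotientGroup.eq_one_iff _).1 e1
  obtain ⟨c, -, hc⟩ := Matrix.SpecialLinearGroup.mem_center_iff.1 hmem
  have h2 := wordAct_eq (R := F) w.toWord
  rw [FreeGroup.mk_toWord, hsL, ← ha, ← hb] at h2
  have key : ∀ j : Fin 2, c = (![a, b] j).eval t := fun j => by
    have h3 := congrArg (Polynomial.evalRingHom t) (congrFun h2 j)
    have h4 : ((Matrix.scalar (Fin 2)) c).mulVec ![1, 1] j = (Polynomial.evalRingHom t) (![a, b] j) := by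
      rw [hc, ← h3, RingHom.map_mulVec]
      rw [show (⇑(Polynomial.evalRingHom t) ∘ ![(1 : F[X]), 1]) = ![(1 : F), 1] from by
        funext k; fin_cases k <;> simp]
      rfl
    fin_cases j <;> simpa [Matrix.mulVec_diagonal] using h4
  exact ht (by rw [Polynomial.eval_sub]; simpa [sub_eq_zero] using (key 0).symm.trans (key 1))

/-- A finite group embeds in every sufficiently large alternating group. -/
theorem exists_injective_alternating {H : Type*} [Group H] [Finite H] {n : ℕ}
    (hn : 2 * Nat.card H ≤ n) : ∃ φ : H →* alternatingGroup (Fin n), Function.Injective φ := by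
  classical
  haveI := Fintype.ofFinite H
  obtain ⟨ι⟩ : Nonempty (Bool × H ↪ Fin n) := Function.Embedding.nonempty_of_card_le (by
    rw [Fintype.card_prod, Fintype.card_bool, Fintype.card_fin, ← Nat.card_eq_fintype_card]; omega)
  let d : Equiv.Perm H →* Equiv.Perm (Bool × H) :=
    { toFun := fun p => Equiv.prodCongrRight fun _ => p
      map_one' := by ext x <;> simp
      map_mul' := fun p q => by ext x <;> simp }
  have hd : Function.Injective d := fun p q h => by
    ext x
    have h1 := congrArg (fun P : Equiv.Perm (Bool × H) => (P (true, x)).2) h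
    simpa [d] using h1
  let φ₀ : H →* Equiv.Perm (Fin n) :=
    (Equiv.Perm.viaEmbeddingHom ι).comp (d.comp (MulAction.toPermHom H H))
  have hsign : ∀ h, φ₀ h ∈ alternatingGroup (Fin n) := by
    intro h
    rw [Equiv.Perm.mem_alternatingGroup]
    simp only [φ₀, MonoidHom.coe_comp, Function.comp_apply, Equiv.Perm.viaEmbeddingHom_apply,
      Equiv.Perm.viaEmbedding]
    rw [Equiv.Perm.sign_extendDomain]
    change Equiv.Perm.sign (Equiv.prodCongrRight fun _ : Bool => MulAction.toPermHom H H h) = 1
    rw [Equiv.Perm.sign_prodCongrRight, Fintype.prod_bool, Int.units_mul_self]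
  have hinj : Function.Injective φ₀ :=
    (Equiv.Perm.viaEmbeddingHom_injective ι).comp (hd.comp MulAction.toPerm_injective)
  exact ⟨φ₀.codRestrict _ hsign, fun x y hxy => hinj (congrArg Subtype.val hxy)⟩

/-- A nontrivial law fails in every sufficiently large alternating group. -/
theorem fails_alternating (w : FreeGroup ℕ) (hw : w ≠ 1) :
    ∃ N : ℕ, ∀ n : ℕ, N ≤ n → ¬ Holds w (alternatingGroup (Fin n)) := by
  obtain ⟨p, hp, hpp⟩ := Nat.exists_infinite_primes (wordBound w.toWord + 1)
  haveI : Fact p.Prime := ⟨hpp⟩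
  refine ⟨2 * Nat.card (Matrix.SpecialLinearGroup (Fin 2) (ZMod p)), fun n hn h => ?_⟩
  obtain ⟨φ, hφ⟩ := exists_injective_alternating hn
  refine fails_psl_two w hw (ZMod p) (by rw [ZMod.card]; exact hp) ?_
  exact (h.of_injective φ hφ).of_section (MonoidHom.id _) (QuotientGroup.mk' _)
    QuotientGroup.mk_surjective fun x hx => by rw [show x = 1 from hx, map_one]

end CfsgLib.Known.Laws
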