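/-
The Fine–Herstein count of nilpotent endomorphisms over a finite field, by counting pairs
(nilpotent endomorphism, vector).
-/
import Mathlib

set_option autoImplicit false

namespace CfsgLib.Known.NilpotentCount

open Module

universe u v

variable {F : Type u} [Field F] [Finite F] {V : Type v} [AddCommGroup V] [Module F V] [Module.Finite F V]

/-- nilpotent endomorphisms -/
abbrev NEnd (F : Type*) [Field F] (V : Type*) [AddCommGroup V] [Module F V] : Type _ :=
  {T : Module.End F V // IsNilpotent T}

/-- the successor in a chain -/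
def nxt {k : ℕ} (w : Fin k → V) (i : Fin k) : V := if h : (i : ℕ) + 1 < k then w ⟨i + 1, h⟩ else 0

/-- the first vector of a chain -/
def hd {k : ℕ} (w : Fin k → V) : V := if h : 0 < k then w ⟨0, h⟩ else 0

omit [Finite F] [Module.Finite F V] in
theorem pow_hd {k : ℕ} {w : Fin k → V} {T : Module.End F V} (hT : ∀ i, T (w i) = nxt w i) :
    ∀ i (h : i < k), (T ^ i) (hd w) = w ⟨i, h⟩ := by
  intro i
  induction i with
  | zero => intro h; simp [hd, h]
  | succ i ih =>
    intro h
    rw [pow_succ', Module.End.mul_apply, ih (by omega), hT, nxt, dif_pos h]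

omit [Finite F] [Module.Finite F V] in
theorem pow_hd_eq_zero {k : ℕ} {w : Fin k → V} {T : Module.End F V} (hT : ∀ i, T (w i) = nxt w i) :
    (T ^ k) (hd w) = 0 := by
  rcases Nat.eq_zero_or_pos k with rfl | h
  · simp [hd]
  · obtain ⟨j, rfl⟩ : ∃ j, k = j + 1 := ⟨k - 1, by omega⟩
    rw [pow_succ', Module.End.mul_apply, pow_hd hT j (by omega), hT, nxt, dif_neg (lt_irrefl _)]

/-- a chain with a compatible nilpotent endomorphism -/
abbrev Chain (F : Type*) [Field F] (V : Type*) [AddCommGroup V] [Module F V] (k : ℕ) : Type _ :=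
  Σ w : {w : Fin k → V // LinearIndependent F w}, {T : NEnd F V // ∀ i, T.1 (w.1 i) = nxt w.1 i}

omit [Finite F] [Module.Finite F V] in
theorem linearIndependent_pow {T : Module.End F V} {v : V} {k : ℕ} (hk : (T ^ k) v = 0)
    (hmin : ∀ i < k, (T ^ i) v ≠ 0) : LinearIndependent F fun i : Fin k => (T ^ (i : ℕ)) v := by
  classical
  rw [Fintype.linearIndependent_iff]
  intro g hg
  by_contra hne
  push Not at hne
  obtain ⟨i, hi, hmin'⟩ := Finset.exists_min_image (Finset.univ.filter fun i => g i ≠ 0) id
    (hne.imp fun i hi => by simpa using hi)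
  simp only [Finset.mem_filter, Finset.mem_univ, true_and] at hi hmin'
  have hzero : ∀ m, k ≤ m → (T ^ m) v = 0 := fun m hm => by
    rw [← Nat.sub_add_cancel hm, pow_add, Module.End.mul_apply, hk, map_zero]
  have h := congrArg (T ^ (k - 1 - (i : ℕ))) hg
  simp only [map_sum, map_smul, map_zero, ← Module.End.mul_apply, ← pow_add] at h
  rw [Finset.sum_eq_single i] at h
  · rw [show k - 1 - (i : ℕ) + i = k - 1 by have := i.2; omega] at h
    exact (smul_eq_zero.1 h).elim hi (hmin _ (by have := i.2; omega))
  · intro j _ hji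
    by_cases hj : g j = 0
    · rw [hj, zero_smul]
    · have hle : (i : ℕ) ≤ j := hmin' j hj
      have hne' : (i : ℕ) ≠ j := fun e => hji (Fin.ext e.symm)
      rw [hzero _ (by have := i.2; omega), smul_zero]
  · simp

/-- pairs correspond to chains -/
theorem card_pairs :
    Nat.card (NEnd F V × V) = Nat.card (Σ k : Fin (finrank F V + 1), Chain F V k) := by
  classical
  refine (Nat.card_congr (Equiv.ofBijective (fun x => (x.2.2.1, hd x.2.1.1)) ⟨?_, ?_⟩)).symm
  · have first : ∀ (k : ℕ) (w : Fin k → V), LinearIndependent F w → ∀ T : Module.End F V,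
        (∀ i, T (w i) = nxt w i) → ∀ j, j < k → (T ^ j) (hd w) ≠ 0 := fun k w hw T hT j hj => by
      rw [pow_hd hT j hj]; exact hw.ne_zero _
    rintro ⟨⟨k, hk⟩, ⟨w, hw⟩, ⟨T, hT⟩⟩ ⟨⟨k', hk'⟩, ⟨w', hw'⟩, ⟨T', hT'⟩⟩ e
    obtain rfl : T = T' := congrArg Prod.fst e
    have ev : hd w = hd w' := congrArg Prod.snd e
    obtain rfl : k = k' := by
      rcases lt_trichotomy k k' with h | h | h
      · exact absurd (pow_hd_eq_zero hT) (ev ▸ first k' w' hw' T.1 hT' k h)
      · exact h
      · exact absurd (pow_hd_eq_zero hT') (ev.symm ▸ first k w hw T.1 hT k' h)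
    obtain rfl : w = w' := funext fun i => by
      rw [← Fin.eta i i.2, ← pow_hd (w := w) hT i i.2, ev, pow_hd (w := w') hT' i i.2]
    rfl
  · rintro ⟨⟨T, hT⟩, v⟩
    have hex : ∃ k, (T ^ k) v = 0 := by
      obtain ⟨m, hm⟩ := hT
      exact ⟨m, by rw [hm, LinearMap.zero_apply]⟩
    set k := Nat.find hex with hk
    have hk0 : (T ^ k) v = 0 := Nat.find_spec hex
    have hmin : ∀ i < k, (T ^ i) v ≠ 0 := fun i hi => Nat.find_min hex hi
    have hli := linearIndependent_pow hk0 hmin
    have hle : k ≤ finrank F V := by simpa using hli.fintype_card_le_finrank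
    refine ⟨⟨⟨k, by omega⟩, ⟨_, hli⟩, ⟨⟨T, hT⟩, fun i => ?_⟩⟩, Prod.ext rfl ?_⟩
    · show T ((T ^ (i : ℕ)) v) = nxt _ i
      rw [← Module.End.mul_apply, ← pow_succ', nxt]
      split_ifs with h
      · rfl
      · have h1 : (i : ℕ) < k := i.2
        have h2 : ¬ (i : ℕ) + 1 < k := h
        rw [show (i : ℕ) + 1 = k by omega, hk0]
    · show hd (fun i : Fin k => (T ^ (i : ℕ)) v) = v
      rw [hd]
      split_ifs with h
      · simp
      · have h0 : k = 0 := by omega
        rw [h0, pow_zero, Module.End.one_apply] at hk0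
        exact hk0.symm

omit [Finite F] [Module.Finite F V] in
/-- block triangular endomorphisms -/
theorem card_triangular {W : Type*} [AddCommGroup W] [Module F W] {C : Type*} [AddCommGroup C] [Module F C]
    {J : Module.End F W} (hJ : IsNilpotent J) :
    Nat.card {T : NEnd F (W × C) // ∀ w, T.1 (w, 0) = (J w, 0)} = Nat.card (C →ₗ[F] W) * Nat.card (NEnd F C) := by
  rw [← Nat.card_prod]
  have hdown : ∀ T : NEnd F (W × C), (∀ w, T.1 (w, 0) = (J w, 0)) → ∀ x, (T.1 x).2 = (T.1 (0, x.2)).2 := by
    intro T hT x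
    conv_lhs => rw [show x = (x.1, 0) + (0, x.2) by simp, map_add, Prod.snd_add, hT, zero_add]
  have hnil : ∀ T : NEnd F (W × C), (∀ w, T.1 (w, 0) = (J w, 0)) →
      IsNilpotent ((LinearMap.snd F W C) ∘ₗ T.1 ∘ₗ LinearMap.inr F W C) := by
    intro T hT
    obtain ⟨m, hm⟩ := T.2
    refine ⟨m, LinearMap.ext fun c => ?_⟩
    have key : ∀ j, (((LinearMap.snd F W C) ∘ₗ T.1 ∘ₗ LinearMap.inr F W C) ^ j) c = ((T.1 ^ j) (0, c)).2 := by
      intro j
      induction j with
      | zero => simp
      | succ j ih =>
        rw [pow_succ', Module.End.mul_apply, ih, pow_succ' T.1, Module.End.mul_apply, hdown T hT ((T.1 ^ j) (0, c))]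
        rfl
    rw [key, hm]; rfl
  let build : (C →ₗ[F] W) × NEnd F C → Module.End F (W × C) := fun p =>
    LinearMap.prod (J ∘ₗ LinearMap.fst F W C + p.1 ∘ₗ LinearMap.snd F W C) (p.2.1 ∘ₗ LinearMap.snd F W C)
  have hb : ∀ p x, build p x = (J x.1 + p.1 x.2, p.2.1 x.2) := fun p x => rfl
  have hbn : ∀ p, IsNilpotent (build p) := by
    rintro ⟨B, A, hA⟩
    obtain ⟨m, hm⟩ := hA
    obtain ⟨l, hl⟩ := hJ
    refine ⟨l + m, LinearMap.ext fun x => ?_⟩
    have h1 : ∀ j x, ((build (B, ⟨A, ⟨m, hm⟩⟩)) ^ j) x = (((build (B, ⟨A, ⟨m, hm⟩⟩)) ^ j) x |>.1, (A ^ j) x.2) := by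
      intro j
      induction j with
      | zero => intro x; simp
      | succ j ih =>
        intro x
        refine Prod.ext rfl ?_
        rw [pow_succ', Module.End.mul_apply, hb, pow_succ', Module.End.mul_apply]
        show A _ = A _
        rw [ih x]
    have h2 : ∀ j (w : W), ((build (B, ⟨A, ⟨m, hm⟩⟩)) ^ j) (w, 0) = ((J ^ j) w, 0) := by
      intro j
      induction j with
      | zero => intro w; simp
      | succ j ih => intro w; rw [pow_succ', Module.End.mul_apply, ih, hb, pow_succ', Module.End.mul_apply]; simp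
    rw [pow_add, Module.End.mul_apply, h1 m x, hm, LinearMap.zero_apply, h2, hl]
    rfl
  refine Nat.card_congr
    { toFun := fun T => (LinearMap.fst F W C ∘ₗ T.1.1 ∘ₗ LinearMap.inr F W C, ⟨_, hnil T.1 T.2⟩)
      invFun := fun p => ⟨⟨build p, hbn p⟩, fun w => by
        show build p (w, 0) = _
        rw [hb]; simp⟩
      left_inv := fun T => Subtype.ext (Subtype.ext (LinearMap.ext fun x => by
        obtain ⟨w, c⟩ := x
        show build _ (w, c) = _
        rw [hb, show ((w, c) : W × C) = (w, 0) + (0, c) by simp, map_add, T.2]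
        refine Prod.ext ?_ ?_ <;> simp))
      right_inv := fun p => by
        refine Prod.ext (LinearMap.ext fun c => ?_) (Subtype.ext (LinearMap.ext fun c => ?_))
        · show (build p (0, c)).1 = _
          rw [hb]; simp
        · show (build p (0, c)).2 = _
          rw [hb] }

omit [Finite F] [Module.Finite F V] in
theorem card_congr' {V' : Type*} [AddCommGroup V'] [Module F V'] (e : V ≃ₗ[F] V')
    {P : Module.End F V → Prop} {Q : Module.End F V' → Prop} (h : ∀ T, P T ↔ Q (e.conj T)) :
    Nat.card {T : NEnd F V // P T.1} = Nat.card {T : NEnd F V' // Q T.1} := by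
  have hn : ∀ T, IsNilpotent T ↔ IsNilpotent (e.conj T) := fun T =>
    ⟨fun hT => hT.map e.conjRingEquiv, fun hT => by
      have := hT.map e.conjRingEquiv.symm
      rwa [show e.conj T = e.conjRingEquiv T from rfl, RingEquiv.symm_apply_apply] at this⟩
  exact Nat.card_congr ((e.conj.toEquiv.subtypeEquiv hn).subtypeEquiv fun T => h T.1)

omit [Finite F] in
theorem finite_end [Finite F] : Finite (Module.End F V) := Module.finite_of_finite F

/-- the fibre over a chain -/
theorem card_fibre {k : ℕ} (w : Fin k → V) (hw : LinearIndependent F w) :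
    ∃ (C : Submodule F V), finrank F C + k = finrank F V ∧
      Nat.card {T : NEnd F V // ∀ i, T.1 (w i) = nxt w i} =
        Nat.card F ^ (finrank F C * k) * Nat.card (NEnd F C) := by
  classical
  obtain ⟨C, hC⟩ := (Submodule.span F (Set.range w)).exists_isCompl
  have hW : finrank F (Submodule.span F (Set.range w)) = k := by
    rw [finrank_span_eq_card hw, Fintype.card_fin]
  refine ⟨C, by rw [← Submodule.finrank_add_eq_of_isCompl hC, hW, add_comm], ?_⟩
  let b := Module.Basis.span hw
  let J : Module.End F (Submodule.span F (Set.range w)) :=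
    b.constr F fun i => if h : (i : ℕ) + 1 < k then b ⟨i + 1, h⟩ else 0
  have hbw : ∀ i, (b i : V) = w i := fun i => Module.Basis.coe_span_apply hw i
  have hJb : ∀ i, ((J (b i) : Submodule.span F (Set.range w)) : V) = nxt w i := fun i => by
    simp only [J, Module.Basis.constr_basis, nxt]
    split_ifs with h
    · exact hbw _
    · rfl
  have hJ : IsNilpotent J := by
    refine ⟨k, b.ext fun i => ?_⟩
    have key : ∀ j (i : Fin k), (J ^ j) (b i) = if h : (i : ℕ) + j < k then b ⟨i + j, h⟩ else 0 := by
      intro j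
      induction j with
      | zero => intro i; simp
      | succ j ih =>
        intro i
        rw [pow_succ, Module.End.mul_apply]
        simp only [J, Module.Basis.constr_basis]
        split_ifs with h h' h'
        · rw [ih, dif_pos (show (i : ℕ) + 1 + j < k by omega)]; congr 1; ext; simp only; omega
        · rw [ih, dif_neg (show ¬ (i : ℕ) + 1 + j < k by omega)]
        · omega
        · simp
    rw [key, dif_neg (by omega), LinearMap.zero_apply]
  let e := (Submodule.prodEquivOfIsCompl _ _ hC).symm
  have he : ∀ x : Submodule.span F (Set.range w), e (x : V) = (x, 0) := fun x =>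
    Submodule.prodEquivOfIsCompl_symm_apply_left _ _ hC x
  rw [card_congr' e (P := fun T => ∀ i, T (w i) = nxt w i) (Q := fun T => ∀ x, T (x, 0) = (J x, 0)) fun T => ?_, card_triangular hJ,
    Module.natCard_eq_pow_finrank (K := F) (V := C →ₗ[F] Submodule.span F (Set.range w)),
    Module.finrank_linearMap, hW]
  constructor
  · intro h x
    have hlin : ((e.conj T) ∘ₗ LinearMap.inl F _ C) = LinearMap.inl F _ C ∘ₗ J := b.ext fun i => by
      simp only [LinearMap.coe_comp, Function.comp_apply, LinearMap.inl_apply]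
      rw [← he (b i), LinearEquiv.conj_apply_apply, LinearEquiv.symm_apply_apply, hbw, h, ← hJb, he]
    exact LinearMap.congr_fun hlin x
  · intro h i
    have h1 := h (b i)
    rw [← he (b i), LinearEquiv.conj_apply_apply, LinearEquiv.symm_apply_apply, ← he] at h1
    have h2 := e.injective h1
    rwa [hbw, hJb] at h2

/-- Fine–Herstein -/
theorem card_nilpotent : Nat.card (NEnd F V) = Nat.card F ^ (finrank F V * (finrank F V - 1)) := by
  classical
  induction hn : finrank F V using Nat.strong_induction_on generalizing V with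
  | _ n ih =>
    have := finite_end (F := F) (V := V)
    have : Finite V := Module.finite_of_finite F
    have := Fintype.ofFinite F
    rcases Nat.eq_zero_or_pos n with rfl | hpos
    · have : Subsingleton V := Module.finrank_zero_iff.1 hn
      have h : Unique (NEnd F V) :=
        { default := ⟨0, IsNilpotent.zero⟩
          uniq := fun T => Subtype.ext (LinearMap.ext fun x => Subsingleton.elim _ _) }
      rw [Nat.card_unique]; simp
    have hfib : ∀ k : Fin (finrank F V + 1), (k : ℕ) ≠ 0 →
        Nat.card (Chain F V k) = Nat.card {w : Fin k → V // LinearIndependent F w} *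
          Nat.card F ^ ((n - k) * (n - 1)) := by
      intro k hk
      have := Fintype.ofFinite {w : Fin k → V // LinearIndependent F w}
      rw [Nat.card_sigma, Finset.sum_congr rfl (g := fun _ => Nat.card F ^ ((n - (k : ℕ)) * (n - 1))),
        Finset.sum_const, Finset.card_univ, ← Nat.card_eq_fintype_card, smul_eq_mul]
      rintro ⟨w, hw⟩ -
      obtain ⟨C, hC, hcard⟩ := card_fibre w hw
      rw [hcard, ih _ (by omega) (V := C) rfl, ← pow_add]
      obtain ⟨j, hj⟩ : ∃ j, (k : ℕ) = j + 1 := ⟨(k : ℕ) - 1, by omega⟩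
      congr 1
      rw [show n - (k : ℕ) = finrank F C by omega]
      rcases Nat.eq_zero_or_pos (finrank F C) with h0 | h0
      · simp [h0]
      · rw [show n - 1 = (k : ℕ) + (finrank F C - 1) by omega, Nat.mul_add]
    have hLI : ∀ k ≤ n, Nat.card {w : Fin k → V // LinearIndependent F w} =
        ∏ i : Fin k, (Fintype.card F ^ n - Fintype.card F ^ (i : ℕ)) := fun k hk => by
      rw [card_linearIndependent (hn.symm ▸ hk), hn]
    have hq1 : 1 < Fintype.card F := Fintype.one_lt_card
    set q : ℤ := (Fintype.card F : ℤ) with hq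
    let I : ℕ → ℤ := fun k => ∏ i ∈ Finset.range k, (q ^ n - q ^ i)
    have hI : ∀ k ≤ n, (Nat.card {w : Fin k → V // LinearIndependent F w} : ℤ) = I k := fun k hk => by
      rw [hLI k hk, Nat.cast_prod]
      show _ = ∏ i ∈ Finset.range k, (q ^ n - q ^ i)
      rw [← Fin.prod_univ_eq_prod_range]
      refine Finset.prod_congr rfl fun i _ => ?_
      rw [Nat.cast_sub (Nat.pow_le_pow_right (by omega) (by have := i.2; omega))]
      push_cast
      rfl
    have htele : ∀ j, j ≤ n →
        ∑ k ∈ Finset.range j, I k * q ^ ((n - k) * (n - 1)) + I j * q ^ ((n - j) * n) = q ^ (n * n) := by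
      intro j
      induction j with
      | zero => intro _; simp [I]
      | succ j ihj =>
        intro hj
        rw [← ihj (by omega), Finset.sum_range_succ]
        have e1 : I (j + 1) = I j * (q ^ n - q ^ j) := Finset.prod_range_succ _ _
        obtain ⟨a, ha⟩ : ∃ a, n - j = a + 1 := ⟨n - j - 1, by omega⟩
        obtain ⟨b, hb⟩ : ∃ b, n = b + 1 := ⟨n - 1, by omega⟩
        have e2 : q ^ ((n - j) * (n - 1)) = q ^ ((n - (j + 1)) * n) * q ^ j := by
          rw [← pow_add, ha, show n - (j + 1) = a by omega, show n - 1 = b by omega, hb]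
          congr 1
          have : b = a + j := by omega
          subst this
          ring
        have e3 : q ^ ((n - j) * n) = q ^ ((n - (j + 1)) * n) * q ^ n := by
          rw [← pow_add, ha, show n - (j + 1) = a by omega]; congr 1; ring
        rw [e1, e2, e3]
        ring
    have hsum := card_pairs (F := F) (V := V)
    rw [Nat.card_prod, Module.natCard_eq_pow_finrank (K := F) (V := V), Nat.card_sigma, hn,
      Fin.sum_univ_succ] at hsum
    have h0 : Nat.card (Chain F V 0) = Nat.card (NEnd F V) := by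
      refine Nat.card_congr ⟨fun x => x.2.1, fun T => ⟨⟨Fin.elim0, linearIndependent_empty_type⟩, T, fun i => Fin.elim0 i⟩,
        fun x => ?_, fun T => rfl⟩
      obtain ⟨⟨w, hw⟩, T, hT⟩ := x
      obtain rfl : w = Fin.elim0 := funext fun i => Fin.elim0 i
      rfl
    have h' : (Nat.card (NEnd F V) : ℤ) * q ^ n = (Nat.card (NEnd F V) : ℤ) +
        (q ^ (n * n) - q ^ (n * (n - 1))) := by
      have h1 := congrArg (fun x : ℕ => (x : ℤ)) hsum
      simp only [Nat.cast_mul, Nat.cast_pow, Nat.cast_add, Nat.cast_sum, Nat.card_eq_fintype_card (α := F), ← hq] at h1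
      rw [h1, Fin.val_zero, h0]
      congr 1
      have h2 := htele n le_rfl
      rw [Nat.sub_self, zero_mul, pow_zero, mul_one] at h2
      have h3 : I n * q ^ ((n - n) * (n - 1)) = I n := by rw [Nat.sub_self, zero_mul, pow_zero, mul_one]
      rw [← h3, ← Finset.sum_range_succ (fun k => I k * q ^ ((n - k) * (n - 1))), Finset.sum_range_succ'] at h2
      rw [← h2, show I 0 * q ^ ((n - 0) * (n - 1)) = q ^ (n * (n - 1)) by simp [I], add_sub_cancel_right,
        ← Fin.sum_univ_eq_sum_range (fun i : ℕ => I (i + 1) * q ^ ((n - (i + 1)) * (n - 1)))]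
      refine Finset.sum_congr rfl fun i _ => ?_
      have hk : Nat.card (Chain F V (i.succ : ℕ)) = Nat.card {w : Fin (i.succ : ℕ) → V // LinearIndependent F w} *
          Nat.card F ^ ((n - (i.succ : ℕ)) * (n - 1)) := hfib (Fin.cast (by rw [hn]) i.succ) (by simp)
      rw [hk, Nat.cast_mul, Nat.cast_pow, Nat.card_eq_fintype_card (α := F), ← hq,
        hI _ (by have := i.2; simp only [Fin.val_succ]; omega)]
      rfl
    have hne : q ^ n - 1 ≠ 0 := by
      have : (1 : ℤ) < q ^ n := one_lt_pow₀ (by rw [hq]; exact_mod_cast hq1) hpos.ne'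
      omega
    have : (Nat.card (NEnd F V) : ℤ) = q ^ (n * (n - 1)) := mul_left_cancel₀ hne (by
      rw [show q ^ (n * n) = q ^ n * q ^ (n * (n - 1)) by
        rw [← pow_add]; congr 1; obtain ⟨b, rfl⟩ : ∃ b, n = b + 1 := ⟨n - 1, by omega⟩; rw [Nat.add_sub_cancel]; ring] at h'
      linear_combination h')
    rw [Nat.card_eq_fintype_card (α := F)]
    rw [hq] at this
    exact_mod_cast this

end CfsgLib.Known.NilpotentCount
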