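import Cfsg.Agent.Lib.Known.OmegaCriterion

/-!
# Parity and spinor norm of orthogonal sums
-/

set_option autoImplicit false

namespace CfsgLib.Known.OmegaSums

open QuadraticMap (polar polarBilin)
open CfsgLib.Classical.Quad CfsgLib.Known.OmegaCriterion

variable {F : Type*} [Field F] {κ μ : Type}

/-- The orthogonal sum on `κ ⊕ μ → F`. -/
def sumForm (Q₁ : QuadraticForm F (κ → F)) (Q₂ : QuadraticForm F (μ → F)) :
    QuadraticForm F (κ ⊕ μ → F) :=
  Q₁.comp (LinearMap.funLeft F F Sum.inl) + Q₂.comp (LinearMap.funLeft F F Sum.inr)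

theorem coe_sumForm (Q₁ : QuadraticForm F (κ → F)) (Q₂ : QuadraticForm F (μ → F)) :
    ⇑(sumForm Q₁ Q₂) = fun v : κ ⊕ μ → F => Q₁ (v ∘ Sum.inl) + Q₂ (v ∘ Sum.inr) := rfl

theorem polar_sumForm (Q₁ : QuadraticForm F (κ → F)) (Q₂ : QuadraticForm F (μ → F)) (u v : κ ⊕ μ → F) :
    polar (sumForm Q₁ Q₂) u v =
      polar Q₁ (u ∘ Sum.inl) (v ∘ Sum.inl) + polar Q₂ (u ∘ Sum.inr) (v ∘ Sum.inr) := by
  rw [coe_sumForm]
  simp only [polar, show ∀ w : κ ⊕ μ → F, ∀ x : κ ⊕ μ → F,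
    (w + x) ∘ Sum.inl = w ∘ Sum.inl + x ∘ Sum.inl from fun _ _ => rfl, show ∀ w : κ ⊕ μ → F, ∀ x : κ ⊕ μ → F,
    (w + x) ∘ Sum.inr = w ∘ Sum.inr + x ∘ Sum.inr from fun _ _ => rfl]
  ring

theorem sumForm_nondeg [Finite κ] [Finite μ] {Q₁ : QuadraticForm F (κ → F)} {Q₂ : QuadraticForm F (μ → F)}
    (h₁ : (polarBilin Q₁).Nondegenerate) (h₂ : (polarBilin Q₂).Nondegenerate) :
    (polarBilin (sumForm Q₁ Q₂)).Nondegenerate := by
  refine nondegenerate_of_left fun v hv => ?_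
  have e1 : v ∘ Sum.inl = 0 := eq_zero_of_polar h₁ fun y => by
    have := hv (Sum.elim y 0)
    simpa [polar_sumForm, Sum.elim_comp_inl, Sum.elim_comp_inr] using this
  have e2 : v ∘ Sum.inr = 0 := eq_zero_of_polar h₂ fun y => by
    have := hv (Sum.elim 0 y)
    simpa [polar_sumForm, Sum.elim_comp_inl, Sum.elim_comp_inr] using this
  funext i
  rcases i with i | i
  · exact congrFun e1 i
  · exact congrFun e2 i

theorem invariants_sum [Fintype κ] [Fintype μ] {Q₁ : QuadraticForm F (κ → F)}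
    {Q₂ : QuadraticForm F (μ → F)} (h₁ : (polarBilin Q₁).Nondegenerate)
    (h₂ : (polarBilin Q₂).Nondegenerate) (s : OQ (sumForm Q₁ Q₂)) (g₁ : OQ Q₁) (g₂ : OQ Q₂)
    (hs : ∀ z, (s : (κ ⊕ μ → F) ≃ₗ[F] (κ ⊕ μ → F)) z =
      Sum.elim ((g₁ : (κ → F) ≃ₗ[F] (κ → F)) (z ∘ Sum.inl)) ((g₂ : (μ → F) ≃ₗ[F] (μ → F)) (z ∘ Sum.inr))) :
    par s = par g₁ + par g₂ ∧ spinor s = spinor g₁ * spinor g₂ := by
  classical
  let x : Fin (Module.finrank F (mov g₁)) ⊕ Fin (Module.finrank F (mov g₂)) → κ ⊕ μ → F :=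
    Sum.elim (fun i => Sum.elim (movVec g₁ i) 0) (fun j => Sum.elim 0 (movVec g₂ j))
  let z : Fin (Module.finrank F (mov g₁)) ⊕ Fin (Module.finrank F (mov g₂)) → κ ⊕ μ → F :=
    Sum.elim (fun i => Sum.elim (movPre g₁ i) 0) (fun j => Sum.elim 0 (movPre g₂ j))
  have hmv : ∀ w, movMap s w = Sum.elim (movMap g₁ (w ∘ Sum.inl)) (movMap g₂ (w ∘ Sum.inr)) := fun w => by
    rw [movMap_apply, hs, movMap_apply, movMap_apply]
    funext i
    rcases i with i | i <;> rfl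
  have hz : ∀ i, movMap s (z i) = x i := by
    rintro (i | j)
    · rw [hmv]
      simp [z, x, Sum.elim_comp_inl, Sum.elim_comp_inr, movPre_spec]
    · rw [hmv]
      simp [z, x, Sum.elim_comp_inl, Sum.elim_comp_inr, movPre_spec]
  let L₁ : (κ → F) →ₗ[F] (κ ⊕ μ → F) :=
    { toFun := fun a => Sum.elim a 0
      map_add' := fun a b => funext fun i => by rcases i with i | i <;> simp
      map_smul' := fun c a => funext fun i => by rcases i with i | i <;> simp }
  let L₂ : (μ → F) →ₗ[F] (κ ⊕ μ → F) :=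
    { toFun := fun b => Sum.elim 0 b
      map_add' := fun a b => funext fun i => by rcases i with i | i <;> simp
      map_smul' := fun c a => funext fun i => by rcases i with i | i <;> simp }
  have hli : LinearIndependent F x := by
    rw [Fintype.linearIndependent_iff]
    intro c hc
    rw [Fintype.sum_sum_type] at hc
    have e1 : ∑ i, c (Sum.inl i) • movVec g₁ i = 0 := funext fun k => by
      simpa [x, Finset.sum_apply] using congrFun hc (Sum.inl k)
    have e2 : ∑ j, c (Sum.inr j) • movVec g₂ j = 0 := funext fun k => by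
      simpa [x, Finset.sum_apply] using congrFun hc (Sum.inr k)
    rintro (i | j)
    · exact Fintype.linearIndependent_iff.1 (movVec_li g₁) _ e1 i
    · exact Fintype.linearIndependent_iff.1 (movVec_li g₂) _ e2 j
  have hsp : Submodule.span F (Set.range x) = mov s := by
    refine le_antisymm (Submodule.span_le.2 ?_) ?_
    · rintro _ ⟨i, rfl⟩
      exact ⟨z i, hz i⟩
    · rintro _ ⟨w, rfl⟩
      rw [hmv, show Sum.elim (movMap g₁ (w ∘ Sum.inl)) (movMap g₂ (w ∘ Sum.inr)) =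
        L₁ (movMap g₁ (w ∘ Sum.inl)) + L₂ (movMap g₂ (w ∘ Sum.inr)) from
        funext fun i => by rcases i with i | i <;> simp [L₁, L₂],
        Set.Sum.elim_range, Submodule.span_union]
      refine Submodule.add_mem_sup ?_ ?_
      · have h : movMap g₁ (w ∘ Sum.inl) ∈ mov g₁ := ⟨_, rfl⟩
        rw [← movVec_span] at h
        have := Submodule.mem_map_of_mem (f := L₁) h
        rwa [Submodule.map_span, ← Set.range_comp] at this
      · have h : movMap g₂ (w ∘ Sum.inr) ∈ mov g₂ := ⟨_, rfl⟩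
        rw [← movVec_span] at h
        have := Submodule.mem_map_of_mem (f := L₂) h
        rwa [Submodule.map_span, ← Set.range_comp] at this
  refine ⟨?_, ?_⟩
  · rw [par, finrank_mov_eq_card s hli hsp, Fintype.card_sum, Fintype.card_fin, Fintype.card_fin, Nat.cast_add]
    rfl
  · rw [spinor_eq (sumForm_nondeg h₁ h₂) s hli hsp hz]
    have hb : wallMat (sumForm Q₁ Q₂) x z =
        Matrix.fromBlocks (wallMat Q₁ (movVec g₁) (movPre g₁)) 0 0 (wallMat Q₂ (movVec g₂) (movPre g₂)) := by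
      ext i j
      rcases i with i | i <;> rcases j with j | j <;>
        simp [wallMat, x, z, polar_sumForm, Sum.elim_comp_inl, Sum.elim_comp_inr]
    rw [hb, Matrix.det_fromBlocks_zero₂₁,
      sqc_mul (det_wallMat_ne_zero h₁ g₁ (movVec_li g₁) (movVec_span g₁) (movPre_spec g₁))
        (det_wallMat_ne_zero h₂ g₂ (movVec_li g₂) (movVec_span g₂) (movPre_spec g₂))]
    rfl

theorem exists_sum [Fintype κ] [Fintype μ] [DecidableEq κ] [DecidableEq μ] {Q₁ : QuadraticForm F (κ → F)}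
    {Q₂ : QuadraticForm F (μ → F)} (h₁ : (polarBilin Q₁).Nondegenerate)
    (h₂ : (polarBilin Q₂).Nondegenerate) (g₁ : OQ Q₁) (g₂ : OQ Q₂) (A : Matrix κ κ F) (B : Matrix μ μ F)
    (hA : ∀ z, A.mulVec z = (g₁ : (κ → F) ≃ₗ[F] (κ → F)) z)
    (hB : ∀ z, B.mulVec z = (g₂ : (μ → F) ≃ₗ[F] (μ → F)) z) :
    ∃ s : OQ (sumForm Q₁ Q₂), (∀ z, (Matrix.fromBlocks A 0 0 B).mulVec z =
        (s : (κ ⊕ μ → F) ≃ₗ[F] (κ ⊕ μ → F)) z) ∧
      par s = par g₁ + par g₂ ∧ spinor s = spinor g₁ * spinor g₂ := by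
  have happ : ∀ z : κ ⊕ μ → F, (Matrix.fromBlocks A 0 0 B).mulVec z =
      Sum.elim ((g₁ : (κ → F) ≃ₗ[F] (κ → F)) (z ∘ Sum.inl)) ((g₂ : (μ → F) ≃ₗ[F] (μ → F)) (z ∘ Sum.inr)) := by
    intro z
    rw [Matrix.fromBlocks_mulVec]
    simp [hA, hB]
  let s : OQ (sumForm Q₁ Q₂) := ofPreserves (sumForm_nondeg h₁ h₂) (Matrix.mulVecLin (Matrix.fromBlocks A 0 0 B))
    fun z => by
      show sumForm Q₁ Q₂ ((Matrix.fromBlocks A 0 0 B).mulVec z) = _
      rw [happ, coe_sumForm]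
      simp only [Sum.elim_comp_inl, Sum.elim_comp_inr, OQ.map_apply]
  exact ⟨s, fun z => rfl, invariants_sum h₁ h₂ s g₁ g₂ happ⟩

end CfsgLib.Known.OmegaSums
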