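import Cfsg.Prelude.Def_LieTypeChar
import Cfsg.Agent.Lib.Classical.Symplectic.MatrixStructure
import Cfsg.Agent.S0243
import Cfsg.Agent.S0280
import Cfsg.Agent.S0292
import Cfsg.Agent.S0293
import Cfsg.Agent.S0294
import Cfsg.Agent.S1059
import Cfsg.Agent.S1062
import Cfsg.Agent.S1063
import Cfsg.Agent.S1064
import Cfsg.Agent.S1065
import Cfsg.Agent.S1066
import Cfsg.Agent.S1067
import Cfsg.Agent.S1068
import Cfsg.Agent.S1069
import Cfsg.Agent.Lib.Lie.Suzuki.Group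

/-!
# The order of a group of Lie type against its defining-characteristic part
-/

set_option autoImplicit false

namespace CfsgLib.Known.OrderBound

open Finset

/-- the conclusion for a number `n` -/
def Small (p n : ℕ) : Prop :=
  n < p ^ (3 * n.factorization p) ∧ n ^ 3 < p ^ (8 * n.factorization p)

variable {p q f : ℕ}

theorem not_dvd_pow_sub_one (hp : p.Prime) (hpq : p ∣ q) (hq : 1 ≤ q) {i : ℕ} (hi : 1 ≤ i) : ¬ p ∣ q ^ i - 1 := by
  intro h
  have h1 : p ∣ q ^ i := hpq.trans (dvd_pow_self q (by omega))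
  have h2 := Nat.dvd_sub h1 h
  rw [Nat.sub_sub_self (Nat.one_le_pow _ _ hq)] at h2
  exact hp.not_dvd_one h2

theorem not_dvd_pow_add_one (hp : p.Prime) (hpq : p ∣ q) {i : ℕ} (hi : 1 ≤ i) : ¬ p ∣ q ^ i + 1 := fun h =>
  hp.not_dvd_one ((Nat.dvd_add_right (hpq.trans (dvd_pow_self q (by omega)))).1 h)

theorem factorization_eq (hp : p.Prime) (hq : q = p ^ f) {d n R N : ℕ} (heq : d * n = q ^ N * R)
    (hd : ¬ p ∣ d) (hR : ¬ p ∣ R) : n.factorization p = f * N := by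
  have hd0 : d ≠ 0 := fun h => hd (h ▸ dvd_zero p)
  have hR0 : R ≠ 0 := fun h => hR (h ▸ dvd_zero p)
  have hq0 : q ^ N ≠ 0 := pow_ne_zero _ (hq ▸ pow_ne_zero _ hp.ne_zero)
  have hn0 : n ≠ 0 := fun h => mul_ne_zero hq0 hR0 (by rw [← heq, h, mul_zero])
  have h := congrArg (fun x => Nat.factorization x p) heq
  rw [Nat.factorization_mul hd0 hn0, Nat.factorization_mul hq0 hR0, hq, ← pow_mul, Nat.factorization_pow] at h
  simp only [Finsupp.coe_add, Pi.add_apply, Finsupp.smul_apply, hp.factorization_self, smul_eq_mul,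
    Nat.factorization_eq_zero_of_not_dvd hd, Nat.factorization_eq_zero_of_not_dvd hR] at h
  omega

/-- the arithmetic core -/
theorem small_of (hp : p.Prime) (hq : q = p ^ f) (hf : 1 ≤ f) {d n R N M : ℕ} (heq : d * n = q ^ N * R)
    (hd : ¬ p ∣ d) (hR : ¬ p ∣ R) (hM : R ≤ q ^ M) (hM1 : 1 ≤ M) (h2 : M ≤ 2 * N) (h83 : 3 * M ≤ 5 * N) :
    Small p n := by
  have hd1 : 1 ≤ d := Nat.pos_of_ne_zero fun h => hd (h ▸ dvd_zero p)
  have hqp : p ∣ q := hq ▸ dvd_pow_self p (by omega)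
  have hlt : R < q ^ M := lt_of_le_of_ne hM fun e => hR (e ▸ hqp.trans (dvd_pow_self q (by omega)))
  have hq1 : 1 ≤ q := hq ▸ Nat.one_le_pow _ _ hp.pos
  have hn : n < q ^ (N + M) := by
    calc n ≤ d * n := Nat.le_mul_of_pos_left n hd1
      _ = q ^ N * R := heq
      _ < q ^ N * q ^ M := Nat.mul_lt_mul_of_pos_left hlt (Nat.pow_pos hq1)
      _ = q ^ (N + M) := (pow_add _ _ _).symm
  rw [Small, factorization_eq hp hq heq hd hR]
  refine ⟨hn.trans_le ?_, (Nat.pow_lt_pow_left hn (by norm_num)).trans_le ?_⟩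
  · rw [hq, ← pow_mul]
    exact Nat.pow_le_pow_right hp.pos (by nlinarith)
  · rw [hq, ← pow_mul, ← pow_mul]
    exact Nat.pow_le_pow_right hp.pos (by nlinarith)

theorem pair_le {a b : ℕ} (hab : a ≤ b) : (q ^ a - 1) * (q ^ b + 1) ≤ q ^ (a + b) := by
  rcases Nat.eq_zero_or_pos q with rfl | hq
  · rcases Nat.eq_zero_or_pos a with rfl | ha
    · simp
    · simp [zero_pow (by omega : a ≠ 0)]
  have h1 : q ^ a ≤ q ^ b := Nat.pow_le_pow_right hq hab
  rw [Nat.sub_mul, one_mul, pow_add, mul_add, mul_one]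
  omega

theorem prod_sub_le (m : ℕ) (e : ℕ → ℕ) : ∏ i ∈ range m, (q ^ e i - 1) ≤ q ^ ∑ i ∈ range m, e i := by
  rw [← prod_pow_eq_pow_sum]
  exact prod_le_prod' fun i _ => Nat.sub_le _ _

theorem prod_sub_not_dvd (hp : p.Prime) (hpq : p ∣ q) (hq : 1 ≤ q) (m : ℕ) (e : ℕ → ℕ) (he : ∀ i, 1 ≤ e i) :
    ¬ p ∣ ∏ i ∈ range m, (q ^ e i - 1) := by
  rw [hp.prime.dvd_finset_prod_iff]
  rintro ⟨i, -, h⟩
  exact not_dvd_pow_sub_one hp hpq hq (he i) h

theorem two_mul_sum (m : ℕ) : 2 * ∑ i ∈ range m, (i + 2) = m * (m + 3) := by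
  induction m with
  | zero => simp
  | succ m ih => rw [sum_range_succ, mul_add, ih]; ring

theorem sum_even (m : ℕ) : ∑ i ∈ range m, 2 * (i + 1) = m * (m + 1) := by
  induction m with
  | zero => simp
  | succ m ih => rw [sum_range_succ, ih]; ring

variable (hp : p.Prime) (hq : q = p ^ f) (hf : 1 ≤ f)
include hp hq hf

omit hp hq hf in
theorem dvd_of_mul_dvd_left {a b : ℕ} (h : p ∣ a) : p ∣ a * b := h.mul_right b

theorem p_dvd_q : p ∣ q ∧ 1 ≤ q := ⟨hq ▸ dvd_pow_self p (by omega), hq ▸ Nat.one_le_pow _ _ hp.pos⟩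

theorem small_psl {n G : ℕ} (hn : 3 ≤ n)
    (h : Nat.gcd n (q - 1) * ((q - 1) * G) = ∏ i : Fin n, (q ^ n - q ^ (i : ℕ))) : Small p G := by
  obtain ⟨hpq, hq1⟩ := p_dvd_q hp hq hf
  obtain ⟨m, rfl⟩ : ∃ m, n = m + 1 := ⟨n - 1, by omega⟩
  have e : ∏ i : Fin (m + 1), (q ^ (m + 1) - q ^ (i : ℕ)) =
      q ^ (∑ i ∈ range (m + 1), i) * ((∏ i ∈ range m, (q ^ (i + 2) - 1)) * (q - 1)) := by
    rw [Fin.prod_univ_eq_prod_range (fun i => q ^ (m + 1) - q ^ i), ← prod_pow_eq_pow_sum]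
    have e1 : ∏ i ∈ range (m + 1), (q ^ (m + 1) - q ^ i) =
        (∏ i ∈ range (m + 1), q ^ i) * ∏ i ∈ range (m + 1), (q ^ (m + 1 - i) - 1) := by
      rw [← prod_mul_distrib]
      refine prod_congr rfl fun i hi => ?_
      rw [mem_range] at hi
      rw [Nat.mul_sub, mul_one, ← pow_add, show i + (m + 1 - i) = m + 1 by omega]
    rw [e1]
    congr 1
    rw [← prod_range_reflect, prod_range_succ']
    congr 1
    · refine prod_congr rfl fun i hi => ?_
      rw [mem_range] at hi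
      rw [show m + 1 - (m + 1 - 1 - (i + 1)) = i + 2 by omega]
    · simp
  rw [e, ← mul_assoc, mul_comm (Nat.gcd _ _) (q - 1), mul_assoc, ← mul_assoc (q ^ _), mul_comm _ (q - 1)] at h
  have hq2 : 2 ≤ q := hq ▸ le_trans hp.two_le (Nat.le_self_pow (by omega) p)
  have h' := Nat.eq_of_mul_eq_mul_left (show 0 < q - 1 by omega) h
  have hs := two_mul_sum m
  have hs2 : (∑ i ∈ range (m + 1), i) * 2 = (m + 1) * m := by rw [sum_range_id_mul_two]; simp
  refine small_of hp hq hf h' ?_ (prod_sub_not_dvd hp hpq hq1 m _ fun i => by omega) (prod_sub_le m _) ?_ ?_ ?_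
  · exact fun hd => not_dvd_pow_sub_one hp hpq hq1 (i := 1) le_rfl (by rw [pow_one]; exact hd.trans (Nat.gcd_dvd_right _ _))
  · nlinarith
  · nlinarith
  · nlinarith

theorem small_psp {m G : ℕ} (hm : 2 ≤ m) {d : ℕ} (hd : ¬ p ∣ d)
    (h : d * G = q ^ (m ^ 2) * ∏ i ∈ range m, (q ^ (2 * (i + 1)) - 1)) : Small p G := by
  obtain ⟨hpq, hq1⟩ := p_dvd_q hp hq hf
  refine small_of hp hq hf h hd (prod_sub_not_dvd hp hpq hq1 m _ fun i => by omega) (prod_sub_le m _) ?_ ?_ ?_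
  all_goals rw [sum_even]; nlinarith

theorem small_plus {m G : ℕ} (hm : 4 ≤ m)
    (h : Nat.gcd 4 (q ^ m - 1) * G = q ^ (m * (m - 1)) * (q ^ m - 1) * ∏ i ∈ range (m - 1), (q ^ (2 * (i + 1)) - 1)) :
    Small p G := by
  obtain ⟨hpq, hq1⟩ := p_dvd_q hp hq hf
  obtain ⟨k, rfl⟩ : ∃ k, m = k + 1 := ⟨m - 1, by omega⟩
  rw [Nat.add_sub_cancel, mul_assoc] at h
  refine small_of hp hq hf h (fun hd => not_dvd_pow_sub_one hp hpq hq1 (by omega) (hd.trans (Nat.gcd_dvd_right _ _)))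
    (hp.prime.not_dvd_mul (not_dvd_pow_sub_one hp hpq hq1 (by omega))
      (prod_sub_not_dvd hp hpq hq1 k _ fun i => by omega))
    ((Nat.mul_le_mul (Nat.sub_le _ _) (prod_sub_le k _)).trans_eq (pow_add _ _ _).symm) ?_ ?_ ?_
  all_goals rw [sum_even]; nlinarith

theorem small_minus {m G : ℕ} (hm : 4 ≤ m)
    (h : Nat.gcd 4 (q ^ m + 1) * G = q ^ (m * (m - 1)) * (q ^ m + 1) * ∏ i ∈ range (m - 1), (q ^ (2 * (i + 1)) - 1)) :
    Small p G := by
  obtain ⟨hpq, hq1⟩ := p_dvd_q hp hq hf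
  obtain ⟨k, rfl⟩ : ∃ k, m = k + 1 := ⟨m - 1, by omega⟩
  obtain ⟨j, rfl⟩ : ∃ j, k = j + 1 := ⟨k - 1, by omega⟩
  rw [Nat.add_sub_cancel, mul_assoc] at h
  refine small_of hp hq hf h (fun hd => not_dvd_pow_add_one hp hpq (by omega) (hd.trans (Nat.gcd_dvd_right _ _)))
    (hp.prime.not_dvd_mul (not_dvd_pow_add_one hp hpq (by omega))
      (prod_sub_not_dvd hp hpq hq1 (j + 1) _ fun i => by omega))
    (M := ∑ i ∈ range (j + 1), 2 * (i + 1) + (j + 1 + 1)) ?_ ?_ ?_ ?_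
  · rw [prod_range_succ', sum_range_succ', ← mul_assoc, mul_comm (q ^ (j + 1 + 1) + 1), mul_assoc,
      show ∑ i ∈ range j, 2 * (i + 1 + 1) + 2 * (0 + 1) + (j + 1 + 1) =
        ∑ i ∈ range j, 2 * (i + 1 + 1) + (2 + (j + 1 + 1)) by ring, pow_add _ (∑ i ∈ range j, _),
      mul_comm (q ^ (j + 1 + 1) + 1)]
    exact Nat.mul_le_mul (prod_sub_le j fun i => 2 * (i + 1 + 1)) (pair_le (by omega))
  · omega
  all_goals rw [sum_even]; nlinarith

omit hp hq hf in
theorem prod_psu_le (m : ℕ) :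
    ∏ i ∈ range m, (if Even (i + 1) then q ^ (i + 2) + 1 else q ^ (i + 2) - 1) ≤ q ^ ∑ i ∈ range m, (i + 2) := by
  induction m using Nat.twoStepInduction with
  | zero => simp
  | one => simp
  | more m ih ih1 =>
    rcases Nat.even_or_odd (m + 1) with he | ho
    · -- the new last factor is `q ^ (m + 3) - 1`
      rw [prod_range_succ _ (m + 1), sum_range_succ _ (m + 1), pow_add _ (∑ i ∈ range (m + 1), _)]
      refine Nat.mul_le_mul ih1 ?_
      rw [if_neg (Nat.not_even_iff_odd.2 he.add_one)]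
      exact Nat.sub_le _ _
    · rw [prod_range_succ _ (m + 1), prod_range_succ _ m, sum_range_succ _ (m + 1), sum_range_succ _ m,
        if_neg (Nat.not_even_iff_odd.2 ho), if_pos ho.add_one, mul_assoc, Nat.add_assoc (∑ i ∈ range m, (i + 2)), pow_add _ (∑ i ∈ range m, _)]
      exact Nat.mul_le_mul ih (pair_le (by omega))

theorem small_psu {n G : ℕ} (hn : 3 ≤ n)
    (h : Nat.gcd n (q + 1) * ((q + 1) * G) =
      q ^ (n * (n - 1) / 2) * ∏ i ∈ range n, (if Even i then q ^ (i + 1) + 1 else q ^ (i + 1) - 1)) : Small p G := by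
  obtain ⟨hpq, hq1⟩ := p_dvd_q hp hq hf
  obtain ⟨m, rfl⟩ : ∃ m, n = m + 1 := ⟨n - 1, by omega⟩
  rw [prod_range_succ', if_pos ⟨0, rfl⟩, zero_add, pow_one, ← mul_assoc, mul_comm (Nat.gcd _ _) (q + 1), mul_assoc,
    ← mul_assoc (q ^ _), mul_comm _ (q + 1)] at h
  have h' := Nat.eq_of_mul_eq_mul_left (show 0 < q + 1 by omega) h
  have hs := two_mul_sum m
  have hN : (m + 1) * m / 2 * 2 = (m + 1) * m := by
    refine Nat.div_mul_cancel ?_
    rw [mul_comm]; exact (Nat.even_mul_succ_self m).two_dvd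
  rw [Nat.add_sub_cancel] at h'
  refine small_of hp hq hf h'
    (fun hd => not_dvd_pow_add_one hp hpq (i := 1) le_rfl (by rw [pow_one]; exact hd.trans (Nat.gcd_dvd_right _ _)))
    ?_ (prod_psu_le m) ?_ ?_ ?_
  · rw [hp.prime.dvd_finset_prod_iff]
    rintro ⟨i, -, hi⟩
    split_ifs at hi
    · exact not_dvd_pow_add_one hp hpq (by omega) hi
    · exact not_dvd_pow_sub_one hp hpq hq1 (by omega) hi
  all_goals nlinarith

end CfsgLib.Known.OrderBound
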