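import Cfsg.Agent.Lib.Known.OrderBound

/-!
# `|G| < p^(3k)` and `|G|^3 < p^(8k)` for groups of Lie type
-/

set_option autoImplicit false

namespace CfsgLib.Known.OrderBound

open Finset Cfsg

theorem exists_exp {p q e k : ℕ} (hp : p.Prime) (hq : 2 ≤ q) (he : 1 ≤ e) (h : q ^ e = p ^ k) :
    ∃ f, 1 ≤ f ∧ q = p ^ f := by
  obtain ⟨f, -, rfl⟩ := (Nat.dvd_prime_pow hp).1 (h ▸ dvd_pow_self q (by omega))
  exact ⟨f, Nat.one_le_iff_ne_zero.2 fun h0 => by simp [h0] at hq, rfl⟩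

theorem exists_exp_card {F : Type} [Field F] [Fintype F] (p : ℕ) [CharP F p] {q e : ℕ} (he : 1 ≤ e)
    (h : Fintype.card F = q ^ e) : ∃ f, 1 ≤ f ∧ q = p ^ f := by
  obtain ⟨a, hp, ha⟩ := FiniteField.card F p
  have h1 := Fintype.one_lt_card (α := F)
  refine exists_exp hp ?_ he (k := a) (by rw [← h, ha])
  by_contra hq
  have hq' : q = 0 ∨ q = 1 := by omega
  rcases hq' with rfl | rfl
  · rw [h, zero_pow (by omega)] at h1; omega
  · rw [h, one_pow] at h1; omega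

variable {G : Type*} [Group G] [Finite G] {p : ℕ}

theorem psl_case (hp : p.Prime) (h : IsPSLChar p G) :
    Nat.card G < p ^ (3 * (Nat.card G).factorization p) ∧
      ((¬ ∃ (F : Type) (_ : Field F) (_ : Fintype F), Fintype.card F = p ^ (Nat.card G).factorization p ∧
          Nonempty (G ≃* Matrix.ProjectiveSpecialLinearGroup (Fin 2) F)) →
        Nat.card G ^ 3 < p ^ (8 * (Nat.card G).factorization p)) := by
  obtain ⟨F, fF, hFin, hCh, n, hn, -, ⟨e⟩⟩ := h
  obtain ⟨a, -, ha⟩ := FiniteField.card F p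
  have hcard := Cfsg.Agent.S0243.result (F := F) (q := p ^ (a : ℕ)) ha n hn
  rw [← Nat.card_congr e.toEquiv] at hcard
  rcases Nat.lt_or_ge n 3 with h3 | h3
  · obtain rfl : n = 2 := by omega
    obtain ⟨q, hq⟩ : ∃ q, q = p ^ (a : ℕ) := ⟨_, rfl⟩
    rw [← hq] at hcard
    obtain ⟨hpq, hq1⟩ := p_dvd_q hp hq a.pos
    have hq2 : 2 ≤ q := hq ▸ le_trans hp.two_le (Nat.le_self_pow a.ne_zero p)
    have e2 : (q ^ 2 - q ^ 0) * (q ^ 2 - q ^ 1) = (q - 1) * (q ^ 1 * (q ^ 2 - 1)) := by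
      rw [pow_zero, pow_one, show q ^ 2 - q = q * (q - 1) by rw [Nat.mul_sub, mul_one, sq]]; ring
    rw [Fin.prod_univ_two, Fin.val_zero, Fin.val_one, e2, mul_left_comm] at hcard
    have h' := Nat.eq_of_mul_eq_mul_left (show 0 < q - 1 by omega) hcard
    have hd : ¬ p ∣ Nat.gcd 2 (q - 1) := fun hd =>
      not_dvd_pow_sub_one hp hpq hq1 (i := 1) le_rfl (by rw [pow_one]; exact hd.trans (Nat.gcd_dvd_right _ _))
    have hk := factorization_eq hp hq h' hd (not_dvd_pow_sub_one hp hpq hq1 (by norm_num))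
    refine ⟨?_, fun hne => absurd ⟨F, fF, hFin, by rw [hk, mul_one]; exact ha, ⟨e⟩⟩ hne⟩
    have h1 : Nat.card G ≤ q ^ 1 * (q ^ 2 - 1) := h' ▸ Nat.le_mul_of_pos_left _ (Nat.gcd_pos_of_pos_left _ two_pos)
    have h2 : q ^ 1 * (q ^ 2 - 1) < q ^ 1 * q ^ 2 :=
      Nat.mul_lt_mul_of_pos_left (Nat.sub_lt (Nat.pow_pos (by omega)) one_pos) (Nat.pow_pos (by omega))
    rw [hk, show p ^ (3 * ((a : ℕ) * 1)) = q ^ 1 * q ^ 2 by rw [hq]; ring]
    omega
  · have h := small_psl hp rfl a.pos h3 hcard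
    exact ⟨h.1, fun _ => h.2⟩

theorem classical_case (hp : p.Prime)
    (h : IsPSpChar p G ∨ IsPSUChar p G ∨ IsPOmegaOddChar p G ∨ IsPOmegaPlusChar p G ∨ IsPOmegaMinusChar p G) :
    Small p (Nat.card G) := by
  rcases h with ⟨F, _, _, _, m, hm, -, ⟨e⟩⟩ | ⟨F, _, _, _, n, q, hq, hn, -, ⟨e⟩⟩ |
    ⟨F, _, _, _, m, hm, hodd, ⟨e⟩⟩ | ⟨F, _, _, _, m, hm, ⟨e⟩⟩ | ⟨F, _, _, _, m, a', b', hm, hab, ⟨e⟩⟩
  · obtain ⟨a, -, ha⟩ := FiniteField.card F p
    have h := CfsgLib.Classical.Symp.gcd_mul_card_psp (F := F) (m := m) (by omega)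
    rw [← Nat.card_congr e.toEquiv, ha] at h
    obtain ⟨hpq, hq1⟩ := p_dvd_q hp rfl a.pos
    exact small_psp hp rfl a.pos hm (fun hd => not_dvd_pow_sub_one hp hpq hq1 (i := 1) le_rfl
      (by rw [pow_one]; exact hd.trans (Nat.gcd_dvd_right _ _))) h
  · obtain ⟨f, hf, hqf⟩ := exists_exp_card p (by norm_num) hq
    have h := Cfsg.Agent.S0280.result hq n (by omega)
    rw [← Nat.card_congr e.toEquiv] at h
    exact small_psu hp hqf hf hn h
  · obtain ⟨a, -, ha⟩ := FiniteField.card F p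
    have h := Cfsg.Agent.S0292.result (F := F) rfl hodd m hm
    rw [← Nat.card_congr e.toEquiv, ha] at h
    refine small_psp hp rfl a.pos (by omega) (fun hd => ?_) h
    have h2 := (Nat.prime_dvd_prime_iff_eq hp Nat.prime_two).1 hd
    rw [ha, h2] at hodd
    exact Nat.not_even_iff_odd.2 hodd (even_iff_two_dvd.2 (dvd_pow_self 2 a.ne_zero))
  · obtain ⟨a, -, ha⟩ := FiniteField.card F p
    have h := Cfsg.Agent.S0293.result (F := F) rfl m hm
    rw [← Nat.card_congr e.toEquiv, ha] at h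
    exact small_plus hp rfl a.pos hm h
  · obtain ⟨a, -, ha⟩ := FiniteField.card F p
    have h := Cfsg.Agent.S0294.result (F := F) rfl m hm a' b' hab
    rw [← Nat.card_congr e.toEquiv, ha] at h
    exact small_minus hp rfl a.pos hm h

theorem exceptional_case (hp : p.Prime) (h : IsExceptionalChevChar p G) : Small p (Nat.card G) := by
  obtain ⟨F, _, _, _, h⟩ := h
  obtain ⟨a, -, ha⟩ := FiniteField.card F p
  obtain ⟨q, hq⟩ : ∃ q, q = p ^ (a : ℕ) := ⟨_, rfl⟩
  rw [← hq] at ha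
  obtain ⟨hpq, hq1⟩ := p_dvd_q hp hq a.pos
  have hs : ∀ i, 1 ≤ i → ¬ p ∣ q ^ i - 1 := fun i hi => not_dvd_pow_sub_one hp hpq hq1 hi
  have hg : ∀ c, ¬ p ∣ Nat.gcd c (q - 1) := fun c hd =>
    hs 1 le_rfl (by rw [pow_one]; exact hd.trans (Nat.gcd_dvd_right _ _))
  have hm : ∀ {x y : ℕ}, ¬ p ∣ x → ¬ p ∣ y → ¬ p ∣ x * y := fun hx hy => hp.prime.not_dvd_mul hx hy
  have hle : ∀ {x y u v : ℕ}, x ≤ q ^ u → y ≤ q ^ v → x * y ≤ q ^ (u + v) := fun hx hy =>
    (Nat.mul_le_mul hx hy).trans_eq (pow_add _ _ _).symm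
  have hb : ∀ i, q ^ i - 1 ≤ q ^ i := fun i => Nat.sub_le _ _
  rcases h with ⟨-, ⟨e⟩⟩ | ⟨⟨e⟩⟩ | ⟨⟨e⟩⟩ | ⟨⟨e⟩⟩ | ⟨⟨e⟩⟩
  · have h := Cfsg.Agent.S1059.result (F := F) ha
    rw [← Nat.card_congr e.toEquiv, mul_assoc] at h
    exact small_of hp hq a.pos (d := 1) (by rw [one_mul, h]) hp.not_dvd_one (hm (hs _ (by norm_num)) (hs _ (by norm_num)))
      (hle (hb _) (hb _)) (by norm_num) (by norm_num) (by norm_num)
  · have h := Cfsg.Agent.S1062.result (F := F) ha
    rw [← Nat.card_congr e.toEquiv] at h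
    simp only [mul_assoc] at h
    exact small_of hp hq a.pos (d := 1) (by rw [one_mul, h]) hp.not_dvd_one
      (hm (hs _ (by norm_num)) (hm (hs _ (by norm_num)) (hm (hs _ (by norm_num)) (hs _ (by norm_num)))))
      (hle (hb _) (hle (hb _) (hle (hb _) (hb _)))) (by norm_num) (by norm_num) (by norm_num)
  · have h := Cfsg.Agent.S1063.result (F := F) ha
    rw [← Nat.card_congr e.toEquiv] at h
    simp only [mul_assoc] at h
    exact small_of hp hq a.pos h (hg 3)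
      (hm (hs _ (by norm_num)) (hm (hs _ (by norm_num)) (hm (hs _ (by norm_num)) (hm (hs _ (by norm_num))
        (hm (hs _ (by norm_num)) (hs _ (by norm_num)))))))
      (hle (hb _) (hle (hb _) (hle (hb _) (hle (hb _) (hle (hb _) (hb _)))))) (by norm_num) (by norm_num) (by norm_num)
  · have h := Cfsg.Agent.S1064.result (F := F) ha
    rw [← Nat.card_congr e.toEquiv] at h
    simp only [mul_assoc] at h
    exact small_of hp hq a.pos h (hg 2)
      (hm (hs _ (by norm_num)) (hm (hs _ (by norm_num)) (hm (hs _ (by norm_num)) (hm (hs _ (by norm_num))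
        (hm (hs _ (by norm_num)) (hm (hs _ (by norm_num)) (hs _ (by norm_num))))))))
      (hle (hb _) (hle (hb _) (hle (hb _) (hle (hb _) (hle (hb _) (hle (hb _) (hb _)))))))
      (by norm_num) (by norm_num) (by norm_num)
  · have h := Cfsg.Agent.S1065.result (F := F) ha
    rw [← Nat.card_congr e.toEquiv] at h
    simp only [mul_assoc] at h
    exact small_of hp hq a.pos (d := 1) (by rw [one_mul, h]) hp.not_dvd_one
      (hm (hs _ (by norm_num)) (hm (hs _ (by norm_num)) (hm (hs _ (by norm_num)) (hm (hs _ (by norm_num))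
        (hm (hs _ (by norm_num)) (hm (hs _ (by norm_num)) (hm (hs _ (by norm_num)) (hs _ (by norm_num)))))))))
      (hle (hb _) (hle (hb _) (hle (hb _) (hle (hb _) (hle (hb _) (hle (hb _) (hle (hb _) (hb _))))))))
      (by norm_num) (by norm_num) (by norm_num)

theorem twisted_case (hp : p.Prime) (h : IsTwistedE6D4Char p G) : Small p (Nat.card G) := by
  obtain ⟨K, _, _, _, q, hq, ⟨hK, ⟨e⟩⟩ | ⟨hK, ⟨e⟩⟩⟩ := h <;>
  obtain ⟨f, hf, hqf⟩ := exists_exp_card p (by norm_num) hK <;>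
  obtain ⟨hpq, hq1⟩ := p_dvd_q hp hqf hf <;>
  have hs : ∀ i, 1 ≤ i → ¬ p ∣ q ^ i - 1 := fun i hi => not_dvd_pow_sub_one hp hpq hq1 hi
  · have h := Cfsg.Agent.S1066.result hq hK
    rw [← Nat.card_congr e.toEquiv] at h
    rw [show q ^ 36 * (q ^ 2 - 1) * (q ^ 5 + 1) * (q ^ 6 - 1) * (q ^ 8 - 1) * (q ^ 9 + 1) * (q ^ 12 - 1) =
      q ^ 36 * (((q ^ 2 - 1) * (q ^ 5 + 1)) * ((q ^ 6 - 1) * (q ^ 9 + 1)) * (q ^ 8 - 1) * (q ^ 12 - 1)) by ring] at h
    have ha : ∀ i, 1 ≤ i → ¬ p ∣ q ^ i + 1 := fun i hi => not_dvd_pow_add_one hp hpq hi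
    refine small_of hp hqf hf h (fun hd => ha 1 le_rfl (by rw [pow_one]; exact hd.trans (Nat.gcd_dvd_right _ _))) ?_
      (M := 2 + 5 + (6 + 9) + 8 + 12) ?_ (by norm_num) (by norm_num) (by norm_num)
    · exact hp.prime.not_dvd_mul (hp.prime.not_dvd_mul (hp.prime.not_dvd_mul
        (hp.prime.not_dvd_mul (hs _ (by norm_num)) (ha _ (by norm_num)))
        (hp.prime.not_dvd_mul (hs _ (by norm_num)) (ha _ (by norm_num)))) (hs _ (by norm_num))) (hs _ (by norm_num))
    · rw [pow_add, pow_add, pow_add]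
      exact Nat.mul_le_mul (Nat.mul_le_mul (Nat.mul_le_mul (pair_le (by norm_num)) (pair_le (by norm_num)))
        (Nat.sub_le _ _)) (Nat.sub_le _ _)
  · have h := Cfsg.Agent.S1067.result hq hK
    rw [← Nat.card_congr e.toEquiv, mul_assoc, mul_assoc] at h
    refine small_of hp hqf hf (d := 1) (by rw [one_mul, h]) hp.not_dvd_one ?_ (M := 2 + (6 + 9)) ?_
      (by norm_num) (by norm_num) (by norm_num)
    · refine hp.prime.not_dvd_mul (hs _ (by norm_num)) (hp.prime.not_dvd_mul (hs _ (by norm_num)) fun hd => ?_)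
      exact hp.not_dvd_one ((Nat.dvd_add_right (dvd_add (hpq.trans (dvd_pow_self q (by norm_num)))
        (hpq.trans (dvd_pow_self q (by norm_num))))).1 hd)
    · rw [pow_add, pow_add]
      refine Nat.mul_le_mul (Nat.sub_le _ _) (Nat.mul_le_mul (Nat.sub_le _ _) ?_)
      have hq2 : 2 ≤ q := hq.two_le
      have h4 : q ^ 4 + 1 ≤ q ^ 8 := by
        have : q ^ 4 * 2 ≤ q ^ 4 * q ^ 4 := Nat.mul_le_mul_left _ (le_trans hq2 (Nat.le_self_pow (by norm_num) q))
        rw [← pow_add] at this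
        norm_num at this
        have := Nat.one_le_pow 4 q (by omega)
        omega
      calc q ^ 8 + q ^ 4 + 1 ≤ q ^ 8 * 2 := by omega
        _ ≤ q ^ 8 * q := Nat.mul_le_mul_left _ hq2
        _ = q ^ 9 := by ring

theorem exotic_case (h : (p = 2 ∧ Lie.IsoSuzuki G) ∨ (p = 2 ∧ Lie.Iso2F4 G) ∨ (p = 3 ∧ Lie.IsoRee G)) :
    Small p (Nat.card G) := by
  rcases h with ⟨rfl, F, _, _, m, hm, hF, ⟨e⟩⟩ | ⟨rfl, K, _, _, m, hm, hK, ⟨e⟩⟩ | ⟨rfl, K, _, _, m, hm, hK, ⟨e⟩⟩
  · have : CharP F 2 := CfsgLib.Lie.Suzuki.charTwo_of_card hF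
    have h := CfsgLib.Lie.Suzuki.nat_card hF hm
    rw [Nat.card_congr ((CfsgLib.Lie.Suzuki.equivLie hm hF).trans e.symm).toEquiv] at h
    obtain ⟨q, hq⟩ : ∃ q, q = 2 ^ (2 * m + 1) := ⟨_, rfl⟩
    simp only [hF, ← hq] at h
    obtain ⟨hpq, hq1⟩ := p_dvd_q Nat.prime_two hq (by omega)
    refine small_of Nat.prime_two hq (by omega) (d := 1) (R := (q ^ 1 - 1) * (q ^ 2 + 1)) (N := 2)
      (by rw [one_mul, h, pow_one]; ring) (Nat.Prime.not_dvd_one Nat.prime_two)
      (Nat.prime_two.prime.not_dvd_mul (not_dvd_pow_sub_one Nat.prime_two hpq hq1 le_rfl)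
        (not_dvd_pow_add_one Nat.prime_two hpq (by norm_num))) (pair_le (by norm_num))
      (by norm_num) (by norm_num) (by norm_num)
  · have h := Cfsg.Agent.S1068.result hK
    rw [← Nat.card_congr e.toEquiv] at h
    obtain ⟨q, hq⟩ : ∃ q, q = 2 ^ (2 * m + 1) := ⟨_, rfl⟩
    rw [← hq] at h
    obtain ⟨hpq, hq1⟩ := p_dvd_q Nat.prime_two hq (by omega)
    refine small_of Nat.prime_two hq (by omega) (d := 1) (N := 12)
      (R := ((q ^ 1 - 1) * (q ^ 3 + 1)) * ((q ^ 4 - 1) * (q ^ 6 + 1))) (M := 1 + 3 + (4 + 6))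
      (by rw [one_mul, h, pow_one]; ring) (Nat.Prime.not_dvd_one Nat.prime_two)
      (Nat.prime_two.prime.not_dvd_mul
        (Nat.prime_two.prime.not_dvd_mul (not_dvd_pow_sub_one Nat.prime_two hpq hq1 le_rfl)
          (not_dvd_pow_add_one Nat.prime_two hpq (by norm_num)))
        (Nat.prime_two.prime.not_dvd_mul (not_dvd_pow_sub_one Nat.prime_two hpq hq1 (by norm_num))
          (not_dvd_pow_add_one Nat.prime_two hpq (by norm_num))))
      ((Nat.mul_le_mul (pair_le (by norm_num)) (pair_le (by norm_num))).trans_eq (pow_add _ _ _).symm)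
      (by norm_num) (by norm_num) (by norm_num)
  · have h := Cfsg.Agent.S1069.result hK
    rw [← Nat.card_congr e.toEquiv] at h
    obtain ⟨q, hq⟩ : ∃ q, q = 3 ^ (2 * m + 1) := ⟨_, rfl⟩
    rw [← hq] at h
    obtain ⟨hpq, hq1⟩ := p_dvd_q Nat.prime_three hq (by omega)
    refine small_of Nat.prime_three hq (by omega) (d := 1) (R := (q ^ 1 - 1) * (q ^ 3 + 1)) (N := 3)
      (by rw [one_mul, h, pow_one]; ring) (Nat.Prime.not_dvd_one Nat.prime_three)
      (Nat.prime_three.prime.not_dvd_mul (not_dvd_pow_sub_one Nat.prime_three hpq hq1 le_rfl)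
        (not_dvd_pow_add_one Nat.prime_three hpq (by norm_num))) (pair_le (by norm_num))
      (by norm_num) (by norm_num) (by norm_num)

theorem lie_type_order_bound (hp : p.Prime) (hG : IsLieTypeChar p G) :
    Nat.card G < p ^ (3 * (Nat.card G).factorization p) ∧
      ((¬ ∃ (F : Type) (_ : Field F) (_ : Fintype F), Fintype.card F = p ^ (Nat.card G).factorization p ∧
          Nonempty (G ≃* Matrix.ProjectiveSpecialLinearGroup (Fin 2) F)) →
        Nat.card G ^ 3 < p ^ (8 * (Nat.card G).factorization p)) := by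
  rcases hG with h | h | h | h | h | h | h | h | h | h | h
  · exact psl_case hp h
  all_goals refine (fun hs : Small p (Nat.card G) => ⟨hs.1, fun _ => hs.2⟩) ?_
  · exact classical_case hp (.inl h)
  · exact classical_case hp (.inr (.inl h))
  · exact classical_case hp (.inr (.inr (.inl h)))
  · exact classical_case hp (.inr (.inr (.inr (.inl h))))
  · exact classical_case hp (.inr (.inr (.inr (.inr h))))
  · exact exceptional_case hp h
  · exact twisted_case hp h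
  · exact exotic_case (.inl h)
  · exact exotic_case (.inr (.inl h))
  · exact exotic_case (.inr (.inr h))

end CfsgLib.Known.OrderBound
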