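import Cfsg.Prelude.Def_KGroupFacts
import Cfsg.Agent.Lib.Components.FStar

/-!
# Extensions of a centreless group `S` by subgroups of `Out S ≅ S₄` of order six

All subgroups of order six of `S₄` are point stabilisers, hence conjugate, so a group `G` with a
self-centralising normal subgroup `F ≅ S` and `|G : F| = 6` is unique up to isomorphism.
-/

set_option linter.style.haveILetI false

namespace CfsgLib.Known.OutPermFour

open Subgroup

theorem unique_fixed (t : Equiv.Perm (Fin 4)) : t ^ 3 = 1 → t ≠ 1 →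
    ∃ i, t i = i ∧ ∀ j, t j = j → j = i := by
  revert t
  decide

theorem card_stab (i : Fin 4) : Nat.card (MulAction.stabilizer (Equiv.Perm (Fin 4)) i) = 6 := by
  have h := (MulAction.stabilizer (Equiv.Perm (Fin 4)) i).index_mul_card
  rw [MulAction.index_stabilizer_of_transitive, Nat.card_perm] at h
  simp only [Nat.card_fin, Nat.factorial] at h
  omega

theorem exists_eq_stab (H : Subgroup (Equiv.Perm (Fin 4))) (h6 : Nat.card H = 6) :
    ∃ i : Fin 4, H = MulAction.stabilizer (Equiv.Perm (Fin 4)) i := by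
  haveI : Fact (Nat.Prime 3) := ⟨Nat.prime_three⟩
  obtain ⟨t, ht⟩ := exists_prime_orderOf_dvd_card' (G := H) 3 (by rw [h6]; norm_num)
  have hidx : (zpowers t).index = 2 := by
    have h := (zpowers t).index_mul_card
    rw [Nat.card_zpowers, ht, h6] at h
    omega
  haveI : (zpowers t).Normal := Subgroup.normal_of_index_eq_two hidx
  have ht3 : (t : Equiv.Perm (Fin 4)) ^ 3 = 1 := by
    rw [← SubgroupClass.coe_pow, ← ht, pow_orderOf_eq_one, OneMemClass.coe_one]
  have ht1 : (t : Equiv.Perm (Fin 4)) ≠ 1 := fun h => by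
    rw [show t = 1 from Subtype.ext h, orderOf_one] at ht
    omega
  obtain ⟨i, hi, huniq⟩ := unique_fixed _ ht3 ht1
  refine ⟨i, Subgroup.eq_of_le_of_card_ge (fun h hh => MulAction.mem_stabilizer_iff.mpr ?_)
    (by rw [card_stab, h6])⟩
  obtain ⟨k, hk⟩ : (⟨h, hh⟩ : H)⁻¹ * t * (⟨h, hh⟩ : H) ∈ zpowers t := by
    simpa using (inferInstance : (zpowers t).Normal).conj_mem t (mem_zpowers t) (⟨h, hh⟩ : H)⁻¹
  have hk' : h⁻¹ * (t : Equiv.Perm (Fin 4)) * h = (t : Equiv.Perm (Fin 4)) ^ k := by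
    have := congrArg Subtype.val hk
    simpa using this.symm
  have hfix : ((t : Equiv.Perm (Fin 4)) ^ k) i = i := Equiv.Perm.zpow_apply_eq_self_of_apply_eq_self hi k
  apply huniq
  have h2 : (t : Equiv.Perm (Fin 4)) * h = h * (t : Equiv.Perm (Fin 4)) ^ k := by
    rw [← hk']; group
  have := DFunLike.congr_fun h2 i
  simpa [Equiv.Perm.mul_apply, hfix] using this

theorem exists_conj (H₁ H₂ : Subgroup (Equiv.Perm (Fin 4))) (h₁ : Nat.card H₁ = 6)
    (h₂ : Nat.card H₂ = 6) : ∃ σ, H₁.map (MulAut.conj σ).toMonoidHom = H₂ := by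
  obtain ⟨i, rfl⟩ := exists_eq_stab H₁ h₁
  obtain ⟨j, rfl⟩ := exists_eq_stab H₂ h₂
  refine ⟨Equiv.swap i j, ?_⟩
  conv_rhs => rw [show j = Equiv.swap i j • i by simp]
  rw [MulAction.stabilizer_smul_eq_stabilizer_map_conj]

variable {S : Type*} [Group S]

/-- `G` embeds in `Aut S` as the full preimage of a subgroup of order six of `S₄`. -/
theorem exists_preimage {G : Type*} [Group G] [Finite G] (F : Subgroup G) [F.Normal]
    (hC : centralizer (F : Set G) ≤ F) (e : F ≃* S) (hS : center S = ⊥)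
    (ψ : Cfsg.Out S ≃* Equiv.Perm (Fin 4)) (h6 : F.index = 6) :
    ∃ H : Subgroup (Equiv.Perm (Fin 4)), Nat.card H = 6 ∧ Nonempty (G ≃*
      ↥(H.comap (ψ.toMonoidHom.comp (QuotientGroup.mk' (Cfsg.Inn S))))) := by
  let φ : G →* MulAut S := (MulAut.congr e).toMonoidHom.comp (MulAut.conjNormal)
  have hφ : ∀ g s, φ g s = e ⟨g * (e.symm s : G) * g⁻¹,
      (inferInstance : F.Normal).conj_mem _ (e.symm s).2 g⟩ := fun g s => by
    simp only [φ, MonoidHom.comp_apply]
    exact congrArg e (Subtype.ext (MulAut.conjNormal_apply g (e.symm s)))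
  have hinn : ∀ f : F, φ (f : G) = MulAut.conj (e f) := fun f => MulEquiv.ext fun s => by
    rw [hφ, MulAut.conj_apply, ← map_inv, ← e.apply_symm_apply s, ← map_mul, ← map_mul,
      e.symm_apply_apply]
    rfl
  have hinj : Function.Injective φ := (injective_iff_map_eq_one φ).2 fun g hg => by
    have hgC : g ∈ centralizer (F : Set G) := mem_centralizer_iff.mpr fun f hf => by
      have h := DFunLike.congr_fun hg (e ⟨f, hf⟩)
      rw [hφ, MulAut.one_apply, e.injective.eq_iff] at h
      have h' := congrArg Subtype.val h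
      simp only [MulEquiv.symm_apply_apply] at h'
      exact (mul_inv_eq_iff_eq_mul.mp h').symm
    have hz : e ⟨g, hC hgC⟩ ∈ center S := mem_center_iff.mpr fun s => by
      rw [← e.apply_symm_apply s, ← map_mul, ← map_mul]
      exact congrArg e (Subtype.ext (mem_centralizer_iff.mp hgC _ (e.symm s).2))
    rw [hS, mem_bot, map_eq_one_iff _ e.injective] at hz
    exact congrArg Subtype.val hz
  set π := ψ.toMonoidHom.comp (QuotientGroup.mk' (Cfsg.Inn S)) with hπ
  have hker : π.ker = Cfsg.Inn S := by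
    ext x
    rw [MonoidHom.mem_ker, hπ, MonoidHom.comp_apply, MulEquiv.coe_toMonoidHom,
      MulEquiv.map_eq_one_iff, QuotientGroup.mk'_apply, QuotientGroup.eq_one_iff]
  have hker' : (π.comp φ).ker = F := by
    ext g
    rw [MonoidHom.mem_ker, MonoidHom.comp_apply, ← MonoidHom.mem_ker, hker]
    refine ⟨?_, fun hg => ⟨e ⟨g, hg⟩, (hinn ⟨g, hg⟩).symm⟩⟩
    rintro ⟨s, hs⟩
    rw [← e.apply_symm_apply s, ← hinn] at hs
    exact hinj hs ▸ (e.symm s).2
  refine ⟨(π.comp φ).range, ?_, ⟨?_⟩⟩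
  · rw [← Subgroup.index_ker, hker', h6]
  · have hle : π.ker ≤ φ.range := by
      rw [hker]
      rintro _ ⟨s, rfl⟩
      exact ⟨(e.symm s : G), by rw [hinn, e.apply_symm_apply]⟩
    have heq : φ.range = (π.comp φ).range.comap π := by
      rw [show (π.comp φ).range = φ.range.map π from MonoidHom.range_comp π φ, Subgroup.comap_map_eq, sup_eq_left.mpr hle]
    exact (MonoidHom.ofInjective hinj).trans (MulEquiv.subgroupCongr heq)

theorem iso_of_index_six {G G' : Type*} [Group G] [Finite G] [Group G'] [Finite G']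
    (F : Subgroup G) [F.Normal] (F' : Subgroup G') [F'.Normal]
    (hC : centralizer (F : Set G) ≤ F) (hC' : centralizer (F' : Set G') ≤ F')
    (e : F ≃* S) (e' : F' ≃* S) (hS : center S = ⊥)
    (ψ : Cfsg.Out S ≃* Equiv.Perm (Fin 4)) (h6 : F.index = 6) (h6' : F'.index = 6) :
    Nonempty (G ≃* G') := by
  obtain ⟨H, hH, ⟨u⟩⟩ := exists_preimage F hC e hS ψ h6
  obtain ⟨H', hH', ⟨u'⟩⟩ := exists_preimage F' hC' e' hS ψ h6'
  obtain ⟨σ, hσ⟩ := exists_conj H H' hH hH'
  obtain ⟨a, ha⟩ := ((ψ.surjective.comp (QuotientGroup.mk'_surjective (Cfsg.Inn S))) σ)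
  set π := ψ.toMonoidHom.comp (QuotientGroup.mk' (Cfsg.Inn S)) with hπ
  have hcomap : (H.comap π).map (MulAut.conj a).toMonoidHom = H'.comap π := by
    ext x
    simp only [Subgroup.mem_map, Subgroup.mem_comap, MulEquiv.coe_toMonoidHom, ← hσ]
    constructor
    · rintro ⟨y, hy, rfl⟩
      refine ⟨π y, hy, ?_⟩
      have : π a = σ := ha
      simp [MulAut.conj_apply, this]
    · rintro ⟨y, hy, hyx⟩
      refine ⟨a⁻¹ * x * a, ?_, by simp [MulAut.conj_apply, mul_assoc]⟩
      have : π a = σ := ha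
      simp only [MulAut.conj_apply] at hyx
      rw [map_mul, map_mul, map_inv, this, ← hyx]
      simpa [mul_assoc] using hy
  exact ⟨u.trans (((H.comap π).equivMapOfInjective _
    (MulAut.conj a).injective).trans ((MulEquiv.subgroupCongr hcomap).trans u'.symm))⟩

end CfsgLib.Known.OutPermFour
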