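import Cfsg.Agent.Lib.Known.PGLOrder
import Cfsg.Agent.Lib.Known.AutPSL.GraphFieldCent

/-!
# The largest element order of `Aut (PSL d F)`
-/

set_option autoImplicit false

open Matrix Polynomial

namespace CfsgLib.Known.PSLMaxOrder

open CfsgLib.Known.AutPSL

/-- `1 + x + ⋯ + x^(d-1)`. -/
def geom (x d : ℕ) : ℕ := ∑ i ∈ Finset.range d, x ^ i

theorem sub_one_mul_geom (x d : ℕ) (hx : 1 ≤ x) : (x - 1) * geom x d = x ^ d - 1 := by
  induction d with
  | zero => simp [geom]
  | succ d ih =>
    rw [geom, Finset.sum_range_succ, ← geom, mul_add, ih]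
    have h1 : 1 ≤ x ^ d := Nat.one_le_pow _ _ hx
    obtain ⟨y, rfl⟩ := Nat.exists_eq_add_of_le hx
    rw [pow_succ, Nat.add_sub_cancel_left]
    have : (1 + y) ^ d * (1 + y) = (1 + y) ^ d + y * (1 + y) ^ d := by ring
    omega

theorem le_geom {x d k : ℕ} (hx : 2 ≤ x) (h : (x - 1) * k ≤ x ^ d - 1) : k ≤ geom x d := by
  rw [← sub_one_mul_geom x d (by omega)] at h
  exact Nat.le_of_mul_le_mul_left h (by omega)

theorem mul_le_pow {x r : ℕ} (hx : 2 ≤ x) (hr : 1 ≤ r) : r * x ≤ x ^ r := by
  induction r, hr using Nat.le_induction with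
  | base => simp
  | succ r hr ih =>
    rw [pow_succ]
    nlinarith [Nat.mul_le_mul ih hx, Nat.mul_le_mul hr (le_refl x)]

theorem two_mul_le_pow {y r : ℕ} (hy : 4 ≤ y) (hr : 2 ≤ r) : 2 * r * y ≤ y ^ r := by
  induction r, hr using Nat.le_induction with
  | base => nlinarith
  | succ r hr ih =>
    rw [pow_succ]
    nlinarith [Nat.mul_le_mul ih hy, Nat.mul_le_mul hr (le_refl y)]

theorem four_mul_le_pow {y r : ℕ} (hy : 4 ≤ y) (hr : 3 ≤ r) : 4 * r * y ≤ y ^ r := by
  induction r, hr using Nat.le_induction with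
  | base => nlinarith [Nat.mul_le_mul hy hy]
  | succ r hr ih =>
    rw [pow_succ]
    nlinarith [Nat.mul_le_mul ih hy, Nat.mul_le_mul hr (le_refl y)]

theorem line_le_pow {x r : ℕ} (hx : 2 ≤ x) (hr : 3 ≤ r) : r * (1 + x) ≤ 1 + x ^ r := by
  induction r, hr using Nat.le_induction with
  | base => nlinarith [Nat.mul_le_mul hx hx, Nat.mul_le_mul (Nat.mul_le_mul hx hx) (le_refl x)]
  | succ r hr ih =>
    rw [pow_succ]
    have h1 : 1 + x ≤ x ^ r := by
      calc 1 + x ≤ x ^ 2 := by nlinarith
        _ ≤ x ^ r := Nat.pow_le_pow_right (by omega) (by omega)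
    nlinarith [Nat.mul_le_mul (le_refl (x ^ r)) hx]

theorem geom_three (x : ℕ) : geom x 3 = 1 + x + x ^ 2 := by
  simp [geom, Finset.sum_range_succ]

theorem geom_mul_le {x r d : ℕ} (hx : 2 ≤ x) (hr : 1 ≤ r) (hd : 2 ≤ d)
    (h : d = 2 → ¬ (x = 2 ∧ r = 2)) : r * geom x d ≤ geom (x ^ r) d := by
  rcases eq_or_lt_of_le hr with rfl | hr2
  · simp
  rcases eq_or_lt_of_le hd with rfl | hd3
  · simp only [geom, Finset.sum_range_succ, Finset.sum_range_zero, pow_zero, pow_one, zero_add]
    rcases eq_or_lt_of_le (show 2 ≤ r by omega) with rfl | hr3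
    · have h3 : 3 ≤ x := by
        by_contra hcon
        exact h rfl ⟨by omega, rfl⟩
      nlinarith
    · exact line_le_pow hx hr3
  clear h hd
  induction d, (show 3 ≤ d by omega) using Nat.le_induction with
  | base =>
    rw [geom_three, geom_three]
    have h1 := mul_le_pow hx hr
    have h4 : 4 ≤ x ^ 2 := by nlinarith
    have h2 := two_mul_le_pow h4 hr2
    rw [show (x ^ 2) ^ r = (x ^ r) ^ 2 by rw [← pow_mul, ← pow_mul, mul_comm]] at h2
    nlinarith [Nat.mul_le_mul (le_refl r) (show 1 ≤ x ^ 2 by omega)]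
  | succ d hd' ih =>
    rw [geom, geom, Finset.sum_range_succ, Finset.sum_range_succ, ← geom, ← geom, mul_add]
    refine Nat.add_le_add (ih (by omega)) ?_
    rw [← pow_mul, mul_comm r d, pow_mul]
    refine mul_le_pow ?_ hr
    calc 2 ≤ x := hx
      _ = x ^ 1 := (pow_one x).symm
      _ ≤ x ^ d := Nat.pow_le_pow_right (by omega) (by omega)

theorem two_geom_mul_le {x r d : ℕ} (hx : 2 ≤ x) (hr : 2 ≤ r) (hd : 3 ≤ d) (h : r = 2 → 4 ≤ x) :
    2 * r * geom x d ≤ geom (x ^ r) d := by
  induction d, hd using Nat.le_induction with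
  | base =>
    rw [geom_three, geom_three]
    have e : (x ^ 2) ^ r = (x ^ r) ^ 2 := by rw [← pow_mul, ← pow_mul, mul_comm]
    have h4 : 4 ≤ x ^ 2 := by nlinarith
    have h1 : 1 + x ≤ x ^ 2 := by nlinarith
    rcases eq_or_lt_of_le hr with rfl | hr3
    · have hx4 := h rfl
      nlinarith [Nat.mul_le_mul hx4 hx4, Nat.mul_le_mul (Nat.mul_le_mul hx4 hx4) (le_refl (x ^ 2))]
    · have h2 := four_mul_le_pow h4 hr3
      rw [e] at h2
      have h5 := Nat.mul_le_mul (le_refl (2 * r)) h1
      have h6 : 2 * r * (1 + x + x ^ 2) ≤ 4 * r * x ^ 2 := by rw [mul_add (2 * r) (1 + x)]; linarith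
      omega
  | succ d hd ih =>
    rw [geom, geom, Finset.sum_range_succ, Finset.sum_range_succ, ← geom, ← geom, mul_add]
    refine Nat.add_le_add ih ?_
    rw [← pow_mul, mul_comm r d, pow_mul]
    refine two_mul_le_pow ?_ hr
    calc 4 ≤ x ^ 2 := by nlinarith
      _ ≤ x ^ d := Nat.pow_le_pow_right (by omega) (by omega)

variable {d : ℕ} {F : Type*} [Field F] [Fintype F]

theorem inner_scalar_free (hd : 2 ≤ d) (G : GL (Fin d) F) :
    ∀ i, 0 < i → i < orderOf (innDiag d F G) →
      ∀ c : F, (G : Matrix (Fin d) (Fin d) F) ^ i ≠ c • 1 := by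
  intro i h0 hi c hc
  have h1 : innDiag d F G ^ i = 1 := by
    rw [← map_pow, innDiag_eq_one_iff hd]
    exact ⟨c, by rw [Units.val_pow_eq_pow_val, hc]⟩
  exact absurd (Nat.le_of_dvd h0 (orderOf_dvd_of_pow_eq_one h1)) (not_le.2 hi)

theorem field_part (hd : 2 ≤ d) {p f : ℕ} [Fact p.Prime] (hF : Fintype.card F = p ^ f) (hf : 1 ≤ f)
    (g : GL (Fin d) F) (σ : F ≃+* F) :
    orderOf (semilin g σ) ≤ orderOf σ * geom (p ^ (f / orderOf σ)) d := by
  classical
  haveI : Finite (F ≃+* F) := Finite.of_injective (fun τ => (τ : F → F)) DFunLike.coe_injective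
  set r := orderOf σ with hr
  have hr0 : 0 < r := orderOf_pos σ
  obtain ⟨hdvd, hK⟩ := exists_fixed_field hF hf σ hr.symm
  obtain ⟨N, hN, hp⟩ := semilin_pow g σ r
  rw [show σ ^ r = RingEquiv.refl F from pow_orderOf_eq_one σ, ← innDiag_apply] at hp
  set k := orderOf (innDiag d F N)
  have hle : orderOf (semilin g σ) ≤ r * k := by
    refine Nat.le_of_dvd (Nat.mul_pos hr0 (orderOf_pos _)) (orderOf_dvd_of_pow_eq_one ?_)
    rw [pow_mul, hp, pow_orderOf_eq_one]
  refine hle.trans (Nat.mul_le_mul (le_refl r) (le_geom ?_ ?_))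
  · exact Nat.one_lt_pow (Nat.div_pos (Nat.le_of_dvd hf hdvd) hr0).ne' (Fact.out : p.Prime).one_lt
  set χ := Matrix.charpoly (N : Matrix (Fin d) (Fin d) F)
  have hσN : (N : Matrix (Fin d) (Fin d) F).map σ =
      ((g⁻¹ : GL (Fin d) F) : Matrix (Fin d) (Fin d) F) * N * g := by
    have h1 : (g : Matrix (Fin d) (Fin d) F) * (N : Matrix (Fin d) (Fin d) F).map σ = N * g := by
      rw [hN]
      show Descent.normMat (g : Matrix (Fin d) (Fin d) F) σ (r + 1) = _
      rw [Descent.normMat_succ', hr, pow_orderOf_eq_one]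
      congr 1
    rw [mul_assoc, ← h1, ← mul_assoc, Units.inv_mul, one_mul]
  have hfix : ∀ i, σ (χ.coeff i) = χ.coeff i := fun i => by
    have h2 : χ.map σ.toRingHom = χ := by
      rw [← Matrix.charpoly_map]
      show ((N : Matrix (Fin d) (Fin d) F).map σ).charpoly = χ
      rw [hσN, Matrix.charpoly_mul_comm, ← mul_assoc, Units.mul_inv, one_mul]
    conv_rhs => rw [← h2]
    rw [Polynomial.coeff_map]
    rfl
  set L := σ.toRingHom.eqLocusField (RingHom.id F)
  haveI : Fintype L := Fintype.ofFinite L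
  obtain ⟨χ0, hmap, hdeg, hmon⟩ := Polynomial.lifts_and_natDegree_eq_and_monic (f := L.subtype)
    ((Polynomial.lifts_iff_coeff_lifts χ).2 fun i => ⟨⟨χ.coeff i, hfix i⟩, rfl⟩) (Matrix.charpoly_monic _)
  rw [← hK, Nat.card_eq_fintype_card]
  refine PGLOrder.card_mul_le (by omega) L.subtype N χ0 hmon ?_ ?_ k (inner_scalar_free hd N)
  · rw [hdeg, Matrix.charpoly_natDegree_eq_dim, Fintype.card_fin]
  · rw [hmap]
    exact Matrix.aeval_self_charpoly _

theorem succ_le_two_pow (n : ℕ) : n + 4 ≤ 2 ^ (n + 2) := by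
  induction n with
  | zero => norm_num
  | succ n ih =>
    rw [show n + 1 + 2 = n + 2 + 1 by omega, pow_succ]
    omega

theorem two_mul_pred_pow_le {q : ℕ} (hq : 2 ≤ q) : 2 * (q - 1) ^ (q - 1) ≤ q ^ (q - 1) := by
  obtain ⟨s, rfl⟩ := Nat.exists_eq_add_of_le hq
  rw [show 2 + s - 1 = s + 1 by omega, show 2 + s = s + 1 + 1 by omega]
  have key : ∀ a n : ℕ, a ^ (n + 1) + (n + 1) * a ^ n ≤ (a + 1) ^ (n + 1) := by
    intro a n
    induction n with
    | zero => simp
    | succ n ih =>
      rw [pow_succ (a + 1) (n + 1)]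
      calc a ^ (n + 1 + 1) + (n + 1 + 1) * a ^ (n + 1)
          ≤ (a ^ (n + 1) + (n + 1) * a ^ n) * (a + 1) := by ring_nf; omega
        _ ≤ _ := Nat.mul_le_mul ih le_rfl
  calc 2 * (s + 1) ^ (s + 1) = (s + 1) ^ (s + 1) + (s + 1) * (s + 1) ^ s := by ring
    _ ≤ _ := key (s + 1) s

/-- An element conjugate to the transpose-inverse of its image under an involutory field automorphism
has small order modulo scalars. -/
theorem real_part (hd : 3 ≤ d) (h32 : ¬ (d = 3 ∧ Fintype.card F = 2)) (σ : F ≃+* F)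
    (g M : GL (Fin d) F)
    (hM : (g : Matrix (Fin d) (Fin d) F) * (M : Matrix (Fin d) (Fin d) F)ᵀ.map σ *
      ((g⁻¹ : GL (Fin d) F) : Matrix (Fin d) (Fin d) F) = ((M⁻¹ : GL (Fin d) F) : Matrix (Fin d) (Fin d) F)) :
    (Fintype.card F - 1) * (2 * orderOf (innDiag d F M)) ≤ Fintype.card F ^ d - 1 := by
  classical
  haveI : Nonempty (Fin d) := ⟨⟨0, by omega⟩⟩
  set q := Fintype.card F with hq
  have hq2 : 2 ≤ q := Fintype.one_lt_card
  set k := orderOf (innDiag d F M) with hk
  have hfree := inner_scalar_free (by omega) M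
  rw [← hk] at hfree
  set A := (M : Matrix (Fin d) (Fin d) F) with hA
  set μ := minpoly F A
  have hμ : μ.Monic := minpoly.monic (Matrix.isIntegral A)
  have hμ0 : aeval A μ = 0 := minpoly.aeval F A
  have hμdvd : μ ∣ A.charpoly := minpoly.dvd F A (Matrix.aeval_self_charpoly A)
  have hμd : μ.natDegree ≤ d := by
    have := Polynomial.natDegree_le_of_dvd hμdvd (Matrix.charpoly_monic A).ne_zero
    rwa [Matrix.charpoly_natDegree_eq_dim, Fintype.card_fin] at this
  rcases Nat.lt_or_ge μ.natDegree d with hlt | hge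
  · have h := PGLOrder.card_mul_le (d := d) (by omega) (RingHom.id F) M μ hμ (m := d - 1) (by omega)
      (by rw [Polynomial.map_id]; exact hμ0) k hfree
    obtain ⟨e, rfl⟩ : ∃ e, d = e + 1 := ⟨d - 1, by omega⟩
    rw [Nat.add_sub_cancel, ← hq] at h
    have h1 : 2 * q ^ e ≤ q ^ (e + 1) := by
      rw [pow_succ, mul_comm (q ^ e)]
      exact Nat.mul_le_mul_right _ hq2
    have h2 : (q - 1) * (2 * k) = 2 * ((q - 1) * k) := by ring
    omega
  have hμid : aeval A (μ.map (RingHom.id F)) = 0 := by rw [Polynomial.map_id]; exact hμ0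
  set A' := ((M⁻¹ : GL (Fin d) F) : Matrix (Fin d) (Fin d) F) with hA'
  set G := (g : Matrix (Fin d) (Fin d) F) with hG
  set G' := ((g⁻¹ : GL (Fin d) F) : Matrix (Fin d) (Fin d) F) with hG'
  have hAA' : A * A' = 1 := M.mul_inv
  have hGG' : G * G' = 1 := g.mul_inv
  have hG'G : G' * G = 1 := g.inv_mul
  have hpos : 0 < k := orderOf_pos _
  obtain ⟨s, hs⟩ : ∃ s : F, A ^ k = s • 1 := by
    obtain ⟨s, hs⟩ := (innDiag_eq_one_iff (by omega) (M ^ k)).1 (by rw [map_pow, hk, pow_orderOf_eq_one])
    exact ⟨s, by rw [← hs, Units.val_pow_eq_pow_val]⟩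
  have hs0 : s ≠ 0 := by
    rintro rfl
    rw [zero_smul] at hs
    exact (M.isUnit.pow k).ne_zero hs
  by_cases hex : ∃ c : F, c ≠ 0 ∧ IsUnit (A + c • 1)
  · obtain ⟨c, hc, hB⟩ := hex
    set B := A + c • (1 : Matrix (Fin d) (Fin d) F) with hBdef
    have hno : ∀ (a : F) (i : ℕ), B ≠ a • A ^ i := by
      intro a i he
      have hpow : ∀ l : ℕ, G * (A ^ l)ᵀ.map σ * G' = A' ^ l := by
        intro l
        induction l with
        | zero => rw [pow_zero, pow_zero, Matrix.transpose_one, Matrix.map_one _ (map_zero σ) (map_one σ),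
            mul_one, hGG']
        | succ l ih =>
          rw [pow_succ, Matrix.transpose_mul, Matrix.map_mul, pow_succ', ← ih, ← hM]
          simp only [mul_assoc]
          rw [← mul_assoc G' G, hG'G, one_mul]
      have hsc : ∀ (a : F) (X : Matrix (Fin d) (Fin d) F), (a • X).map σ = σ a • X.map σ := fun a X =>
        Matrix.ext fun i j => map_mul σ a (X i j)
      have h2 := congrArg (fun X => G * Xᵀ.map σ * G') he
      simp only [hBdef, Matrix.transpose_add, Matrix.map_add _ (map_add σ), Matrix.transpose_smul, hsc,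
        mul_add, add_mul, mul_smul_comm, smul_mul_assoc, hM, hpow, Matrix.transpose_one,
        Matrix.map_one _ (map_zero σ) (map_one σ), mul_one, hGG'] at h2
      have h3 : A * (B * (A' + σ c • 1)) = (a * σ a) • A := by
        have h1 : A ^ i * A' ^ i = 1 := by
          rw [← Units.val_pow_eq_pow_val, ← Units.val_pow_eq_pow_val, ← Units.val_mul,
            inv_pow, mul_inv_cancel]
          rfl
        rw [he, h2]
        simp only [mul_smul_comm, smul_mul_assoc, h1, mul_one, smul_smul, mul_comm (σ a) a]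
      set P : F[X] := C (σ c) * X ^ 2 + C (1 + c * σ c - a * σ a) * X + C c with hP
      have hPdeg : P.natDegree = 2 := natDegree_quadratic (by simpa using hc)
      have hP0 : aeval A P = 0 := by
        have hexp : A * (B * (A' + σ c • 1)) = A + σ c • A ^ 2 + c • 1 + (c * σ c) • A := by
          simp only [hBdef, mul_add, add_mul, smul_mul_assoc, mul_smul_comm, one_mul, mul_one, hAA', sq,
            smul_smul, smul_add, ← mul_assoc, mul_comm (σ c) c]
          abel
        rw [hP]
        simp only [map_add, map_mul, aeval_C, map_pow, aeval_X, Algebra.algebraMap_eq_smul_one,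
          smul_mul_assoc, one_mul]
        rw [hexp] at h3
        rw [sub_smul, add_smul, one_smul, ← h3]
        abel
      have hne : P ≠ 0 := fun h0 => by rw [h0, natDegree_zero] at hPdeg; omega
      have := Polynomial.natDegree_le_of_dvd (minpoly.dvd F A hP0) hne
      change μ.natDegree ≤ _ at this
      omega
    let P : Fˣ × Fin k × Bool → F[X] := fun x =>
      (x.1 : F) • (X ^ (x.2.1 : ℕ) * if x.2.2 then X + C c else 1)
    have hev : ∀ x, aeval A ((P x).map (RingHom.id F)) =
        (x.1 : F) • (A ^ (x.2.1 : ℕ) * if x.2.2 then B else 1) := fun x => by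
      rw [Polynomial.map_id]
      rcases x with ⟨a, i, b⟩
      cases b <;> simp [P, B, Algebra.algebraMap_eq_smul_one]
    have hmix : ∀ (a b : Fˣ) (u v : Fin k), (a : F) • A ^ (u : ℕ) ≠ (b : F) • (A ^ (v : ℕ) * B) := by
      intro a b u v he
      refine hno ((b : F)⁻¹ * s⁻¹ * a) (k - v + u) ?_
      have h4 := congrArg (fun X => ((b : F)⁻¹ * s⁻¹) • (A ^ (k - (v : ℕ)) * X)) he
      simp only [mul_smul_comm, ← mul_assoc, ← pow_add, Nat.sub_add_cancel v.2.le, hs, smul_mul_assoc,
        one_mul, smul_smul] at h4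
      rw [h4]
      conv_lhs => rw [← one_smul F B]
      congr 1
      field_simp
    have hinj : Function.Injective fun x => aeval A ((P x).map (RingHom.id F)) := by
      rintro ⟨a, u, e⟩ ⟨b, v, e'⟩ h
      simp only [hev] at h
      cases e <;> cases e' <;>
        simp only [Bool.false_eq_true, if_false, if_true, mul_one] at h
      · obtain ⟨h1, h2⟩ := PGLOrder.smul_pow_inj (by omega) M hfree b.ne_zero a.ne_zero u.2 v.2 h
        exact Prod.ext (Units.ext h2) (Prod.ext (Fin.ext h1) rfl)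
      · exact absurd h (hmix a b u v)
      · exact absurd h.symm (hmix b a v u)
      · rw [← smul_mul_assoc, ← smul_mul_assoc] at h
        obtain ⟨h1, h2⟩ := PGLOrder.smul_pow_inj (by omega) M hfree b.ne_zero a.ne_zero u.2 v.2
          (hB.mul_right_cancel h)
        exact Prod.ext (Units.ext h2) (Prod.ext (Fin.ext h1) rfl)
    have hne : ∀ x, aeval A ((P x).map (RingHom.id F)) ≠ 0 := fun x => by
      rw [hev]
      refine smul_ne_zero x.1.ne_zero (IsUnit.ne_zero (IsUnit.mul (M.isUnit.pow _) ?_))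
      split
      · exact hB
      · exact isUnit_one
    have h := PGLOrder.card_family_le (m := d) (by omega) (RingHom.id F) A hμ hμid hμd P hinj hne
    rw [Fintype.card_prod, Fintype.card_prod, Fintype.card_fin, Fintype.card_bool, Fintype.card_units,
      ← hq, mul_comm k 2] at h
    exact h
  · push Not at hex
    have hroot : ∀ c : F, c ≠ 0 → μ.IsRoot c := by
      intro c hc
      by_contra hroot
      refine hex (-c) (by simpa using hc) ?_
      have hcop : IsCoprime (X - C c) μ :=
        (irreducible_X_sub_C c).coprime_iff_not_dvd.2 fun h => hroot (dvd_iff_isRoot.1 h)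
      obtain ⟨u, v, huv⟩ := hcop
      have h5 := congrArg (aeval A) huv
      rw [map_add, map_mul, map_mul, hμ0, mul_zero, add_zero, map_one] at h5
      rw [show A + -c • 1 = aeval A (X - C c) by
        simp [Algebra.algebraMap_eq_smul_one, sub_eq_add_neg]]
      exact ⟨⟨aeval A (X - C c), aeval A u, mul_eq_one_comm.1 h5, h5⟩, rfl⟩
    have hsd : q - 1 ≤ d := by
      have hsub : ((Finset.univ : Finset F).erase 0).val ⊆ μ.roots := fun c hc => by
        rw [mem_roots hμ.ne_zero]
        exact hroot c (Finset.ne_of_mem_erase hc)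
      have := Polynomial.card_le_degree_of_subset_roots hsub
      rw [Finset.card_erase_of_mem (Finset.mem_univ _), Finset.card_univ, ← hq] at this
      omega
    let P : Fˣ × Fin k → F[X] := fun x => ((x.1 : F) • X ^ (x.2 : ℕ)) %ₘ μ
    have hPdeg : ∀ x, (P x).natDegree < d := fun x =>
      PGLOrder.natDegree_modByMonic_lt' (by omega) (RingHom.id F) A hμ hμid hμd _
    have hPev : ∀ x, aeval A (P x) = (x.1 : F) • A ^ (x.2 : ℕ) := fun x => by
      have := PGLOrder.aeval_map_modByMonic (RingHom.id F) A μ hμid ((x.1 : F) • X ^ (x.2 : ℕ))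
      rw [Polynomial.map_id, Polynomial.map_id] at this
      rw [this]
      simp
    have hPc : ∀ x (c : F), c ≠ 0 → (P x).eval c = (x.1 : F) * c ^ (x.2 : ℕ) := fun x c hc => by
      show (((x.1 : F) • X ^ (x.2 : ℕ)) %ₘ μ).eval c = _
      rw [modByMonic_eq_sub_mul_div _ μ, eval_sub, eval_mul, hroot c hc]
      simp
    have hval : ∀ (x : Fˣ × Fin k) (c : Fˣ), (P x).eval (c : F) ≠ 0 := fun x c => by
      rw [hPc x c c.ne_zero]
      exact mul_ne_zero x.1.ne_zero (pow_ne_zero _ c.ne_zero)
    let r : Fˣ × Fin k → (Fin (d - (q - 1)) → F) × (Fˣ → Fˣ) := fun x =>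
      (fun l => (P x).coeff (q - 1 + l), fun c => Units.mk0 _ (hval x c))
    have hr : Function.Injective r := by
      intro x y h
      simp only [r, Prod.mk.injEq] at h
      have hdiff : P x - P y = 0 := by
        apply Polynomial.eq_zero_of_natDegree_lt_card_of_eval_eq_zero (P x - P y) (f := fun c : Fˣ => (c : F))
          Units.val_injective
        · intro c
          have := congrArg Units.val (congrFun h.2 c)
          simp only [Units.val_mk0] at this
          rw [eval_sub, this, sub_self]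
        · rw [Fintype.card_units, ← hq]
          rw [Nat.lt_iff_add_one_le]
          refine Nat.succ_le_of_lt ?_
          by_contra hcon
          push Not at hcon
          set l := (P x - P y).natDegree with hl
          have hl2 : l < d := by
            refine lt_of_le_of_lt (natDegree_sub_le _ _) (max_lt (hPdeg x) (hPdeg y))
          have h6 := congrFun h.1 ⟨l - (q - 1), by omega⟩
          rw [show q - 1 + (l - (q - 1)) = l by omega, ← sub_eq_zero, ← coeff_sub] at h6
          have h7 : P x - P y = 0 := leadingCoeff_eq_zero.1 h6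
          rw [h7, natDegree_zero] at hl
          omega
      have he := congrArg (aeval A) (sub_eq_zero.1 hdiff)
      rw [hPev, hPev] at he
      obtain ⟨h1, h2⟩ := PGLOrder.smul_pow_inj (by omega) M hfree y.1.ne_zero x.1.ne_zero x.2.2 y.2.2 he
      exact Prod.ext (Units.ext h2) (Fin.ext h1)
    have hcard := Fintype.card_le_of_injective r hr
    simp only [Fintype.card_prod, Fintype.card_fun, Fintype.card_fin, Fintype.card_units, ← hq] at hcard
    have hbound : (q - 1) * (2 * k) ≤ q ^ d := by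
      calc (q - 1) * (2 * k) = 2 * ((q - 1) * k) := by ring
        _ ≤ 2 * (q ^ (d - (q - 1)) * (q - 1) ^ (q - 1)) := Nat.mul_le_mul_left 2 hcard
        _ = q ^ (d - (q - 1)) * (2 * (q - 1) ^ (q - 1)) := by ring
        _ ≤ q ^ (d - (q - 1)) * q ^ (q - 1) := Nat.mul_le_mul_left _ (two_mul_pred_pow_le hq2)
        _ = q ^ d := by rw [← pow_add, Nat.sub_add_cancel hsd]
    rcases Nat.lt_or_ge ((q - 1) * (2 * k)) (q ^ d) with hl | hl
    · omega
    have heq := le_antisymm hbound hl
    rcases eq_or_lt_of_le hq2 with hq2' | hq3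
    · exfalso
      rw [← hq2'] at heq
      have hd4 : 4 ≤ d := by
        rcases eq_or_lt_of_le hd with h3 | h4
        · exact absurd ⟨h3.symm, hq2'.symm⟩ h32
        · exact h4
      obtain ⟨e, rfl⟩ : ∃ e, d = e + 1 := ⟨d - 1, by omega⟩
      have hke : k = 2 ^ e := by rw [pow_succ] at heq; omega
      haveI : Fact (Nat.Prime 2) := ⟨Nat.prime_two⟩
      haveI : CharP F 2 := charP_of_card (p := 2) (f := 1) (by rw [pow_one, ← hq, hq2']) le_rfl
      have hs1 : s = 1 := by
        have hu : (Units.mk0 s hs0) = 1 := Subsingleton.elim (h := Fintype.card_le_one_iff_subsingleton.1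
          (by rw [Fintype.card_units, ← hq, ← hq2'])) _ _
        simpa using congrArg Units.val hu
      have hMk : M ^ k = 1 := Units.ext (by rw [Units.val_pow_eq_pow_val, Units.val_one, ← hA, hs, hs1, one_smul])
      have hdvd1 : orderOf M ∣ 2 ^ e := hke ▸ orderOf_dvd_of_pow_eq_one hMk
      have hdvd2 := GLOrders.char_pow_dvd (p := 2) M hdvd1
      have hdvd3 : k ∣ orderOf M := hk ▸ orderOf_map_dvd (innDiag (e + 1) F) M
      have h8 := hdvd3.trans hdvd2
      rw [hke] at h8
      have h9 : e ≤ Nat.clog 2 (e + 1) := (Nat.pow_dvd_pow_iff_le_right (by norm_num)).1 h8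
      have h10 : Nat.clog 2 (e + 1) ≤ e - 1 := by
        refine Nat.clog_le_of_le_pow ?_
        obtain ⟨e', rfl⟩ : ∃ e', e = e' + 3 := ⟨e - 3, by omega⟩
        rw [show e' + 3 - 1 = e' + 2 by omega]
        exact succ_le_two_pow e'
      omega
    · exfalso
      have hdvd : q - 1 ∣ q ^ d := ⟨2 * k, heq.symm⟩
      have hcop : Nat.Coprime (q - 1) (q ^ d) := by
        refine Nat.Coprime.pow_right _ ?_
        obtain ⟨z, hz⟩ : ∃ z, q = z + 1 := ⟨q - 1, by omega⟩
        rw [hz, Nat.add_sub_cancel]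
        simp
      have := Nat.eq_one_of_dvd_one (hcop.dvd_of_dvd_mul_left (m := q ^ d) (n := 1) (by rw [mul_one]; exact hdvd))
      omega

theorem aut_bound {p f : ℕ} [Fact p.Prime] (hF : Fintype.card F = p ^ f) (hf : 1 ≤ f) (hd : 2 ≤ d)
    (h24 : ¬ (d = 2 ∧ Fintype.card F = 4)) (h32 : ¬ (d = 3 ∧ Fintype.card F = 2))
    (φ : MulAut (PSL d F)) : (Fintype.card F - 1) * orderOf φ ≤ Fintype.card F ^ d - 1 := by
  classical
  haveI : Finite (F ≃+* F) := Finite.of_injective (fun τ => (τ : F → F)) DFunLike.coe_injective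
  have hp := (Fact.out : p.Prime)
  have hq1 : 1 ≤ Fintype.card F := Fintype.card_pos
  rw [← sub_one_mul_geom _ d hq1]
  obtain ⟨g, σ, e, rfl, he⟩ := exists_mkAut hd φ
  have hx : ∀ τ : F ≃+* F, orderOf τ ∣ f ∧ 2 ≤ p ^ (f / orderOf τ) ∧
      Fintype.card F = (p ^ (f / orderOf τ)) ^ orderOf τ := by
    intro τ
    obtain ⟨hdvd, -⟩ := exists_fixed_field hF hf τ rfl
    refine ⟨hdvd, Nat.one_lt_pow (Nat.div_pos (Nat.le_of_dvd hf hdvd) (orderOf_pos τ)).ne' hp.one_lt, ?_⟩
    rw [← pow_mul, Nat.div_mul_cancel hdvd, hF]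
  cases e with
  | false =>
    rw [mkAut_false]
    refine Nat.mul_le_mul_left _ ((field_part hd hF hf g σ).trans ?_)
    obtain ⟨-, h2, hcard⟩ := hx σ
    conv_rhs => rw [hcard]
    refine geom_mul_le h2 (orderOf_pos σ) hd fun hd2 hh => h24 ⟨hd2, ?_⟩
    rw [hcard, hh.1, hh.2]
    norm_num
  | true =>
    have hd3 : 3 ≤ d := by
      rcases Nat.lt_or_ge d 3 with h | h
      · exact absurd (he (by omega)) (by decide)
      · exact h
    set M := g * glMap σ (glIota g)
    have hsq : mkAut g σ true ^ 2 = semilin M (σ * σ) := by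
      rw [sq, mkAut_mul, if_pos rfl, Bool.xor_self, mkAut_false]
      rfl
    have hle : orderOf (mkAut g σ true) ≤ 2 * orderOf (semilin M (σ * σ)) :=
      Nat.le_of_dvd (Nat.mul_pos two_pos (orderOf_pos _))
        (orderOf_dvd_of_pow_eq_one (by rw [pow_mul, hsq, pow_orderOf_eq_one]))
    refine le_trans (Nat.mul_le_mul_left _ hle) ?_
    by_cases hσ : σ * σ = 1
    · rw [hσ, show (1 : F ≃+* F) = RingEquiv.refl F from rfl, ← innDiag_apply, sub_one_mul_geom _ d hq1]
      refine real_part hd3 h32 σ g M ?_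
      have hinv : ∀ a, σ (σ a) = a := fun a => RingEquiv.congr_fun hσ a
      set G := (g : Matrix (Fin d) (Fin d) F)
      set G' := ((g⁻¹ : GL (Fin d) F) : Matrix (Fin d) (Fin d) F)
      have h1 : (M : Matrix (Fin d) (Fin d) F) = G * G'ᵀ.map σ := rfl
      have h2 : ((M⁻¹ : GL (Fin d) F) : Matrix (Fin d) (Fin d) F) = Gᵀ.map σ * G' := by
        rw [_root_.mul_inv_rev, ← map_inv, Units.val_mul, coe_glMap]
        rfl
      have e1 : (G'.map σ).map σ = G' := Matrix.ext fun i j => hinv _
      rw [h1, h2, Matrix.transpose_mul, Matrix.map_mul]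
      simp only [Matrix.transpose_map, Matrix.transpose_transpose, e1]
      rw [← mul_assoc, Units.mul_inv, one_mul]
    · refine Nat.mul_le_mul_left _ ?_
      have h := field_part hd hF hf M (σ * σ)
      refine le_trans (Nat.mul_le_mul_left 2 h) ?_
      obtain ⟨-, h2, hcard⟩ := hx (σ * σ)
      rw [← mul_assoc]
      conv_rhs => rw [hcard]
      have hne1 : orderOf (σ * σ) ≠ 1 := fun h1 => hσ (orderOf_eq_one_iff.1 h1)
      have hpos := orderOf_pos (σ * σ)
      refine two_geom_mul_le h2 (by omega) hd3 fun h2' => ?_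
      rw [h2']
      obtain ⟨hdvd, -, -⟩ := hx σ
      have h4 : orderOf σ = 4 := by
        have e := orderOf_pow σ (n := 2)
        rw [sq, h2'] at e
        have hcases : Nat.gcd (orderOf σ) 2 = 1 ∨ Nat.gcd (orderOf σ) 2 = 2 :=
          (Nat.dvd_prime Nat.prime_two).1 (Nat.gcd_dvd_right _ _)
        rcases hcases with hg | hg <;> rw [hg] at e
        · exfalso
          rw [Nat.div_one] at e
          exact hσ (by rw [← sq, e, pow_orderOf_eq_one])
        · have := Nat.gcd_dvd_left (orderOf σ) 2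
          rw [hg] at this
          omega
      rw [h4] at hdvd
      calc 4 ≤ p ^ 2 := by nlinarith [hp.two_le]
        _ ≤ p ^ (f / 2) := Nat.pow_le_pow_right hp.pos (by omega)

end CfsgLib.Known.PSLMaxOrder
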