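import Cfsg.Agent.Lib.Known.PSLTwoEleven.Check
import Cfsg.Agent.Lib.Classical.SL2TracePSL
import Cfsg.Agent.Lib.Classical.SmallIso
import Cfsg.Agent.Lib.Recog.SimpleSixty

/-!
# The two classes of icosahedral subgroups of `PSL(2,11)`

* `iso_alt_five_of_generators`, `exists_generators`: `A₅` by generators of orders 2, 3, 5
* `H j`, `card_H`, `index_H`, `nonempty_iso_H`, `exists_conj_ne`, `exists_conj_eq`, `not_conj`
-/

set_option autoImplicit false
set_option linter.all false

namespace CfsgLib.Known.PSL11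

open CfsgLib.Perm.MatrixClosure CfsgLib.Classical.Trace
open scoped MatrixGroups Pointwise

section Abstract

variable {G : Type*} [Group G] [Finite G]

/-- A group of order 60 with a generating pair of type `(2,3,5)` is `A₅`. -/
theorem iso_alt_five_of_generators (h : Nat.card G = 60) {a b : G} (ha : a ^ 2 = 1) (hb : b ^ 3 = 1)
    (hab : (a * b) ^ 5 = 1) (hgen : Subgroup.closure ({a, b} : Set G) = ⊤) :
    Nonempty (G ≃* alternatingGroup (Fin 5)) := by
  have : Nontrivial G := Finite.one_lt_card_iff_nontrivial.1 (by omega)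
  have hperf : commutator G = ⊤ := by
    rw [← Abelianization.ker_of, MonoidHom.ker_eq_top_iff]
    refine MonoidHom.eq_of_eqOn_dense hgen ?_
    have hA : Abelianization.of a ^ 2 = 1 := by rw [← map_pow, ha, map_one]
    have hB : Abelianization.of b ^ 3 = 1 := by rw [← map_pow, hb, map_one]
    have hAB : Abelianization.of a ^ 5 * Abelianization.of b ^ 5 = 1 := by
      rw [← mul_pow, ← map_mul, ← map_pow, hab, map_one]
    generalize hAd : Abelianization.of a = A at hA hAB
    generalize hBd : Abelianization.of b = B at hB hAB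
    have h1 : A * B ^ 2 = 1 := by
      rw [show A ^ 5 = (A ^ 2) ^ 2 * A by rw [← pow_mul, ← pow_succ],
        show B ^ 5 = B ^ 3 * B ^ 2 by rw [← pow_add], hA, hB, one_pow, one_mul, one_mul] at hAB
      exact hAB
    have hB1 : B = 1 := by
      have h2 : (A * B ^ 2) ^ 2 = 1 := by rw [h1, one_pow]
      rw [mul_pow, hA, one_mul, ← pow_mul] at h2
      rw [← h2, show 2 * 2 = 3 + 1 from rfl, pow_add, hB, one_mul, pow_one]
    rw [hB1, one_pow, mul_one] at h1
    intro x hx
    rcases hx with rfl | rfl <;> simp [hAd, hBd, h1, hB1]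
  have hns : ¬ Group.IsSolvable G := fun hs => by
    have := Group.IsSolvable.commutator_lt_top_of_nontrivial (G := G)
    exact this.ne hperf
  have : IsSimpleGroup G := by
    refine ⟨fun N hN => ?_⟩
    by_contra hc
    push Not at hc
    obtain ⟨hb', ht⟩ := hc
    apply hns
    rw [Group.isSolvable_iff_subgroup_quotient N]
    have hm := N.card_mul_index
    rw [h] at hm
    refine ⟨CfsgLib.Recog.Sixty.isSolvable_of_dvd_sixty ⟨_, hm.symm⟩ fun e => ht (Subgroup.eq_top_of_card_eq N (e.trans h.symm)),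
      CfsgLib.Recog.Sixty.isSolvable_of_dvd_sixty (by
        rw [← Subgroup.index_eq_card]; exact ⟨_, hm.symm.trans (mul_comm _ _)⟩) fun e => hb' ?_⟩
    rw [← Subgroup.index_eq_card] at e
    rw [e] at hm
    exact Subgroup.card_eq_one.1 (by omega)
  exact CfsgLib.Recog.Sixty.iso_alt_five h

/-- `A₅` has a generating pair of type `(2,3,5)`. -/
theorem exists_generators {L : Subgroup G} (hL : Nonempty (L ≃* alternatingGroup (Fin 5))) :
    Nat.card L = 60 ∧ ∃ a b : G, L = Subgroup.closure {a, b} ∧ a ^ 2 = 1 ∧ a ≠ 1 ∧ b ^ 3 = 1 ∧ b ≠ 1 ∧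
      (a * b) ^ 5 = 1 := by
  obtain ⟨e⟩ := hL
  have hA : Nat.card (alternatingGroup (Fin 5)) = 60 := by rw [Nat.card_eq_fintype_card]; decide
  refine ⟨(Nat.card_congr e.toEquiv).trans hA, ?_⟩
  set a : alternatingGroup (Fin 5) := ⟨Equiv.swap 0 1 * Equiv.swap 2 3, Equiv.Perm.mem_alternatingGroup.mpr (by decide +kernel)⟩ with ha
  set b : alternatingGroup (Fin 5) := ⟨Equiv.swap 0 2 * Equiv.swap 2 4, Equiv.Perm.mem_alternatingGroup.mpr (by decide +kernel)⟩ with hb
  have f : a ^ 2 = 1 ∧ a ≠ 1 ∧ b ^ 3 = 1 ∧ b ≠ 1 ∧ (a * b) ^ 5 = 1 ∧ a * b ≠ 1 := by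
    rw [ha, hb]; decide +kernel
  obtain ⟨f1, f2, f3, f4, f5, f6⟩ := f
  have htop : Subgroup.closure ({a, b} : Set _) = ⊤ := by
    set K := Subgroup.closure ({a, b} : Set (alternatingGroup (Fin 5))) with hK
    have haK : a ∈ K := Subgroup.subset_closure (by simp)
    have hbK : b ∈ K := Subgroup.subset_closure (by simp)
    haveI := Fact.mk Nat.prime_two
    haveI := Fact.mk Nat.prime_three
    haveI := Fact.mk Nat.prime_five
    have d : ∀ x ∈ K, orderOf x ∣ Nat.card K := fun x hx => by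
      rw [← Subgroup.orderOf_mk (H := K) x hx]; exact orderOf_dvd_natCard _
    have d2 : 2 ∣ Nat.card K := (orderOf_eq_prime f1 f2).symm.dvd.trans (d a haK)
    have d3 : 3 ∣ Nat.card K := (orderOf_eq_prime f3 f4).symm.dvd.trans (d b hbK)
    have d5 : 5 ∣ Nat.card K := (orderOf_eq_prime f5 f6).symm.dvd.trans (d _ (mul_mem haK hbK))
    have hm := K.card_mul_index
    rw [hA] at hm
    have d30 : 30 ∣ Nat.card K := by omega
    obtain ⟨c, hc⟩ := d30
    rw [hc] at hm
    by_contra hne
    have hi : K.index ≠ 1 := fun h1 => hne (Subgroup.index_eq_one.1 h1)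
    have hc1 : c = 1 := by
      generalize K.index = i at hm hi
      rcases c with _ | _ | c
      · simp at hm
      · rfl
      · exfalso
        rcases i with _ | _ | i
        · simp at hm
        · exact hi rfl
        · nlinarith
    rw [hc1] at hm hc
    have hn : K.Normal := Subgroup.normal_of_index_eq_two (by omega)
    haveI : IsSimpleGroup (alternatingGroup (Fin 5)) := alternatingGroup.isSimpleGroup_five
    rcases hn.eq_bot_or_eq_top with h0 | h0
    · rw [h0, Subgroup.mem_bot] at haK; exact f2 haK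
    · exact hne h0
  refine ⟨e.symm a, e.symm b, ?_, ?_, ?_, ?_, ?_, ?_⟩
  · conv_lhs => rw [← L.range_subtype, MonoidHom.range_eq_map,
      ← Subgroup.map_top_of_surjective (e.symm : alternatingGroup (Fin 5) →* L) e.symm.surjective, ← htop,
      Subgroup.map_map, MonoidHom.map_closure, Set.image_pair]
    rfl
  · rw [← Subgroup.coe_pow, ← map_pow, f1, map_one, Subgroup.coe_one]
  · simpa using f2
  · rw [← Subgroup.coe_pow, ← map_pow, f3, map_one, Subgroup.coe_one]
  · simpa using f4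
  · rw [← Subgroup.coe_mul, ← map_mul, ← Subgroup.coe_pow, ← map_pow, f5, map_one, Subgroup.coe_one]

end Abstract

instance fact11 : Fact (Nat.Prime 11) := ⟨by norm_num⟩

/-- `SL(2,11)`. -/
abbrev S11 := SL(2, ZMod 11)

/-- `PSL(2,11)`. -/
abbrev P11 := Matrix.ProjectiveSpecialLinearGroup (Fin 2) (ZMod 11)

theorem detOk_iff {y : M4} : detOk y = true ↔ (toMat 11 y).det = 1 := by
  obtain ⟨a, b, c, d⟩ := y
  have hle : b * c % 11 ≤ a * d + 11 * 11 := le_trans (Nat.mod_lt _ (by norm_num)).le (by omega)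
  simp only [detOk, beq_iff_eq]
  rw [show ((a * d + 11 * 11 - b * c % 11) % 11 = 1) = ((a * d + 11 * 11 - b * c % 11) % 11 = 1 % 11) from rfl,
    ← ZMod.natCast_eq_natCast_iff', Nat.cast_sub hle, ZMod.natCast_mod]
  simp [toMat, Matrix.det_fin_two, show (121 : ZMod 11) = 0 by decide, show (11 : ZMod 11) = 0 from ZMod.natCast_self 11]

/-- The element with given entries. -/
def el (y : M4) (h : detOk y = true) : S11 := ⟨toMat 11 y, detOk_iff.1 h⟩

theorem detOk_J : detOk J = true := by decide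

theorem inv4_spec {y : M4} (hr : reduced 11 y = true) (h : detOk y = true) :
    (((el y h)⁻¹ : S11) : Matrix (Fin 2) (Fin 2) (ZMod 11)) = toMat 11 (inv4 y) := by
  obtain ⟨a, b, c, d⟩ := y
  simp only [reduced, Bool.and_eq_true, decide_eq_true_eq] at hr
  rw [Matrix.SpecialLinearGroup.coe_inv, Matrix.adjugate_fin_two]
  simp [el, toMat, inv4, ZMod.natCast_mod, Nat.cast_sub (show b ≤ 11 by omega),
    Nat.cast_sub (show c ≤ 11 by omega), show (11 : ZMod 11) = 0 from ZMod.natCast_self 11]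

theorem conj4_spec {g : M4} (hr : reduced 11 g = true) (h : detOk g = true) {x : S11} {y : M4}
    (hx : (x : Matrix (Fin 2) (Fin 2) (ZMod 11)) = toMat 11 y) :
    (((el g h)⁻¹ * x * el g h : S11) : Matrix (Fin 2) (Fin 2) (ZMod 11)) = toMat 11 (conj4 g y) := by
  rw [Matrix.SpecialLinearGroup.coe_mul, Matrix.SpecialLinearGroup.coe_mul, inv4_spec hr h, hx, conj4,
    toMat_mul4, toMat_mul4]
  rfl

theorem exists_entries (x : S11) : ∃ y : M4, reduced 11 y = true ∧ detOk y = true ∧
    (x : Matrix (Fin 2) (Fin 2) (ZMod 11)) = toMat 11 y := by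
  set M := (x : Matrix (Fin 2) (Fin 2) (ZMod 11)) with hM
  have e : M = toMat 11 ((M 0 0).val, (M 0 1).val, (M 1 0).val, (M 1 1).val) := by
    ext i j
    fin_cases i <;> fin_cases j <;> simp [toMat]
  refine ⟨_, ?_, ?_, e⟩
  · simp [reduced, ZMod.val_lt]
  · rw [detOk_iff, ← e]
    exact x.2

theorem reduced_mul4 (x y : M4) : reduced 11 (mul4 11 x y) = true := by
  obtain ⟨a, b, c, d⟩ := x
  obtain ⟨a', b', c', d'⟩ := y
  simp [reduced, mul4, Nat.mod_lt]

theorem mk_eq_one_iff_pm {x : S11} {y : M4} (hr : reduced 11 y = true)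
    (hx : (x : Matrix (Fin 2) (Fin 2) (ZMod 11)) = toMat 11 y) :
    (QuotientGroup.mk x : P11) = 1 ↔ isPM y = true := by
  rw [mk_eq_one_iff, isPM, Bool.or_eq_true, beq_iff_eq, beq_iff_eq]
  constructor
  · rintro ⟨h1, h2, h3⟩
    have hd := det_eq x
    rw [h1, h2, ← h3] at hd
    rcases mul_self_eq_one_iff.1 (show _ * _ = (1 : ZMod 11) by linear_combination hd) with h | h
    · left
      refine toMat_injective 11 hr (by decide) ?_
      rw [← hx]
      ext i j
      fin_cases i <;> fin_cases j <;> simp [toMat, h1, h2, ← h3, h]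
    · right
      refine toMat_injective 11 hr (by decide) ?_
      rw [← hx]
      ext i j
      fin_cases i <;> fin_cases j <;> simp [toMat, h1, h2, ← h3, h] <;> decide
  · rintro (rfl | rfl) <;> simp [IsScalar, hx, toMat]

/-- The generators of the two groups. -/
theorem checks (j : Bool) :
    closedList 11 [J, gen j] (grp j) = true ∧ (grp j).length = 120 ∧ detOk (gen j) = true ∧
    (10, 0, 0, 10) ∈ grp j ∧ isPM (mul4 11 (mul4 11 (gen j) (gen j)) (gen j)) = true ∧
    isPM (gen j) = false ∧ isPM (pow5 (mul4 11 J (gen j))) = true ∧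
    isPM (mul4 11 J (gen j)) = false ∧ conj4 (1, 1, 0, 1) J ∉ grp j := by
  have h := groupCheck_eq j
  simp only [groupCheck, Bool.and_eq_true, Bool.not_eq_true', beq_iff_eq, List.contains_iff_mem,
    List.contains_eq_mem, decide_eq_true_eq, decide_eq_false_iff_not] at h
  obtain ⟨⟨⟨⟨⟨⟨⟨⟨h1, h2⟩, h3⟩, h4⟩, h5⟩, h6⟩, h7⟩, h8⟩, h9⟩ := h
  exact ⟨h1, h2, h3, h4, h5, h6, h7, h8, h9⟩

/-- The two groups in `SL(2,11)`. -/
def S (j : Bool) : Subgroup S11 := Subgroup.closure {el J detOk_J, el (gen j) (checks j).2.2.1}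

/-- The two groups in `PSL(2,11)`. -/
def H (j : Bool) : Subgroup P11 := (S j).map (QuotientGroup.mk' _)

theorem toGL_S (j : Bool) : (S j).map (Matrix.SpecialLinearGroup.toGL : S11 →* _) =
    Subgroup.closure {Matrix.SpecialLinearGroup.toGL (el J detOk_J),
      Matrix.SpecialLinearGroup.toGL (el (gen j) (checks j).2.2.1)} := by
  rw [S, MonoidHom.map_closure, Set.image_pair]

theorem gens_spec (j : Bool) :
    (∀ s ∈ ({Matrix.SpecialLinearGroup.toGL (el J detOk_J), Matrix.SpecialLinearGroup.toGL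
        (el (gen j) (checks j).2.2.1)} : Set (Matrix.GeneralLinearGroup (Fin 2) (ZMod 11))),
      ∃ g ∈ [J, gen j], (s : Matrix (Fin 2) (Fin 2) (ZMod 11)) = toMat 11 g) ∧
    ∀ g ∈ [J, gen j], ∃ s ∈ ({Matrix.SpecialLinearGroup.toGL (el J detOk_J), Matrix.SpecialLinearGroup.toGL
        (el (gen j) (checks j).2.2.1)} : Set (Matrix.GeneralLinearGroup (Fin 2) (ZMod 11))),
      (s : Matrix (Fin 2) (Fin 2) (ZMod 11)) = toMat 11 g := by
  constructor
  · rintro s (rfl | rfl)
    · exact ⟨J, by simp, rfl⟩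
    · exact ⟨gen j, by simp, rfl⟩
  · intro g hg
    rcases List.mem_pair.1 hg with rfl | rfl
    · exact ⟨_, Or.inl rfl, rfl⟩
    · exact ⟨_, Or.inr rfl, rfl⟩

theorem mem_S {j : Bool} {x : S11} :
    x ∈ S j ↔ ∃ y ∈ grp j, (x : Matrix (Fin 2) (Fin 2) (ZMod 11)) = toMat 11 y := by
  rw [← Subgroup.mem_map_iff_mem Matrix.SpecialLinearGroup.toGL_injective, toGL_S,
    mem_closure_iff (checks j).1 (gens_spec j).1 (gens_spec j).2]
  rfl

theorem card_S (j : Bool) : Nat.card (S j) = 120 := by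
  rw [← Subgroup.card_map_of_injective Matrix.SpecialLinearGroup.toGL_injective, toGL_S,
    card_closure (checks j).1 (gens_spec j).1 (gens_spec j).2, (checks j).2.1]

theorem center_le_S (j : Bool) : Subgroup.center S11 ≤ S j := fun z hz => by
  obtain ⟨y, hr, -, hy⟩ := exists_entries z
  have := (mk_eq_one_iff_pm hr hy).1 ((QuotientGroup.eq_one_iff z).2 hz)
  rw [isPM, Bool.or_eq_true, beq_iff_eq, beq_iff_eq] at this
  rcases this with rfl | rfl
  · have : z = 1 := Subtype.ext (by rw [hy, toMat_one]; rfl)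
    rw [this]; exact one_mem _
  · exact mem_S.2 ⟨_, (checks j).2.2.2.1, hy⟩

theorem comap_H (j : Bool) : (H j).comap (QuotientGroup.mk' _) = S j := by
  rw [H, Subgroup.comap_map_eq, QuotientGroup.ker_mk', sup_eq_left]
  exact center_le_S j

theorem mk_mem_H {j : Bool} {x : S11} : (QuotientGroup.mk x : P11) ∈ H j ↔ x ∈ S j := by
  rw [← comap_H j]; rfl

theorem index_H (j : Bool) : (H j).index = 11 := by
  rw [← Subgroup.index_comap_of_surjective (H j) (QuotientGroup.mk'_surjective _), comap_H]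
  have h := (S j).card_mul_index
  rw [card_S, CfsgLib.Classical.Two.card_SL_two, ZMod.card] at h
  omega

theorem card_P11 : Nat.card P11 = 660 := by
  have h := CfsgLib.Classical.Two.card_PSL_two (F := ZMod 11)
  rw [ZMod.card, show Nat.gcd 2 (11 - 1) = 2 by decide] at h
  exact Nat.eq_of_mul_eq_mul_left two_pos (h.trans (by norm_num))

theorem card_H (j : Bool) : Nat.card (H j) = 60 := by
  have h := (H j).card_mul_index
  rw [index_H, card_P11] at h
  omega

theorem nonempty_iso_H (j : Bool) : Nonempty (H j ≃* alternatingGroup (Fin 5)) := by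
  obtain ⟨-, -, hd, -, h3, -, h5, -, -⟩ := checks j
  have hHc : H j = Subgroup.closure ({QuotientGroup.mk (el J detOk_J),
      QuotientGroup.mk (el (gen j) hd)} : Set P11) := by
    rw [H, S, MonoidHom.map_closure, Set.image_pair]; rfl
  set a : P11 := QuotientGroup.mk (el J detOk_J)
  set b : P11 := QuotientGroup.mk (el (gen j) hd)
  have ha : a ∈ H j := hHc ▸ Subgroup.subset_closure (by simp)
  have hb : b ∈ H j := hHc ▸ Subgroup.subset_closure (by simp)
  refine iso_alt_five_of_generators (card_H j) (a := ⟨a, ha⟩) (b := ⟨b, hb⟩) ?_ ?_ ?_ ?_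
  · refine Subtype.ext (?_ : a ^ 2 = 1)
    rw [← QuotientGroup.mk_pow, mk_eq_one_iff_pm (y := mul4 11 J J) (reduced_mul4 _ _)]
    · decide
    · rw [pow_two, Matrix.SpecialLinearGroup.coe_mul, toMat_mul4]; rfl
  · refine Subtype.ext (?_ : b ^ 3 = 1)
    rw [← QuotientGroup.mk_pow, mk_eq_one_iff_pm (reduced_mul4 _ _)]
    · exact h3
    · rw [pow_three', Matrix.SpecialLinearGroup.coe_mul, Matrix.SpecialLinearGroup.coe_mul, toMat_mul4,
        toMat_mul4]; rfl
  · refine Subtype.ext (?_ : (a * b) ^ 5 = 1)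
    rw [← QuotientGroup.mk_mul, ← QuotientGroup.mk_pow, mk_eq_one_iff_pm (reduced_mul4 _ _)]
    · exact h5
    · simp only [pow_succ, pow_zero, one_mul, Matrix.SpecialLinearGroup.coe_mul, toMat_mul4]
      rfl
  · apply Subgroup.map_injective (H j).subtype_injective
    rw [MonoidHom.map_closure, Set.image_pair, ← MonoidHom.range_eq_map, Subgroup.range_subtype]
    exact hHc.symm

theorem exists_conj_ne (j : Bool) : ∃ g : P11, MulAut.conj g • H j ≠ H j := by
  refine ⟨(QuotientGroup.mk (el (1, 1, 0, 1) (by decide)))⁻¹, fun h => (checks j).2.2.2.2.2.2.2.2 ?_⟩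
  set g := el (1, 1, 0, 1) (by decide)
  have hJ : el J detOk_J ∈ S j := Subgroup.subset_closure (Or.inl rfl)
  have h1 := Subgroup.smul_mem_pointwise_smul _ (MulAut.conj (QuotientGroup.mk g : P11)⁻¹) _ (mk_mem_H.2 hJ)
  rw [h, MulAut.smul_def, MulAut.conj_apply, inv_inv, ← QuotientGroup.mk_inv, ← QuotientGroup.mk_mul,
    ← QuotientGroup.mk_mul, mk_mem_H, mem_S] at h1
  obtain ⟨y, hy, hy'⟩ := h1
  rw [conj4_spec (by decide) _ (y := J) rfl] at hy'
  have hcl := (checks j).1
  simp only [closedList, Bool.and_eq_true, List.all_eq_true] at hcl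
  rwa [toMat_injective 11 (x := conj4 (1, 1, 0, 1) J) (reduced_mul4 _ _) (hcl.1.1.2 y hy) hy']

theorem not_conj : ∀ g : P11, MulAut.conj g • H false ≠ H true := by
  intro g h
  obtain ⟨x, rfl⟩ := QuotientGroup.mk_surjective g
  obtain ⟨y, hr, hd, hy⟩ := exists_entries x⁻¹
  have hx : x⁻¹ = el y hd := Subtype.ext hy
  have key : ∀ z : M4, ∀ hz : detOk z = true, el z hz ∈ S false → conj4 y z ∈ grp true := by
    intro z hz hmem
    have h1 := Subgroup.smul_mem_pointwise_smul _ (MulAut.conj (QuotientGroup.mk x : P11)) _ (mk_mem_H.2 hmem)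
    rw [h, MulAut.smul_def, MulAut.conj_apply, ← QuotientGroup.mk_inv, ← QuotientGroup.mk_mul,
      ← QuotientGroup.mk_mul, mk_mem_H, mem_S] at h1
    obtain ⟨w, hw, hw'⟩ := h1
    rw [show x = (el y hd)⁻¹ by rw [← hx, inv_inv], inv_inv, conj4_spec hr hd (y := z) rfl] at hw'
    have hcl := (checks true).1
    simp only [closedList, Bool.and_eq_true, List.all_eq_true] at hcl
    rwa [toMat_injective 11 (x := conj4 y z) (reduced_mul4 _ _) (hcl.1.1.2 w hw) hw']
  have kJ := key J detOk_J (Subgroup.subset_closure (Or.inl rfl))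
  have kb := key (gen false) (checks false).2.2.1 (Subgroup.subset_closure (Or.inr rfl))
  obtain ⟨a, b, c, d⟩ := y
  simp only [reduced, Bool.and_eq_true, decide_eq_true_eq] at hr
  obtain ⟨⟨⟨la, lb⟩, lc⟩, ld⟩ := hr
  have hc := separateCheck_eq
  simp only [separateCheck, List.all_eq_true, List.mem_range, Bool.or_eq_true, Bool.not_eq_true'] at hc
  rcases hc a la b lb c lc d ld with (h0 | h0) | h0
  · rw [hd] at h0; cases h0
  · rw [List.contains_iff_mem.2 kJ] at h0; cases h0
  · rw [show b0 = gen false from rfl, List.contains_iff_mem.2 kb] at h0; cases h0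

/-- Every icosahedral subgroup is conjugate to one of the two. -/
theorem exists_conj_eq (L : Subgroup P11) (hL : Nonempty (L ≃* alternatingGroup (Fin 5))) :
    ∃ (g : P11) (j : Bool), MulAut.conj g • L = H j := by
  obtain ⟨hc60, a', b', hLc, ha2, ha1, hb3, hb1, hab⟩ := exists_generators hL
  obtain ⟨a, rfl⟩ := QuotientGroup.mk_surjective a'
  have hans : ¬ IsScalar a := fun e => ha1 (mk_eq_one_iff.2 e)
  -- the involution has trace zero, so it is conjugate to `J`
  have hta : trc a = 0 := by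
    rw [← QuotientGroup.mk_pow, mk_eq_one_iff, pow_two] at ha2
    obtain ⟨e1, e2, e3⟩ := ha2
    rw [Matrix.SpecialLinearGroup.coe_mul, sq_eq] at e1 e2 e3
    by_contra hne
    refine hans ⟨?_, ?_, ?_⟩
    · simpa [hne] using e1
    · simpa [hne] using e2
    · simpa [hne] using e3
  have htJ : trc (el J detOk_J) = 0 := by decide
  obtain ⟨h₀, hh₀⟩ := exists_conj (x := a) (y := el J detOk_J) hans
    (not_isScalar_of_trc (by rw [htJ]; decide)) (by rw [htJ, hta])
    (normSurj_of_odd (by rw [ZMod.card]) (by decide) (by rw [hta]; decide))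
  set h : P11 := QuotientGroup.mk h₀
  have haJ : MulAut.conj h (QuotientGroup.mk a) = QuotientGroup.mk (el J detOk_J) := by
    rw [← hh₀]; rfl
  obtain ⟨b, hb⟩ : ∃ b : S11, trc b = 1 ∧ (QuotientGroup.mk b : P11) = MulAut.conj h b' := by
    obtain ⟨b, hb⟩ := QuotientGroup.mk_surjective (MulAut.conj h b')
    have h3 : (QuotientGroup.mk b : P11) ^ 3 = 1 := by rw [hb, ← map_pow, hb3, map_one]
    have hbns : ¬ IsScalar b := fun e => hb1 ((MulEquiv.map_eq_one_iff _).1 (hb ▸ mk_eq_one_iff.2 e))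
    have ht : trc b ^ 2 = 1 := by
      rw [← QuotientGroup.mk_pow, mk_eq_one_iff, pow_three'] at h3
      have hcube : ((b * b * b : S11) : Matrix (Fin 2) (Fin 2) (ZMod 11)) =
          (trc b ^ 2 - 1) • (b : Matrix (Fin 2) (Fin 2) (ZMod 11)) - trc b • 1 := by
        rw [Matrix.SpecialLinearGroup.coe_mul, Matrix.SpecialLinearGroup.coe_mul, sq_eq, sub_mul,
          smul_mul_assoc, sq_eq, one_mul, smul_sub, smul_smul, sub_smul, one_smul, pow_two]
        abel
      obtain ⟨e1, e2, e3⟩ := h3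
      rw [hcube] at e1 e2 e3
      by_contra hne
      refine hbns ⟨?_, ?_, ?_⟩
      · simpa [sub_eq_zero, hne] using e1
      · simpa [sub_eq_zero, hne] using e2
      · simpa [sub_eq_zero, hne] using e3
    rcases sq_eq_one_iff.1 ht with ht | ht
    · exact ⟨b, ht, hb⟩
    · exact ⟨-b, by rw [trc_neg, ht, neg_neg], by rw [mk_neg_eq, hb]⟩
  obtain ⟨htb, hb⟩ := hb
  obtain ⟨y, hr, hd, hy⟩ := exists_entries b
  obtain ⟨a₁, b₁, c₁, d₁⟩ := y
  simp only [reduced, Bool.and_eq_true, decide_eq_true_eq] at hr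
  obtain ⟨⟨⟨la, lb⟩, lc⟩, ld⟩ := hr
  have hd1 : d₁ = (12 - a₁) % 11 := by
    rw [trc, hy] at htb
    simp [toMat] at htb
    rw [← Nat.mod_eq_of_lt ld, ← ZMod.natCast_eq_natCast_iff', Nat.cast_sub (by omega)]
    rw [show ((12 : ℕ) : ZMod 11) = 1 by decide]
    linear_combination htb
  have h5 : isPM (pow5 (mul4 11 J (a₁, b₁, c₁, d₁))) = true := by
    refine (mk_eq_one_iff_pm (x := (el J detOk_J * b) ^ 5) (reduced_mul4 _ _) ?_).1 ?_
    · simp only [pow_succ, pow_zero, one_mul, Matrix.SpecialLinearGroup.coe_mul, hy, pow5, toMat_mul4]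
      rfl
    · rw [QuotientGroup.mk_pow, QuotientGroup.mk_mul, ← haJ, hb, ← map_mul, ← map_pow, hab, map_one]
  have hc := classifyCheck_eq
  simp only [classifyCheck, List.all_eq_true, List.mem_range, Bool.or_eq_true, Bool.not_eq_true',
    Bool.and_eq_true, List.any_eq_true, beq_iff_eq, List.contains_iff_mem] at hc
  rcases hc a₁ la b₁ lb c₁ lc with h0 | ⟨⟨b'', g, j⟩, -, ⟨⟨⟨-, hgd⟩, hgr⟩, hgJ⟩, hgb⟩
  · rw [← hd1, hd, h5] at h0; simp at h0
  dsimp only at hgd hgr hgJ hgb
  rw [← hd1] at hgb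
  refine ⟨(QuotientGroup.mk (el g hgd))⁻¹ * h, j, Subgroup.eq_of_le_of_card_ge ?_ ?_⟩
  · rw [map_mul, mul_smul, hLc, Subgroup.smul_closure, Subgroup.smul_closure, Subgroup.closure_le,
      Set.smul_set_insert, Set.smul_set_singleton, Set.smul_set_insert, Set.smul_set_singleton]
    have key : ∀ {x : S11} {z : M4}, (x : Matrix (Fin 2) (Fin 2) (ZMod 11)) = toMat 11 z →
        conj4 g z ∈ grp j →
        MulAut.conj (QuotientGroup.mk (el g hgd) : P11)⁻¹ (QuotientGroup.mk x) ∈ H j := by
      intro x z hx hz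
      rw [MulAut.conj_apply, inv_inv, ← QuotientGroup.mk_inv, ← QuotientGroup.mk_mul,
        ← QuotientGroup.mk_mul, mk_mem_H, mem_S]
      exact ⟨_, hz, conj4_spec hgr hgd hx⟩
    rintro z (rfl | rfl)
    · rw [MulAut.smul_def, MulAut.smul_def, haJ]
      exact key rfl hgJ
    · rw [MulAut.smul_def, MulAut.smul_def, ← hb]
      exact key hy hgb
  · rw [card_H, ← Nat.card_congr (Subgroup.equivSMul (MulAut.conj _) L).toEquiv, hc60]

end CfsgLib.Known.PSL11
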