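import Cfsg.Agent.Lib.Known.PSLTwoEleven
import Cfsg.Agent.Lib.Perm.PrimeNormalizer
import Cfsg.Agent.Lib.Classical.RingTransfer

/-!
# Consequences for a group isomorphic to `PSL(2,11)`

* `exists_pslEquiv`, `exists_classes`, `two_pretransitive_of_index`, `card_of_two_classes`
-/

set_option autoImplicit false
set_option linter.all false

namespace CfsgLib.Known.PSL11

open scoped MatrixGroups Pointwise
open MulAction

theorem mem_map_equiv' {A B : Type*} [Group A] [Group B] (e : A ≃* B) {K : Subgroup A} {x : B} :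
    x ∈ K.map (e : A →* B) ↔ e.symm x ∈ K :=
  Subgroup.mem_map_equiv (f := e)

theorem map_center_equiv {A B : Type*} [Group A] [Group B] (e : A ≃* B) :
    (Subgroup.center A).map (e : A →* B) = Subgroup.center B := by
  ext x
  rw [mem_map_equiv', Subgroup.mem_center_iff, Subgroup.mem_center_iff]
  exact ⟨fun h y => e.symm.injective (by rw [map_mul, map_mul, h]),
    fun h y => e.injective (by rw [map_mul, map_mul, e.apply_symm_apply, h])⟩

/-- Transport along an isomorphism of fields. -/
theorem exists_pslEquiv (F : Type*) [Field F] [Fintype F] (hF : Fintype.card F = 11) :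
    Nonempty (P11 ≃* Matrix.ProjectiveSpecialLinearGroup (Fin 2) F) := by
  obtain ⟨e⟩ := CfsgLib.Classical.exists_zmod_equiv F (p := 11) hF
  let f : S11 ≃* SL(2, F) :=
    { toFun := Matrix.SpecialLinearGroup.map (e : ZMod 11 →+* F)
      invFun := Matrix.SpecialLinearGroup.map (e.symm : F →+* ZMod 11)
      left_inv := fun x => by ext i j; simp
      right_inv := fun x => by ext i j; simp
      map_mul' := map_mul _ }
  exact ⟨QuotientGroup.congr _ _ f (map_center_equiv f)⟩

variable {G : Type*} [Group G] [Finite G]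

/-- The two classes, in an isomorphic group. -/
theorem exists_classes (e : P11 ≃* G) :
    ∃ A B : Subgroup G, A.index = 11 ∧ B.index = 11 ∧ Nonempty (A ≃* alternatingGroup (Fin 5)) ∧
      Nonempty (B ≃* alternatingGroup (Fin 5)) ∧ (∃ g : G, MulAut.conj g • A ≠ A) ∧
      (∃ g : G, MulAut.conj g • B ≠ B) ∧ (∀ g : G, MulAut.conj g • A ≠ B) ∧
      ∀ L : Subgroup G, Nonempty (L ≃* alternatingGroup (Fin 5)) →
        ∃ g : G, MulAut.conj g • L = A ∨ MulAut.conj g • L = B := by
  have hmap : ∀ (g : P11) (K : Subgroup P11), (MulAut.conj g • K).map (e : P11 →* G) =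
      MulAut.conj (e g) • K.map (e : P11 →* G) := fun g K => by
    ext x
    rw [mem_map_equiv', Subgroup.mem_pointwise_smul_iff_inv_smul_mem,
      Subgroup.mem_pointwise_smul_iff_inv_smul_mem, mem_map_equiv']
    simp only [MulAut.smul_def, ← map_inv, MulAut.conj_apply, map_mul, MulEquiv.symm_apply_apply]
  have hinj : Function.Injective (Subgroup.map (e : P11 →* G)) := Subgroup.map_injective e.injective
  have hidx : ∀ j, ((H j).map (e : P11 →* G)).index = 11 := fun j => by
    rw [Subgroup.index_map_equiv, index_H]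
  have hiso : ∀ j, Nonempty ((H j).map (e : P11 →* G) ≃* alternatingGroup (Fin 5)) := fun j =>
    (nonempty_iso_H j).map fun i => ((H j).equivMapOfInjective _ e.injective).symm.trans i
  have hnn : ∀ j, ∃ g : G, MulAut.conj g • (H j).map (e : P11 →* G) ≠ (H j).map (e : P11 →* G) := fun j => by
    obtain ⟨g, hg⟩ := exists_conj_ne j
    exact ⟨e g, fun h => hg (hinj (by rw [hmap]; exact h))⟩
  refine ⟨_, _, hidx false, hidx true, hiso false, hiso true, hnn false, hnn true, fun g h => ?_,
    fun L hL => ?_⟩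
  · obtain ⟨g, rfl⟩ := e.surjective g
    exact not_conj g (hinj (by rw [hmap]; exact h))
  · have hL' : (L.map (e.symm : G →* P11)).map (e : P11 →* G) = L := by
      rw [Subgroup.map_map]
      simp [Subgroup.map_id]
    obtain ⟨g, j, hg⟩ := exists_conj_eq (L.map (e.symm : G →* P11))
      (hL.map fun i => (L.equivMapOfInjective _ e.symm.injective).symm.trans i)
    refine ⟨e g, ?_⟩
    have := congrArg (Subgroup.map (e : P11 →* G)) hg
    rw [hmap, hL'] at this
    cases j
    · exact Or.inl this
    · exact Or.inr this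

theorem normalizer_eq_of_index {p : ℕ} (hp : p.Prime) (A : Subgroup G) (hi : A.index = p)
    {g : G} (hg : MulAut.conj g • A ≠ A) : Subgroup.normalizer (A : Set G) = A := by
  have hle : A ≤ Subgroup.normalizer (A : Set G) := Subgroup.le_normalizer
  rcases hp.eq_one_or_self_of_dvd _ (hi ▸ Subgroup.index_dvd_of_le hle) with h | h
  · have : A.Normal := Subgroup.normalizer_eq_top_iff.1 (Subgroup.index_eq_one.1 h)
    refine absurd ?_ hg
    ext x
    rw [Subgroup.mem_pointwise_smul_iff_inv_smul_mem, MulAut.smul_def, ← map_inv, MulAut.conj_apply, inv_inv]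
    constructor
    · intro hx
      simpa [mul_assoc] using this.conj_mem _ hx g
    · intro hx
      simpa [mul_assoc] using this.conj_mem _ hx g⁻¹
  · refine (Subgroup.eq_of_le_of_card_ge hle (Nat.le_of_mul_le_mul_right (le_of_eq (?_ : _ * p = _ * p)) hp.pos)).symm
    conv_lhs => rw [← h, Subgroup.card_mul_index]
    rw [← hi, Subgroup.card_mul_index]

theorem not_isSolvable_of_iso {A : Subgroup G} (hA : Nonempty (A ≃* alternatingGroup (Fin 5))) :
    ¬ Group.IsSolvable G := fun h => by
  obtain ⟨e⟩ := hA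
  haveI : IsSimpleGroup (alternatingGroup (Fin 5)) := alternatingGroup.isSimpleGroup_five
  haveI : Group.IsSolvable (alternatingGroup (Fin 5)) :=
    Group.isSolvable_of_surjective (f := (e : A →* _)) e.surjective
  have hc := IsSimpleGroup.comm_iff_isSolvable.2 ‹Group.IsSolvable (alternatingGroup (Fin 5))›
  exact absurd (hc ⟨Equiv.swap 0 1 * Equiv.swap 2 3, Equiv.Perm.mem_alternatingGroup.mpr (by decide +kernel)⟩
    ⟨Equiv.swap 0 2 * Equiv.swap 2 4, Equiv.Perm.mem_alternatingGroup.mpr (by decide +kernel)⟩) (by decide +kernel)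

/-- Burnside's theorem applied to the coset action. -/
theorem two_pretransitive_of_index {p : ℕ} [hp : Fact p.Prime] (A : Subgroup G) (hi : A.index = p)
    (hA : Nonempty (A ≃* alternatingGroup (Fin 5))) {g : G} (hg : MulAut.conj g • A ≠ A) :
    IsMultiplyPretransitive G (G ⧸ A) 2 := by
  classical
  haveI := Fintype.ofFinite (G ⧸ A)
  have hc : Fintype.card (G ⧸ A) = p := by rw [← Nat.card_eq_fintype_card, ← Subgroup.index_eq_card, hi]
  obtain ⟨e, σ, hσ⟩ := CfsgLib.Perm.PrimeDegree.exists_coords (p := p) hc (G := G)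
  rcases CfsgLib.Perm.PrimeNormalizer.affine_or_two_pretransitive e hσ with haff | h2
  swap
  · exact h2
  exfalso
  have hnA : A.normalCore = ⊥ := by
    obtain ⟨i⟩ := hA
    haveI : IsSimpleGroup (alternatingGroup (Fin 5)) := alternatingGroup.isSimpleGroup_five
    haveI : IsSimpleGroup A := i.isSimpleGroup
    haveI : (A.normalCore.subgroupOf A).Normal := Subgroup.normal_subgroupOf
    rcases (inferInstance : (A.normalCore.subgroupOf A).Normal).eq_bot_or_eq_top with h | h
    · rw [Subgroup.subgroupOf_eq_bot, disjoint_iff, inf_eq_left.2 (Subgroup.normalCore_le A)] at h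
      exact h
    · have hAn : A = A.normalCore := le_antisymm (Subgroup.subgroupOf_eq_top.1 h) (Subgroup.normalCore_le A)
      refine absurd ?_ hg
      have hn : A.Normal := hAn ▸ Subgroup.normalCore_normal A
      ext x
      rw [Subgroup.mem_pointwise_smul_iff_inv_smul_mem, MulAut.smul_def, ← map_inv, MulAut.conj_apply, inv_inv]
      constructor
      · intro hx
        simpa [mul_assoc] using hn.conj_mem _ hx g
      · intro hx
        simpa [mul_assoc] using hn.conj_mem _ hx g⁻¹
  have hinj : Function.Injective (CfsgLib.Perm.PrimeNormalizer.coordHom (G := G) e) := by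
    rw [injective_iff_map_eq_one]
    intro k hk
    have : k ∈ A.normalCore := by
      rw [Subgroup.normalCore_eq_ker, MonoidHom.mem_ker]
      ext x
      show k • x = x
      obtain ⟨n, rfl⟩ := e.surjective x
      rw [← CfsgLib.Perm.PrimeNormalizer.coordHom_apply, hk]
      rfl
    rw [hnA, Subgroup.mem_bot] at this
    exact this
  exact not_isSolvable_of_iso hA (CfsgLib.Perm.PrimeDegree.isSolvable_of_affine
    (CfsgLib.Perm.PrimeNormalizer.coordHom e) hinj haff)

/-- Two classes of self-normalising subgroups of index `p`. -/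
theorem card_of_two_classes {p : ℕ} (P : Subgroup G → Prop) (A B : Subgroup G) (hA : A.index = p)
    (hB : B.index = p) (hAN : Subgroup.normalizer (A : Set G) = A) (hBN : Subgroup.normalizer (B : Set G) = B)
    (hconj : ∀ (g : G) (L : Subgroup G), P L → P (MulAut.conj g • L)) (hPA : P A) (hPB : P B)
    (hne : ∀ g : G, MulAut.conj g • A ≠ B)
    (hall : ∀ L, P L → ∃ g : G, MulAut.conj g • L = A ∨ MulAut.conj g • L = B) :
    Nat.card {L : Subgroup G // P L} = 2 * p := by
  classical
  have hinj : ∀ C : Subgroup G, Subgroup.normalizer (C : Set G) = C → ∀ x y : G,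
      MulAut.conj x • C = MulAut.conj y • C → (x : G ⧸ C) = y := by
    intro C hC x y h
    rw [QuotientGroup.eq, ← SetLike.mem_coe, SetLike.mem_coe]
    rw [← hC]
    rw [Subgroup.mem_normalizer_iff]
    intro z
    have e1 := SetLike.ext_iff.1 h (y * z * y⁻¹)
    rw [Subgroup.mem_pointwise_smul_iff_inv_smul_mem, Subgroup.mem_pointwise_smul_iff_inv_smul_mem,
      MulAut.smul_def, MulAut.smul_def, ← map_inv, ← map_inv, MulAut.conj_apply, MulAut.conj_apply,
      inv_inv, inv_inv] at e1
    rw [show y⁻¹ * (y * z * y⁻¹) * y = z by group,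
      show x⁻¹ * (y * z * y⁻¹) * x = x⁻¹ * y * z * (x⁻¹ * y)⁻¹ by group] at e1
    exact e1.symm
  let f : (G ⧸ A) ⊕ (G ⧸ B) → {L : Subgroup G // P L} := Sum.elim
    (fun x => ⟨MulAut.conj x.out • A, hconj _ _ hPA⟩) (fun x => ⟨MulAut.conj x.out • B, hconj _ _ hPB⟩)
  have hcross : ∀ x y : G, MulAut.conj x • A ≠ MulAut.conj y • B := fun x y h => hne (y⁻¹ * x) (by
    rw [map_mul, mul_smul, h, map_inv, inv_smul_smul])
  have hfi : Function.Injective f := by
    rintro (x | x) (y | y) h <;> have h' := congrArg Subtype.val h <;> simp only [f, Sum.elim_inl, Sum.elim_inr] at h'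
    · rw [← QuotientGroup.out_eq' x, ← QuotientGroup.out_eq' y, hinj A hAN _ _ h']
    · exact absurd h' (hcross _ _)
    · exact absurd h'.symm (hcross _ _)
    · rw [← QuotientGroup.out_eq' x, ← QuotientGroup.out_eq' y, hinj B hBN _ _ h']
  have hout : ∀ (C : Subgroup G), Subgroup.normalizer (C : Set G) = C → ∀ g : G,
      MulAut.conj (g : G ⧸ C).out • C = MulAut.conj g • C := by
    intro C hC g
    obtain ⟨c, hc⟩ := QuotientGroup.mk_out_eq_mul C g
    rw [hc, map_mul, mul_smul]
    congr 1
    ext z
    rw [Subgroup.mem_pointwise_smul_iff_inv_smul_mem, MulAut.smul_def, ← map_inv, MulAut.conj_apply, inv_inv]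
    exact ⟨fun hz => by simpa [mul_assoc] using C.mul_mem (C.mul_mem c.2 hz) (C.inv_mem c.2),
      fun hz => C.mul_mem (C.mul_mem (C.inv_mem c.2) hz) c.2⟩
  have hfs : Function.Surjective f := by
    rintro ⟨L, hL⟩
    obtain ⟨g, h | h⟩ := hall L hL
    · refine ⟨Sum.inl ((g⁻¹ : G) : G ⧸ A), Subtype.ext ?_⟩
      simp only [f, Sum.elim_inl]
      rw [hout A hAN, ← h, map_inv, inv_smul_smul]
    · refine ⟨Sum.inr ((g⁻¹ : G) : G ⧸ B), Subtype.ext ?_⟩
      simp only [f, Sum.elim_inr]
      rw [hout B hBN, ← h, map_inv, inv_smul_smul]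
  rw [← Nat.card_eq_of_bijective f ⟨hfi, hfs⟩, Nat.card_sum, ← Subgroup.index_eq_card,
    ← Subgroup.index_eq_card, hA, hB, two_mul]

end CfsgLib.Known.PSL11
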