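import Cfsg.Agent.Lib.Known.UnipotentCentralizer

/-!
# Invariant subspaces of a regular unipotent matrix
-/

set_option autoImplicit false

open Matrix

namespace CfsgLib.Known.RegularUnipotent

variable {F : Type*} [Field F]

theorem finrank_ker_pow_le {V : Type*} [AddCommGroup V] [Module F V] [FiniteDimensional F V]
    (T : Module.End F V) (hT : Module.finrank F (LinearMap.ker T) ≤ 1) (k : ℕ) :
    Module.finrank F (LinearMap.ker (T ^ k)) ≤ k := by
  have h1 := UnipotentCentralizer.finrank_range_pow_ge T hT k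
  have h2 := LinearMap.finrank_range_add_finrank_ker (T ^ k)
  omega

theorem finrank_ker_le_one {ι : Type*} [Fintype ι] [DecidableEq ι] (u : Matrix ι ι F)
    (hreg : (u - 1).rank = Fintype.card ι - 1) :
    Module.finrank F (LinearMap.ker ((u - 1).mulVecLin : Module.End F (ι → F))) ≤ 1 := by
  have h := LinearMap.finrank_range_add_finrank_ker ((u - 1).mulVecLin : Module.End F (ι → F))
  rw [Module.finrank_pi] at h
  rw [Matrix.rank] at hreg
  omega

theorem mulVecLin_pow {ι : Type*} [Fintype ι] [DecidableEq ι] (N : Matrix ι ι F) (k : ℕ) :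
    (N.mulVecLin : Module.End F (ι → F)) ^ k = (N ^ k).mulVecLin :=
  (map_pow (Matrix.toLinAlgEquiv' (R := F) (n := ι)) N k).symm

theorem eq_ker_pow {ι : Type*} [Fintype ι] [DecidableEq ι] (u : Matrix ι ι F)
    (hnil : (u - 1) ^ Fintype.card ι = 0) (hreg : (u - 1).rank = Fintype.card ι - 1)
    (W : Submodule F (ι → F)) (hW : ∀ v ∈ W, u *ᵥ v ∈ W) :
    W = LinearMap.ker ((u - 1) ^ Module.finrank F W).mulVecLin := by
  set T : Module.End F (ι → F) := (u - 1).mulVecLin with hT
  have hTW : ∀ v ∈ W, T v ∈ W := fun v hv => by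
    rw [hT, Matrix.mulVecLin_apply, Matrix.sub_mulVec, Matrix.one_mulVec]
    exact W.sub_mem (hW v hv) hv
  rw [← mulVecLin_pow]
  refine Submodule.eq_of_le_of_finrank_le ?_ (finrank_ker_pow_le T (finrank_ker_le_one u hreg) _)
  intro v hv
  set T' : Module.End F W := T.restrict hTW
  have hres : ∀ (k : ℕ) (x : W), ((T' ^ k) x : ι → F) = (T ^ k) x := by
    intro k
    induction k with
    | zero => intro x; rfl
    | succ k ih => intro x; rw [pow_succ, pow_succ, Module.End.mul_apply, Module.End.mul_apply, ih]; rfl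
  have hnilT : T ^ Fintype.card ι = 0 := by rw [hT, mulVecLin_pow, hnil, Matrix.mulVecLin_zero]
  have h0 : (⟨v, hv⟩ : W) ∈ LinearMap.ker (T' ^ Fintype.card ι) :=
    Subtype.ext (by rw [hres, hnilT]; rfl)
  have h1 := Module.End.ker_pow_le_ker_pow_finrank T' (Fintype.card ι) h0
  rw [LinearMap.mem_ker] at h1 ⊢
  rw [← hres _ ⟨v, hv⟩, h1]
  rfl

end CfsgLib.Known.RegularUnipotent
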