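import Cfsg.Agent.Lib.Known.SL2ClassSizes
import Cfsg.Agent.Lib.Classical.SL2Structure

/-!
# `SL₂(2ᵗ) = A B A`
-/

set_option autoImplicit false

namespace CfsgLib.Known.SL2Factor

open Matrix CfsgLib.PLocal.SLTwo CfsgLib.SL2Char

variable {F : Type*} [Field F] [Fintype F] [CharP F 2]

/-- The quadratic form `det [v, x v]`. -/
def form (x : S2 F) (v : Fin 2 → F) : F :=
  x.1 1 0 * v 0 ^ 2 + (x.1 1 1 - x.1 0 0) * v 0 * v 1 - x.1 0 1 * v 1 ^ 2

omit [Fintype F] [CharP F 2] in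
theorem form_smul (x : S2 F) (s : F) (v : Fin 2 → F) : form x (s • v) = s ^ 2 * form x v := by
  simp only [form, Pi.smul_apply, smul_eq_mul]; ring

omit [Fintype F] [CharP F 2] in
theorem form_ne_zero {x : S2 F} (hx : Elliptic (x : Matrix (Fin 2) (Fin 2) F)) {v : Fin 2 → F} (hv : v ≠ 0) :
    form x v ≠ 0 := by
  intro h
  unfold form at h
  by_cases h0 : v 0 = 0
  · have h1 : v 1 ≠ 0 := fun e => hv (funext fun i => by fin_cases i <;> assumption)
    simp [h0, h1] at h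
    exact hx.upper_ne_zero h
  · refine hx ((x.1 0 0 * v 0 + x.1 0 1 * v 1) / v 0) v hv ?_
    ext i
    fin_cases i <;> simp [Matrix.mulVec, dotProduct, Fin.sum_univ_two]
    · field_simp
    · field_simp
      linear_combination h

omit [Fintype F] in
theorem transitive {x : S2 F} (hx : Elliptic (x : Matrix (Fin 2) (Fin 2) F)) (v : Fin 2 → F)
    (hv : form x v = x.1 1 0) :
    ∃ a : S2 F, a ∈ Subgroup.centralizer ({x} : Set (S2 F)) ∧ a.1 0 0 = v 0 ∧ a.1 1 0 = v 1 := by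
  have h10 := hx.lower_ne_zero
  set t := v 1 / x.1 1 0
  set s := v 0 - t * x.1 0 0
  have ht : t * x.1 1 0 = v 1 := div_mul_cancel₀ _ h10
  have hd := det2 x
  have hdet : (!![t * x.1 0 0 + s, t * x.1 0 1; t * x.1 1 0, t * x.1 1 1 + s] : Matrix (Fin 2) (Fin 2) F).det = 1 := by
    rw [Matrix.det_fin_two_of]
    refine mul_left_cancel₀ h10 ?_
    simp only [s]
    unfold form at hv
    rw [← ht] at hv
    linear_combination hv
  obtain ⟨z, z00, z01, z10, z11⟩ : ∃ z : S2 F, z.1 0 0 = t * x.1 0 0 + s ∧ z.1 0 1 = t * x.1 0 1 ∧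
      z.1 1 0 = t * x.1 1 0 ∧ z.1 1 1 = t * x.1 1 1 + s := ⟨⟨_, hdet⟩, rfl, rfl, rfl, rfl⟩
  refine ⟨z, Subgroup.mem_centralizer_singleton_iff.2 ?_, by simp [z00, s], by rw [z10, ht]⟩
  refine ext2 ?_ ?_ ?_ ?_ <;> simp only [m00, m01, m10, m11, z00, z01, z10, z11] <;> ring

theorem factor {x : S2 F} (hx : Elliptic (x : Matrix (Fin 2) (Fin 2) F)) (g : S2 F) :
    ∃ a ∈ Subgroup.centralizer ({x} : Set (S2 F)), ∃ t : F, ∃ c ∈ Subgroup.centralizer ({x} : Set (S2 F)),
      g = a * U t * c := by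
  set im : (Fin 2 → F) → Fin 2 → F := fun v => (g : Matrix (Fin 2) (Fin 2) F).mulVec v
  have him0 : ∀ v, im v 0 = g.1 0 0 * v 0 + g.1 0 1 * v 1 := fun v => by
    simp [im, Matrix.mulVec, dotProduct, Fin.sum_univ_two]
  have him1 : ∀ v, im v 1 = g.1 1 0 * v 0 + g.1 1 1 * v 1 := fun v => by
    simp [im, Matrix.mulVec, dotProduct, Fin.sum_univ_two]
  have h2 : (2 : F) = 0 := CharTwo.two_eq_zero
  have hd := det2 g
  set A := form x (im ![1, 0]) - form x ![1, 0] with hA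
  set C := form x (im ![0, 1]) - form x ![0, 1] with hC
  have hψ : ∀ v, form x (im v) - form x v = A * v 0 ^ 2 + C * v 1 ^ 2 := fun v => by
    simp only [hA, hC, form, him0, him1, Matrix.cons_val_zero, Matrix.cons_val_one]
    linear_combination (x.1 1 1 - x.1 0 0) * v 0 * v 1 * hd +
      (x.1 1 0 * g.1 0 0 * g.1 0 1 + (x.1 1 1 - x.1 0 0) * g.1 1 0 * g.1 0 1 -
        x.1 0 1 * g.1 1 0 * g.1 1 1) * v 0 * v 1 * h2
  obtain ⟨v, hv0, hv⟩ : ∃ v : Fin 2 → F, v ≠ 0 ∧ form x (im v) = form x v := by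
    by_cases hA0 : A = 0
    · refine ⟨![1, 0], fun e => by simpa using congrFun e 0, sub_eq_zero.1 ?_⟩
      rw [hψ, hA0]; simp
    · obtain ⟨r, hr⟩ := FiniteField.isSquare_of_char_two (ringChar.eq F 2) (C / A)
      refine ⟨![r, 1], fun e => by simpa using congrFun e 1, sub_eq_zero.1 ?_⟩
      rw [hψ, Matrix.cons_val_zero, Matrix.cons_val_one, Matrix.cons_val_zero, sq r, ← hr]
      rw [mul_div_cancel₀ _ hA0]
      linear_combination C * h2
  obtain ⟨s, hs⟩ := FiniteField.isSquare_of_char_two (ringChar.eq F 2) (x.1 1 0 / form x v)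
  have hfv := form_ne_zero hx hv0
  have hQ : form x (s • v) = x.1 1 0 := by
    rw [form_smul, sq, ← hs, div_mul_cancel₀ _ hfv]
  have hQ' : form x (im (s • v)) = x.1 1 0 := by
    rw [show im (s • v) = s • im v from Matrix.mulVec_smul _ _ _, form_smul, hv, sq, ← hs,
      div_mul_cancel₀ _ hfv]
  obtain ⟨a, ha, ha0, ha1⟩ := transitive hx _ hQ
  obtain ⟨c, hc, hc0, hc1⟩ := transitive hx _ hQ'
  set y := c⁻¹ * g * a
  have hdc := det2 c
  have hy00 : y.1 0 0 = 1 := by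
    simp only [y, m00, m01, i00, i01, ha0, ha1]
    rw [him0] at hc0
    rw [him1] at hc1
    linear_combination hdc + c.1 0 1 * hc1 - c.1 1 1 * hc0
  have hy10 : y.1 1 0 = 0 := by
    simp only [y, m10, m11, i10, i11, ha0, ha1]
    rw [him0] at hc0
    rw [him1] at hc1
    linear_combination c.1 1 0 * hc0 - c.1 0 0 * hc1
  have hy11 : y.1 1 1 = 1 := by
    have h := det2 y
    rw [hy00, hy10, one_mul, mul_zero, sub_zero] at h
    exact h
  refine ⟨c, hc, y.1 0 1, a⁻¹, inv_mem ha, ?_⟩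
  rw [← show y = U (y.1 0 1) from ext2 (by simpa using hy00) rfl (by simpa using hy10) (by simpa using hy11)]
  simp only [y]
  group

theorem tr_ne_zero {x : S2 F} (hx : Elliptic (x : Matrix (Fin 2) (Fin 2) F)) : tr x ≠ 0 := by
  intro h
  refine hx.charpoly_ne 1 ?_
  rw [← tr_eq_trace, h, x.2]
  linear_combination (CharTwo.two_eq_zero : (2 : F) = 0)

/-- The factorisation of `SL₂(2ᵗ)`. -/
theorem exists_ABA : ∃ A B : Subgroup (S2 F), IsCyclic A ∧ Nat.card A = Fintype.card F + 1 ∧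
    IsMulCommutative B ∧ (∀ b ∈ B, b * b = 1) ∧ Nat.card B = Fintype.card F ∧
      ∀ g : S2 F, ∃ a ∈ A, ∃ b ∈ B, ∃ c ∈ A, g = a * b * c := by
  obtain ⟨x, hx⟩ := exists_elliptic_SL (F := F)
  let u : Multiplicative F →* S2 F :=
    { toFun := fun t => U t.toAdd
      map_one' := U_zero
      map_mul' := fun a b => (U_mul a.toAdd b.toAdd).symm }
  have hu : Function.Injective u := fun a b h => Multiplicative.toAdd.injective (U_injective h)
  refine ⟨Subgroup.centralizer ({x} : Set (S2 F)), u.range,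
    CfsgLib.Classical.Two.isCyclic_centralizer (nonScalar_of_elliptic hx) (tr_sq_ne_of_elliptic hx),
    card_centralizer_SL hx, inferInstance, ?_, ?_, fun g => ?_⟩
  · rintro _ ⟨t, rfl⟩
    show U t.toAdd * U t.toAdd = 1
    rw [U_mul, CharTwo.add_self_eq_zero, U_zero]
  · rw [Nat.card_congr (MonoidHom.ofInjective hu).symm.toEquiv, ← Nat.card_congr Multiplicative.ofAdd,
      Nat.card_eq_fintype_card]
  · obtain ⟨a, ha, t, c, hc, h⟩ := factor hx g
    exact ⟨a, ha, _, ⟨Multiplicative.ofAdd t, rfl⟩, c, hc, h⟩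

end CfsgLib.Known.SL2Factor
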