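import Mathlib

/-!
# The rank-one Steinberg relations present SL₂ over a finite field

Generic part: a group generated by two one-parameter families satisfying the rank-one relations and
mapping onto `SL₂` by `x t ↦ (1 t; 0 1)`, `y t ↦ (1 0; t 1)` is `SL₂` when the field is finite.
-/

set_option autoImplicit false

namespace CfsgLib.Known.SLPresentation

variable {K : Type*} [Field K]

/-- upper transvection -/
def upper (t : K) : Matrix.SpecialLinearGroup (Fin 2) K :=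
  ⟨!![1, t; 0, 1], by simp [Matrix.det_fin_two_of]⟩

/-- lower transvection -/
def lower (t : K) : Matrix.SpecialLinearGroup (Fin 2) K :=
  ⟨!![1, 0; t, 1], by simp [Matrix.det_fin_two_of]⟩

theorem coe_upper (t : K) : ((upper t : Matrix.SpecialLinearGroup (Fin 2) K) : Matrix (Fin 2) (Fin 2) K) =
    !![1, t; 0, 1] := rfl

theorem coe_lower (t : K) : ((lower t : Matrix.SpecialLinearGroup (Fin 2) K) : Matrix (Fin 2) (Fin 2) K) =
    !![1, 0; t, 1] := rfl

theorem exists_word (g : Matrix.SpecialLinearGroup (Fin 2) K) :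
    ∃ r a b c : K, g = lower r * (upper a * lower b * upper c) := by
  have base : ∀ g : Matrix.SpecialLinearGroup (Fin 2) K, g.1 1 0 ≠ 0 →
      ∃ a b c : K, g = upper a * lower b * upper c := fun g hg => by
    have hd : g.1 0 0 * g.1 1 1 - g.1 0 1 * g.1 1 0 = 1 := by
      rw [← Matrix.det_fin_two]; exact g.2
    refine ⟨(g.1 0 0 - 1) / g.1 1 0, g.1 1 0, (g.1 1 1 - 1) / g.1 1 0, Subtype.ext ?_⟩
    rw [Matrix.SpecialLinearGroup.coe_mul, Matrix.SpecialLinearGroup.coe_mul, coe_upper, coe_upper, coe_lower,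
      Matrix.mul_fin_two, Matrix.mul_fin_two, Matrix.eta_fin_two g.1]
    simp only [Matrix.cons_val', Matrix.cons_val_zero, Matrix.cons_val_one, Matrix.empty_val',
      Matrix.cons_val_fin_one, Matrix.of_apply]
    generalize g.1 0 0 = p, g.1 0 1 = q, g.1 1 0 = r, g.1 1 1 = s at hg hd ⊢
    simp only [one_mul, mul_one, mul_zero, zero_add, add_zero]
    congr! <;> field_simp <;> first | ring1 | linear_combination hd | linear_combination -hd
  by_cases hg : g.1 1 0 = 0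
  · have hd : g.1 0 0 * g.1 1 1 - g.1 0 1 * g.1 1 0 = 1 := by
      rw [← Matrix.det_fin_two]; exact g.2
    have h00 : g.1 0 0 ≠ 0 := fun h => by simp [h, hg] at hd
    obtain ⟨a, b, c, h⟩ := base (lower 1 * g) (by
      rw [Matrix.SpecialLinearGroup.coe_mul, coe_lower]
      simp [Matrix.mul_apply, Fin.sum_univ_two, hg, h00])
    refine ⟨-1, a, b, c, ?_⟩
    rw [← h, ← mul_assoc]
    have : lower (-1 : K) * lower 1 = 1 := Subtype.ext (by
      rw [Matrix.SpecialLinearGroup.coe_mul, coe_lower, coe_lower]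
      ext i j
      fin_cases i <;> fin_cases j <;> simp [Matrix.mul_apply, Fin.sum_univ_two])
    rw [this, one_mul]
  · obtain ⟨a, b, c, h⟩ := base g hg
    refine ⟨0, a, b, c, ?_⟩
    have : lower (0 : K) = 1 := Subtype.ext (by
      rw [coe_lower]
      ext i j
      fin_cases i <;> fin_cases j <;> simp)
    rw [this, one_mul, h]

/-- A rank-one relation system over `SL₂`. -/
structure Rel1 (K : Type*) [Field K] (G : Type*) [Group G] where
  x : K → G
  y : K → G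
  f : G →* Matrix.SpecialLinearGroup (Fin 2) K
  x_add : ∀ t u, x t * x u = x (t + u)
  y_add : ∀ t u, y t * y u = y (t + u)
  x_conj : ∀ t u, t ≠ 0 →
    (x t * y (-t⁻¹) * x t) * x u * (x t * y (-t⁻¹) * x t)⁻¹ = y (-(t⁻¹ ^ 2 * u))
  y_conj : ∀ t u, t ≠ 0 →
    (y t * x (-t⁻¹) * y t) * y u * (y t * x (-t⁻¹) * y t)⁻¹ = x (-(t⁻¹ ^ 2 * u))
  fx : ∀ t, f (x t) = upper t
  fy : ∀ t, f (y t) = lower t
  gen : Subgroup.closure (Set.range x ∪ Set.range y) = ⊤

namespace Rel1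

variable {G : Type*} [Group G] (R : Rel1 K G)

theorem x_zero : R.x 0 = 1 := by
  have := R.x_add 0 0; rw [add_zero] at this; exact mul_eq_left.1 this

theorem y_zero : R.y 0 = 1 := by
  have := R.y_add 0 0; rw [add_zero] at this; exact mul_eq_left.1 this

theorem x_neg (t : K) : R.x (-t) = (R.x t)⁻¹ :=
  eq_inv_of_mul_eq_one_left (by rw [R.x_add, neg_add_cancel, R.x_zero])

theorem y_neg (t : K) : R.y (-t) = (R.y t)⁻¹ :=
  eq_inv_of_mul_eq_one_left (by rw [R.y_add, neg_add_cancel, R.y_zero])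

/-- the Weyl element -/
def w (t : K) : G := R.x t * R.y (-t⁻¹) * R.x t

/-- the torus element -/
def h (t : K) : G := R.w t * R.w (-1)

theorem w_neg (t : K) : R.w (-t) = (R.w t)⁻¹ := by
  simp only [w, inv_neg, R.x_neg, R.y_neg, mul_inv_rev, mul_assoc, inv_inv]

theorem h_one : R.h 1 = 1 := by rw [h, R.w_neg, mul_inv_cancel]

theorem w_x {t : K} (ht : t ≠ 0) (u : K) : R.w t * R.x u = R.y (-(t⁻¹ ^ 2 * u)) * R.w t := by
  rw [← mul_inv_eq_iff_eq_mul]; exact R.x_conj t u ht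

theorem w_y {t : K} (ht : t ≠ 0) (u : K) : R.w t * R.y u = R.x (-(t ^ 2 * u)) * R.w t := by
  have h := R.w_x (neg_ne_zero.2 ht) (-(t ^ 2 * u))
  rw [show -((-t)⁻¹ ^ 2 * -(t ^ 2 * u)) = u by field_simp, R.w_neg] at h
  rw [eq_mul_inv_iff_mul_eq] at h
  rw [← h]; group

/-- the other form of the Weyl element -/
theorem w_eq {t : K} (ht : t ≠ 0) : R.w t = R.y (-t⁻¹) * R.x t * R.y (-t⁻¹) := by
  have h := R.w_y ht (-t⁻¹)
  rw [show -(t ^ 2 * -t⁻¹) = t by field_simp] at h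
  unfold w at h ⊢
  exact (mul_left_cancel (a := R.x t) (by simpa [mul_assoc] using h)).symm

theorem h_x {t : K} (ht : t ≠ 0) (u : K) : R.h t * R.x u = R.x (t ^ 2 * u) * R.h t := by
  rw [h, mul_assoc, R.w_x (neg_ne_zero.2 one_ne_zero), ← mul_assoc, R.w_y ht, mul_assoc]
  congr 2
  simp

theorem h_y {t : K} (ht : t ≠ 0) (u : K) : R.h t * R.y u = R.y (t⁻¹ ^ 2 * u) * R.h t := by
  rw [h, mul_assoc, R.w_y (neg_ne_zero.2 one_ne_zero), ← mul_assoc, R.w_x ht, mul_assoc]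
  congr 2
  simp

theorem w_conj_w {t : K} (ht : t ≠ 0) : R.w 1 * R.w t * (R.w 1)⁻¹ = R.w t⁻¹ := by
  have ex : ∀ u, R.w 1 * R.x u * (R.w 1)⁻¹ = R.y (-u) := fun u => by
    rw [R.w_x one_ne_zero, mul_inv_cancel_right]; simp
  have ey : ∀ u, R.w 1 * R.y u * (R.w 1)⁻¹ = R.x (-u) := fun u => by
    rw [R.w_y one_ne_zero, mul_inv_cancel_right]; simp
  calc R.w 1 * R.w t * (R.w 1)⁻¹
      = R.w 1 * (R.x t * R.y (-t⁻¹) * R.x t) * (R.w 1)⁻¹ := rfl
    _ = (R.w 1 * R.x t * (R.w 1)⁻¹) * (R.w 1 * R.y (-t⁻¹) * (R.w 1)⁻¹) *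
        (R.w 1 * R.x t * (R.w 1)⁻¹) := by group
    _ = R.y (-t) * R.x t⁻¹ * R.y (-t) := by rw [ex, ey, neg_neg]
    _ = R.w t⁻¹ := by rw [R.w_eq (inv_ne_zero ht), inv_inv]

/-- The image of `w t`. -/
theorem f_w {t : K} (ht : t ≠ 0) :
    ((R.f (R.w t) : Matrix.SpecialLinearGroup (Fin 2) K) : Matrix (Fin 2) (Fin 2) K) =
      !![0, t; -t⁻¹, 0] := by
  simp only [w, map_mul, R.fx, R.fy, Matrix.SpecialLinearGroup.coe_mul, coe_upper, coe_lower]
  ext i j
  fin_cases i <;> fin_cases j <;> simp [Matrix.mul_apply, Fin.sum_univ_two, ht]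

theorem f_h {t : K} (ht : t ≠ 0) :
    ((R.f (R.h t) : Matrix.SpecialLinearGroup (Fin 2) K) : Matrix (Fin 2) (Fin 2) K) =
      !![t, 0; 0, t⁻¹] := by
  simp only [h, map_mul, Matrix.SpecialLinearGroup.coe_mul, R.f_w ht, R.f_w (neg_ne_zero.2 (one_ne_zero (α := K)))]
  ext i j
  fin_cases i <;> fin_cases j <;> simp [Matrix.mul_apply, Fin.sum_univ_two]

/-- the torus -/
def torus : Subgroup G := Subgroup.closure {g | ∃ t, t ≠ 0 ∧ g = R.h t}

theorem h_mem {t : K} (ht : t ≠ 0) : R.h t ∈ R.torus := Subgroup.subset_closure ⟨t, ht, rfl⟩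

theorem torus_scale {η : G} (hη : η ∈ R.torus) : ∃ a : Kˣ,
    ((R.f η : Matrix.SpecialLinearGroup (Fin 2) K) : Matrix (Fin 2) (Fin 2) K) =
        !![(a : K), 0; 0, (a : K)⁻¹] ∧
      (∀ u, η * R.x u = R.x ((a : K) ^ 2 * u) * η) ∧
      ∀ u, η * R.y u = R.y ((a : K)⁻¹ ^ 2 * u) * η := by
  induction hη using Subgroup.closure_induction with
  | mem g hg =>
    obtain ⟨t, ht, rfl⟩ := hg
    exact ⟨Units.mk0 t ht, R.f_h ht, fun u => R.h_x ht u, fun u => R.h_y ht u⟩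
  | one =>
    refine ⟨1, ?_, fun u => by simp, fun u => by simp⟩
    simp only [map_one, Matrix.SpecialLinearGroup.coe_one, Units.val_one, inv_one]
    ext i j
    fin_cases i <;> fin_cases j <;> simp
  | mul g g' _ _ h h' =>
    obtain ⟨a, h1, h2, h3⟩ := h
    obtain ⟨b, k1, k2, k3⟩ := h'
    refine ⟨a * b, ?_, fun u => ?_, fun u => ?_⟩
    · rw [map_mul, Matrix.SpecialLinearGroup.coe_mul, h1, k1]
      ext i j
      fin_cases i <;> fin_cases j <;> simp [Matrix.mul_apply, Fin.sum_univ_two, mul_comm]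
    · rw [mul_assoc, k2, ← mul_assoc, h2, mul_assoc, Units.val_mul]; congr 2; ring
    · rw [mul_assoc, k3, ← mul_assoc, h3, mul_assoc, Units.val_mul]; congr 2; field_simp
  | inv g _ h =>
    obtain ⟨a, h1, h2, h3⟩ := h
    refine ⟨a⁻¹, ?_, fun u => ?_, fun u => ?_⟩
    · rw [map_inv, Matrix.SpecialLinearGroup.coe_inv, h1, Matrix.adjugate_fin_two]
      ext i j
      fin_cases i <;> fin_cases j <;> simp
    · have := h2 (((a⁻¹ : Kˣ) : K) ^ 2 * u)
      rw [show (a : K) ^ 2 * (((a⁻¹ : Kˣ) : K) ^ 2 * u) = u by simp] at this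
      rw [inv_mul_eq_iff_eq_mul, ← mul_assoc, this, mul_inv_cancel_right]
    · have := h3 (((a⁻¹ : Kˣ) : K)⁻¹ ^ 2 * u)
      rw [show (a : K)⁻¹ ^ 2 * (((a⁻¹ : Kˣ) : K)⁻¹ ^ 2 * u) = u by simp] at this
      rw [inv_mul_eq_iff_eq_mul, ← mul_assoc, this, mul_inv_cancel_right]

theorem w_torus {η : G} (hη : η ∈ R.torus) : ∃ η' ∈ R.torus, R.w 1 * η = η' * R.w 1 := by
  suffices h : R.w 1 * η * (R.w 1)⁻¹ ∈ R.torus from ⟨_, h, by group⟩
  induction hη using Subgroup.closure_induction with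
  | mem g hg =>
    obtain ⟨t, ht, rfl⟩ := hg
    have : R.w 1 * R.h t * (R.w 1)⁻¹ = R.h t⁻¹ := by
      rw [h, h, R.w_neg 1]
      calc R.w 1 * (R.w t * (R.w 1)⁻¹) * (R.w 1)⁻¹
          = R.w 1 * R.w t * (R.w 1)⁻¹ * (R.w 1)⁻¹ := by group
        _ = _ := by rw [R.w_conj_w ht]
    rw [this]; exact R.h_mem (inv_ne_zero ht)
  | one => simp
  | mul g g' _ _ h h' => simpa [mul_assoc] using mul_mem h h'
  | inv g _ h => simpa [mul_assoc] using inv_mem h

theorem torus_x {η : G} (hη : η ∈ R.torus) (a : K) :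
    (∃ a', η * R.x a = R.x a' * η) ∧ ∃ a', R.x a * η = η * R.x a' := by
  obtain ⟨c, -, h2, -⟩ := R.torus_scale hη
  refine ⟨⟨_, h2 a⟩, ((c : K) ^ 2)⁻¹ * a, ?_⟩
  rw [h2, ← mul_assoc, mul_inv_cancel₀ (pow_ne_zero 2 c.ne_zero), one_mul]

theorem bruhat (g : G) : (∃ a, ∃ η ∈ R.torus, g = R.x a * η) ∨
    ∃ a b, ∃ η ∈ R.torus, g = R.x a * η * R.w 1 * R.x b := by
  let S : G → Prop := fun g => (∃ a, ∃ η ∈ R.torus, g = R.x a * η) ∨
    ∃ a b, ∃ η ∈ R.torus, g = R.x a * η * R.w 1 * R.x b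
  show S g
  have hx : ∀ t g, S g → S (R.x t * g) := by
    rintro t g (⟨a, η, hη, rfl⟩ | ⟨a, b, η, hη, rfl⟩)
    · exact Or.inl ⟨t + a, η, hη, by rw [← mul_assoc, R.x_add]⟩
    · exact Or.inr ⟨t + a, b, η, hη, by simp only [← mul_assoc, R.x_add]⟩
  have hT : ∀ θ ∈ R.torus, ∀ g, S g → S (θ * g) := by
    rintro θ hθ g (⟨a, η, hη, rfl⟩ | ⟨a, b, η, hη, rfl⟩)
    · obtain ⟨a', e⟩ := (R.torus_x hθ a).1
      exact Or.inl ⟨a', θ * η, mul_mem hθ hη, by rw [← mul_assoc, e, mul_assoc]⟩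
    · obtain ⟨a', e⟩ := (R.torus_x hθ a).1
      exact Or.inr ⟨a', b, θ * η, mul_mem hθ hη, by simp only [← mul_assoc, e]⟩
  have hww : R.w 1 * R.w 1 ∈ R.torus := by
    have h1 := inv_mem (R.h_mem (neg_ne_zero.2 (one_ne_zero (α := K))))
    rw [h, R.w_neg 1] at h1
    simpa using h1
  have hw : ∀ g, S g → S (R.w 1 * g) := by
    rintro g (⟨a, η, hη, rfl⟩ | ⟨a, b, η, hη, rfl⟩)
    · obtain ⟨a', e⟩ := (R.torus_x hη a).2
      obtain ⟨η', h1, h2⟩ := R.w_torus hη
      exact Or.inr ⟨0, a', η', h1, by rw [R.x_zero, one_mul, ← h2, e, mul_assoc]⟩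
    · obtain ⟨η', h1, h2⟩ := R.w_torus hη
      by_cases ha : a = 0
      · obtain ⟨b', e⟩ := (R.torus_x (mul_mem h1 hww) b).1
        refine Or.inl ⟨b', η' * (R.w 1 * R.w 1), mul_mem h1 hww, ?_⟩
        rw [← e, ha, R.x_zero, one_mul]
        calc R.w 1 * (η * R.w 1 * R.x b) = R.w 1 * η * R.w 1 * R.x b := by group
          _ = _ := by rw [h2]; group
      · have e1 : R.w 1 * R.x a = R.x (-a⁻¹) * R.h a⁻¹ * R.w 1 * R.x (-a⁻¹) * R.w 1 := by
          rw [R.w_x one_ne_zero, show R.x (-a⁻¹) * R.h a⁻¹ * R.w 1 = R.x (-a⁻¹) * R.w a⁻¹ by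
            rw [h, R.w_neg 1]; group]
          unfold w
          rw [R.x_neg, inv_inv]
          simp only [inv_one, one_pow, one_mul]
          group
        have h3 : η' * (R.w 1 * R.w 1) ∈ R.torus := mul_mem h1 hww
        obtain ⟨s, es⟩ := (R.torus_x h3 (-a⁻¹)).2
        obtain ⟨η'', h4, h5⟩ := R.w_torus h3
        refine Or.inr ⟨-a⁻¹, s + b, R.h a⁻¹ * η'', mul_mem (R.h_mem (inv_ne_zero ha)) h4, ?_⟩
        calc R.w 1 * (R.x a * η * R.w 1 * R.x b) = R.w 1 * R.x a * η * R.w 1 * R.x b := by group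
          _ = R.x (-a⁻¹) * R.h a⁻¹ * R.w 1 * R.x (-a⁻¹) * (R.w 1 * η) * R.w 1 * R.x b := by
            rw [e1]; group
          _ = R.x (-a⁻¹) * R.h a⁻¹ * R.w 1 * (R.x (-a⁻¹) * (η' * (R.w 1 * R.w 1))) * R.x b := by
            rw [h2]; group
          _ = R.x (-a⁻¹) * R.h a⁻¹ * (R.w 1 * (η' * (R.w 1 * R.w 1))) * (R.x s * R.x b) := by
            rw [es]; group
          _ = _ := by rw [h5, R.x_add]; group
  have hy : ∀ t g, S g → S (R.y t * g) := by
    intro t g hg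
    have e : R.y t = R.w 1 * R.x (-t) * (R.w 1)⁻¹ := by
      rw [R.w_x one_ne_zero, mul_inv_cancel_right]; simp
    have h0 := hw _ (hx (-t) _ (hT _ (inv_mem hww) _ (hw _ hg)))
    convert h0 using 1
    rw [e]; group
  have h1 : S 1 := Or.inl ⟨0, 1, one_mem _, by rw [R.x_zero, one_mul]⟩
  have hg : g ∈ Subgroup.closure (Set.range R.x ∪ Set.range R.y) := R.gen ▸ Subgroup.mem_top g
  induction hg using Subgroup.closure_induction_left with
  | one => exact h1
  | mul_left a ha b _ hb =>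
    rcases ha with ⟨t, rfl⟩ | ⟨t, rfl⟩
    exacts [hx t b hb, hy t b hb]
  | inv_mul_cancel a ha b _ hb =>
    rcases ha with ⟨t, rfl⟩ | ⟨t, rfl⟩
    · rw [← R.x_neg]; exact hx _ b hb
    · rw [← R.y_neg]; exact hy _ b hb

theorem ker_torus {g : G} (hg : R.f g = 1) : g ∈ R.torus := by
  rcases R.bruhat g with ⟨a, η, hη, rfl⟩ | ⟨a, b, η, hη, rfl⟩
  · obtain ⟨c, h1, -, -⟩ := R.torus_scale hη
    have e := congrArg (fun m : Matrix.SpecialLinearGroup (Fin 2) K => m.1 0 1) hg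
    simp only [map_mul, R.fx, Matrix.SpecialLinearGroup.coe_mul, coe_upper, h1,
      Matrix.SpecialLinearGroup.coe_one] at e
    simp [Matrix.mul_apply, Fin.sum_univ_two] at e
    rw [e, R.x_zero, one_mul]
    exact hη
  · obtain ⟨c, h1, -, -⟩ := R.torus_scale hη
    have e := congrArg (fun m : Matrix.SpecialLinearGroup (Fin 2) K => m.1 1 0) hg
    simp only [map_mul, R.fx, Matrix.SpecialLinearGroup.coe_mul, coe_upper, h1, R.f_w one_ne_zero,
      Matrix.SpecialLinearGroup.coe_one] at e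
    simp [Matrix.mul_apply, Fin.sum_univ_two] at e

theorem ker_center {g : G} (hg : R.f g = 1) : g ∈ Subgroup.center G := by
  obtain ⟨c, h1, hx, hy⟩ := R.torus_scale (R.ker_torus hg)
  have hc : (c : K) = 1 := by
    have e := congrFun (congrFun h1 0) 0
    simpa [hg] using e.symm
  have hle : Set.range R.x ∪ Set.range R.y ⊆ (Subgroup.centralizer ({g} : Set G) : Set G) := by
    rintro a (⟨t, rfl⟩ | ⟨t, rfl⟩) <;> refine Subgroup.mem_centralizer_singleton_iff.2 ?_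
    · simpa [hc] using (hx t).symm
    · simpa [hc] using (hy t).symm
  have htop : (⊤ : Subgroup G) ≤ Subgroup.centralizer ({g} : Set G) := by
    rw [← R.gen]; exact Subgroup.closure_le _ |>.2 hle
  exact Subgroup.mem_center_iff.2 fun a =>
    Subgroup.mem_centralizer_singleton_iff.1 (htop (Subgroup.mem_top a))

/-- Steinberg's identity -/
theorem symbol {u : K} (hu : u ≠ 0) (hv : 1 - u ≠ 0) : R.h u * R.h (1 - u) = R.h (u * (1 - u)) := by
  obtain ⟨v, hv'⟩ : ∃ v, v = 1 - u := ⟨_, rfl⟩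
  rw [← hv'] at hv ⊢
  have hnv : -v ≠ 0 := neg_ne_zero.2 hv
  have hyxy : R.w (-v) = R.y v⁻¹ * R.x (-v) * R.y v⁻¹ := by rw [R.w_eq hnv, inv_neg, neg_neg]
  have hmid : R.x (-v) = R.y (-v⁻¹) * R.w (-v) * R.y (-v⁻¹) := by
    rw [R.y_neg, hyxy]; group
  have key : R.h u = R.w (u * v) * R.w (-v) := by
    calc R.h u = R.x u * R.y (-u⁻¹) * (R.x u * R.x (-1)) * R.y 1 * R.x (-1) := by
          simp [h, w, mul_assoc]
      _ = R.x u * (R.y (-u⁻¹) * R.y (-v⁻¹)) * R.w (-v) * (R.y (-v⁻¹) * R.y 1) * R.x (-1) := by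
        rw [R.x_add, show u + -1 = -v by rw [hv']; ring, hmid]; group
      _ = R.x u * R.y (-(u * v)⁻¹) * (R.w (-v) * R.y (-u / v)) * R.x (-1) := by
        rw [R.y_add, R.y_add, show -u⁻¹ + -v⁻¹ = -(u * v)⁻¹ by field_simp; linear_combination -hv',
          show -v⁻¹ + 1 = -u / v by field_simp; linear_combination hv']
        group
      _ = R.x u * R.y (-(u * v)⁻¹) * R.x (u * v) * (R.w (-v) * R.x (-1)) := by
        rw [R.w_y hnv, show -((-v) ^ 2 * (-u / v)) = u * v by field_simp]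
        group
      _ = R.x (u + -(u * v)) * R.w (u * v) * R.y (v⁻¹ ^ 2) * R.w (-v) := by
        rw [R.w_x hnv, show -((-v)⁻¹ ^ 2 * -1) = v⁻¹ ^ 2 by field_simp, ← R.x_add, R.x_neg]
        simp only [w]
        group
      _ = R.x (u + -(u * v)) * (R.x (-((u * v) ^ 2 * v⁻¹ ^ 2)) * R.w (u * v)) * R.w (-v) := by
        rw [← R.w_y (mul_ne_zero hu hv)]; group
      _ = R.x 0 * R.w (u * v) * R.w (-v) := by
        rw [← mul_assoc (R.x (u + -(u * v))), R.x_add]
        congr 3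
        field_simp
        linear_combination (-u) * hv'
      _ = _ := by rw [R.x_zero, one_mul]
  rw [key]
  unfold h
  rw [R.w_neg v, R.w_neg 1]
  group

theorem h_mul [Finite K] {a b : K} (ha : a ≠ 0) (hb : b ≠ 0) : R.h a * R.h b = R.h (a * b) := by
  obtain ⟨h, hh⟩ : ∃ h : Kˣ → G, h = fun x : Kˣ => R.h (x : K) := ⟨_, rfl⟩
  suffices ∀ x y : Kˣ, h x * h y = h (x * y) by
    simpa [hh] using this (Units.mk0 a ha) (Units.mk0 b hb)
  have hz : ∀ x y : Kˣ, h x * h y * (h (x * y))⁻¹ ∈ Subgroup.center G := fun x y => by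
    refine R.ker_center ?_
    rw [map_mul, map_inv, mul_inv_eq_one]
    refine Subtype.ext ?_
    simp only [hh, map_mul, Matrix.SpecialLinearGroup.coe_mul, R.f_h x.ne_zero, R.f_h y.ne_zero,
      R.f_h (x * y).ne_zero]
    ext i j
    fin_cases i <;> fin_cases j <;> simp [Matrix.mul_apply, Fin.sum_univ_two, mul_comm]
  have hz' : ∀ x y : Kˣ, ∃ z ∈ Subgroup.center G, h (x * y) = z * (h x * h y) := fun x y =>
    ⟨_, inv_mem (hz x y), by group⟩
  obtain ⟨g, hg⟩ := IsCyclic.exists_generator (α := Kˣ)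
  have hg' : ∀ x : Kˣ, ∃ m : ℕ, g ^ m = x := fun x => mem_powers_iff_mem_zpowers.2 (hg x)
  have hpow : ∀ m : ℕ, ∃ z ∈ Subgroup.center G, h (g ^ m) = z * h g ^ m := by
    intro m
    induction m with
    | zero => exact ⟨1, one_mem _, by simp [hh, R.h_one]⟩
    | succ m ih =>
      obtain ⟨z, hz1, e⟩ := ih
      obtain ⟨z', hz2, e'⟩ := hz' (g ^ m) g
      exact ⟨z' * z, mul_mem hz2 hz1, by rw [pow_succ, e', e, pow_succ, mul_assoc, mul_assoc]⟩
  have hcomm : ∀ x y : Kˣ, h x * h y = h y * h x := by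
    intro x y
    obtain ⟨m, rfl⟩ := hg' x
    obtain ⟨n, rfl⟩ := hg' y
    obtain ⟨z, hz1, e⟩ := hpow m
    obtain ⟨w, hw1, e'⟩ := hpow n
    have c1 : ∀ k, k * z = z * k := Subgroup.mem_center_iff.1 hz1
    have c2 : ∀ k, k * w = w * k := Subgroup.mem_center_iff.1 hw1
    rw [e, e', mul_assoc z, ← mul_assoc (h g ^ m), c2 (h g ^ m), mul_assoc w, ← pow_add, add_comm,
      pow_add, ← mul_assoc z, ← c1 w, mul_assoc w, ← mul_assoc z, ← c1 (h g ^ n)]
    group
  have hsq : ∀ x y : Kˣ, h (x * x * y) = h y * h (x * x) := by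
    intro x y
    have hx0 : (x : K) ≠ 0 := x.ne_zero
    have e3 : ∀ c : K, R.h x * R.w c * (R.h x)⁻¹ = R.w ((x : K) ^ 2 * c) := fun c => by
      rw [show R.h x * R.w c = R.h x * (R.x c * R.y (-c⁻¹) * R.x c) from rfl,
        ← mul_assoc, ← mul_assoc, R.h_x hx0, mul_assoc (R.x _) (R.h _), R.h_y hx0]
      rw [show R.x ((x : K) ^ 2 * c) * (R.y ((x : K)⁻¹ ^ 2 * -c⁻¹) * R.h x) * R.x c =
        R.x ((x : K) ^ 2 * c) * R.y ((x : K)⁻¹ ^ 2 * -c⁻¹) * (R.h x * R.x c) by group, R.h_x hx0]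
      simp only [w, mul_inv_rev, mul_neg, inv_pow, mul_comm c⁻¹]
      group
    have e4 : h y = h (x * x * y) * (h (x * x))⁻¹ := by
      have := hcomm x y
      rw [← mul_inv_eq_iff_eq_mul] at this
      rw [← this]
      simp only [hh]
      show R.h x * (R.w (y : K) * R.w (-1)) * (R.h x)⁻¹ = _
      rw [show R.h x * (R.w (y : K) * R.w (-1)) * (R.h x)⁻¹ =
        (R.h x * R.w (y : K) * (R.h x)⁻¹) * (R.h x * R.w (-1) * (R.h x)⁻¹) by group, e3, e3]
      simp only [Rel1.h, Units.val_mul, mul_neg, mul_one, pow_two, mul_inv_rev]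
      rw [R.w_neg ((x : K) * x)]
      group
    rw [e4, inv_mul_cancel_right]
  have hsq1 : ∀ x y : Kˣ, IsSquare x → h x * h y = h (x * y) := by
    rintro _ y ⟨x, rfl⟩; rw [hsq, hcomm]
  by_cases hall : ∀ x : Kˣ, IsSquare x
  · exact fun x y => hsq1 x y (hall x)
  simp only [not_forall] at hall
  obtain ⟨e, he⟩ := hall
  have hns : ∀ x y : Kˣ, ¬ IsSquare x → ¬ IsSquare y → IsSquare (x * y⁻¹) := by
    intro x y hx hy
    obtain ⟨m, rfl⟩ := hg' x
    obtain ⟨n, rfl⟩ := hg' y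
    have hm : ¬ Even m := fun ⟨k, hk⟩ => hx ⟨g ^ k, by rw [hk, pow_add]⟩
    have hn : ¬ Even n := fun ⟨k, hk⟩ => hy ⟨g ^ k, by rw [hk, pow_add]⟩
    obtain ⟨k, hk⟩ : Even ((m : ℤ) - n) := by
      rw [Int.even_sub, Int.even_coe_nat, Int.even_coe_nat]; tauto
    exact ⟨g ^ k, by rw [← zpow_add, ← hk, zpow_sub, zpow_natCast, zpow_natCast]⟩
  obtain ⟨u, v, huu, hvv, huv⟩ : ∃ u v : Kˣ, ¬ IsSquare u ∧ ¬ IsSquare v ∧ (u : K) + v = 1 := by
    by_contra hne
    simp only [not_exists, not_and] at hne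
    have h0 : ∀ u : {u : Kˣ // ¬ IsSquare u}, 1 - (u.1 : K) ≠ 0 := by
      rintro ⟨u, hu⟩ h'
      exact hu ⟨1, Units.ext (by simpa using (sub_eq_zero.1 h').symm)⟩
    have h1 : ∀ u : {u : Kˣ // ¬ IsSquare u}, IsSquare (Units.mk0 _ (h0 u)) := fun u =>
      not_not.1 fun h' => hne u.1 _ u.2 h' (by simp)
    let φ : {u : Kˣ // ¬ IsSquare u} → {u : Kˣ // IsSquare u} := fun u => ⟨_, h1 u⟩
    have hφ : Function.Injective φ := fun a b hab => by
      have : (1 : K) - (a.1 : K) = 1 - (b.1 : K) :=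
        congrArg (fun z : {u : Kˣ // IsSquare u} => (z.1 : K)) hab
      exact Subtype.ext (Units.ext (sub_right_injective this))
    have hcard : Nat.card {u : Kˣ // IsSquare u} = Nat.card {u : Kˣ // ¬ IsSquare u} := by
      refine Nat.card_congr (Equiv.subtypeEquiv (Equiv.mulRight e) fun x => ?_)
      simp only [Equiv.coe_mulRight]
      constructor
      · rintro hx hxe
        exact he (by simpa using hx.inv.mul hxe)
      · intro hxe
        by_contra hx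
        exact hxe (by
          obtain ⟨k, hk⟩ := hns x e hx he
          exact ⟨k * e, by rw [mul_mul_mul_comm, ← hk]; group⟩)
    obtain ⟨u, hu⟩ := (hφ.bijective_of_nat_card_le hcard.le).2 ⟨1, IsSquare.one⟩
    have : (1 : K) - (u.1 : K) = 1 := congrArg (fun z : {u : Kˣ // IsSquare u} => (z.1 : K)) hu
    exact u.1.ne_zero (sub_eq_self.1 this)
  have huv' : h u * h v = h (u * v) := by
    simp only [hh, Units.val_mul]
    rw [show (v : K) = 1 - u by linear_combination huv]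
    refine R.symbol u.ne_zero ?_
    rw [show (1 : K) - u = v by linear_combination -huv]
    exact v.ne_zero
  intro x y
  by_cases hx : IsSquare x
  · exact hsq1 x y hx
  by_cases hy : IsSquare y
  · rw [hcomm, mul_comm]; exact hsq1 y x hy
  have hxu := hns x u hx huu
  have hyv := hns y v hy hvv
  have ex := hsq1 _ u hxu
  have ey := hsq1 _ v hyv
  rw [inv_mul_cancel_right] at ex ey
  have e : x * y = x * u⁻¹ * (y * v⁻¹) * (u * v) := by
    rw [mul_mul_mul_comm, inv_mul_cancel_right, inv_mul_cancel_right]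
  rw [← ex, ← ey, e, ← hsq1 _ _ (hxu.mul hyv), ← hsq1 _ _ hxu, ← huv']
  rw [← mul_assoc, mul_assoc (h (x * u⁻¹)) (h u), hcomm u]
  group

theorem injective [Finite K] : Function.Injective R.f := by
  refine (injective_iff_map_eq_one R.f).2 fun g hg => ?_
  have hmem : ∀ η ∈ R.torus, ∃ a : Kˣ, η = R.h a := by
    intro η hη
    induction hη using Subgroup.closure_induction with
    | mem g hg => obtain ⟨t, ht, rfl⟩ := hg; exact ⟨Units.mk0 t ht, rfl⟩
    | one => exact ⟨1, R.h_one.symm⟩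
    | mul g g' _ _ h h' =>
      obtain ⟨a, rfl⟩ := h; obtain ⟨b, rfl⟩ := h'
      exact ⟨a * b, R.h_mul a.ne_zero b.ne_zero⟩
    | inv g _ h =>
      obtain ⟨a, rfl⟩ := h
      refine ⟨a⁻¹, inv_eq_of_mul_eq_one_right ?_⟩
      rw [R.h_mul a.ne_zero (a⁻¹).ne_zero, ← Units.val_mul, mul_inv_cancel, Units.val_one, R.h_one]
  obtain ⟨a, rfl⟩ := hmem g (R.ker_torus hg)
  have e := congrFun (congrFun (R.f_h a.ne_zero) 0) 0
  rw [hg] at e
  have : (a : K) = 1 := by simpa using e.symm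
  rw [this, R.h_one]

theorem surjective : Function.Surjective R.f := fun g => by
  obtain ⟨r, a, b, c, rfl⟩ := exists_word g
  exact ⟨R.y r * (R.x a * R.y b * R.x c), by simp only [map_mul, R.fx, R.fy]⟩

end Rel1

end CfsgLib.Known.SLPresentation
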