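import Cfsg.Agent.Lib.Classical.ClassTheory.SpModels

/-!
# Orders of matrices with self-reciprocal characteristic polynomial

If `(q - 1) N ≤ q ^ (n / 2 + 1)` is the claimed bound, some such `N` gives a scalar power of the matrix.
-/

set_option autoImplicit false

open Polynomial UniqueFactorizationMonoid

namespace CfsgLib.Known.SelfDualOrders

open CfsgLib.Classical.ClassTheory (dualPoly)

theorem odd_term_le {q a : ℕ} (hq : 2 ≤ q) (ha : 1 ≤ a) : (q ^ a + 1) / (q + 1) ≤ q ^ (a - 1) := by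
  apply Nat.div_le_of_le_mul
  have h : q ^ a = q * q ^ (a - 1) := by rw [← pow_succ', Nat.sub_add_cancel ha]
  have := Nat.one_le_pow (a - 1) q (by omega)
  rw [h]
  nlinarith

/-- A common multiple of the `q ^ a + 1`, smaller than their product. -/
theorem exists_lcm_plus : ∀ (t q : ℕ) (M : Finset ℕ), 2 ≤ q → (∀ a ∈ M, 1 ≤ a) → ∑ a ∈ M, a = t →
    ∃ L, 0 < L ∧ (∀ a ∈ M, q ^ a + 1 ∣ L) ∧ (q - 1) * L ≤ q ^ (t + 1) := by
  intro t
  induction t using Nat.strong_induction_on with
  | _ t ih =>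
  intro q M hq hM ht
  classical
  rcases M.eq_empty_or_nonempty with rfl | ⟨a₀, ha₀⟩
  · refine ⟨1, one_pos, by simp, ?_⟩
    calc (q - 1) * 1 ≤ q ^ 1 := by simp
      _ ≤ _ := Nat.pow_le_pow_right (by omega) (by omega)
  set O := M.filter (fun a => Odd a) with hO
  set E := (M.filter (fun a => ¬ Odd a)).image (· / 2) with hE
  have hev : ∀ a ∈ M.filter (fun a => ¬ Odd a), 2 * (a / 2) = a := fun a ha => by
    obtain ⟨k, hk⟩ := Nat.not_odd_iff_even.1 (Finset.mem_filter.1 ha).2
    omega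
  have hEsum : 2 * ∑ e ∈ E, e = ∑ a ∈ M.filter (fun a => ¬ Odd a), a := by
    rw [hE, Finset.sum_image (fun x hx y hy h => by
      have := hev x hx; have := hev y hy; omega), Finset.mul_sum]
    exact Finset.sum_congr rfl hev
  have hsplit : ∑ a ∈ O, a + 2 * ∑ e ∈ E, e = t := by
    rw [hEsum, hO, Finset.sum_filter_add_sum_filter_not, ht]
  have htpos : 1 ≤ t := by
    rw [← ht]; exact (hM a₀ ha₀).trans (Finset.single_le_sum (f := fun a : ℕ => a) (fun _ _ => Nat.zero_le _) ha₀)
  have hE1 : ∀ e ∈ E, 1 ≤ e := fun e he => by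
    obtain ⟨a, ha, rfl⟩ := Finset.mem_image.1 he
    have h1 := hev a ha
    have h2 := hM a (Finset.mem_filter.1 ha).1
    omega
  obtain ⟨L₂, hL₂, hdiv, hle⟩ := ih (∑ e ∈ E, e) (by omega) (q ^ 2) E (by nlinarith) hE1 rfl
  have hdiv2 : ∀ a ∈ M.filter (fun a => ¬ Odd a), q ^ a + 1 ∣ L₂ := fun a ha => by
    have := hdiv (a / 2) (Finset.mem_image.2 ⟨a, ha, rfl⟩)
    rwa [← pow_mul, hev a ha] at this
  rw [← pow_mul, show q ^ 2 - 1 = (q - 1) * (q + 1) by
    rw [mul_comm, ← Nat.sq_sub_sq, one_pow]] at hle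
  rcases O.eq_empty_or_nonempty with hO0 | hOne
  · refine ⟨L₂, hL₂, fun a ha => hdiv2 a (Finset.mem_filter.2 ⟨ha, fun ho => ?_⟩), ?_⟩
    · have : a ∈ O := Finset.mem_filter.2 ⟨ha, ho⟩
      rw [hO0] at this
      exact Finset.notMem_empty a this
    · rw [hO0, Finset.sum_empty, zero_add] at hsplit
      have e : q ^ (2 * ((∑ e ∈ E, e) + 1)) = q * q ^ (t + 1) := by
        rw [← pow_succ']; congr 1; omega
      rw [e] at hle
      refine Nat.le_of_mul_le_mul_left (le_trans ?_ hle) (show 0 < q by omega)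
      calc q * ((q - 1) * L₂) ≤ (q + 1) * ((q - 1) * L₂) := Nat.mul_le_mul_right _ (by omega)
        _ = _ := by ring
  · refine ⟨(q + 1) * (∏ a ∈ O, (q ^ a + 1) / (q + 1)) * L₂, ?_, fun a ha => ?_, ?_⟩
    · have hp : 0 < ∏ a ∈ O, (q ^ a + 1) / (q + 1) := Finset.prod_pos fun a ha => by
        have hd : q + 1 ∣ q ^ a + 1 := by
          simpa using Odd.nat_add_dvd_pow_add_pow q 1 (Finset.mem_filter.1 ha).2
        exact Nat.div_pos (Nat.le_of_dvd (Nat.succ_pos _) hd) (Nat.succ_pos _)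
      exact Nat.mul_pos (Nat.mul_pos (Nat.succ_pos _) hp) hL₂
    · by_cases ho : Odd a
      · have hd : q + 1 ∣ q ^ a + 1 := by simpa using Odd.nat_add_dvd_pow_add_pow q 1 ho
        refine Dvd.dvd.mul_right ?_ _
        rw [← Nat.mul_div_cancel' hd]
        exact mul_dvd_mul_left _ (Finset.dvd_prod_of_mem (fun a => (q ^ a + 1) / (q + 1))
          (Finset.mem_filter.2 ⟨ha, ho⟩))
      · exact (hdiv2 a (Finset.mem_filter.2 ⟨ha, ho⟩)).mul_left _
    · have hp : ∏ a ∈ O, (q ^ a + 1) / (q + 1) ≤ q ^ (∑ a ∈ O, (a - 1)) := by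
        rw [← Finset.prod_pow_eq_pow_sum]
        exact Finset.prod_le_prod' fun a ha => odd_term_le hq (hM a (Finset.mem_filter.1 ha).1)
      obtain ⟨b, hb⟩ := hOne
      have hlt : ∑ a ∈ O, (a - 1) + 1 ≤ ∑ a ∈ O, a := by
        have hcard : 1 ≤ O.card := Finset.card_pos.2 ⟨b, hb⟩
        have : ∑ a ∈ O, (a - 1) + O.card = ∑ a ∈ O, a := by
          rw [Finset.card_eq_sum_ones, ← Finset.sum_add_distrib]
          exact Finset.sum_congr rfl fun a ha => Nat.sub_add_cancel (hM a (Finset.mem_filter.1 ha).1)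
        omega
      calc (q - 1) * ((q + 1) * (∏ a ∈ O, (q ^ a + 1) / (q + 1)) * L₂)
          = (∏ a ∈ O, (q ^ a + 1) / (q + 1)) * ((q - 1) * (q + 1) * L₂) := by ring
        _ ≤ q ^ (∑ a ∈ O, (a - 1)) * q ^ (2 * ((∑ e ∈ E, e) + 1)) := Nat.mul_le_mul hp hle
        _ ≤ q ^ (t + 1) := by
          rw [← pow_add]
          exact Nat.pow_le_pow_right (by omega) (by omega)

theorem clog_le_pred {p e : ℕ} (hp : 2 ≤ p) (he : 1 ≤ e) : Nat.clog p e ≤ e - 1 := by
  refine Nat.clog_le_of_le_pow ?_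
  have := Nat.lt_pow_self (n := e - 1) (show 1 < p by omega)
  omega

theorem clog_le_half {p e : ℕ} (hp : 2 ≤ p) (h : 3 ≤ p ∨ Even e) : Nat.clog p e ≤ e / 2 := by
  refine Nat.clog_le_of_le_pow ?_
  set k := e / 2 with hk
  rcases h with h | ⟨j, hj⟩
  · have h1 : ∀ k : ℕ, 2 * k + 1 ≤ 3 ^ k := by
      intro k
      induction k with
      | zero => simp
      | succ k ih => rw [pow_succ]; omega
    have := h1 k
    have := Nat.pow_le_pow_left h k
    omega
  · have h1 : ∀ k : ℕ, 2 * k ≤ 2 ^ k := by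
      intro k
      induction k with
      | zero => simp
      | succ k ih =>
        rw [pow_succ]
        have := Nat.one_le_two_pow (n := k)
        omega
    have := h1 k
    have := Nat.pow_le_pow_left hp k
    omega

theorem clog_two_values {p e n : ℕ} (hp : 3 ≤ p) (he : e + 1 ≤ n) (hn : Even n ∨ 7 ≤ n) :
    Nat.clog p e + 1 ≤ n / 2 ∨ n ≤ 1 := by
  rcases Nat.lt_or_ge 1 n with hn1 | hn1
  swap
  · exact Or.inr hn1
  left
  by_cases hev : Even n
  · have h := clog_le_half (e := e) (by omega) (Or.inl hp)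
    obtain ⟨j, hj⟩ := hev
    omega
  · have h7 : 7 ≤ n := hn.resolve_left hev
    obtain ⟨j, hj⟩ := Nat.not_even_iff_odd.1 hev
    have h1 : ∀ k : ℕ, 2 * (k + 3) + 1 ≤ 3 ^ (k + 2) := by
      intro k
      induction k with
      | zero => simp
      | succ k ih =>
        rw [show k + 1 + 2 = (k + 2) + 1 by omega, pow_succ]
        omega
    have h2 := h1 (n / 2 - 3)
    have h3 := Nat.pow_le_pow_left hp (n / 2 - 3 + 2)
    have h4 : Nat.clog p e ≤ n / 2 - 3 + 2 := Nat.clog_le_of_le_pow (by omega)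
    omega

variable {F : Type*} [Field F] [Finite F]

/-- A self-reciprocal irreducible polynomial without roots `±1`. -/
theorem dual_facts {p : ℕ} [Fact p.Prime] [CharP F p] {f : F[X]} (hfi : Irreducible f) (hfm : f.Monic)
    (hf0 : f.coeff 0 ≠ 0) (hd : dualPoly (RingHom.id F) f = f) (h1 : ∀ c : F, c * c = 1 → f ≠ X - C c) :
    ∃ a, 1 ≤ a ∧ f.natDegree = 2 * a ∧ f ∣ X ^ (Nat.card F ^ a + 1) - 1 := by
  haveI : Fact (Irreducible f) := ⟨hfi⟩
  haveI : FiniteDimensional F (AdjoinRoot f) := (AdjoinRoot.powerBasis hfi.ne_zero).finite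
  haveI : Finite (AdjoinRoot f) := Module.finite_of_finite F
  haveI : Fintype (AdjoinRoot f) := Fintype.ofFinite _
  set r := AdjoinRoot.root f
  have hr0 : r ≠ 0 := CfsgLib.Classical.ClassTheory.root_ne_zero hf0
  obtain ⟨ι, hι, hιι⟩ := CfsgLib.Classical.ClassTheory.exists_field_involution hf0 hd
  obtain ⟨i, hi⟩ := FiniteField.exists_forall_apply_eq_pow F p (AdjoinRoot f) ι
  have hroot : ∀ P : F[X], aeval r P = 0 ↔ f ∣ P := fun P => by
    rw [AdjoinRoot.aeval_eq, AdjoinRoot.mk_eq_zero]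
  have hcardK : ∀ x : AdjoinRoot f, x ^ Nat.card F ^ f.natDegree = x := fun x => by
    have e : Nat.card (AdjoinRoot f) = Nat.card F ^ f.natDegree := by
      rw [Module.natCard_eq_pow_finrank (K := F), (AdjoinRoot.powerBasis hfi.ne_zero).finrank,
        AdjoinRoot.powerBasis_dim]
    rw [← e, Nat.card_eq_fintype_card, FiniteField.pow_card]
  have h2i : r ^ Nat.card F ^ (2 * i) = r := by
    rw [two_mul, pow_add, pow_mul, ← hi r, ← hi, hιι]
  have hD2 : f.natDegree ∣ 2 * i :=
    hfi.natDegree_dvd_iff_dvd_X_pow_card_pow_sub_X.2 ((hroot _).1 (by simp [h2i]))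
  have hDi : ¬ f.natDegree ∣ i := by
    intro hd'
    have h3 := (hroot _).2 (hfi.natDegree_dvd_iff_dvd_X_pow_card_pow_sub_X.1 hd')
    simp only [map_sub, map_pow, aeval_X, sub_eq_zero] at h3
    rw [← hi r, hι] at h3
    have hrr : r * r = 1 := by
      nth_rewrite 1 [← h3]
      exact inv_mul_cancel₀ hr0
    obtain ⟨c, hc, hc1⟩ : ∃ c : F, algebraMap F _ c = r ∧ c * c = 1 := by
      rcases mul_self_eq_one_iff.1 hrr with e | e
      · exact ⟨1, by rw [e, map_one], one_mul 1⟩
      · exact ⟨-1, by rw [e, map_neg, map_one], by ring⟩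
    have hdvd : f ∣ X - C c := (hroot _).1 (by rw [map_sub, aeval_X, aeval_C, hc, sub_self])
    exact h1 c hc1 (eq_of_monic_of_associated hfm (monic_X_sub_C c)
      (hfi.associated_of_dvd (irreducible_X_sub_C c) hdvd))
  obtain ⟨d, hd'⟩ : 2 ∣ f.natDegree := by
    by_contra hodd
    exact hDi (((Nat.prime_two.coprime_iff_not_dvd.2 hodd).symm).dvd_of_dvd_mul_left hD2)
  have hpos := hfi.natDegree_pos
  refine ⟨d, by omega, hd', ?_⟩
  obtain ⟨c, hic⟩ : d ∣ i := by
    rw [hd'] at hD2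
    exact (Nat.mul_dvd_mul_iff_left two_pos).1 hD2
  obtain ⟨c', hc'⟩ : ∃ c', c = 2 * c' + 1 := by
    rcases Nat.even_or_odd' c with ⟨k, hk | hk⟩
    · exact absurd ⟨k, by rw [hic, hk, hd']; ring⟩ hDi
    · exact ⟨k, hk⟩
  have hfix : ∀ k, r ^ Nat.card F ^ (f.natDegree * k) = r := fun k => by
    induction k with
    | zero => simp
    | succ k ih => rw [mul_add, mul_one, pow_add, pow_mul, ih, hcardK]
  have hid : r ^ Nat.card F ^ d = r⁻¹ := by
    rw [← hι, hi r, hic, hc', show d * (2 * c' + 1) = f.natDegree * c' + d by rw [hd']; ring, pow_add, pow_mul, hfix]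
  rw [← hroot, map_sub, map_pow, aeval_X, map_one, pow_succ, hid, inv_mul_cancel₀ hr0, sub_self]

/-- An irreducible polynomial with non-zero constant term. -/
theorem dvd_card_sub_one {f : F[X]} (hfi : Irreducible f) (hf0 : f.coeff 0 ≠ 0) :
    f ∣ X ^ (Nat.card F ^ f.natDegree - 1) - 1 := by
  have hnX : ¬ f ∣ X := fun h => by
    have := X_dvd_iff.1 ((hfi.associated_of_dvd irreducible_X h).symm.dvd)
    exact hf0 this
  have h : f ∣ X * (X ^ (Nat.card F ^ f.natDegree - 1) - 1) := by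
    have := hfi.natDegree_dvd_iff_dvd_X_pow_card_pow_sub_X.1 (dvd_refl f.natDegree)
    rwa [mul_sub, ← pow_succ', mul_one, Nat.sub_add_cancel (Nat.one_le_pow _ _ Nat.card_pos)]
  exact (hfi.prime.dvd_mul.1 h).resolve_left hnX

/-- The key bound. -/
theorem exists_pow_scalar {κ : Type*} [Fintype κ] [DecidableEq κ] (M : Matrix κ κ F)
    (hn : Even (Fintype.card κ) ∨ ((2 : F) ≠ 0 ∧ 7 ≤ Fintype.card κ))
    (hdual : dualPoly (RingHom.id F) M.charpoly = M.charpoly) (hdet : M.det ≠ 0) :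
    ∃ N, 0 < N ∧ (Nat.card F - 1) * N ≤ Nat.card F ^ (Fintype.card κ / 2 + 1) ∧
      ∃ c : F, M ^ N = Matrix.scalar κ c := by
  classical
  obtain ⟨p, hp⟩ := CharP.exists F
  haveI : Fintype F := Fintype.ofFinite F
  have hpp : p.Prime := (CharP.char_is_prime_or_zero F p).resolve_right (CharP.char_ne_zero_of_finite F p)
  haveI : Fact p.Prime := ⟨hpp⟩
  obtain ⟨⟨f', hf'⟩, -, hqf⟩ := FiniteField.card F p
  rw [← Nat.card_eq_fintype_card] at hqf
  set q := Nat.card F with hq
  have hpq : p ≤ q := by rw [hqf]; exact Nat.le_self_pow hf'.ne' p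
  have hq2 : 2 ≤ q := hpp.two_le.trans hpq
  rcases Nat.eq_zero_or_pos (Fintype.card κ) with hn0 | hn0
  · haveI := Fintype.card_eq_zero_iff.1 hn0
    refine ⟨1, one_pos, ?_, 0, Subsingleton.elim _ _⟩
    calc (q - 1) * 1 ≤ q ^ 1 := by simp
      _ ≤ _ := Nat.pow_le_pow_right (by omega) (by omega)
  set χ := M.charpoly with hχdef
  set n := Fintype.card κ with hndef
  have hχm : χ.Monic := M.charpoly_monic
  have hχ0 : χ.coeff 0 ≠ 0 := fun h => hdet (by
    rw [Matrix.det_eq_sign_charpoly_coeff, ← hχdef, h, mul_zero])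
  set NF := normalizedFactors χ with hNF
  set s := NF.toFinset with hs
  set e := fun f => NF.count f with he
  have hirr : ∀ f ∈ s, Irreducible f ∧ f.Monic ∧ f.coeff 0 ≠ 0 := by
    intro f hf
    rw [hs, Multiset.mem_toFinset] at hf
    have hi := irreducible_of_normalized_factor f hf
    refine ⟨hi, ?_, fun h => hχ0 ?_⟩
    · rw [← normalize_normalized_factor f hf]
      exact monic_normalize hi.ne_zero
    · obtain ⟨c, hc⟩ := dvd_of_mem_normalizedFactors hf
      rw [hc, mul_coeff_zero, h, zero_mul]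
  have hprodNF : NF.prod = χ := by
    refine eq_of_monic_of_associated ?_ hχm (prod_normalizedFactors hχm.ne_zero)
    have h := monic_multiset_prod_of_monic NF (fun x => x) fun a ha => (hirr a (Multiset.mem_toFinset.2 ha)).2.1
    rwa [Multiset.map_id'] at h
  have hprod : χ = ∏ f ∈ s, f ^ e f := by rw [← hprodNF, Finset.prod_multiset_count]
  have he1 : ∀ f ∈ s, 1 ≤ e f := fun f hf => Multiset.count_pos.2 (Multiset.mem_toFinset.1 hf)
  have hdeg : ∑ f ∈ s, e f * f.natDegree = n := by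
    rw [show n = χ.natDegree from (Matrix.charpoly_natDegree_eq_dim M).symm, hprod,
      natDegree_prod _ _ fun f hf => pow_ne_zero _ (hirr f hf).1.ne_zero]
    exact Finset.sum_congr rfl fun f _ => (natDegree_pow f _).symm
  -- the involution
  set δ := dualPoly (RingHom.id F) with hδ
  have hδδ : ∀ f ∈ s, δ (δ f) = f := fun f hf =>
    CfsgLib.Classical.ClassTheory.dualPoly_dualPoly _ (fun _ => rfl) (hirr f hf).2.1 (hirr f hf).2.2
  have hmap : NF.map δ = NF := by
    have hi : ∀ a ∈ NF.map δ, Irreducible a ∧ a.Monic := by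
      intro a ha
      obtain ⟨f, hf, rfl⟩ := Multiset.mem_map.1 ha
      obtain ⟨h1, h2, h3⟩ := hirr f (Multiset.mem_toFinset.2 hf)
      exact ⟨CfsgLib.Classical.ClassTheory.irreducible_dualPoly _ (fun _ => rfl) h2 h1 h3,
        CfsgLib.Classical.ClassTheory.monic_dualPoly _ h3⟩
    have hmul : ∀ T : Multiset F[X], δ T.prod = (T.map δ).prod := by
      intro T
      induction T using Multiset.induction_on with
      | empty => simp [hδ, CfsgLib.Classical.ClassTheory.dualPoly_one]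
      | cons a T ih =>
        rw [Multiset.prod_cons, Multiset.map_cons, Multiset.prod_cons, ← ih]
        exact CfsgLib.Classical.ClassTheory.dualPoly_mul _ _ _
    have h := normalizedFactors_prod_eq _ fun a ha => (hi a ha).1
    rw [← hmul, hprodNF, hdual, ← hNF] at h
    conv_rhs => rw [h]
    rw [Multiset.map_map]
    refine Multiset.map_congr rfl fun f hf => ?_
    exact ((hi (δ f) (Multiset.mem_map_of_mem _ hf)).2.normalize_eq_self).symm
  have hδs : ∀ f ∈ s, δ f ∈ s := fun f hf => by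
    rw [hs, Multiset.mem_toFinset, ← hmap]
    exact Multiset.mem_map_of_mem _ (Multiset.mem_toFinset.1 hf)
  have heδ : ∀ f ∈ s, e (δ f) = e f := fun f hf => by
    show NF.count (δ f) = NF.count f
    conv_lhs => rw [← hmap]
    refine Multiset.count_map_eq_count δ NF (fun x hx y hy hxy => ?_) f (Multiset.mem_toFinset.1 hf)
    rw [← hδδ x (Multiset.mem_toFinset.2 hx), hxy, hδδ y (Multiset.mem_toFinset.2 hy)]
  have hδdeg : ∀ f ∈ s, (δ f).natDegree = f.natDegree := fun f hf =>
    CfsgLib.Classical.ClassTheory.natDegree_dualPoly _ (hirr f hf).2.2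
  -- the three kinds
  set One := s.filter (fun f => f = X - C 1 ∨ f = X - C (-1)) with hOne
  set S := s.filter (fun f => ¬ (f = X - C 1 ∨ f = X - C (-1)) ∧ δ f = f) with hS
  set P := s.filter (fun f => ¬ (f = X - C 1 ∨ f = X - C (-1)) ∧ δ f ≠ f) with hP
  have hpart : ∀ g : F[X] → ℕ, ∑ f ∈ One, g f + ∑ f ∈ S, g f + ∑ f ∈ P, g f = ∑ f ∈ s, g f := by
    intro g
    rw [hOne, hS, hP, ← Finset.sum_filter_add_sum_filter_not s (fun f => f = X - C 1 ∨ f = X - C (-1)) g,
      add_assoc]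
    congr 1
    rw [← Finset.sum_filter_add_sum_filter_not (s.filter fun f => ¬ (f = X - C 1 ∨ f = X - C (-1)))
      (fun f => δ f = f) g, Finset.filter_filter, Finset.filter_filter]
  have hδX : ∀ c : F, c * c = 1 → δ (X - C c) = X - C c := by
    intro c hc
    have h0 : (X - C c : F[X]).coeff 0 ≠ 0 := by
      simpa using left_ne_zero_of_mul_eq_one hc
    ext j
    rw [hδ, CfsgLib.Classical.ClassTheory.coeff_dualPoly, natDegree_X_sub_C]
    have hc0 : c ≠ 0 := left_ne_zero_of_mul_eq_one hc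
    rcases j with _ | _ | j
    · rw [revAt_le (by omega)]
      simp only [RingHom.id_apply, coeff_sub, coeff_X_zero, coeff_C_zero, zero_sub, Nat.sub_zero, coeff_X_one,
        coeff_C_ne_zero one_ne_zero, sub_zero, mul_one]
      exact inv_eq_of_mul_eq_one_right (by rw [neg_mul_neg, hc])
    · rw [revAt_le le_rfl]
      simp [hc0, coeff_X, coeff_C]
    · rw [revAt_eq_self_of_lt (by omega)]
      simp [coeff_X, coeff_C]
  have hPδ : ∀ f ∈ P, δ f ∈ P := by
    intro f hf
    obtain ⟨hfs, hne, hd⟩ := Finset.mem_filter.1 hf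
    refine Finset.mem_filter.2 ⟨hδs f hfs, fun h => ?_, fun h => hd ?_⟩
    · refine hd ?_
      have h2 : δ (δ f) = δ f := by
        rcases h with h | h <;> rw [h]
        · exact hδX 1 (one_mul 1)
        · exact hδX (-1) (by ring)
      rw [hδδ f hfs] at h2
      exact h2.symm
    · rw [hδδ f hfs] at h
      exact h.symm
  -- exponents
  set A := P.image natDegree with hA
  set B := S.image (fun f => f.natDegree / 2) with hB
  have hSf : ∀ f ∈ S, ∃ a, 1 ≤ a ∧ f.natDegree = 2 * a ∧ f ∣ X ^ (q ^ a + 1) - 1 := by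
    intro f hf
    obtain ⟨hfs, hne, hd⟩ := Finset.mem_filter.1 hf
    refine dual_facts (p := p) (hirr f hfs).1 (hirr f hfs).2.1 (hirr f hfs).2.2 hd fun c hc h => hne ?_
    rcases mul_self_eq_one_iff.1 hc with rfl | rfl
    exacts [Or.inl h, Or.inr h]
  have hB1 : ∀ a ∈ B, 1 ≤ a := fun a ha => by
    obtain ⟨f, hf, rfl⟩ := Finset.mem_image.1 ha
    obtain ⟨a, ha1, ha2, -⟩ := hSf f hf
    omega
  obtain ⟨L₁, hL₁, hL₁d, hL₁le⟩ := exists_lcm_plus _ q B hq2 hB1 rfl
  set L := (∏ a ∈ A, (q ^ a - 1)) * L₁ with hL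
  have hLle : (q - 1) * L ≤ q ^ (∑ a ∈ A, a + ∑ a ∈ B, a + 1) := by
    calc (q - 1) * L = (∏ a ∈ A, (q ^ a - 1)) * ((q - 1) * L₁) := by rw [hL]; ring
      _ ≤ q ^ (∑ a ∈ A, a) * q ^ (∑ a ∈ B, a + 1) := by
        refine Nat.mul_le_mul ?_ hL₁le
        rw [← Finset.prod_pow_eq_pow_sum]
        exact Finset.prod_le_prod' fun a _ => Nat.sub_le _ _
      _ = _ := by rw [← pow_add]; ring_nf
  have hA1 : ∀ a ∈ A, 1 ≤ a := fun a ha => by
    obtain ⟨f, hf, rfl⟩ := Finset.mem_image.1 ha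
    exact (hirr f (Finset.mem_filter.1 hf).1).1.natDegree_pos
  have hLpos : 0 < L := Nat.mul_pos (Finset.prod_pos fun a ha => by
    have := Nat.one_lt_pow (show a ≠ 0 by have := hA1 a ha; omega) (show 1 < q by omega)
    omega) hL₁
  have hAsum : 2 * ∑ a ∈ A, a ≤ ∑ f ∈ P, f.natDegree := by
    rw [hA, Finset.mul_sum, ← Finset.sum_fiberwise_of_maps_to (g := natDegree) (fun f hf => Finset.mem_image_of_mem _ hf)
      (fun f => f.natDegree)]
    refine Finset.sum_le_sum fun a ha => ?_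
    obtain ⟨f, hf, rfl⟩ := Finset.mem_image.1 ha
    rw [Finset.sum_congr rfl (g := fun _ => f.natDegree) (fun x hx => (Finset.mem_filter.1 hx).2),
      Finset.sum_const, smul_eq_mul]
    refine Nat.mul_le_mul_right _ ?_
    refine Finset.one_lt_card.2 ⟨f, Finset.mem_filter.2 ⟨hf, rfl⟩, δ f, Finset.mem_filter.2 ⟨hPδ f hf,
      hδdeg f (Finset.mem_filter.1 hf).1⟩, fun h => ?_⟩
    exact (Finset.mem_filter.1 hf).2.2 h.symm
  have hBsum : 2 * ∑ a ∈ B, a ≤ ∑ f ∈ S, f.natDegree := by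
    have h1 : ∑ a ∈ B, a ≤ ∑ f ∈ S, f.natDegree / 2 :=
      Finset.sum_image_le_of_nonneg (f := fun a : ℕ => a) fun _ _ => Nat.zero_le _
    have h2 : 2 * ∑ f ∈ S, f.natDegree / 2 ≤ ∑ f ∈ S, f.natDegree := by
      rw [Finset.mul_sum]
      exact Finset.sum_le_sum fun f _ => by omega
    omega
  -- the unipotent exponent
  obtain ⟨f₀, hf₀, hmax⟩ : ∃ f₀ ∈ s, ∀ f ∈ s, e f ≤ e f₀ := by
    refine Finset.exists_max_image s e ?_
    by_contra h
    rw [Finset.not_nonempty_iff_eq_empty] at h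
    rw [h, Finset.sum_empty] at hdeg
    omega
  set k := Nat.clog p (e f₀) with hk
  have hkle : ∀ f ∈ s, e f ≤ p ^ k := fun f hf =>
    (hmax f hf).trans (Nat.le_pow_clog hpp.one_lt _)
  have hOnedeg : ∀ f ∈ One, f.natDegree = 1 := fun f hf => by
    rcases (Finset.mem_filter.1 hf).2 with rfl | rfl <;> exact natDegree_X_sub_C _
  have hdeg3 : ∑ f ∈ One, e f * f.natDegree + ∑ f ∈ S, e f * f.natDegree + ∑ f ∈ P, e f * f.natDegree = n :=
    (hpart _).trans hdeg
  have hkill : ∀ N' : ℕ, (∀ f ∈ s, f ∣ X ^ N' - 1) → M ^ (N' * p ^ k) = 1 := by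
    intro N' h
    have hd : χ ∣ X ^ (N' * p ^ k) - 1 := by
      rw [hprod]
      refine Finset.prod_dvd_of_coprime (fun f hf g hg hfg => IsCoprime.pow ?_) fun f hf => ?_
      · refine (hirr f hf).1.coprime_iff_not_dvd.2 fun hd => hfg ?_
        exact eq_of_monic_of_associated (hirr f hf).2.1 (hirr g hg).2.1
          ((hirr f hf).1.associated_of_dvd (hirr g hg).1 hd)
      · rw [pow_mul, show ((X : F[X]) ^ N') ^ p ^ k - 1 = (X ^ N' - 1) ^ p ^ k by
          rw [sub_pow_char_pow, one_pow]]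
        exact (pow_dvd_pow f (hkle f hf)).trans (pow_dvd_pow_of_dvd (h f hf) _)
    obtain ⟨c, hc⟩ := hd
    have h2 := congrArg (aeval M) hc
    rw [map_sub, map_pow, aeval_X, map_one, map_mul, hχdef, Matrix.aeval_self_charpoly, zero_mul, sub_eq_zero] at h2
    exact h2
  by_cases hSP : S ∪ P = ∅
  · -- only the eigenvalues `±1`
    obtain ⟨hS0, hP0⟩ := Finset.union_eq_empty.1 hSP
    have hsub : ∀ f ∈ s, f = X - C 1 ∨ f = X - C (-1) := by
      intro f hf
      by_contra h
      by_cases hd : δ f = f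
      · exact Finset.notMem_empty f (hS0 ▸ Finset.mem_filter.2 ⟨hf, h, hd⟩)
      · exact Finset.notMem_empty f (hP0 ▸ Finset.mem_filter.2 ⟨hf, h, hd⟩)
    by_cases h1 : ∀ f ∈ s, f = f₀
    · have hs1 : s = {f₀} := Finset.eq_singleton_iff_unique_mem.2 ⟨hf₀, h1⟩
      have hd0 : f₀.natDegree = 1 := by
        rcases hsub f₀ hf₀ with h | h <;> rw [h] <;> exact natDegree_X_sub_C _
      have hen : e f₀ = n := by rw [← hdeg, hs1, Finset.sum_singleton, hd0, mul_one]
      obtain ⟨c, hc⟩ : ∃ c : F, f₀ = X - C c := by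
        rcases hsub f₀ hf₀ with h | h <;> exact ⟨_, h⟩
      refine ⟨p ^ k, pow_pos hpp.pos _, ?_, c ^ p ^ k, ?_⟩
      · have hkn : k ≤ n / 2 := by
          rw [hk, hen]
          refine clog_le_half hpp.two_le ?_
          rcases hn with hn | ⟨h2, -⟩
          · exact Or.inr hn
          · refine Or.inl ?_
            rcases Nat.lt_or_ge 2 p with h | h
            · omega
            · obtain rfl : p = 2 := le_antisymm h hpp.two_le
              exact absurd (CharP.cast_eq_zero F 2) (by simpa using h2)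
        calc (q - 1) * p ^ k ≤ q * q ^ k := Nat.mul_le_mul (Nat.sub_le _ _) (Nat.pow_le_pow_left hpq k)
          _ ≤ q ^ (n / 2 + 1) := by
            rw [← pow_succ']; exact Nat.pow_le_pow_right (by omega) (by omega)
      · have hz : aeval M ((X - C c) ^ p ^ k) = 0 := by
          obtain ⟨w, hw⟩ : χ ∣ (X - C c) ^ p ^ k := by
            rw [hprod, hs1, Finset.prod_singleton, ← hc]
            exact pow_dvd_pow _ (hkle f₀ hf₀)
          rw [hw, map_mul, hχdef, Matrix.aeval_self_charpoly, zero_mul]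
        rw [sub_pow_char_pow, ← C_pow, map_sub, map_pow, aeval_X, aeval_C, sub_eq_zero] at hz
        rw [hz]
        rfl
    · push Not at h1
      obtain ⟨f₁, hf₁, hne⟩ := h1
      have hp3 : 3 ≤ p := by
        rcases Nat.lt_or_ge 2 p with h | h
        · omega
        · exfalso
          obtain rfl : p = 2 := le_antisymm h hpp.two_le
          have hm : (-1 : F) = 1 := CharTwo.neg_eq 1
          have : ∀ f ∈ s, f = X - C 1 := fun f hf => by
            rcases hsub f hf with h | h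
            · exact h
            · rwa [hm] at h
          exact hne ((this f₁ hf₁).trans (this f₀ hf₀).symm)
      have hen : e f₀ + 1 ≤ n := by
        have hpair : ∑ f ∈ ({f₀, f₁} : Finset F[X]), e f * f.natDegree ≤ n := by
          rw [← hdeg]
          exact Finset.sum_le_sum_of_subset (Finset.insert_subset hf₀ (Finset.singleton_subset_iff.2 hf₁))
        rw [Finset.sum_pair hne.symm] at hpair
        have h0 := Nat.le_mul_of_pos_right (e f₀) (hirr f₀ hf₀).1.natDegree_pos
        have h2 := Nat.mul_pos (he1 f₁ hf₁) (hirr f₁ hf₁).1.natDegree_pos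
        omega
      have hkn : k + 1 ≤ n / 2 := by
        rcases clog_two_values hp3 hen (hn.imp id fun h => h.2) with h | h
        · exact h
        · have := he1 f₀ hf₀; omega
      refine ⟨2 * p ^ k, Nat.mul_pos two_pos (pow_pos hpp.pos _), ?_, 1, ?_⟩
      · calc (q - 1) * (2 * p ^ k) ≤ q * (q * q ^ k) :=
            Nat.mul_le_mul (Nat.sub_le _ _) (Nat.mul_le_mul hq2 (Nat.pow_le_pow_left hpq k))
          _ ≤ q ^ (n / 2 + 1) := by
            rw [← pow_succ', ← pow_succ']; exact Nat.pow_le_pow_right (by omega) (by omega)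
      · rw [hkill 2 fun f hf => ?_, map_one]
        rcases hsub f hf with rfl | rfl
        · exact ⟨X + 1, by rw [C_1]; ring⟩
        · exact ⟨X - 1, by rw [C_neg, C_1]; ring⟩
  -- the general case
  have hPeven : p = 2 → Even (∑ f ∈ P, e f * f.natDegree) := by
    intro _
    rw [even_iff_two_dvd, ← ZMod.natCast_eq_zero_iff_even.trans even_iff_two_dvd, Nat.cast_sum]
    refine Finset.sum_involution (fun f _ => δ f) (fun f hf => ?_) (fun f hf _ => (Finset.mem_filter.1 hf).2.2)
      (fun f hf => hPδ f hf) fun f hf => hδδ f (Finset.mem_filter.1 hf).1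
    rw [heδ f (Finset.mem_filter.1 hf).1, hδdeg f (Finset.mem_filter.1 hf).1]
    exact CharTwo.add_self_eq_zero _
  have hsplit : ∀ T : Finset F[X], T ⊆ s →
      ∑ f ∈ T, e f * f.natDegree = ∑ f ∈ T, (e f - 1) * f.natDegree + ∑ f ∈ T, f.natDegree := by
    intro T hT
    rw [← Finset.sum_add_distrib]
    refine Finset.sum_congr rfl fun f hf => ?_
    rw [← Nat.succ_mul, Nat.succ_eq_add_one, Nat.sub_add_cancel (he1 f (hT hf))]
  obtain ⟨Y, hkY, hY⟩ : ∃ Y, k ≤ Y ∧ 2 * Y ≤ ∑ f ∈ One, e f * f.natDegree +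
      ∑ f ∈ S, (e f - 1) * f.natDegree + ∑ f ∈ P, (e f - 1) * f.natDegree := by
    by_cases h0 : f₀ = X - C 1 ∨ f₀ = X - C (-1)
    · have hmem : f₀ ∈ One := Finset.mem_filter.2 ⟨hf₀, h0⟩
      refine ⟨e f₀ / 2, ?_, ?_⟩
      · refine clog_le_half hpp.two_le ?_
        rcases Nat.lt_or_ge 2 p with h | h
        · exact Or.inl h
        refine Or.inr ?_
        obtain rfl : p = 2 := le_antisymm h hpp.two_le
        have h2 : (2 : F) = 0 := CharP.cast_eq_zero F 2
        have hn' : Even n := hn.resolve_right fun h => h.1 h2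
        have hm : (-1 : F) = 1 := CharTwo.neg_eq 1
        have hO : One = {f₀} := by
          refine Finset.eq_singleton_iff_unique_mem.2 ⟨hmem, fun f hf => ?_⟩
          have h' := (Finset.mem_filter.1 hf).2
          rw [hm, or_self] at h' h0
          exact h'.trans h0.symm
        rw [hO, Finset.sum_singleton, hOnedeg f₀ hmem, mul_one] at hdeg3
        have hSev : Even (∑ f ∈ S, e f * f.natDegree) := by
          refine even_iff_two_dvd.2 (Finset.dvd_sum fun f hf => ?_)
          obtain ⟨a, -, ha, -⟩ := hSf f hf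
          rw [ha]
          exact (dvd_mul_right 2 a).mul_left _
        rw [← hdeg3, add_assoc, Nat.even_add, iff_true_right (hSev.add (hPeven rfl))] at hn'
        exact hn'
      · have := Finset.single_le_sum (f := fun f => e f * f.natDegree) (fun _ _ => Nat.zero_le _) hmem
        rw [hOnedeg f₀ hmem, mul_one] at this
        omega
    · by_cases hd : δ f₀ = f₀
      · have hmem : f₀ ∈ S := Finset.mem_filter.2 ⟨hf₀, h0, hd⟩
        obtain ⟨a, ha, ha2, -⟩ := hSf f₀ hmem
        refine ⟨(e f₀ - 1) * a, (clog_le_pred hpp.two_le (he1 f₀ hf₀)).trans (Nat.le_mul_of_pos_right _ ha), ?_⟩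
        have := Finset.single_le_sum (f := fun f => (e f - 1) * f.natDegree) (fun _ _ => Nat.zero_le _) hmem
        have h2 : (e f₀ - 1) * f₀.natDegree = 2 * ((e f₀ - 1) * a) := by rw [ha2]; ring
        omega
      · have hmem : f₀ ∈ P := Finset.mem_filter.2 ⟨hf₀, h0, hd⟩
        refine ⟨(e f₀ - 1) * f₀.natDegree, (clog_le_pred hpp.two_le (he1 f₀ hf₀)).trans
          (Nat.le_mul_of_pos_right _ (hirr f₀ hf₀).1.natDegree_pos), ?_⟩
        have := Finset.sum_le_sum_of_subset (f := fun f => (e f - 1) * f.natDegree)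
          (show ({f₀, δ f₀} : Finset F[X]) ⊆ P from
            Finset.insert_subset hmem (Finset.singleton_subset_iff.2 (hPδ f₀ hmem)))
        rw [Finset.sum_pair (fun h => hd h.symm)] at this
        simp only [heδ f₀ hf₀, hδdeg f₀ hf₀] at this
        omega
  have hbound : ∑ a ∈ A, a + ∑ a ∈ B, a + k ≤ n / 2 := by
    rw [hsplit S (Finset.filter_subset _ _), hsplit P (Finset.filter_subset _ _)] at hdeg3
    omega
  have hLeven : p ≠ 2 → 2 ∣ L := by
    intro hp2
    have hqodd : Odd q := by rw [hqf]; exact (hpp.odd_of_ne_two hp2).pow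
    obtain ⟨f, hf⟩ := Finset.nonempty_iff_ne_empty.2 hSP
    rcases Finset.mem_union.1 hf with hf | hf
    · refine Dvd.dvd.mul_left ?_ _
      exact (even_iff_two_dvd.1 (hqodd.pow.add_one)).trans
        (hL₁d _ (Finset.mem_image_of_mem (fun f : F[X] => f.natDegree / 2) hf))
    · refine Dvd.dvd.mul_right (dvd_trans ?_ (Finset.dvd_prod_of_mem _ (Finset.mem_image_of_mem natDegree hf))) _
      exact even_iff_two_dvd.1 (Nat.Odd.sub_odd hqodd.pow odd_one)
  have hXL : ∀ {d : ℕ}, d ∣ L → (X ^ d - 1 : F[X]) ∣ X ^ L - 1 := by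
    intro d hd
    obtain ⟨j, hj⟩ := hd
    rw [hj, pow_mul]
    exact sub_one_dvd_pow_sub_one _ j
  refine ⟨L * p ^ k, Nat.mul_pos hLpos (pow_pos hpp.pos _), ?_, 1, ?_⟩
  · calc (q - 1) * (L * p ^ k) = (q - 1) * L * p ^ k := by ring
      _ ≤ q ^ (∑ a ∈ A, a + ∑ a ∈ B, a + 1) * q ^ k := Nat.mul_le_mul hLle (Nat.pow_le_pow_left hpq k)
      _ ≤ q ^ (n / 2 + 1) := by
        rw [← pow_add]; exact Nat.pow_le_pow_right (by omega) (by omega)
  rw [hkill L fun f hf => ?_, map_one]
  by_cases h0 : f = X - C 1 ∨ f = X - C (-1)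
  · by_cases hp2 : p = 2
    · subst hp2
      have hm : (-1 : F) = 1 := CharTwo.neg_eq 1
      rw [hm, or_self] at h0
      rw [h0, C_1]
      exact sub_one_dvd_pow_sub_one _ L
    · refine Dvd.dvd.trans ?_ (hXL (hLeven hp2))
      rcases h0 with rfl | rfl
      · exact ⟨X + 1, by rw [C_1]; ring⟩
      · exact ⟨X - 1, by rw [C_neg, C_1]; ring⟩
  by_cases hd : δ f = f
  · have hmem : f ∈ S := Finset.mem_filter.2 ⟨hf, h0, hd⟩
    obtain ⟨a, -, ha, hdv⟩ := hSf f hmem
    refine hdv.trans (hXL (Dvd.dvd.mul_left ?_ _))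
    have := hL₁d _ (Finset.mem_image_of_mem (fun f : F[X] => f.natDegree / 2) hmem)
    rwa [ha, Nat.mul_div_cancel_left _ two_pos] at this
  · have hmem : f ∈ P := Finset.mem_filter.2 ⟨hf, h0, hd⟩
    refine (dvd_card_sub_one (hirr f hf).1 (hirr f hf).2.2).trans (hXL (Dvd.dvd.mul_right ?_ _))
    exact Finset.dvd_prod_of_mem (fun a => q ^ a - 1) (Finset.mem_image_of_mem natDegree hmem)

end CfsgLib.Known.SelfDualOrders
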