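import Cfsg.Prelude.Def_Classical
import Cfsg.Agent.Lib.Known.SelfDualOrders
import Cfsg.Agent.Lib.Classical.ClassTheory.OrthPrime

/-!
# Element orders in `PSp` and `PΩ`
-/

set_option autoImplicit false

namespace CfsgLib.Known.SelfDualOrders

open QuadraticMap

variable {F : Type*} [Field F] [Finite F]

theorem orderOf_quot_le {G κ : Type*} [Group G] [Fintype κ] [DecidableEq κ] (φ : G →* Matrix κ κ F)
    (hφ : Function.Injective φ) (hn : Even (Fintype.card κ) ∨ ((2 : F) ≠ 0 ∧ 7 ≤ Fintype.card κ))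
    (hdual : ∀ g, CfsgLib.Classical.ClassTheory.dualPoly (RingHom.id F) (φ g).charpoly = (φ g).charpoly)
    (x : G ⧸ Subgroup.center G) :
    (Nat.card F - 1) * orderOf x ≤ Nat.card F ^ (Fintype.card κ / 2 + 1) := by
  obtain ⟨g, rfl⟩ := QuotientGroup.mk_surjective x
  have hdet : (φ g).det ≠ 0 := fun h => by
    have h1 := congrArg Matrix.det (show φ g * φ g⁻¹ = 1 by rw [← map_mul, mul_inv_cancel, map_one])
    rw [Matrix.det_mul, h, zero_mul, Matrix.det_one] at h1
    exact zero_ne_one h1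
  obtain ⟨N, hN, hle, c, hc⟩ := exists_pow_scalar (φ g) hn (hdual g) hdet
  refine le_trans (Nat.mul_le_mul_left _ (orderOf_le_of_pow_eq_one hN ?_)) hle
  rw [← QuotientGroup.mk_pow, QuotientGroup.eq_one_iff, Subgroup.mem_center_iff]
  intro h
  refine hφ ?_
  rw [map_mul, map_mul, map_pow, hc]
  exact (Matrix.scalar_commute c (fun r => Commute.all c r) (φ h)).eq.symm

theorem orderOf_psp_le (m : ℕ) (g : Cfsg.PSp m F) : (Nat.card F - 1) * orderOf g ≤ Nat.card F ^ (m + 1) := by
  have h := orderOf_quot_le (Submonoid.subtype (Matrix.symplecticGroup (Fin m) F)) Subtype.val_injective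
    (Or.inl ⟨m, by simp⟩) (fun A => CfsgLib.Classical.ClassTheory.dualPoly_charpoly_sp A) g
  rwa [Fintype.card_sum, Fintype.card_fin, show (m + m) / 2 + 1 = m + 1 by omega] at h

theorem orderOf_pomega_le {κ : Type} [Fintype κ] [DecidableEq κ] (Q : QuadraticForm F (κ → F))
    (hQ : (polarBilin Q).Nondegenerate)
    (hn : Even (Fintype.card κ) ∨ ((2 : F) ≠ 0 ∧ 7 ≤ Fintype.card κ))
    (x : Cfsg.POmega F ⇑Q) :
    (Nat.card F - 1) * orderOf x ≤ Nat.card F ^ (Fintype.card κ / 2 + 1) :=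
  orderOf_quot_le
    ((Units.coeHom (Matrix κ κ F)).comp ((Cfsg.isometryGroup F ⇑Q).subtype.comp (Cfsg.Omega F ⇑Q).subtype))
    (fun _ _ h => Subtype.ext (Subtype.ext (Units.ext h))) hn
    (fun A => CfsgLib.Classical.ClassTheory.dualPoly_charpoly_orth hQ A.1) x

end CfsgLib.Known.SelfDualOrders
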