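import Mathlib
import Cfsg.Prelude.Def_Sz

/-!
# No nontrivial law holds in all large Suzuki groups

Ping-pong by degrees: products `h^{n₀} c^{±1} h^{n₁} ⋯` with `h` a torus element depending polynomially on a
parameter and `c` a constant element with entries one at the four places of the extreme weights.
-/

set_option autoImplicit false

namespace CfsgLib.Known.SuzukiLaw

open Polynomial
open scoped Matrix

variable (E : ℕ)

/-- The weights. -/
def wt : Fin 4 → ℤ := ![1, E, -E, -1]

/-- The weights made nonnegative. -/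
def ex (n : ℤ) (k : Fin 4) : ℕ := (n.natAbs * E + wt E k * n).toNat

/-- The exponent of a letter. -/
def eps : ℕ × Bool → ℤ
  | (i, true) => (i + 1 : ℕ)
  | (i, false) => -((i + 1 : ℕ) : ℤ)

/-- The two constant matrices. -/
def cM : Bool → Fin 4 → Fin 4 → ℕ
  | true => ![![1, 0, 1, 1], ![1, 1, 1, 0], ![0, 1, 1, 1], ![1, 1, 0, 1]]
  | false => ![![1, 1, 0, 1], ![0, 1, 1, 1], ![1, 1, 1, 0], ![1, 0, 1, 1]]

/-- The start vector. -/
noncomputable def v0 : Fin 4 → (ZMod 2)[X] := ![0, 1, 1, 0]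

/-- The image of the start vector. -/
noncomputable def vec : List (ℕ × Bool) → Fin 4 → (ZMod 2)[X]
  | [] => v0
  | s :: L => fun k => X ^ ex E (eps s) k *
      ∑ l, (cM s.2 k l : (ZMod 2)[X]) * (X ^ ex E (eps s) l * vec L l)

/-- The size of a word. -/
def size (L : List (ℕ × Bool)) : ℕ := (L.map fun s => 4 * E * (s.1 + 1)).sum

/-- Degree at most `D`, with leading coefficient at the two extreme places. -/
def Good (D : ℕ) (u : Fin 4 → (ZMod 2)[X]) : Prop :=
  (∀ k, (u k).natDegree ≤ D) ∧ (u 1).coeff D ≠ 0 ∧ (u 2).coeff D ≠ 0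

/-- Degree at most `D`, with leading coefficient only at `j`. -/
def Dom (D : ℕ) (j : Fin 4) (u : Fin 4 → (ZMod 2)[X]) : Prop :=
  (∀ k, (u k).natDegree ≤ D) ∧ (u j).coeff D ≠ 0 ∧ ∀ k, k ≠ j → (u k).coeff D = 0

variable {E}

theorem good_of_dom {D : ℕ} {j : Fin 4} {u : Fin 4 → (ZMod 2)[X]} (h : Dom D j u) (hj : j = 1 ∨ j = 2) (b : Bool) :
    Good D fun k => ∑ l, (cM b k l : (ZMod 2)[X]) * u l := by
  have hc : ∀ k, (∑ l, (cM b k l : (ZMod 2)[X]) * u l).coeff D = (cM b k j : ZMod 2) * (u j).coeff D := by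
    intro k
    rw [finsetSum_coeff]
    simp only [coeff_natCast_mul]
    exact Finset.sum_eq_single j (fun l _ hl => by rw [h.2.2 l hl, mul_zero]) (fun hh => absurd (Finset.mem_univ _) hh)
  refine ⟨fun k => natDegree_sum_le_of_forall_le _ _ fun l _ => natDegree_mul_le.trans ?_, ?_, ?_⟩
  · rw [natDegree_natCast, zero_add]; exact h.1 l
  all_goals
    show (∑ l, (cM b _ l : (ZMod 2)[X]) * u l).coeff D ≠ 0
    rw [hc]
    refine mul_ne_zero ?_ h.2.1
    rcases hj with rfl | rfl <;> cases b <;> decide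

theorem dom_of_good {D : ℕ} {u : Fin 4 → (ZMod 2)[X]} (h : Good D u) {j : Fin 4} (hj : j = 1 ∨ j = 2)
    {a : Fin 4 → ℕ} (ha : ∀ k, k ≠ j → a k < a j) : Dom (D + a j) j fun k => X ^ a k * u k := by
  refine ⟨fun k => natDegree_mul_le.trans ?_, ?_, fun k hk => ?_⟩
  · rw [natDegree_X_pow]
    have := h.1 k
    rcases eq_or_ne k j with rfl | hk
    · omega
    · have := ha k hk; omega
  · rw [coeff_X_pow_mul]
    rcases hj with rfl | rfl
    · exact h.2.1
    · exact h.2.2
  · refine coeff_eq_zero_of_natDegree_lt (natDegree_mul_le.trans_lt ?_)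
    rw [natDegree_X_pow]
    have := h.1 k
    have := ha k hk
    omega

theorem ex_cast (hE : 2 ≤ E) (n : ℤ) (k : Fin 4) : (ex E n k : ℤ) = n.natAbs * E + wt E k * n := by
  rw [ex, Int.toNat_of_nonneg]
  have h : |wt E k| ≤ E := by fin_cases k <;> simp [wt] <;> omega
  have : |wt E k * n| ≤ (E : ℤ) * n.natAbs := by
    rw [abs_mul, Int.natCast_natAbs]
    exact mul_le_mul_of_nonneg_right h (abs_nonneg n)
  rw [mul_comm]
  linarith [neg_abs_le (wt E k * n)]

theorem ex_le (hE : 2 ≤ E) (n : ℤ) (k : Fin 4) : ex E n k ≤ 2 * E * n.natAbs := by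
  have h : |wt E k| ≤ E := by fin_cases k <;> simp [wt] <;> omega
  have h2 : |wt E k * n| ≤ (E : ℤ) * n.natAbs := by
    rw [abs_mul, Int.natCast_natAbs]
    exact mul_le_mul_of_nonneg_right h (abs_nonneg n)
  have := ex_cast hE n k
  have h3 := le_abs_self (wt E k * n)
  have : (ex E n k : ℤ) ≤ 2 * E * n.natAbs := by rw [this]; linarith
  exact_mod_cast this

/-- The extreme place of a nonzero exponent. -/
def top (n : ℤ) : Fin 4 := if 0 < n then 1 else 2

theorem wt_lt (hE : 2 ≤ E) {n : ℤ} (hn : n ≠ 0) {k : Fin 4} (hk : k ≠ top n) :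
    wt E k * n < wt E (top n) * n := by
  have hE' : (2 : ℤ) ≤ E := by exact_mod_cast hE
  unfold top at hk ⊢
  split_ifs at hk ⊢ with h
  · refine mul_lt_mul_of_pos_right ?_ h
    fin_cases k <;> simp [wt] at hk ⊢ <;> omega
  · refine mul_lt_mul_of_neg_right ?_ (lt_of_le_of_ne (not_lt.1 h) hn)
    fin_cases k <;> simp [wt] at hk ⊢ <;> omega

theorem eps_ne (s : ℕ × Bool) : eps s ≠ 0 := by
  obtain ⟨i, _ | _⟩ := s <;> simp only [eps] <;> omega

theorem eps_add_ne {s t : ℕ × Bool} (h : s.1 = t.1 → s.2 = t.2) : eps s + eps t ≠ 0 := by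
  obtain ⟨i, a⟩ := s; obtain ⟨j, b⟩ := t
  cases a <;> cases b <;> simp only [eps] at * <;> try omega
  all_goals
    intro hc
    have : i = j := by omega
    simpa using h this

theorem lands (hE : 2 ≤ E) : ∀ (s : ℕ × Bool) (L : List (ℕ × Bool)), FreeGroup.IsReduced (s :: L) →
    ∃ (D : ℕ) (u : Fin 4 → (ZMod 2)[X]), Good D u ∧ vec E (s :: L) = fun k => X ^ ex E (eps s) k * u k := by
  intro s L
  induction L generalizing s with
  | nil =>
    intro _
    refine ⟨_, _, good_of_dom (dom_of_good (D := 0) (u := v0) ⟨fun k => by fin_cases k <;> simp [v0],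
      by simp [v0], by simp [v0]⟩ (j := top (eps s)) (by unfold top; split_ifs <;> simp)
      (a := ex E (eps s)) fun k hk => ?_) (by unfold top; split_ifs <;> simp) s.2, rfl⟩
    have h1 := wt_lt hE (eps_ne s) hk
    have h2 := ex_cast hE (eps s) k
    have h3 := ex_cast hE (eps s) (top (eps s))
    omega
  | cons t L ih =>
    intro hred
    obtain ⟨D, u, hu, hvec⟩ := ih t (List.isChain_cons_cons.1 hred).2
    have hne : eps s + eps t ≠ 0 := eps_add_ne (List.isChain_cons_cons.1 hred).1
    have hdom := dom_of_good hu (j := top (eps s + eps t)) (by unfold top; split_ifs <;> simp)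
      (a := fun k => ex E (eps s) k + ex E (eps t) k) fun k hk => by
        have h1 := wt_lt hE hne hk
        rw [mul_add, mul_add] at h1
        have := ex_cast hE (eps s) k
        have := ex_cast hE (eps s) (top (eps s + eps t))
        have := ex_cast hE (eps t) k
        have := ex_cast hE (eps t) (top (eps s + eps t))
        omega
    refine ⟨_, _, good_of_dom hdom (by unfold top; split_ifs <;> simp) s.2, ?_⟩
    funext k
    show X ^ ex E (eps s) k * ∑ l, (cM s.2 k l : (ZMod 2)[X]) * (X ^ ex E (eps s) l * vec E (t :: L) l) = _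
    simp only [hvec, pow_add, mul_assoc]

theorem natDegree_vec (hE : 2 ≤ E) : ∀ (L : List (ℕ × Bool)) (k : Fin 4), (vec E L k).natDegree ≤ size E L
  | [], k => by fin_cases k <;> simp [vec, v0, size]
  | s :: L, k => by
    have h1 : (eps s).natAbs = s.1 + 1 := by obtain ⟨i, _ | _⟩ := s <;> simp only [eps] <;> omega
    have hs : size E (s :: L) = 4 * E * (s.1 + 1) + size E L := by simp [size]
    have hk := ex_le hE (eps s) k
    rw [h1] at hk
    refine natDegree_mul_le.trans ?_
    rw [natDegree_X_pow, hs]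
    have : (∑ l, (cM s.2 k l : (ZMod 2)[X]) * (X ^ ex E (eps s) l * vec E L l)).natDegree ≤
        2 * E * (s.1 + 1) + size E L := by
      refine natDegree_sum_le_of_forall_le _ _ fun l _ => natDegree_mul_le.trans ?_
      rw [natDegree_natCast, zero_add]
      refine natDegree_mul_le.trans ?_
      rw [natDegree_X_pow]
      have hl := ex_le hE (eps s) l
      rw [h1] at hl
      exact Nat.add_le_add hl (natDegree_vec hE L l)
    have : 4 * E * (s.1 + 1) = 2 * E * (s.1 + 1) + 2 * E * (s.1 + 1) := by ring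
    omega

theorem sep_ne_zero (hE : 2 ≤ E) {L : List (ℕ × Bool)} (hL : L ≠ []) (hred : FreeGroup.IsReduced L) :
    vec E L 1 - vec E L 2 ≠ 0 := by
  obtain ⟨s, L, rfl⟩ := List.exists_cons_of_ne_nil hL
  obtain ⟨D, u, hu, hvec⟩ := lands hE s L hred
  have hd := dom_of_good hu (j := top (eps s)) (by unfold top; split_ifs <;> simp) (a := ex E (eps s))
    fun k hk => by
      have h1 := wt_lt hE (eps_ne s) hk
      have := ex_cast hE (eps s) k
      have := ex_cast hE (eps s) (top (eps s))
      omega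
  rw [← hvec] at hd
  intro h
  have h1 := congrArg (fun p : (ZMod 2)[X] => p.coeff (D + ex E (eps s) (top (eps s)))) (sub_eq_zero.1 h)
  obtain ⟨-, hd2, hd3⟩ := hd
  rcases (show top (eps s) = 1 ∨ top (eps s) = 2 by unfold top; split_ifs <;> simp) with e | e <;> rw [e] at hd2 hd3 h1
  · exact hd2 (h1.trans (hd3 2 (by decide)))
  · exact hd2 (h1.symm.trans (hd3 1 (by decide)))

/-! ### Elements of the Suzuki groups -/

section Group

variable {F : Type*} [Field F] [CharP F 2]

/-- The constant element. -/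
noncomputable def cG (F : Type*) [Field F] [CharP F 2] : GL (Fin 4) F where
  val := Matrix.of fun i j => (cM true i j : F)
  inv := Matrix.of fun i j => (cM false i j : F)
  val_inv := by
    ext i j
    fin_cases i <;> fin_cases j <;>
      simp [cM, Matrix.mul_apply, Fin.sum_univ_four, CharTwo.add_self_eq_zero, Matrix.one_apply]
  inv_val := by
    ext i j
    fin_cases i <;> fin_cases j <;>
      simp [cM, Matrix.mul_apply, Fin.sum_univ_four, CharTwo.add_self_eq_zero, Matrix.one_apply]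

theorem cG_mem {e : ℕ} (he : e ≠ 0) : cG F ∈ Cfsg.Lie.Sz F e := by
  refine Subgroup.subset_closure ⟨fun u v => ?_, ?_⟩
  · show Cfsg.Lie.altForm4 ((Matrix.of fun i j => (cM true i j : F)) *ᵥ u)
      ((Matrix.of fun i j => (cM true i j : F)) *ᵥ v) = _
    simp [Cfsg.Lie.altForm4, cM, Matrix.mulVec, dotProduct, Fin.sum_univ_four]
    have h2 : (2 : F) = 0 := CharTwo.two_eq_zero
    grind
  · ext p r
    show Cfsg.Lie.star4 (Matrix.of fun i j => (cM true i j : F)) p r = (cM true p r : F) ^ e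
    have h2 : (2 : F) = 0 := CharTwo.two_eq_zero
    fin_cases p <;> fin_cases r <;>
      simp [Cfsg.Lie.star4, Cfsg.Lie.pairOf, cM, he, CharTwo.neg_eq, CharTwo.add_self_eq_zero]

/-- The torus. -/
noncomputable def torus (E : ℕ) : Fˣ →* GL (Fin 4) F where
  toFun t :=
    { val := Matrix.diagonal fun k => ((t ^ wt E k : Fˣ) : F)
      inv := Matrix.diagonal fun k => ((t ^ (-wt E k) : Fˣ) : F)
      val_inv := by
        rw [Matrix.diagonal_mul_diagonal, ← Matrix.diagonal_one]
        congr 1; funext k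
        rw [← Units.val_mul, ← zpow_add, add_neg_cancel, zpow_zero, Units.val_one]
      inv_val := by
        rw [Matrix.diagonal_mul_diagonal, ← Matrix.diagonal_one]
        congr 1; funext k
        rw [← Units.val_mul, ← zpow_add, neg_add_cancel, zpow_zero, Units.val_one] }
  map_one' := Units.ext (by simp)
  map_mul' a b := Units.ext (by
    refine Eq.trans ?_ (Matrix.diagonal_mul_diagonal _ _).symm
    show Matrix.diagonal _ = _
    congr 1
    funext k
    simp [mul_zpow])

theorem torus_mem [Fintype F] {m : ℕ} (hF : Fintype.card F = 2 ^ (2 * m + 1)) (t : Fˣ) :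
    torus (2 ^ (m + 1) - 1) t ∈ Cfsg.Lie.Sz F (2 ^ (m + 1)) := by
  set e := 2 ^ (m + 1) with he
  have he1 : 1 ≤ e := Nat.one_le_two_pow
  have hE : ((e - 1 : ℕ) : ℤ) = (e : ℤ) - 1 := by omega
  have hq : t ^ ((e * e : ℕ) : ℤ) = t ^ (2 : ℤ) := by
    have h1 : t ^ Fintype.card F = t := Units.ext (by push_cast; exact FiniteField.pow_card _)
    rw [zpow_natCast, show e * e = Fintype.card F * 2 by rw [hF, he]; ring, pow_mul, h1]
    norm_cast
  have hpow : ∀ a : ℤ, ((t ^ a : Fˣ) : F) ^ e = ((t ^ (a * e) : Fˣ) : F) := fun a => by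
    rw [← Units.val_pow_eq_pow_val, ← zpow_natCast, ← zpow_mul]
  refine Subgroup.subset_closure ⟨fun u v => ?_, ?_⟩
  · show Cfsg.Lie.altForm4 (Matrix.diagonal (fun k => ((t ^ wt (e - 1) k : Fˣ) : F)) *ᵥ u)
      (Matrix.diagonal (fun k => ((t ^ wt (e - 1) k : Fˣ) : F)) *ᵥ v) = _
    simp [Cfsg.Lie.altForm4, Matrix.mulVec_diagonal, wt]
    field_simp
  · ext p r
    show Cfsg.Lie.star4 (Matrix.diagonal (fun k => ((t ^ wt (e - 1) k : Fˣ) : F))) p r =
      (Matrix.diagonal (fun k => ((t ^ wt (e - 1) k : Fˣ) : F)) p r) ^ e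
    by_cases hpr : p = r
    · subst hpr
      rw [Matrix.diagonal_apply_eq, hpow]
      have key : ((t ^ wt (e - 1) (Cfsg.Lie.pairOf p).1 * t ^ wt (e - 1) (Cfsg.Lie.pairOf p).2 : Fˣ)) =
          t ^ (wt (e - 1) p * e) := by
        rw [← zpow_add]
        fin_cases p <;> simp only [Cfsg.Lie.pairOf, wt] <;> simp only [Matrix.cons_val_zero, Matrix.cons_val_one,
          Matrix.cons_val, Fin.reduceFinMk, Fin.isValue, Fin.zero_eta, Fin.mk_one, hE]
        · congr 1; ring
        · rw [show ((e : ℤ) - 1) * e = ((e * e : ℕ) : ℤ) - e by push_cast; ring, zpow_sub t ((e * e : ℕ) : ℤ),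
            hq, ← zpow_sub]
          congr 1; ring
        · rw [show -((e : ℤ) - 1) * e = -((e * e : ℕ) : ℤ) + e by push_cast; ring, zpow_add t _ (e : ℤ),
            zpow_neg, hq, ← zpow_neg, ← zpow_add]
          congr 1; ring
        · congr 1; ring
      rw [← key, Units.val_mul]
      fin_cases p <;> simp [Cfsg.Lie.star4, Cfsg.Lie.pairOf]
    · rw [Matrix.diagonal_apply_ne _ hpr, zero_pow (by omega)]
      fin_cases p <;> fin_cases r <;> simp_all [Cfsg.Lie.star4, Cfsg.Lie.pairOf]

/-- A nontrivial law fails in every large Suzuki group. -/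
theorem fails_suzuki (w : FreeGroup ℕ) (hw : w ≠ 1) :
    ∃ N : ℕ, ∀ (F : Type*) [Field F] [Fintype F] (m : ℕ), 1 ≤ m → N ≤ m →
      Fintype.card F = 2 ^ (2 * m + 1) →
      ∃ f : ℕ → ↥(Cfsg.Lie.Sz F (2 ^ (m + 1))), FreeGroup.lift f w ≠ 1 := by
  set L := w.toWord with hL
  have hnil : L ≠ [] := fun h => hw (FreeGroup.toWord_injective (h.trans FreeGroup.toWord_one.symm))
  set K := (L.map fun s : ℕ × Bool => s.1 + 1).sum with hK
  refine ⟨K + 4, fun F _ _ m hm hN hF => ?_⟩
  have : CharP F 2 := by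
    have h2 : (2 : F) = 0 := by
      have h : ((Fintype.card F : ℕ) : F) = 0 := FiniteField.cast_card_eq_zero F
      rw [hF] at h
      push_cast at h
      exact pow_eq_zero_iff (Nat.succ_ne_zero _) |>.1 h
    exact CharTwo.of_one_ne_zero_of_two_eq_zero one_ne_zero h2
  set e := 2 ^ (m + 1) with he
  set E := e - 1 with hEdef
  have he4 : 4 ≤ e := by
    calc 4 = 2 ^ 2 := rfl
      _ ≤ _ := Nat.pow_le_pow_right (by norm_num) (by omega)
  have hE : 2 ≤ E := by omega
  have hsize : ∀ M : List (ℕ × Bool), size E M = 4 * E * (M.map fun s : ℕ × Bool => s.1 + 1).sum := by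
    intro M
    induction M with
    | nil => simp [size]
    | cons a M ih => simp [size] at ih ⊢; rw [ih]; ring
  have hbound : size E L + 1 < 2 ^ (2 * m + 1) - 1 := by
    rw [hsize, ← hK]
    have h1 : K < 2 ^ K := Nat.lt_two_pow_self
    have h2 : 2 ^ K * 16 ≤ 2 ^ m := by
      rw [show 2 ^ K * 16 = 2 ^ (K + 4) by rw [pow_add]; norm_num]
      exact Nat.pow_le_pow_right (by norm_num) hN
    have h3 : 4 * E * K * 4 ≤ e * 2 ^ m := by
      calc 4 * E * K * 4 = E * (K * 16) := by ring
        _ ≤ e * (2 ^ K * 16) := Nat.mul_le_mul (by omega) (Nat.mul_le_mul_right _ h1.le)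
        _ ≤ e * 2 ^ m := Nat.mul_le_mul_left _ h2
    have h4 : e * 2 ^ m = 2 ^ (2 * m + 1) := by rw [he, ← pow_add]; congr 1; omega
    have h5 : 2 ^ 3 ≤ 2 ^ (2 * m + 1) := Nat.pow_le_pow_right (by norm_num) (by omega)
    omega
  set P : F[X] := (vec E L 1 - vec E L 2).map (ZMod.castHom (dvd_refl 2) F) with hP
  have hP0 : P ≠ 0 := (Polynomial.map_ne_zero_iff (RingHom.injective _)).2
    (sep_ne_zero hE hnil FreeGroup.isReduced_toWord)
  have hPd : P.natDegree ≤ size E L :=
    natDegree_map_le.trans ((natDegree_sub_le _ _).trans (max_le (natDegree_vec hE L 1) (natDegree_vec hE L 2)))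
  classical
  obtain ⟨t, ht⟩ : ∃ t : Fˣ, P.eval (t : F) ≠ 0 := by
    by_contra hc
    push Not at hc
    refine hP0 (eq_zero_of_natDegree_lt_card_of_eval_eq_zero P (f := fun u : Fˣ => (u : F)) Units.val_injective
      hc ?_)
    rw [Fintype.card_units, hF]
    omega
  let g : ℕ → ↥(Cfsg.Lie.Sz F e) := fun i =>
    ⟨torus E (t ^ (i + 1)) * cG F * torus E (t ^ (i + 1)),
      mul_mem (mul_mem (torus_mem hF _) (cG_mem (by omega))) (torus_mem hF _)⟩
  refine ⟨g, fun h1 => ht ?_⟩
  let φ := ZMod.castHom (dvd_refl 2) F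
  let ev : (ZMod 2)[X] →+* F := Polynomial.eval₂RingHom φ (t : F)
  -- the word sends the start vector to a multiple of the evaluated vector
  have key : ∀ M : List (ℕ × Bool), ∃ c : Fˣ, ∀ k,
      ((((FreeGroup.lift g (FreeGroup.mk M) : Cfsg.Lie.Sz F e) : GL (Fin 4) F) : Matrix (Fin 4) (Fin 4) F) *ᵥ
        (fun l => ev (v0 l))) k = c * ev (vec E M k) := by
    intro M
    induction M with
    | nil => exact ⟨1, fun k => by simp [FreeGroup.lift_mk, vec]⟩
    | cons s M ih =>
      obtain ⟨c, hc⟩ := ih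
      refine ⟨c * (t ^ (((eps s).natAbs * E : ℕ) : ℤ))⁻¹ * (t ^ (((eps s).natAbs * E : ℕ) : ℤ))⁻¹, fun k => ?_⟩
      rw [FreeGroup.lift_mk] at hc ⊢
      rw [List.map_cons, List.prod_cons, Subgroup.coe_mul, Units.val_mul, ← Matrix.mulVec_mulVec, funext hc]
      have hlet : (((cond s.2 (g s.1) (g s.1)⁻¹ : Cfsg.Lie.Sz F e) : GL (Fin 4) F) : Matrix (Fin 4) (Fin 4) F) =
          Matrix.diagonal (fun k => ((t ^ (wt E k * eps s) : Fˣ) : F)) * (Matrix.of fun i j => (cM s.2 i j : F)) *
            Matrix.diagonal (fun k => ((t ^ (wt E k * eps s) : Fˣ) : F)) := by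
        obtain ⟨i, _ | _⟩ := s
        · show ((torus E (t ^ (i + 1)) * cG F * torus E (t ^ (i + 1)))⁻¹ : GL (Fin 4) F).val = _
          rw [_root_.mul_inv_rev, _root_.mul_inv_rev, ← map_inv, Units.val_mul, Units.val_mul, ← mul_assoc]
          show Matrix.diagonal _ * (Matrix.of fun i j => (cM false i j : F)) * Matrix.diagonal _ = _
          simp only [eps, ← zpow_natCast, ← zpow_neg, ← zpow_mul, mul_comm _ (wt E _)]
        · show (torus E (t ^ (i + 1)) * cG F * torus E (t ^ (i + 1)) : GL (Fin 4) F).val = _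
          show Matrix.diagonal _ * (Matrix.of fun i j => (cM true i j : F)) * Matrix.diagonal _ = _
          simp only [eps, ← zpow_natCast, ← zpow_mul, mul_comm _ (wt E _)]
      rw [hlet, ← Matrix.mulVec_mulVec, ← Matrix.mulVec_mulVec]
      have hevX : ∀ l, ev (X ^ ex E (eps s) l) =
          ((t ^ (((eps s).natAbs * E : ℕ) : ℤ) : Fˣ) : F) * ((t ^ (wt E l * eps s) : Fˣ) : F) := fun l => by
        rw [← Units.val_mul, ← zpow_add, map_pow, Polynomial.coe_eval₂RingHom, eval₂_X, ← Units.val_pow_eq_pow_val,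
          ← zpow_natCast, ex_cast hE]
        push_cast
        rfl
      show _ = _ * ev (X ^ ex E (eps s) k * ∑ l, (cM s.2 k l : (ZMod 2)[X]) * (X ^ ex E (eps s) l * vec E M l))
      rw [Matrix.mulVec_diagonal, map_mul, map_sum, hevX]
      simp only [Matrix.mulVec, dotProduct, Matrix.of_apply, map_mul, map_natCast, hevX, Units.val_mul,
        Finset.mul_sum]
      refine Finset.sum_congr rfl fun l _ => ?_
      simp only [Matrix.diagonal_apply, ite_mul, zero_mul, mul_ite, mul_zero, Finset.sum_ite_eq, Finset.mem_univ, if_true]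
      set A := ((t ^ (((eps s).natAbs * E : ℕ) : ℤ) : Fˣ) : F) with hA
      have hA' : A ≠ 0 := Units.ne_zero _
      rw [Units.val_inv_eq_inv_val, ← hA]
      field_simp
  obtain ⟨c, hc⟩ := key L
  rw [hL, FreeGroup.mk_toWord, h1] at hc
  have hone : ∀ k, ev (v0 k) = c * ev (vec E L k) := fun k => by
    have := hc k
    simpa [Matrix.one_mulVec] using this
  have h12 : (c : F) * ev (vec E L 1) = c * ev (vec E L 2) := by
    rw [← hone, ← hone]; simp [v0]
  have := mul_left_cancel₀ c.ne_zero h12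
  rw [hP, eval_map, eval₂_sub, sub_eq_zero]
  exact this

end Group

end CfsgLib.Known.SuzukiLaw
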