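import Mathlib
import Cfsg.Agent.Lib.Known.SuzukiMultiplier
import Cfsg.Agent.Lib.Char.Exceptional.AltMultiplier
import Cfsg.Agent.Lib.Schur.CertTransfer
import Cfsg.Agent.Lib.Schur.Multiplier

/-!
# The Schur multiplier of `Sz(8)`

Upper bound: the commutators of lifts of the centre of the Sylow subgroup with the rest give a homomorphism
from the field killing `1`.  Lower bound: an explicit cocycle on the Sylow subgroup, transferred; the value at a
commutator of commuting unipotent elements only sees the seven cosets fixed by them.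
-/

set_option autoImplicit false

namespace CfsgLib.Known.SzEight

open CfsgLib.Lie.Suzuki CfsgLib.Known.SLn CfsgLib.Known.SuzukiMult
open CfsgLib.Schur.TransferCocycle (Cocycle Ext certCocycle cert_value)
open scoped commutatorElement

universe u

variable {F : Type u} [Field F] [Fintype F] [CharP F 2] (hF : Fintype.card F = 2 ^ (2 * 1 + 1))

omit [Fintype F] in
theorem th_eq (x : F) : th F 1 x = x ^ 4 := by rw [th_apply]; norm_num

include hF in
omit [CharP F 2] in
theorem pow_seven {x : F} (hx : x ≠ 0) : x ^ 7 = 1 := by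
  have h := FiniteField.pow_card_sub_one_eq_one x hx
  rw [hF] at h; exact h

include hF in
omit [CharP F 2] in
theorem pow_eight (x : F) : x ^ 8 = x := by
  have h := FiniteField.pow_card x
  rw [hF] at h; exact h

theorem index_UU : (UU hF).index = 455 := by
  have h1 := Subgroup.card_mul_index (UU hF)
  rw [card_UU, nat_card hF le_rfl, hF] at h1
  norm_num at h1
  omega

section Upper

variable {Γ : Type*} [Group Γ] (σ : Γ →* Cfsg.Sz F 1) (hs : Function.Surjective σ)
  (hc : σ.ker ≤ Subgroup.center Γ)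
include hs hc

theorem comm_z (b a c : F) : Commute (uS hF 0 b) (uS hF a c) := by
  show _ * _ = _ * _
  rw [uS_mul, uS_mul, add_comm b]; simp

theorem cml_zz' (b d : F) : cml σ hs (uS hF 0 b) (uS hF 0 d) = 1 := by
  have hz : ∀ b d, cml σ hs (uS hF 0 b) (uS hF 0 d) ∈ Subgroup.center Γ := fun b d =>
    cml_central σ hs hc (comm_z hF σ hs hc b 0 d)
  refine kill_scalar (fun b d => cml σ hs (uS hF 0 b) (uS hF 0 d)) (fun a b u => ?_) (fun t a b => ?_)
    (by rw [hF]; norm_num) (fun c hc0 b d => ?_) b d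
  · have e : uS hF 0 a * uS hF 0 b = uS hF 0 (a + b) := by rw [uS_mul]; simp
    rw [← e, cml_mul_left σ hs hc, Subgroup.mem_center_iff.1 (hz b u), mul_inv_cancel_right]
  · have e : uS hF 0 a * uS hF 0 b = uS hF 0 (a + b) := by rw [uS_mul]; simp
    rw [← e, cml_mul_right σ hs hc, Subgroup.mem_center_iff.1 (hz t b), mul_inv_cancel_right]
  · obtain ⟨t, ht⟩ := conj_t hF σ hs hc c hc0
    have := cml_conj_central σ hs hc (comm_z hF σ hs hc b 0 d) (tS hF t)
    rw [ht, ht, mul_zero] at this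
    exact this

theorem cml_drop' (b a c : F) : cml σ hs (uS hF 0 b) (uS hF a c) = cml σ hs (uS hF 0 b) (uS hF a 0) := by
  rw [uS_split hF a c, cml_mul_right σ hs hc, cml_zz' hF σ hs hc, mul_one, mul_inv_cancel, mul_one]

theorem cml_hom (b b' a c : F) : cml σ hs (uS hF 0 (b + b')) (uS hF a c) =
    cml σ hs (uS hF 0 b) (uS hF a c) * cml σ hs (uS hF 0 b') (uS hF a c) := by
  have e : uS hF 0 b * uS hF 0 b' = uS hF 0 (b + b') := by rw [uS_mul]; simp
  have h1 := cml_central σ hs hc (comm_z hF σ hs hc b' a c)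
  have h2 := cml_central σ hs hc (comm_z hF σ hs hc b a c)
  rw [← e, cml_mul_left σ hs hc, Subgroup.mem_center_iff.1 h1, mul_inv_cancel_right,
    Subgroup.mem_center_iff.1 h1]

/-- The values `cml (0, y) (1, 0)`. -/
noncomputable def phi : Multiplicative F →* Γ :=
  MonoidHom.mk' (fun y => cml σ hs (uS hF 0 (Multiplicative.toAdd y)) (uS hF 1 0)) fun y y' =>
    cml_hom hF σ hs hc _ _ _ _

theorem phi_apply (y : F) :
    phi hF σ hs hc (Multiplicative.ofAdd y) = cml σ hs (uS hF 0 y) (uS hF 1 0) := by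
  simp [phi]

theorem phi_mem_ker (y : Multiplicative F) : phi hF σ hs hc y ∈ σ.ker := by
  rw [MonoidHom.mem_ker]
  show σ (cml σ hs _ _) = 1
  rw [σ_cml, commutatorElement_eq_one_iff_commute]
  exact comm_z hF σ hs hc _ _ _

theorem phi_one : phi hF σ hs hc (Multiplicative.ofAdd 1) = 1 := by
  show cml σ hs (uS hF 0 1) (uS hF 1 0) = 1
  have e : uS hF 1 0 * uS hF 1 0 = uS hF 0 1 := by
    rw [uS_mul, CharTwo.add_self_eq_zero, th_eq]; simp
  rw [← comm_eq σ hs hc (a := lft σ hs (uS hF 1 0) * lft σ hs (uS hF 1 0)) (b := lft σ hs (uS hF 1 0))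
    (by rw [map_mul, σ_lft, e]) (σ_lft σ hs _), commutatorElement_def]
  group

theorem cml_zu_eq (b a c : F) : cml σ hs (uS hF 0 b) (uS hF a c) =
    phi hF σ hs hc (Multiplicative.ofAdd (b * a ^ 2)) := by
  refine (cml_drop' hF σ hs hc b a c).trans ?_
  rw [phi_apply]
  rcases eq_or_ne a 0 with rfl | ha
  · have h1 : ∀ g, cml σ hs g (1 : Cfsg.Sz F 1) = 1 := fun g => by
      rw [← comm_eq σ hs hc (σ_lft σ hs g) (map_one σ), commutatorElement_one_right]
    rw [zero_pow two_ne_zero, mul_zero, uS_zero_zero, h1, ← cml_inv, h1, inv_one]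
  obtain ⟨t, ht⟩ := conj_t hF σ hs hc (a ^ 2) (pow_ne_zero _ ha)
  have ea : th F 1 (a ^ 2) / a ^ 2 * a = 1 := by
    have h7 := pow_seven hF ha
    rw [th_eq, ← pow_mul]
    field_simp
    linear_combination a * h7
  rw [← cml_conj_central σ hs hc (comm_z hF σ hs hc b a 0) (tS hF t), ht, ht, ea, mul_zero, mul_zero,
    mul_comm (a ^ 2) b]

/-- The values form a central subgroup. -/
theorem range_le_center : (phi hF σ hs hc).range ≤ Subgroup.center Γ := by
  rintro _ ⟨y, rfl⟩
  exact hc (phi_mem_ker hF σ hs hc y)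

theorem card_range_le : Nat.card (phi hF σ hs hc).range ≤ 4 := by
  classical
  have h := (phi hF σ hs hc).ker.card_mul_index
  rw [Subgroup.index_ker, Nat.card_congr Multiplicative.toAdd, Nat.card_eq_fintype_card (α := F), hF] at h
  have h2 : 2 ≤ Nat.card (phi hF σ hs hc).ker := by
    refine Finite.one_lt_card_iff_nontrivial.2 ⟨⟨⟨_, phi_one hF σ hs hc⟩, 1, fun e => ?_⟩⟩
    exact one_ne_zero (α := F) (Multiplicative.ofAdd.injective (congrArg Subtype.val e))
  have h8 : 2 * Nat.card (phi hF σ hs hc).range ≤ 2 ^ (2 * 1 + 1) := h ▸ Nat.mul_le_mul_right _ h2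
  omega

/-- The two-part of the kernel lies in the values. -/
theorem mem_range_of_pow [Finite Γ] (hd : σ.ker ≤ commutator Γ) {z : Γ} (hz : z ∈ σ.ker) {k : ℕ}
    (hk : z ^ 2 ^ k = 1) : z ∈ (phi hF σ hs hc).range := by
  classical
  set N := (phi hF σ hs hc).range with hN
  haveI : N.Normal := ⟨fun n hn g => by
    rwa [Subgroup.mem_center_iff.1 (range_le_center hF σ hs hc hn) g, mul_inv_cancel_right]⟩
  have hNk : N ≤ σ.ker := by rintro _ ⟨y, rfl⟩; exact phi_mem_ker hF σ hs hc y
  let τ : Γ ⧸ N →* Cfsg.Sz F 1 := QuotientGroup.lift N σ hNk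
  have hτs : Function.Surjective τ := fun g => ⟨QuotientGroup.mk (lft σ hs g), σ_lft σ hs g⟩
  have hτc : τ.ker ≤ Subgroup.center (Γ ⧸ N) := by
    intro q hq
    obtain ⟨g, rfl⟩ := QuotientGroup.mk_surjective q
    refine Subgroup.mem_center_iff.2 fun r => ?_
    obtain ⟨h, rfl⟩ := QuotientGroup.mk_surjective r
    exact congrArg QuotientGroup.mk (Subgroup.mem_center_iff.1 (hc hq) h)
  have hzu : ∀ b a c, cml τ hτs (uS hF 0 b) (uS hF a c) = 1 := fun b a c => by
    rw [← comm_eq τ hτs hτc (a := QuotientGroup.mk' N (lft σ hs (uS hF 0 b)))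
      (b := QuotientGroup.mk' N (lft σ hs (uS hF a c))) (σ_lft σ hs _) (σ_lft σ hs _), ← map_commutatorElement]
    refine (QuotientGroup.eq_one_iff _).2 ?_
    show cml σ hs (uS hF 0 b) (uS hF a c) ∈ N
    rw [cml_zu_eq hF σ hs hc]
    exact MonoidHom.mem_range.2 ⟨_, rfl⟩
  set q : Γ ⧸ N := QuotientGroup.mk' N z with hq
  have hqk : q ∈ τ.ker := hz
  have hqd : q ∈ commutator (Γ ⧸ N) := by
    have h := Subgroup.mem_map_of_mem (QuotientGroup.mk' N) (hd hz)
    rw [commutator_def, Subgroup.map_commutator,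
      Subgroup.map_top_of_surjective _ (QuotientGroup.mk'_surjective N)] at h
    exact h
  obtain ⟨h, hmem⟩ := CfsgLib.Schur.pow_index_mem_commutator ((UU hF).comap τ) (hτc hqk) hqd
  have h7 := pow_eq_one_of_mem hF τ hτs hτc (by rw [hF]; norm_num) hzu (pow_mem hqk _) h hmem
  rw [← pow_mul, Subgroup.index_comap_of_surjective _ hτs, index_UU hF, hF] at h7
  have h2 : q ^ 2 ^ k = 1 := by rw [hq, ← map_pow, hk, map_one]
  have h1 : q = 1 := orderOf_eq_one_iff.1 (Nat.dvd_one.1 (by
    have hg := Nat.dvd_gcd (orderOf_dvd_of_pow_eq_one h2) (orderOf_dvd_of_pow_eq_one h7)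
    rwa [show Nat.gcd (2 ^ k) (455 * (2 ^ (2 * 1 + 1) - 1)) = 1 from
      (Nat.Coprime.pow_left k (by norm_num : Nat.Coprime 2 _))] at hg))
  exact (QuotientGroup.eq_one_iff z).1 h1

omit hs hc in
include hF in
theorem card_ker_le [Finite Γ] (hσ : Cfsg.IsStemExtension σ) : Nat.card σ.ker ≤ 4 := by
  classical
  obtain ⟨hs, hc, hd⟩ := hσ
  refine le_trans (Nat.le_of_dvd Nat.card_pos (Subgroup.card_dvd_of_le (K := (phi hF σ hs hc).range) ?_))
    (card_range_le hF σ hs hc)
  have hodd : ∀ r : ℕ, r.Prime → r ≠ 2 → ∀ w ∈ σ.ker, w ^ r = 1 → w = 1 := by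
    intro r hr hr2 w hw hwr
    haveI := Fact.mk hr
    have hcard := nat_card hF le_rfl
    have key : ∃ x : Cfsg.Sz F 1, ¬ r ∣ (Subgroup.zpowers x).index := by
      by_cases h65 : r ∣ Fintype.card F ^ 2 + 1
      · obtain ⟨R⟩ : Nonempty (Sylow r (Cfsg.Sz F 1)) := inferInstance
        have := isCyclic_sylow_of_dvd hF r h65 R
        obtain ⟨g, hg⟩ := this.exists_generator
        refine ⟨g, ?_⟩
        have : Subgroup.zpowers (g : Cfsg.Sz F 1) = (R : Subgroup (Cfsg.Sz F 1)) := by
          refine le_antisymm (Subgroup.zpowers_le.2 g.2) fun y hy => ?_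
          obtain ⟨n, hn⟩ := hg ⟨y, hy⟩
          exact ⟨n, by simpa using congrArg Subtype.val hn⟩
        rw [this]; exact Sylow.not_dvd_index R
      by_cases h7 : r = 7
      · subst h7
        obtain ⟨g, hg⟩ := exists_prime_orderOf_dvd_card' 7 (G := Cfsg.Sz F 1) (by rw [hcard, hF]; norm_num)
        refine ⟨g, fun h => ?_⟩
        have h1 := Subgroup.card_mul_index (Subgroup.zpowers g)
        rw [Nat.card_zpowers, hg, hcard, hF] at h1
        norm_num at h1
        omega
      refine ⟨1, fun h => ?_⟩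
      rw [Subgroup.zpowers_one_eq_bot, Subgroup.index_bot, hcard] at h
      rcases hr.dvd_mul.1 h with h | h
      · rcases hr.dvd_mul.1 h with h | h
        · exact hr2 ((Nat.prime_dvd_prime_iff_eq hr Nat.prime_two).1 (hr.dvd_of_dvd_pow (hF ▸ hr.dvd_of_dvd_pow h)))
        · exact h65 h
      · rw [hF] at h
        exact h7 ((Nat.prime_dvd_prime_iff_eq hr (by norm_num : Nat.Prime 7)).1 h)
    obtain ⟨x, hx⟩ := key
    exact CfsgLib.Char.Exceptional.AltMultiplier.eq_one_of_cyclic σ hs hc hd x hr hx hw (k := 1) (by simpa)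
  intro z hz
  refine mem_range_of_pow hF σ hs hc hd hz (k := (orderOf z).primeFactorsList.length) ?_
  have ho : orderOf z ≠ 0 := (orderOf_pos z).ne'
  have hpow : orderOf z = 2 ^ (orderOf z).primeFactorsList.length := by
    refine Nat.eq_prime_pow_of_unique_prime_dvd ho fun {d} hdp hdvd => ?_
    by_contra h2
    have h := orderOf_pow_orderOf_div ho hdvd
    have h1 := hodd d hdp h2 _ (pow_mem hz (orderOf z / d)) (by
      have := pow_orderOf_eq_one (z ^ (orderOf z / d)); rwa [h] at this)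
    rw [← h, h1, orderOf_one] at hdp
    exact Nat.not_prime_one hdp
  rw [← hpow, pow_orderOf_eq_one]

end Upper

/-- The coefficient group. -/
abbrev Coef (F : Type u) [Field F] : Type u := F ⧸ AddSubgroup.zmultiples (1 : F)

omit [Fintype F] [CharP F 2] in
/-- The projection to the coefficient group. -/
abbrev psi : F →+ Coef F := QuotientAddGroup.mk' _

omit [Fintype F] [CharP F 2] in
theorem psi_one : psi (1 : F) = 0 := (QuotientAddGroup.eq_zero_iff _).2 (AddSubgroup.mem_zmultiples _)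

/-- The quadratic part of the cocycle. -/
def hh (a c : F) : F := a ^ 3 * c ^ 4 + a ^ 2 * c ^ 5

/-- The first coordinate of a unipotent element. -/
def ca (p : UU hF) : F := (((p : Cfsg.Sz F 1) : Matrix.SpecialLinearGroup (Fin 4) F) : Matrix (Fin 4) (Fin 4) F) 0 1

/-- The second coordinate of a unipotent element. -/
def cb (p : UU hF) : F := (((p : Cfsg.Sz F 1) : Matrix.SpecialLinearGroup (Fin 4) F) : Matrix (Fin 4) (Fin 4) F) 1 3

theorem uS_mem (a b : F) : uS hF a b ∈ UU hF := ⟨a, b, rfl⟩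

theorem ca_uS (a b : F) : ca hF ⟨uS hF a b, uS_mem hF a b⟩ = a := rfl

theorem cb_uS (a b : F) : cb hF ⟨uS hF a b, uS_mem hF a b⟩ = b := rfl

theorem coords_mul (p q : UU hF) : ca hF (p * q) = ca hF p + ca hF q ∧
    cb hF (p * q) = cb hF p + cb hF q + ca hF p ^ 4 * ca hF q := by
  obtain ⟨_, a, b, rfl⟩ := p
  obtain ⟨_, c, d, rfl⟩ := q
  have e : (⟨uS hF a b, uS_mem hF a b⟩ : UU hF) * ⟨uS hF c d, uS_mem hF c d⟩ =
      ⟨uS hF (a + c) (b + d + a ^ 4 * c), uS_mem hF _ _⟩ := Subtype.ext (by rw [← th_eq]; exact uS_mul hF a b c d)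
  exact ⟨by rw [e]; rfl, by rw [e]; rfl⟩

theorem coords_one : ca hF 1 = 0 ∧ cb hF 1 = 0 := by constructor <;> simp [ca, cb]

include hF in
theorem psi_key (a c e : F) : psi (a ^ 4 * c * e ^ 2 + a ^ 2 * c ^ 4 * e + a * c ^ 2 * e ^ 4 : F) = 0 := by
  set y := a ^ 4 * c * e ^ 2 + a ^ 2 * c ^ 4 * e + a * c ^ 2 * e ^ 4 with hy
  have h2 : y ^ 2 = y := by
    rw [hy, CharTwo.add_sq, CharTwo.add_sq, mul_pow, mul_pow, mul_pow, mul_pow, mul_pow, mul_pow, ← pow_mul,
      ← pow_mul, ← pow_mul, ← pow_mul, ← pow_mul, ← pow_mul]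
    linear_combination (c ^ 2 * e ^ 4) * pow_eight hF a + (a ^ 4 * e ^ 2) * pow_eight hF c +
      (a ^ 2 * c ^ 4) * pow_eight hF e
  rcases mul_eq_zero.1 (show y * (y - 1) = 0 by linear_combination h2) with h | h
  · rw [h, map_zero]
  · rw [sub_eq_zero.1 h, psi_one]

/-- The cocycle on the Sylow subgroup. -/
def cocycle : Cocycle (UU hF) (Coef F) where
  f p q := psi (cb hF p * ca hF q ^ 2 + hh (ca hF p) (ca hF q))
  one_left q := by rw [(coords_one hF).1, (coords_one hF).2]; simp [hh]
  one_right p := by rw [(coords_one hF).1]; simp [hh]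
  cocycle p q r := by
    have hk := psi_key hF (ca hF p) (ca hF q) (ca hF r)
    rw [(coords_mul hF p q).1, (coords_mul hF p q).2, (coords_mul hF q r).1, ← map_add, ← map_add,
      ← sub_eq_zero, ← map_sub, ← hk]
    congr 1
    simp only [hh]
    have h2 : (2 : F) = 0 := CharTwo.two_eq_zero
    grind

/-- The transversal. -/
def rp : Option (F × F) × Fˣ → Cfsg.Sz F 1
  | (none, t) => tS hF t
  | (some (a, b), t) => uS hF a b * wS hF * tS hF t

theorem rp_point : ∀ q : Option (F × F) × Fˣ, rp hF q • pt F 1 none = pt F 1 q.1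
  | (none, t) => tS_none hF t
  | (some (a, b), t) => by
    rw [rp, mul_smul, mul_smul, tS_none, wS_none, uS_zero]

theorem UU_none {g : Cfsg.Sz F 1} (hg : g ∈ UU hF) : g • pt F 1 none = pt F 1 none := by
  obtain ⟨a, b, rfl⟩ := hg
  exact uS_none hF a b

theorem rp_bijective : Function.Bijective fun q => (QuotientGroup.mk (rp hF q) : Cfsg.Sz F 1 ⧸ UU hF) := by
  classical
  refine Function.Injective.bijective_of_nat_card_le (fun q q' h => ?_) ?_
  · have hm : (rp hF q)⁻¹ * rp hF q' ∈ UU hF := QuotientGroup.eq.1 h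
    have hp : q.1 = q'.1 := by
      have h' := UU_none hF hm
      rw [mul_smul, inv_smul_eq_iff, rp_point, rp_point] at h'
      exact ((pt F 1).injective h').symm
    obtain ⟨o, t⟩ := q
    obtain ⟨o', t'⟩ := q'
    obtain rfl : o = o' := hp
    have hu : (tS hF t)⁻¹ * tS hF t' ∈ UU hF := by
      rcases o with _ | ⟨a, b⟩
      · exact hm
      · simpa [rp, mul_assoc, mul_inv_rev] using hm
    obtain ⟨a, b, hab⟩ := hu
    rw [← map_inv, ← map_mul] at hab
    have := (uS_tS_inj hF (a := 0) (b := 0) (a' := a) (b' := b) (t := t⁻¹ * t') (t' := 1)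
      (by rw [uS_zero_zero, one_mul, map_one, mul_one, hab])).2.2
    rw [inv_mul_eq_one] at this
    rw [this]
  · rw [← Subgroup.index_eq_card, index_UU, Nat.card_eq_fintype_card, Fintype.card_prod, Fintype.card_option,
      Fintype.card_prod, Fintype.card_units, hF]
    norm_num

/-- The translation of the indices by a unipotent element. -/
def move (c d : F) : Option (F × F) × Fˣ → Option (F × F) × Fˣ
  | (none, t) => (none, t)
  | (some (a, b), t) => (some (c + a, d + b + th F 1 c * a), t)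

/-- The transversal factor of a unipotent element. -/
def part (c d : F) : Option (F × F) × Fˣ → UU hF
  | (none, t) => ⟨_, uS_mem hF (((t⁻¹ : Fˣ) : F) ^ 2 / th F 1 ((t⁻¹ : Fˣ) : F) * c) (th F 1 ((t⁻¹ : Fˣ) : F) * d)⟩
  | (some _, _) => 1

theorem step (c d : F) : ∀ q, uS hF c d * rp hF q = rp hF (move c d q) * (part hF c d q : Cfsg.Sz F 1)
  | (none, t) => by
    show uS hF c d * tS hF t = tS hF t * uS hF _ _
    rw [← mul_right_inj (tS hF t⁻¹), ← mul_assoc, ← mul_assoc, tS_uS, mul_assoc, ← map_mul, inv_mul_cancel,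
      map_one, mul_one, one_mul]
  | (some (a, b), t) => by
    show uS hF c d * (uS hF a b * wS hF * tS hF t) = uS hF _ _ * wS hF * tS hF t * 1
    rw [mul_one, ← mul_assoc, ← mul_assoc, uS_mul]

/-- The transversal indexed by numbers. -/
theorem ix_bijective [DecidableEq F] : Function.Bijective fun i : Fin (Fintype.card (Option (F × F) × Fˣ)) =>
    (QuotientGroup.mk (rp hF ((Fintype.equivFin _).symm i)) : Cfsg.Sz F 1 ⧸ UU hF) :=
  (rp_bijective hF).comp (Fintype.equivFin _).symm.bijective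

/-- The transferred cocycle. -/
noncomputable def bigCocycle [DecidableEq F] : Cocycle (Cfsg.Sz F 1) (Coef F) :=
  certCocycle (MonoidHom.id (UU hF)) _ (ix_bijective hF) (cocycle hF)

theorem value [DecidableEq F] (x y : F × F) :
    (bigCocycle hF).f (uS hF x.1 x.2) (uS hF y.1 y.2) =
      ∑ q : Option (F × F) × Fˣ, (cocycle hF).f (part hF x.1 x.2 (move y.1 y.2 q)) (part hF y.1 y.2 q) := by
  let e := (Fintype.equivFin (Option (F × F) × Fˣ)).symm
  rw [bigCocycle, cert_value (MonoidHom.id (UU hF)) _ (ix_bijective hF) (cocycle hF)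
    (fun v : F × F => uS hF v.1 v.2) (fun v i => e.symm (move v.1 v.2 (e i)))
    (fun v i => part hF v.1 v.2 (e i)) (fun v i => ?_) x y, ← Equiv.sum_comp e]
  · refine Finset.sum_congr rfl fun i _ => ?_
    simp only [Equiv.apply_symm_apply]
  · have h : (rp hF (e (e.symm (move v.1 v.2 (e i)))))⁻¹ * uS hF v.1 v.2 * rp hF (e i) =
        (part hF v.1 v.2 (e i) : Cfsg.Sz F 1) := by
      rw [Equiv.apply_symm_apply, mul_assoc, step, inv_mul_cancel_left]
    exact ⟨h ▸ (part hF v.1 v.2 (e i)).2, Subtype.ext h⟩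

theorem witness [DecidableEq F] (β : F) :
    (bigCocycle hF).f (uS hF 0 β) (uS hF 1 0) - (bigCocycle hF).f (uS hF 1 0) (uS hF 0 β) = psi β := by
  rw [value hF (0, β) (1, 0), value hF (1, 0) (0, β), ← Finset.sum_sub_distrib, Fintype.sum_prod_type,
    Fintype.sum_option]
  have hsome : ∀ (p : F × F) (t : Fˣ),
      (cocycle hF).f (part hF 0 β (move 1 0 (some p, t))) (part hF 1 0 (some p, t)) -
        (cocycle hF).f (part hF 1 0 (move 0 β (some p, t))) (part hF 0 β (some p, t)) = 0 := by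
    rintro ⟨a, b⟩ t
    simp only [part, move, (cocycle hF).one_left, sub_self]
  have hnone : ∀ t : Fˣ,
      (cocycle hF).f (part hF 0 β (move 1 0 (none, t))) (part hF 1 0 (none, t)) -
        (cocycle hF).f (part hF 1 0 (move 0 β (none, t))) (part hF 0 β (none, t)) = psi β := by
    intro t
    set s : F := ((t⁻¹ : Fˣ) : F) with hs
    have hs0 : s ≠ 0 := Units.ne_zero _
    simp only [part, move, cocycle, ca_uS, cb_uS, ← hs, th_eq, hh, mul_zero, mul_one, zero_mul, zero_pow,
      ne_eq, OfNat.ofNat_ne_zero, not_false_eq_true, add_zero, map_zero, sub_zero]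
    congr 1
    field_simp
  simp only [hsome, hnone, Finset.sum_const_zero, Finset.sum_const, Finset.card_univ, Fintype.card_units, hF,
    add_zero]
  have h2 : (2 : ℕ) • psi β = 0 := by rw [← map_nsmul, two_nsmul, CharTwo.add_self_eq_zero, map_zero]
  rw [show (2 ^ (2 * 1 + 1) - 1 : ℕ) = 2 * 3 + 1 by norm_num, add_nsmul, mul_comm 2 3, mul_nsmul', h2, nsmul_zero,
    one_nsmul, zero_add]

include hF in
/-- The Schur multiplier of `Sz(8)`. -/
theorem hasSchurMultiplier : Cfsg.HasSchurMultiplier (Cfsg.Sz F 1) (Multiplicative (ZMod 2 × ZMod 2)) := by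
  classical
  set C := bigCocycle hF
  have hstem : Cfsg.IsStemExtension (Ext.proj : Ext C →* Cfsg.Sz F 1) := by
    refine Ext.isStem_of_witness Set.univ (fun a _ => ?_) AddSubgroup.closure_univ
    obtain ⟨β, rfl⟩ := QuotientAddGroup.mk'_surjective _ a
    refine ⟨uS hF 0 β, uS hF 1 0, ?_, witness hF β⟩
    rw [uS_mul, uS_mul, add_comm β]; simp
  have hcard : Nat.card (Coef F) = 4 := by
    have h := AddSubgroup.card_eq_card_quotient_mul_card_addSubgroup (AddSubgroup.zmultiples (1 : F))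
    rw [Nat.card_zmultiples, CharP.eq F (CharP.addOrderOf_one F) (inferInstance : CharP F 2), Nat.card_eq_fintype_card (α := F), hF] at h
    norm_num at h
    show Nat.card (F ⧸ AddSubgroup.zmultiples (1 : F)) = 4
    rw [Nat.card_eq_fintype_card]
    omega
  haveI : IsKleinFour (Multiplicative (Coef F)) :=
    { card_four := by rw [Nat.card_congr Multiplicative.toAdd, hcard]
      exponent_two := by
        haveI : Nontrivial (Multiplicative (Coef F)) := Finite.one_lt_card_iff_nontrivial.1 (by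
          rw [Nat.card_congr Multiplicative.toAdd, hcard]; norm_num)
        refine (Monoid.exponent_eq_prime_iff Nat.prime_two).2 fun g hg => orderOf_eq_prime ?_ hg
        obtain ⟨β, hβ⟩ := QuotientAddGroup.mk'_surjective _ (Multiplicative.toAdd g)
        apply Multiplicative.toAdd.injective
        rw [toAdd_pow, toAdd_one, ← hβ, ← map_nsmul, two_nsmul, CharTwo.add_self_eq_zero, map_zero] }
  obtain ⟨eA⟩ : Nonempty (Multiplicative (Coef F) ≃* Multiplicative (ZMod 2 × ZMod 2)) :=
    IsKleinFour.nonempty_mulEquiv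
  refine CfsgLib.Schur.hasSchurMultiplier_of_witness _ hstem (Ext.kerEquiv.trans eA) fun Γ _ _ σ hσ => ?_
  rw [Nat.card_congr Multiplicative.toAdd, Nat.card_prod, Nat.card_zmod]
  exact card_ker_le hF σ hσ

end CfsgLib.Known.SzEight
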