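import Cfsg.Agent.Lib.Known.StCover

/-!
# Central extensions of groups with root elements: commutators of lifts, transport by monomial elements
-/

set_option autoImplicit false

namespace CfsgLib.Known.Univ

open Cfsg.Lie (ChevalleyDatum)
open CfsgLib.Lie.Chev
open scoped commutatorElement

variable {D : ChevalleyDatum} {X : Aux} {K : Type*} [Field K]

/-- a central extension of a group with root elements satisfying (R1), (R2) -/
structure CentExt (D : ChevalleyDatum) (X : Aux) (K : Type*) [Field K] (G E : Type*) [Group G] [Group E] where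
  R : RawRel D X K G
  L : List (ℕ × ℕ × ℕ × List ℤ)
  hL : chkWits D X L = true
  π : E →* G
  surj : Function.Surjective π
  central : π.ker ≤ Subgroup.center E

variable {G E : Type*} [Group G] [Group E] (S : CentExt D X K G E)

theorem comm_mul_central {a z : E} (hz : z ∈ Subgroup.center E) (b : E) : ⁅a * z, b⁆ = ⁅a, b⁆ := by
  simp only [commutatorElement_def, mul_inv_rev, mul_assoc]
  rw [← mul_assoc z b, ← Subgroup.mem_center_iff.1 hz b]
  simp [mul_assoc]

theorem comm_congr {a a' b b' : E} (ha : S.π a = S.π a') (hb : S.π b = S.π b') : ⁅a, b⁆ = ⁅a', b'⁆ := by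
  obtain ⟨z, hz, rfl⟩ : ∃ z ∈ Subgroup.center E, a = a' * z :=
    ⟨a'⁻¹ * a, S.central (by rw [MonoidHom.mem_ker, map_mul, map_inv, ha, inv_mul_cancel]), by group⟩
  obtain ⟨w, hw, rfl⟩ : ∃ w ∈ Subgroup.center E, b = b' * w :=
    ⟨b'⁻¹ * b, S.central (by rw [MonoidHom.mem_ker, map_mul, map_inv, hb, inv_mul_cancel]), by group⟩
  rw [comm_mul_central hz, ← commutatorElement_inv, comm_mul_central hw, commutatorElement_inv]

/-- a lift of `x_r(t)` -/
noncomputable def lf (r : ℕ) (t : K) : E := Function.surjInv S.surj (S.R.xe r t)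

theorem π_lf (r : ℕ) (t : K) : S.π (lf S r t) = S.R.xe r t := Function.surjInv_eq S.surj _

/-- the commutator of lifts of two root elements -/
noncomputable def cm (r s : ℕ) (t u : K) : E := ⁅lf S r t, lf S s u⁆

theorem cm_eq {r s : ℕ} {t u : K} {a b : E} (ha : S.π a = S.R.xe r t) (hb : S.π b = S.R.xe s u) :
    ⁅a, b⁆ = cm S r s t u :=
  comm_congr S (ha.trans (π_lf S r t).symm) (hb.trans (π_lf S s u).symm)

theorem π_cm (r s : ℕ) (t u : K) : S.π (cm S r s t u) = ⁅S.R.xe r t, S.R.xe s u⁆ := by
  rw [cm, map_commutatorElement, π_lf, π_lf]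

theorem cm_inv (r s : ℕ) (t u : K) : (cm S r s t u)⁻¹ = cm S s r u t := by rw [cm, cm, commutatorElement_inv]

theorem xe_inj {r : ℕ} (hr : r < D.nroots) {t t' : K} (h : S.R.xe r t = S.R.xe r t') : t = t' := by
  obtain ⟨a, ha⟩ := (chevRel S.R.cert K).exists_cor_ne_zero hr
  have h' := congrArg (fun g => ((S.R.θ g : GL D.Idx K) : Matrix D.Idx D.Idx K) (Sum.inl a)
    (Sum.inr ⟨D.neg r, S.R.cert.neg_lt hr⟩)) h
  simp only [S.R.θ_xe, S.R.cert.xM_inl_inr hr, if_true] at h'
  exact mul_left_cancel₀ ha h'

/-- `x_r(t)` and `x_s(u)` commute when there are no commutator terms -/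
theorem xe_commute {r s : ℕ} (hr : r < D.nroots) (hs : s < D.nroots) (h2 : s ≠ D.neg r)
    (h : r = s ∨ D.commTerms r s = []) (t u : K) : Commute (S.R.xe r t) (S.R.xe s u) := by
  by_cases hrs : s = r
  · subst hrs
    show S.R.xe s t * S.R.xe s u = S.R.xe s u * S.R.xe s t
    rw [S.R.xe_add s t u hr, S.R.xe_add s u t hr, add_comm]
  · rcases h with h | h
    · exact absurd h.symm hrs
    have := S.R.xe_comm r s t u hr hs hrs h2
    rw [ChevalleyDatum.commWord, h, List.map_nil, List.map_nil, List.prod_nil, mul_one] at this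
    exact this.symm

/-- lifts of `n_i` move lifts of root elements -/
theorem exists_move {i : ℕ} (hi : i < D.rank) : ∃ n : E, ∀ r < D.nroots, ∀ t : K, ∀ a : E, S.π a = S.R.xe r t →
    S.π (n * a * n⁻¹) = S.R.xe (X.w i r) ((X.eta i r : K) * t) := by
  obtain ⟨n, hn⟩ := S.surj (neOf D S.R.xe (D.simple i) 1)
  refine ⟨n, fun r hr t a ha => ?_⟩
  have h := S.R.nconj_all S.hL hi hr (one_ne_zero (α := K)) t
  rw [one_zpow, mul_one] at h
  rw [map_mul, map_mul, map_inv, hn, ha, h, mul_inv_cancel_right]

/-- commutators of lifts move along -/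
theorem conj_cm {i : ℕ} {n : E} (hn : ∀ r < D.nroots, ∀ t : K, ∀ a : E, S.π a = S.R.xe r t →
      S.π (n * a * n⁻¹) = S.R.xe (X.w i r) ((X.eta i r : K) * t)) {r s : ℕ} (hr : r < D.nroots)
    (hs : s < D.nroots) (t u : K) :
    n * cm S r s t u * n⁻¹ = cm S (X.w i r) (X.w i s) ((X.eta i r : K) * t) ((X.eta i s : K) * u) := by
  rw [← cm_eq S (hn r hr t _ (π_lf S r t)) (hn s hs u _ (π_lf S s u)), cm]
  simp only [commutatorElement_def]
  group

/-- roots reachable from `i0` by simple reflections -/
def chkReach (D : ChevalleyDatum) (X : Aux) (i0 : ℕ) (M : List (ℕ × ℕ)) : Bool :=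
  Nat.blt i0 D.rank && (M.all fun e => Nat.blt e.1 D.rank && Nat.blt e.2 D.rank &&
    Nat.beq (X.w e.2 (X.w e.1 (D.simple e.2))) (D.simple e.1)) &&
  ((List.range D.rank).all fun j => Nat.beq j i0 || M.any fun e => Nat.beq e.1 j) &&
  (M.zipIdx.all fun e => Nat.beq e.1.2 i0 || (M.take e.2).any fun f => Nat.beq f.1 e.1.2)

include S in
/-- a property invariant under reflections and true at one fundamental root holds everywhere -/
theorem of_reach {i0 : ℕ} {M : List (ℕ × ℕ)} (h : chkReach D X i0 M = true) (P : ℕ → Prop)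
    (hstep : ∀ i < D.rank, ∀ k < D.nroots, P k → P (X.w i k)) (h0 : P (D.simple i0)) :
    ∀ k < D.nroots, P k := by
  simp only [chkReach, Bool.and_eq_true, List.all_eq_true, List.mem_range, Bool.or_eq_true, nat_beq_iff,
    nat_blt_iff, List.any_eq_true] at h
  obtain ⟨⟨⟨hi0, h1⟩, h2⟩, h3⟩ := h
  have C := S.R.cert
  have hsimp : ∀ j < D.rank, P (D.simple j) := by
    have key : ∀ n, ∀ e ∈ M.take n, P (D.simple e.1) := by
      intro n
      induction n with
      | zero => simp
      | succ n ih =>
        intro e he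
        rw [List.take_add_one, List.mem_append] at he
        rcases he with he | he
        · exact ih e he
        rw [Option.mem_toList] at he
        have hmem : e ∈ M := List.mem_of_getElem? he
        obtain ⟨⟨a, b⟩, c⟩ := h1 e hmem
        have hpar : P (D.simple e.2) := by
          rcases h3 (e, n) (List.mk_mem_zipIdx_iff_getElem?.2 he) with h | ⟨f, hf, hfe⟩
          · rw [show e.2 = i0 from h]; exact h0
          · rw [show e.2 = f.1 from hfe.symm]; exact ih f hf
        rw [← c]
        exact hstep _ b _ (C.w_lt a (C.simple_lt b)) (hstep _ a _ (C.simple_lt b) hpar)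
    intro j hj
    rcases h2 j hj with rfl | ⟨e, he, rfl⟩
    · exact h0
    · exact key M.length e (by rwa [List.take_length])
  have hpos : ∀ k, k < D.nroots → half D ≤ k → P k ∧ P (D.neg k) := by
    intro k
    induction k using Nat.strong_induction_on with
    | _ k ih =>
      intro hk hp
      obtain ⟨i, hi, h'⟩ := C.cover'.2.2.1 k hk hp
      rcases h' with h' | ⟨h1', h2'⟩
      · subst h'
        refine ⟨hsimp i hi, ?_⟩
        rw [← C.w_simple hi]
        exact hstep i hi _ hk (hsimp i hi)
      · have hw := C.w_lt hi hk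
        obtain ⟨a, b⟩ := ih _ h2' hw h1'
        refine ⟨?_, ?_⟩
        · have := hstep i hi _ hw a
          rwa [C.w_w hi hk] at this
        · have := hstep i hi _ (C.neg_lt hw) b
          rwa [C.w_neg hi hw, C.w_w hi hk] at this
  intro k hk
  by_cases hp : half D ≤ k
  · exact (hpos k hk hp).1
  · have := (hpos _ (C.neg_lt hk) ((C.half_le_neg_iff hk).2 (by omega))).2
    rwa [C.neg_neg hk] at this

end CfsgLib.Known.Univ
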