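import Cfsg.Agent.Lib.Known.UnivTorus

/-!
# Commutator relations between sections
-/

set_option autoImplicit false

namespace CfsgLib.Known.Univ

open Cfsg.Lie (ChevalleyDatum)
open CfsgLib.Lie.Chev
open scoped commutatorElement

variable {D : ChevalleyDatum} {X : Aux} {K : Type*} [Field K]
variable {G E : Type*} [Group G] [Group E] (S : CentExt D X K G E)

/-- roots occurring in the commutator of `r`, `s` -/
def termRoots (D : ChevalleyDatum) (r s : ℕ) : List ℕ := (D.commTerms r s).map Prod.fst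

/-- subgroup generated by sections over a set of roots -/
def US (f : ℕ → K → E) (T : Finset ℕ) : Subgroup E :=
  Subgroup.closure {g | ∃ k ∈ T, ∃ t, g = f k t}

/-- the commutator of the sections lies over the roots of its terms -/
def Goal (D : ChevalleyDatum) (f : ℕ → K → E) (r s : ℕ) : Prop :=
  ∀ t u, (f r t * f s u)⁻¹ * (f s u * f r t) ∈ US f (termRoots D r s).toFinset

/-- sections at all roots -/
structure AllSect (f : ℕ → K → E) : Prop where
  sect : ∀ r < D.nroots, IsSect S r (f r)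
  oob : ∀ r t, ¬ r < D.nroots → f r t = 1

/-- the order conditions on a pair -/
def PairOK (D : ChevalleyDatum) (X : Aux) (r s : ℕ) : Prop :=
  ∃ lam : Fin D.rank → ℤ, 1 ≤ hgt D X lam r ∧ 1 ≤ hgt D X lam s ∧
    ((D.commTerms s r).length ≤ (D.commTerms r s).length ∧ ∀ k ∈ termRoots D s r, k ∈ termRoots D r s) ∧
    ∀ k1 ∈ s :: termRoots D r s, ∀ k2 ∈ s :: termRoots D r s, k2 ≠ k1 →
      (D.commTerms k1 k2).length < (D.commTerms r s).length ∧
        ∀ k ∈ termRoots D k1 k2, k ∈ termRoots D r s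

variable {S} {f : ℕ → K → E}

theorem mem_US {T : Finset ℕ} {k : ℕ} (hk : k ∈ T) (t : K) : f k t ∈ US f T :=
  Subgroup.subset_closure ⟨k, hk, t, rfl⟩

theorem US_mono {T T' : Finset ℕ} (h : T ⊆ T') : US f T ≤ US f T' :=
  Subgroup.closure_mono (by rintro _ ⟨k, hk, t, rfl⟩; exact ⟨k, h hk, t, rfl⟩)

variable (hf : AllSect S f)
include hf

theorem sect_zero {r : ℕ} (hr : r < D.nroots) : f r 0 = 1 := add_map_zero (hf.sect r hr).add

theorem sect_neg {r : ℕ} (hr : r < D.nroots) (t : K) : f r (-t) = (f r t)⁻¹ := add_map_neg (hf.sect r hr).add t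

theorem hgt_terms (lam : Fin D.rank → ℤ) {r s : ℕ} (hr : r < D.nroots) (hs : s < D.nroots) {k : ℕ}
    (hk : k ∈ termRoots D r s) : k < D.nroots ∧ ∃ i j : ℕ, 1 ≤ i ∧ 1 ≤ j ∧
      hgt D X lam k = (i : ℤ) * hgt D X lam r + (j : ℤ) * hgt D X lam s := by
  obtain ⟨c, hc, rfl⟩ := List.mem_map.1 hk
  obtain ⟨h0, h1, h2, -, -⟩ := S.R.cert.commTerms_props hr hs c hc
  exact ⟨h0, _, _, h1, h2, S.R.hgt_comm lam (r := ⟨r, hr⟩) (s := ⟨s, hs⟩) hc⟩

/-- the projection is injective over a closed positive set of roots -/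
theorem injOn_US (lam : Fin D.rank → ℤ) : ∀ T : Finset ℕ, (∀ k ∈ T, k < D.nroots ∧ 1 ≤ hgt D X lam k) →
    (∀ k ∈ T, ∀ k' ∈ T, k' ≠ k → Goal D f k k' ∧ ∀ c ∈ termRoots D k k', c ∈ T) →
    ∀ v ∈ US f T, S.π v = 1 → v = 1 := by
  intro T
  induction T using Finset.strongInduction with
  | H T ih =>
  intro hlt hT v hv hπv
  rcases T.eq_empty_or_nonempty with rfl | hne
  · have : US f (∅ : Finset ℕ) ≤ ⊥ := (Subgroup.closure_le _).2 (by rintro _ ⟨k, hk, -⟩; simp at hk)
    exact Subgroup.mem_bot.1 (this hv)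
  obtain ⟨k, hk, hmin⟩ := T.exists_min_image (fun k => hgt D X lam k) hne
  obtain ⟨hkn, hk1⟩ := hlt k hk
  have hT' : ∀ a ∈ T.erase k, ∀ b ∈ T.erase k, b ≠ a → Goal D f a b ∧ ∀ c ∈ termRoots D a b, c ∈ T.erase k := by
    intro a ha b hb hab
    obtain ⟨hab1, hab2⟩ := hT a (Finset.mem_of_mem_erase ha) b (Finset.mem_of_mem_erase hb) hab
    refine ⟨hab1, fun c hc => Finset.mem_erase.2 ⟨fun e => ?_, hab2 c hc⟩⟩
    obtain ⟨-, i, j, hi, hj, e'⟩ := hgt_terms hf lam (hlt a (Finset.mem_of_mem_erase ha)).1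
      (hlt b (Finset.mem_of_mem_erase hb)).1 hc
    have := hmin a (Finset.mem_of_mem_erase ha)
    have := hmin b (Finset.mem_of_mem_erase hb)
    rw [e] at e'
    nlinarith [show (1 : ℤ) ≤ i by exact_mod_cast hi, show (1 : ℤ) ≤ j by exact_mod_cast hj]
  have hnorm : ∀ t, ∀ x ∈ US f (T.erase k), f k t * x * (f k t)⁻¹ ∈ US f (T.erase k) := by
    intro t x hx
    induction hx using Subgroup.closure_induction with
    | one => simp
    | mul a b _ _ ha hb =>
      rw [show f k t * (a * b) * (f k t)⁻¹ = (f k t * a * (f k t)⁻¹) * (f k t * b * (f k t)⁻¹) by group]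
      exact mul_mem ha hb
    | inv a _ ha =>
      rw [show f k t * a⁻¹ * (f k t)⁻¹ = (f k t * a * (f k t)⁻¹)⁻¹ by group]
      exact inv_mem ha
    | mem a ha =>
      obtain ⟨k', hk', u, rfl⟩ := ha
      obtain ⟨hg, hc⟩ := hT k hk k' (Finset.mem_of_mem_erase hk') (Finset.ne_of_mem_erase hk')
      have h := hg (-t) u
      have hsub : (termRoots D k k').toFinset ⊆ T.erase k := by
        intro c hc'
        rw [List.mem_toFinset] at hc'
        refine Finset.mem_erase.2 ⟨fun e => ?_, hc c hc'⟩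
        obtain ⟨-, i, j, hi, hj, e'⟩ := hgt_terms hf lam hkn (hlt k' (Finset.mem_of_mem_erase hk')).1 hc'
        have := hmin k' (Finset.mem_of_mem_erase hk')
        rw [e] at e'
        nlinarith [show (1 : ℤ) ≤ i by exact_mod_cast hi, show (1 : ℤ) ≤ j by exact_mod_cast hj]
      have h2 := mul_mem (mem_US hk' u) (US_mono hsub h)
      rw [sect_neg hf hkn] at h2
      convert h2 using 1
      group
  have hdec : ∀ v ∈ US f T, ∃ t, ∃ w ∈ US f (T.erase k), v = f k t * w := by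
    intro v hv
    induction hv using Subgroup.closure_induction with
    | one => exact ⟨0, 1, one_mem _, by rw [sect_zero hf hkn, one_mul]⟩
    | mem a ha =>
      obtain ⟨k', hk', u, rfl⟩ := ha
      by_cases h : k' = k
      · subst h; exact ⟨u, 1, one_mem _, (mul_one _).symm⟩
      · exact ⟨0, f k' u, mem_US (Finset.mem_erase.2 ⟨h, hk'⟩) u, by rw [sect_zero hf hkn, one_mul]⟩
    | mul a b _ _ ha hb =>
      obtain ⟨t, w, hw, rfl⟩ := ha
      obtain ⟨t', w', hw', rfl⟩ := hb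
      refine ⟨t + t', _, mul_mem (hnorm (-t') w hw) hw', ?_⟩
      rw [← (hf.sect k hkn).add, sect_neg hf hkn]
      group
    | inv a _ ha =>
      obtain ⟨t, w, hw, rfl⟩ := ha
      refine ⟨-t, _, hnorm t w⁻¹ (inv_mem hw), ?_⟩
      rw [sect_neg hf hkn]
      group
  obtain ⟨t, w, hw, rfl⟩ := hdec v hv
  have hlt' : ∀ a ∈ T.erase k, a < D.nroots ∧ 1 ≤ hgt D X lam a := fun a ha => hlt a (Finset.mem_of_mem_erase ha)
  suffices ht : t = 0 by
    subst ht
    rw [sect_zero hf hkn, one_mul] at hπv ⊢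
    exact ih _ (Finset.erase_ssubset hk) hlt' hT' w hw hπv
  obtain ⟨A, hA⟩ : ∃ A : Set (Fin D.nroots), A = {r : Fin D.nroots | (r : ℕ) ∈ T.erase k} := ⟨_, rfl⟩
  have hwA : S.π w ∈ S.R.RS A := by
    have : US f (T.erase k) ≤ (S.R.RS A).comap S.π := (Subgroup.closure_le _).2 (by
      rintro _ ⟨a, ha, u, rfl⟩
      rw [SetLike.mem_coe, Subgroup.mem_comap, (hf.sect a (hlt' a ha).1).lift]
      exact S.R.xe_mem_RS (r := ⟨a, (hlt' a ha).1⟩) (by rw [hA]; exact ha) u)
    exact this hw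
  have hAS : A ⊆ hSet D X lam (hgt D X lam k) := by
    rw [hA]; exact fun a ha => hmin a (Finset.mem_of_mem_erase ha)
  obtain ⟨c, hc⟩ := (chevRel S.R.cert K).exists_cor_ne_zero hkn
  obtain ⟨h1, h2⟩ := S.R.isGr_mem lam hk1 hAS hwA
  have h3 := h2 ⟨k, hkn⟩ (by rw [hA]; exact fun h => (Finset.mem_erase.1 h).1 rfl) rfl c
  have hx := RawRel.isGr_x S.R lam hk1 (r := ⟨k, hkn⟩) le_rfl t
  obtain ⟨-, hm⟩ := RawRel.IsGr.mul lam hk1 hx h1
  have hzero : ((S.R.θ (S.π (f k t * w)) : GL D.Idx K) : Matrix D.Idx D.Idx K) (Sum.inl c)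
      (Sum.inr ⟨D.neg k, S.R.cert.neg_lt hkn⟩) = 0 := by
    rw [hπv, map_one, Units.val_one, Matrix.one_apply_ne Sum.inl_ne_inr]
  rw [map_mul, (hf.sect k hkn).lift, map_mul, Units.val_mul, S.R.θ_xe, hm _ _ Sum.inl_ne_inr ?_, h3, add_zero,
    S.R.cert.xM_inl_inr hkn, if_pos rfl] at hzero
  · exact (mul_eq_zero.1 hzero).resolve_left hc
  · simp only [RawRel.wt, Sum.elim_inl, Sum.elim_inr]
    rw [S.R.hgt_neg lam hkn]; omega

theorem word_mem {r s : ℕ} (hr : r < D.nroots) (hs : s < D.nroots) (t u : K) :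
    ((D.commWord K r s t u).map fun p => f p.1 p.2).prod ∈ US f (termRoots D r s).toFinset := by
  refine list_prod_mem fun x hx => ?_
  simp only [ChevalleyDatum.commWord, List.map_map, List.mem_map, Function.comp_apply] at hx
  obtain ⟨c, hc, rfl⟩ := hx
  exact mem_US (List.mem_toFinset.2 (List.mem_map.2 ⟨c, hc, rfl⟩)) _

theorem π_word {r s : ℕ} (hr : r < D.nroots) (hs : s < D.nroots) (t u : K) :
    S.π ((D.commWord K r s t u).map fun p => f p.1 p.2).prod =
      ((D.commWord K r s t u).map fun p => S.R.xe p.1 p.2).prod := by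
  rw [map_list_prod, List.map_map]
  refine congrArg List.prod (List.map_congr_left fun p hp => ?_)
  simp only [ChevalleyDatum.commWord, List.mem_map] at hp
  obtain ⟨c, hc, rfl⟩ := hp
  exact (hf.sect _ (S.R.cert.commTerms_props hr hs c hc).1).lift _

theorem relation_of_goal {r s : ℕ} (hr : r < D.nroots) (hs : s < D.nroots) (h1 : s ≠ r) (h2 : s ≠ D.neg r)
    {lam : Fin D.rank → ℤ} (hlr : 1 ≤ hgt D X lam r) (hls : 1 ≤ hgt D X lam s)
    (hin : ∀ k1 ∈ termRoots D r s, ∀ k2 ∈ termRoots D r s, k2 ≠ k1 →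
      Goal D f k1 k2 ∧ ∀ c ∈ termRoots D k1 k2, c ∈ termRoots D r s) (hg : Goal D f r s) (t u : K) :
    f s u * f r t = f r t * f s u * ((D.commWord K r s t u).map fun p => f p.1 p.2).prod := by
  have hd := mul_mem (inv_mem (word_mem hf hr hs t u)) (hg t u)
  have h := injOn_US hf lam (termRoots D r s).toFinset (fun k hk => ?_) (fun a ha b hb hab => ?_) _ hd ?_
  · rw [inv_mul_eq_one] at h
    rw [h]
    group
  · obtain ⟨h0, i, j, hi, hj, e⟩ := hgt_terms hf lam hr hs (List.mem_toFinset.1 hk)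
    refine ⟨h0, ?_⟩
    rw [e]
    nlinarith [show (1 : ℤ) ≤ i by exact_mod_cast hi, show (1 : ℤ) ≤ j by exact_mod_cast hj]
  · obtain ⟨g1, g2⟩ := hin a (List.mem_toFinset.1 ha) b (List.mem_toFinset.1 hb) hab
    exact ⟨g1, fun c hc => List.mem_toFinset.2 (g2 c hc)⟩
  · have e := S.R.xe_comm r s t u hr hs h1 h2
    simp only [map_mul, map_inv, π_word hf hr hs, (hf.sect r hr).lift, (hf.sect s hs).lift, e]
    group

theorem goal_of_kill {r s : ℕ} (hr : r < D.nroots) (hs : s < D.nroots) (h1 : s ≠ r) (h2 : s ≠ D.neg r)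
    (hk : Kill S r s) {lam : Fin D.rank → ℤ} (hlr : 1 ≤ hgt D X lam r) (hls : 1 ≤ hgt D X lam s)
    (hin : ∀ k1 ∈ s :: termRoots D r s, ∀ k2 ∈ s :: termRoots D r s, k2 ≠ k1 →
      Goal D f k1 k2 ∧ ∀ c ∈ termRoots D k1 k2, c ∈ termRoots D r s) : Goal D f r s := by
  intro t u
  obtain ⟨P, hP⟩ : ∃ P : K → E, P = fun u => ((D.commWord K r s t u).map fun p => f p.1 p.2).prod := ⟨_, rfl⟩
  obtain ⟨B, hB⟩ : ∃ B : K → E, B = fun u => f s u * P u := ⟨_, rfl⟩
  obtain ⟨cj, hcj⟩ : ∃ c : K → E, c = fun u => (f r t)⁻¹ * f s u * f r t := ⟨_, rfl⟩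
  obtain ⟨φ, hφ⟩ : ∃ φ : K → E, φ = fun u => (B u)⁻¹ * cj u := ⟨_, rfl⟩
  have hcB : ∀ u, cj u = B u * φ u := fun u => by rw [hφ]; simp
  have hker : ∀ u, φ u ∈ S.π.ker := fun u => by
    have e := S.R.xe_comm r s t u hr hs h1 h2
    rw [MonoidHom.mem_ker, hφ, hB, hP, hcj]
    simp only [map_mul, map_inv, π_word hf hr hs, (hf.sect r hr).lift, (hf.sect s hs).lift]
    rw [mul_assoc ((S.R.xe r t)⁻¹), e]
    group
  obtain ⟨T, hT⟩ : ∃ T : Finset ℕ, T = insert s (termRoots D r s).toFinset := ⟨_, rfl⟩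
  have hsT : s ∈ T := by rw [hT]; exact Finset.mem_insert_self _ _
  have hBm : ∀ u, B u ∈ US f T := fun u => by
    rw [hB, hP, hT]
    exact mul_mem (mem_US (Finset.mem_insert_self _ _) u) (US_mono (Finset.subset_insert _ _) (word_mem hf hr hs t u))
  have hmemT : ∀ k ∈ T, k ∈ s :: termRoots D r s := fun k hk => by
    rw [hT] at hk; simpa using hk
  have hinj : ∀ v ∈ US f T, S.π v = 1 → v = 1 := by
    refine injOn_US hf lam T (fun k hk => ?_) (fun a ha b hb hab => ?_)
    · rcases List.mem_cons.1 (hmemT k hk) with rfl | hk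
      · exact ⟨hs, hls⟩
      obtain ⟨h0, i, j, hi, hj, e⟩ := hgt_terms hf lam hr hs hk
      refine ⟨h0, ?_⟩
      rw [e]
      nlinarith [show (1 : ℤ) ≤ i by exact_mod_cast hi, show (1 : ℤ) ≤ j by exact_mod_cast hj]
    · obtain ⟨g1, g2⟩ := hin a (hmemT a ha) b (hmemT b hb) hab
      exact ⟨g1, fun c hc => by rw [hT]; exact Finset.mem_insert_of_mem (List.mem_toFinset.2 (g2 c hc))⟩
  have hcomm : ∀ u x, Commute (φ u) x := fun u x => (Subgroup.mem_center_iff.1 (S.central (hker u)) x).symm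
  have heq : ∀ x ∈ US f T, ∀ u, S.π x = S.π (B u) → x = B u := fun x hx u he => by
    have := hinj _ (mul_mem hx (inv_mem (hBm u))) (by rw [map_mul, map_inv, he, mul_inv_cancel])
    rwa [mul_inv_eq_one] at this
  have hπB : ∀ u, S.π (cj u) = S.π (B u) := fun u => by
    rw [hcB, map_mul, MonoidHom.mem_ker.1 (hker u), mul_one]
  have hadd : ∀ u u', φ u * φ u' = φ (u + u') := by
    intro u u'
    have e : B u * B u' * (φ u * φ u') = B (u + u') * φ (u + u') := by
      rw [← hcB, show B u * B u' * (φ u * φ u') = B u * (B u' * φ u) * φ u' by group, ← (hcomm u (B u')).eq,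
        show B u * (φ u * B u') * φ u' = (B u * φ u) * (B u' * φ u') by group, ← hcB, ← hcB, hcj]
      simp only [← (hf.sect s hs).add u u']
      group
    have e2 := heq _ (mul_mem (hBm u) (hBm u')) (u + u') (by
      rw [map_mul, ← hπB, ← hπB, ← hπB, hcj]
      simp only [← (hf.sect s hs).add u u', map_mul, map_inv]
      group)
    rw [e2] at e
    exact mul_left_cancel e
  have hinv : ∀ g m, Scales S g m → m r = 1 → ∀ u, φ (m s * u) = φ u := by
    intro g m hg hm u
    have e : g * cj u * g⁻¹ = cj (m s * u) := by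
      rw [hcj]
      simp only
      rw [show g * ((f r t)⁻¹ * f s u * f r t) * g⁻¹ =
        (g * f r t * g⁻¹)⁻¹ * (g * f s u * g⁻¹) * (g * f r t * g⁻¹) by group, (hf.sect r hr).equiv g m hg,
        (hf.sect s hs).equiv g m hg, hm, one_mul]
    have hgU : ∀ x ∈ US f T, g * x * g⁻¹ ∈ US f T := by
      intro x hx
      induction hx using Subgroup.closure_induction with
      | one => simp
      | mul a b _ _ ha hb =>
        rw [show g * (a * b) * g⁻¹ = (g * a * g⁻¹) * (g * b * g⁻¹) by group]; exact mul_mem ha hb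
      | inv a _ ha => rw [show g * a⁻¹ * g⁻¹ = (g * a * g⁻¹)⁻¹ by group]; exact inv_mem ha
      | mem a ha =>
        obtain ⟨k, hk, v, rfl⟩ := ha
        by_cases hkn : k < D.nroots
        · rw [(hf.sect k hkn).equiv g m hg]; exact mem_US hk _
        · rw [hf.oob k v hkn, mul_one, mul_inv_cancel]; exact one_mem _
    have e1 : g * B u * g⁻¹ * φ u = B (m s * u) * φ (m s * u) := by
      rw [← hcB, ← e, hcB, show g * (B u * φ u) * g⁻¹ = g * B u * (φ u * g⁻¹) by group, (hcomm u g⁻¹).eq]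
      group
    have e2 := heq _ (hgU _ (hBm u)) (m s * u) (by
      have := congrArg S.π e1
      rwa [map_mul, MonoidHom.mem_ker.1 (hker _), map_mul S.π (B (m s * u)), MonoidHom.mem_ker.1 (hker _),
        mul_one, mul_one] at this)
    rw [e2] at e1
    exact (mul_left_cancel e1).symm
  have h := hk φ hadd hker hinv u
  rw [hφ, hB, hcj] at h
  simp only [inv_mul_eq_one] at h
  have e3 : (f r t * f s u)⁻¹ * (f s u * f r t) = P u := by
    rw [show (f r t * f s u)⁻¹ * (f s u * f r t) = (f s u)⁻¹ * ((f r t)⁻¹ * f s u * f r t) by group, ← h]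
    group
  rw [e3, hP]
  exact word_mem hf hr hs t u

theorem goal_symm {r s : ℕ} (hsub : ∀ k ∈ termRoots D s r, k ∈ termRoots D r s) (h : Goal D f s r) :
    Goal D f r s := by
  intro t u
  have := inv_mem (US_mono (fun k hk => List.mem_toFinset.2 (hsub k (List.mem_toFinset.1 hk))) (h u t))
  convert this using 1
  group

theorem goal_of_cm {r s : ℕ} (hr : r < D.nroots) (hs : s < D.nroots) (hcm : ∀ t u, cm S r s t u = 1) :
    Goal D f r s := by
  intro t u
  rw [show (f r t * f s u)⁻¹ * (f s u * f r t) = 1 by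
    rw [(lifts_commute S hcm ((hf.sect r hr).lift t) ((hf.sect s hs).lift u)).eq, inv_mul_cancel]]
  exact one_mem _

/-- all relations hold, some pairs settled directly -/
theorem sections_rel_goal
    (hok : ∀ r < D.nroots, ∀ s < D.nroots, s ≠ r → s ≠ D.neg r → PairOK D X r s)
    (hpair : ∀ r < D.nroots, ∀ s < D.nroots, s ≠ r → s ≠ D.neg r →
      (Kill S r s ∨ Kill S s r) ∨ Goal D f r s) :
    ∀ r s t u, r < D.nroots → s < D.nroots → s ≠ r → s ≠ D.neg r →
      f s u * f r t = f r t * f s u * ((D.commWord K r s t u).map fun p => f p.1 p.2).prod := by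
  have hnn : ∀ (lam : Fin D.rank → ℤ) (a b : ℕ), a < D.nroots → 1 ≤ hgt D X lam a → 1 ≤ hgt D X lam b →
      b ≠ D.neg a := fun lam a b ha h1 h2 e => by rw [e, S.R.hgt_neg lam ha] at h2; omega
  have hmem : ∀ (lam : Fin D.rank → ℤ) {r s k : ℕ}, r < D.nroots → s < D.nroots → 1 ≤ hgt D X lam r →
      1 ≤ hgt D X lam s → k ∈ s :: termRoots D r s → k < D.nroots ∧ 1 ≤ hgt D X lam k := by
    intro lam r s k hr hs h1 h2 hk
    rcases List.mem_cons.1 hk with rfl | hk
    · exact ⟨hs, h2⟩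
    obtain ⟨h0, i, j, hi, hj, e⟩ := hgt_terms hf lam hr hs hk
    refine ⟨h0, ?_⟩
    rw [e]
    nlinarith [show (1 : ℤ) ≤ i by exact_mod_cast hi, show (1 : ℤ) ≤ j by exact_mod_cast hj]
  have key : ∀ n, ∀ r < D.nroots, ∀ s < D.nroots, s ≠ r → s ≠ D.neg r →
      (D.commTerms r s).length = n → Goal D f r s := by
    intro n
    induction n using Nat.strong_induction_on with
    | _ n ih =>
      intro r hr s hs h1 h2 hn
      obtain ⟨lam, hlr, hls, ⟨hlen, hsub⟩, hin⟩ := hok r hr s hs h1 h2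
      rcases hpair r hr s hs h1 h2 with (hk | hk) | hg
      · refine goal_of_kill hf hr hs h1 h2 hk hlr hls fun a ha b hb hab => ⟨?_, (hin a ha b hb hab).2⟩
        obtain ⟨han, hal⟩ := hmem lam hr hs hlr hls ha
        obtain ⟨hbn, hbl⟩ := hmem lam hr hs hlr hls hb
        exact ih _ (hn ▸ (hin a ha b hb hab).1) a han b hbn hab (hnn lam a b han hal hbl) rfl
      · obtain ⟨lam', hls', hlr', hsub', hin'⟩ := hok s hs r hr h1.symm
          (fun e => h2 (by rw [e, S.R.cert.neg_neg hs]))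
        refine goal_symm hf hsub (goal_of_kill hf hs hr h1.symm (fun e => h2 (by rw [e, S.R.cert.neg_neg hs]))
          hk hls' hlr' fun a ha b hb hab => ⟨?_, (hin' a ha b hb hab).2⟩)
        obtain ⟨han, hal⟩ := hmem lam' hs hr hls' hlr' ha
        obtain ⟨hbn, hbl⟩ := hmem lam' hs hr hls' hlr' hb
        refine ih _ (lt_of_lt_of_le (hin' a ha b hb hab).1 ?_) a han b hbn hab (hnn lam' a b han hal hbl) rfl
        rw [← hn]
        exact hlen
      · exact hg
  intro r s t u hr hs h1 h2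
  obtain ⟨lam, hlr, hls, hsub, hin⟩ := hok r hr s hs h1 h2
  refine relation_of_goal hf hr hs h1 h2 hlr hls (fun a ha b hb hab => ⟨?_, (hin a (by simp [ha]) b (by simp [hb]) hab).2⟩)
    (key _ r hr s hs h1 h2 rfl) t u
  obtain ⟨han, hal⟩ := hmem lam hr hs hlr hls (List.mem_cons_of_mem _ ha)
  obtain ⟨hbn, hbl⟩ := hmem lam hr hs hlr hls (List.mem_cons_of_mem _ hb)
  exact key _ a han b hbn hab (hnn lam a b han hal hbl) rfl

/-- all relations hold -/
theorem sections_rel
    (hok : ∀ r < D.nroots, ∀ s < D.nroots, s ≠ r → s ≠ D.neg r → PairOK D X r s)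
    (hpair : ∀ r < D.nroots, ∀ s < D.nroots, s ≠ r → s ≠ D.neg r →
      (Kill S r s ∨ Kill S s r) ∨ (D.commTerms r s = [] ∧ ∀ t u, cm S r s t u = 1)) :
    ∀ r s t u, r < D.nroots → s < D.nroots → s ≠ r → s ≠ D.neg r →
      f s u * f r t = f r t * f s u * ((D.commWord K r s t u).map fun p => f p.1 p.2).prod :=
  sections_rel_goal hf hok fun r hr s hs h1 h2 => (hpair r hr s hs h1 h2).imp id fun h => goal_of_cm hf hr hs h.2

end CfsgLib.Known.Univ
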