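import Cfsg.Agent.Lib.Known.UnivLaced
import Cfsg.Agent.Lib.Known.UnivMain

/-!
# Checks for universality
-/

set_option autoImplicit false

namespace CfsgLib.Known.Univ

open Cfsg.Lie (ChevalleyDatum)
open CfsgLib.Lie.Chev
open scoped commutatorElement

/-- a torus exponent vector supported at `j`, `k` -/
def evec (l j k : ℕ) (x y : ℤ) : List ℤ :=
  (List.range l).map fun i => bif Nat.beq i j then x else bif Nat.beq i k then y else 0

/-- vectors killing the pairing with `r` -/
def killVecs (D : ChevalleyDatum) (r : ℕ) : List (List ℤ) :=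
  (List.range D.rank).flatMap fun j => (List.range D.rank).map fun k =>
    let a := D.cartan j r
    let b := D.cartan k r
    let g : ℤ := Int.gcd a b
    bif decide (g = 0) then evec D.rank j k 1 0 else evec D.rank j k (b / g) (-(a / g))

/-- small exponent vectors -/
def smallVecs (D : ChevalleyDatum) : List (List ℤ) :=
  ((List.range D.rank).map fun j => evec D.rank j j 1 1) ++
    (List.range D.rank).flatMap fun j => (List.range D.rank).map fun k => evec D.rank j k 1 1

/-- a torus stabilises `r` and moves `s` -/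
def killB (D : ChevalleyDatum) (ok : ℤ → Bool) (r s : ℕ) : Bool :=
  (killVecs D r).any fun e => decide (expo D e r = 0) && ok (expo D e s)

/-- a torus moves `r` by an allowed exponent -/
def expB (D : ChevalleyDatum) (ok : ℤ → Bool) (r : ℕ) : Bool :=
  (smallVecs D).any fun e => ok (expo D e r)

/-- `s = [a, b]` with allowed coefficient and both commuting with `r` -/
def decoB (D : ChevalleyDatum) (cs : ℤ → Bool) (r s : ℕ) : Bool :=
  (List.range D.nroots).any fun a => commPair D r a && (partners D s a).any fun b =>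
    commPair D r b && okPair D a b && match D.commTerms a b with
      | [(u, C, 1, 1)] => Nat.beq u s && cs C
      | _ => false

/-- height functional of a pair -/
def lamPair (D : ChevalleyDatum) (X : Aux) (r s : ℕ) (w : ℤ × ℤ) : Fin D.rank → ℤ := fun k =>
  ((List.range D.rank).map fun i => (w.1 * X.cor i r + w.2 * X.cor i s) * D.cartan i (D.simple k.1)).sum

/-- candidate weights -/
def lamWts : List (ℤ × ℤ) := [(1, 1), (3, 2), (2, 3), (5, 3), (3, 5)]

/-- order conditions -/
def pairB (D : ChevalleyDatum) (X : Aux) (r s : ℕ) : Bool :=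
  (lamWts.any fun w => decide (1 ≤ hgt D X (lamPair D X r s w) r) && decide (1 ≤ hgt D X (lamPair D X r s w) s)) &&
  (Nat.ble (D.commTerms s r).length (D.commTerms r s).length &&
    (termRoots D s r).all fun k => (termRoots D r s).any (Nat.beq k)) &&
  ((s :: termRoots D r s).all fun a => (s :: termRoots D r s).all fun b => Nat.beq b a ||
    (Nat.blt (D.commTerms a b).length (D.commTerms r s).length &&
      (termRoots D a b).all fun k => (termRoots D r s).any (Nat.beq k)))

/-- all pairs in order -/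
def chkOrder (D : ChevalleyDatum) (X : Aux) : Bool :=
  (List.range D.nroots).all fun r => (List.range D.nroots).all fun s =>
    Nat.beq s r || Nat.beq s (D.neg r) || pairB D X r s

/-- all pairs settled by the torus or by decompositions -/
def chkKill (D : ChevalleyDatum) (ok cs : ℤ → Bool) : Bool :=
  (List.range D.nroots).all fun r => (List.range D.nroots).all fun s =>
    Nat.beq s r || Nat.beq s (D.neg r) || killB D ok r s || killB D ok s r ||
      ((D.commTerms r s).isEmpty && decoB D cs r s)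

variable {D : ChevalleyDatum} {X : Aux} {K : Type*} [Field K]

theorem pairOK_of_chk (h : chkOrder D X = true) :
    ∀ r < D.nroots, ∀ s < D.nroots, s ≠ r → s ≠ D.neg r → PairOK D X r s := by
  intro r hr s hs h1 h2
  simp only [chkOrder, List.all_eq_true, List.mem_range, Bool.or_eq_true, nat_beq_iff] at h
  have h3 := ((h r hr s hs).resolve_left (by tauto))
  simp only [pairB, Bool.and_eq_true, List.any_eq_true, List.all_eq_true, decide_eq_true_iff, nat_ble_iff,
    nat_blt_iff, nat_beq_iff, Bool.or_eq_true] at h3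
  obtain ⟨⟨⟨w, -, hw1, hw2⟩, hlen, hsub⟩, hin⟩ := h3
  refine ⟨lamPair D X r s w, hw1, hw2, ⟨hlen, fun k hk => ?_⟩, fun a ha b hb hab => ?_⟩
  · obtain ⟨x, hx, rfl⟩ := hsub k hk; exact hx
  · obtain ⟨g1, g2⟩ := (hin a ha b hb).resolve_left hab
    exact ⟨g1, fun k hk => by obtain ⟨x, hx, rfl⟩ := g2 k hk; exact hx⟩

variable {G E : Type*} [Group G] [Group E] (S : CentExt D X K G E)

theorem comm2_of_commPair {a b : ℕ} (h : commPair D a b = true) : Comm2 S a b := by
  obtain ⟨ha, hb, hne, hc⟩ := commPair_spec h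
  exact fun t u => xe_commute S ha hb hne hc t u

theorem decoB_spec {cs : ℤ → Bool} {r s : ℕ} (h : decoB D cs r s = true) :
    ∃ a b C, a < D.nroots ∧ b < D.nroots ∧ b ≠ a ∧ b ≠ D.neg a ∧ cs C = true ∧
      D.commTerms a b = [(s, C, 1, 1)] ∧ Comm2 S r a ∧ Comm2 S r b := by
  simp only [decoB, List.any_eq_true, List.mem_range, Bool.and_eq_true] at h
  obtain ⟨a, -, h1, b, -, ⟨h2, h3⟩, h4⟩ := h
  simp only [okPair, Bool.and_eq_true, nat_blt_iff, Bool.not_eq_true'] at h3
  obtain ⟨⟨⟨ha, hb⟩, hba⟩, hbn⟩ := h3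
  rw [← Bool.not_eq_true, nat_beq_iff] at hba hbn
  split at h4
  · next u C e =>
    rw [Bool.and_eq_true, nat_beq_iff] at h4
    exact ⟨a, b, C, ha, hb, hba, hbn, h4.2, by rw [e, h4.1], comm2_of_commPair S h1, comm2_of_commPair S h2⟩
  · exact absurd h4 Bool.false_ne_true

theorem cm_of_decoB {cs : ℤ → Bool} (hcs : ∀ C, cs C = true → (C : K) ≠ 0) {r s : ℕ} (h : decoB D cs r s = true)
    (t u : K) : cm S r s t u = 1 := by
  obtain ⟨a, b, C, ha, hb, h1, h2, hC, e, hra, hrb⟩ := decoB_spec S h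
  exact cm_of_decomp S ha hb h1 h2 hra hrb (hcs C hC) e t u

theorem kill_of_killB {ok : ℤ → Bool} (hok : ∀ n, ok n = true → ∃ c : K, c ≠ 0 ∧ c ^ n ≠ 1) {r s : ℕ}
    (h : killB D ok r s = true) : Kill S r s := by
  simp only [killB, List.any_eq_true, Bool.and_eq_true, decide_eq_true_iff] at h
  obtain ⟨e, -, h1, h2⟩ := h
  obtain ⟨c, hc, hc1⟩ := hok _ h2
  obtain ⟨g, hg⟩ := exists_scales S e hc
  exact kill_torus S hg (by rw [h1, zpow_zero]) hc1

theorem scales_of_expB {ok : ℤ → Bool} {r : ℕ} (h : expB D ok r = true) :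
    ∃ n, ok n = true ∧ ∀ c : K, c ≠ 0 → ∃ g m, Scales S g m ∧ m r = c ^ n := by
  simp only [expB, List.any_eq_true] at h
  obtain ⟨e, -, h⟩ := h
  exact ⟨_, h, fun c hc => by obtain ⟨g, hg⟩ := exists_scales S e hc; exact ⟨g, _, hg, rfl⟩⟩

theorem pairs_of_chk {ok cs : ℤ → Bool} (hok : ∀ n, ok n = true → ∃ c : K, c ≠ 0 ∧ c ^ n ≠ 1)
    (hcs : ∀ C, cs C = true → (C : K) ≠ 0) (h : chkKill D ok cs = true) :
    ∀ r < D.nroots, ∀ s < D.nroots, s ≠ r → s ≠ D.neg r →
      (Kill S r s ∨ Kill S s r) ∨ (D.commTerms r s = [] ∧ ∀ t u, cm S r s t u = 1) := by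
  intro r hr s hs h1 h2
  simp only [chkKill, List.all_eq_true, List.mem_range, Bool.or_eq_true, Bool.and_eq_true, nat_beq_iff,
    List.isEmpty_iff] at h
  rcases h r hr s hs with (((h | h) | h) | h) | ⟨h, h'⟩
  · exact absurd h h1
  · exact absurd h h2
  · exact Or.inl (Or.inl (kill_of_killB S hok h))
  · exact Or.inl (Or.inr (kill_of_killB S hok h))
  · exact Or.inr ⟨h, cm_of_decoB S hcs h'⟩

/-- sections from local data -/
theorem sections_of (hord : chkOrder D X = true)
    (hpair : ∀ r < D.nroots, ∀ s < D.nroots, s ≠ r → s ≠ D.neg r →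
      (Kill S r s ∨ Kill S s r) ∨ (D.commTerms r s = [] ∧ ∀ t u, cm S r s t u = 1))
    (hsect : ∀ r < D.nroots, ∃ φ, IsSect S r φ) :
    ∃ f : ℕ → K → E, (∀ r, r < D.nroots → ∀ t, S.π (f r t) = S.R.xe r t) ∧
      (∀ r t u, r < D.nroots → f r t * f r u = f r (t + u)) ∧
      (∀ r t, ¬ r < D.nroots → f r t = 1) ∧
      ∀ r s t u, r < D.nroots → s < D.nroots → s ≠ r → s ≠ D.neg r →
        f s u * f r t = f r t * f s u * ((D.commWord K r s t u).map fun p => f p.1 p.2).prod := by
  classical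
  choose φ hφ using hsect
  let f : ℕ → K → E := fun r t => if h : r < D.nroots then φ r h t else 1
  have hf : AllSect S f :=
    ⟨fun r hr => by
      have : f r = φ r hr := funext fun t => dif_pos hr
      rw [this]; exact hφ r hr, fun r t hr => dif_neg hr⟩
  exact ⟨f, fun r hr => (hf.sect r hr).lift, fun r t u hr => (hf.sect r hr).add t u, hf.oob,
    sections_rel hf (pairOK_of_chk hord) hpair⟩

/-! ### fields -/

theorem exists_zpow_ne {s : Finset K} (hs : 4 < s.card) {n : ℤ} (h : 1 ≤ n.natAbs ∧ n.natAbs ≤ 3) :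
    ∃ c : K, c ≠ 0 ∧ c ^ n ≠ 1 := by
  classical
  by_contra hcon
  push Not at hcon
  have hsub : s ⊆ insert 0 (Polynomial.nthRoots n.natAbs (1 : K)).toFinset := by
    intro c _
    rcases eq_or_ne c 0 with rfl | hc
    · exact Finset.mem_insert_self _ _
    refine Finset.mem_insert_of_mem (Multiset.mem_toFinset.2 ((Polynomial.mem_nthRoots (by omega)).2 ?_))
    have h1 := hcon c hc
    rcases Int.natAbs_eq n with e | e
    · rwa [e, zpow_natCast] at h1
    · rwa [e, zpow_neg, inv_eq_one, zpow_natCast] at h1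
  have := (Finset.card_le_card hsub).trans (Finset.card_insert_le _ _)
  have := Multiset.toFinset_card_le (Polynomial.nthRoots n.natAbs (1 : K))
  have := Polynomial.card_nthRoots n.natAbs (1 : K)
  omega

theorem exists_split_one {s : Finset K} (hs : 4 < s.card) : ∃ a : K, a ≠ 0 ∧ 1 - a ≠ 0 ∧ a * (1 - a) ≠ 1 := by
  classical
  by_contra hcon
  push Not at hcon
  have hle : ∀ T : Finset K, T.card ≤ 4 → ¬ s ⊆ T := fun T hT hsub => by
    have := Finset.card_le_card hsub; omega
  by_cases hroot : ∃ a0 : K, a0 * (1 - a0) = 1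
  · obtain ⟨a0, ha0⟩ := hroot
    refine hle {0, 1, a0, 1 - a0} Finset.card_le_four fun a _ => ?_
    simp only [Finset.mem_insert, Finset.mem_singleton]
    by_cases h0 : a = 0
    · exact Or.inl h0
    by_cases h1 : 1 - a = 0
    · exact Or.inr (Or.inl (sub_eq_zero.1 h1).symm)
    have h2 := hcon a h0 h1
    have h3 : (a - a0) * (a - (1 - a0)) = 0 := by linear_combination ha0 - h2
    rcases mul_eq_zero.1 h3 with h | h
    · exact Or.inr (Or.inr (Or.inl (sub_eq_zero.1 h)))
    · exact Or.inr (Or.inr (Or.inr (sub_eq_zero.1 h)))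
  · refine hle {0, 1} (Finset.card_le_two.trans (by norm_num)) fun a _ => ?_
    simp only [Finset.mem_insert, Finset.mem_singleton]
    by_cases h0 : a = 0
    · exact Or.inl h0
    by_cases h1 : 1 - a = 0
    · exact Or.inr (sub_eq_zero.1 h1).symm
    exact absurd ⟨a, hcon a h0 h1⟩ hroot

theorem exists_zpow_ne_finite [Fintype K] {n : ℤ} (h : ¬ ((Fintype.card K - 1 : ℕ) : ℤ) ∣ n) :
    ∃ c : K, c ≠ 0 ∧ c ^ n ≠ 1 := by
  classical
  obtain ⟨g, hg⟩ := IsCyclic.exists_generator (α := Kˣ)
  refine ⟨g, g.ne_zero, fun e => h ?_⟩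
  rw [← Units.val_zpow_eq_zpow_val, Units.val_eq_one, ← orderOf_dvd_iff_zpow_eq_one,
    orderOf_eq_card_of_forall_mem_zpowers hg, Nat.card_eq_fintype_card, Fintype.card_units] at e
  exact e

/-! ### regimes -/

/-- exponent `±1` -/
def isOne (n : ℤ) : Bool := decide (n = 1 ∨ n = -1)
/-- exponent `±2` -/
def isTwo (n : ℤ) : Bool := decide (n = 2 ∨ n = -2)
/-- exponents of size at most three -/
def isSmall (n : ℤ) : Bool := decide (1 ≤ n.natAbs ∧ n.natAbs ≤ 3)
/-- coefficients `±1` -/
def csOne : ℤ → Bool := isOne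
/-- coefficients `±1`, `±2` -/
def csTwo (n : ℤ) : Bool := isOne n || isTwo n
/-- no exponent -/
def okNone (_ : ℤ) : Bool := false

theorem csOne_ne {C : ℤ} (h : csOne C = true) : (C : K) ≠ 0 := by
  simp only [csOne, isOne, decide_eq_true_iff] at h
  rcases h with rfl | rfl <;> simp

theorem csTwo_ne (h2 : (2 : K) ≠ 0) {C : ℤ} (h : csTwo C = true) : (C : K) ≠ 0 := by
  simp only [csTwo, isOne, isTwo, Bool.or_eq_true, decide_eq_true_iff] at h
  rcases h with (rfl | rfl) | (rfl | rfl) <;> simp [h2]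

theorem zpow_pm_one {n : ℤ} (h : n = 1 ∨ n = -1) (x : K) : (x ^ n) ^ n = x := by
  rcases h with rfl | rfl <;> simp

theorem zpow_pm_two {n : ℤ} (h : n = 2 ∨ n = -2) {x : K} : ∃ y : K, (x ≠ 0 → y ≠ 0) ∧ y ^ n = x * x := by
  rcases h with rfl | rfl
  · exact ⟨x, id, by rw [zpow_two]⟩
  · exact ⟨x⁻¹, inv_ne_zero, by rw [zpow_neg, zpow_two]; field_simp⟩

/-- check for large fields -/
def chkLarge (D : ChevalleyDatum) : Bool :=
  chkKill D isSmall okNone &&
    (List.range D.nroots).all fun r => expB D isOne r || (expB D isTwo r && decoB D csTwo r r)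

/-- check for kernels without torsion -/
def chkTors (D : ChevalleyDatum) : Bool :=
  (List.range D.nroots).all fun r =>
    decoB D csOne r r || expB D isOne r || (expB D isTwo r && decoB D csTwo r r)

/-- large fields -/
theorem sections_large (h1 : chkOrder D X = true) (h : chkLarge D = true) (hG : Good S) {s : Finset K} (hs : 4 < s.card) :
    ∃ f : ℕ → K → E, (∀ r, r < D.nroots → ∀ t, S.π (f r t) = S.R.xe r t) ∧
      (∀ r t u, r < D.nroots → f r t * f r u = f r (t + u)) ∧
      (∀ r t, ¬ r < D.nroots → f r t = 1) ∧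
      ∀ r s t u, r < D.nroots → s < D.nroots → s ≠ r → s ≠ D.neg r →
        f s u * f r t = f r t * f s u * ((D.commWord K r s t u).map fun p => f p.1 p.2).prod := by
  simp only [chkLarge, Bool.and_eq_true, List.all_eq_true, List.mem_range, Bool.or_eq_true] at h
  obtain ⟨h2, h3⟩ := h
  have hsmall : ∀ n, isSmall n = true → ∃ c : K, c ≠ 0 ∧ c ^ n ≠ 1 := fun n hn =>
    exists_zpow_ne hs (of_decide_eq_true hn)
  refine sections_of S h1 (pairs_of_chk S hsmall (fun C hC => by simp [okNone] at hC) h2) fun r hr => ?_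
  have hrr : ∀ t u, cm S r r t u = 1 := by
    obtain ⟨a, ha, hb, hab⟩ := exists_split_one hs
    rcases h3 r hr with h | ⟨h, h'⟩
    · obtain ⟨n, hn, hc⟩ := scales_of_expB S h
      have hn' := of_decide_eq_true hn
      obtain ⟨g, m, hg, em⟩ := hc (a ^ n) (zpow_ne_zero _ ha)
      obtain ⟨g', m', hg', em'⟩ := hc ((1 - a) ^ n) (zpow_ne_zero _ hb)
      rw [zpow_pm_one hn'] at em em'
      exact cm_self_of_scales S hr hg hg' (by rw [em, em', add_sub_cancel]) (by rw [em, em']; exact hab)
        (em ▸ ha) (em' ▸ hb)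
    · by_cases h2 : (2 : K) = 0
      · obtain ⟨n, hn, hc⟩ := scales_of_expB S h
        obtain ⟨y, hy, ey⟩ := zpow_pm_two (of_decide_eq_true hn) (x := a)
        obtain ⟨y', hy', ey'⟩ := zpow_pm_two (of_decide_eq_true hn) (x := 1 - a)
        obtain ⟨g, m, hg, em⟩ := hc y (hy ha)
        obtain ⟨g', m', hg', em'⟩ := hc y' (hy' hb)
        rw [ey] at em; rw [ey'] at em'
        refine cm_self_of_scales S hr hg hg' ?_ ?_ (em ▸ mul_ne_zero ha ha) (em' ▸ mul_ne_zero hb hb)
        · rw [em, em']; linear_combination (a * a - a) * h2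
        · rw [em, em']
          intro e
          exact hab (sub_eq_zero.1 (mul_self_eq_zero.1 (show (a * (1 - a) - 1) * (a * (1 - a) - 1) = 0 by
            linear_combination e - (a * (1 - a) - 1) * h2)))
      · exact cm_of_decoB S (fun C hC => csTwo_ne h2 hC) h'
  have hex : ∃ n : ℤ, (1 ≤ n.natAbs ∧ n.natAbs ≤ 3) ∧ ∀ c : K, c ≠ 0 → ∃ g m, Scales S g m ∧ m r = c ^ n := by
    rcases h3 r hr with h | ⟨h, -⟩
    · obtain ⟨n, hn, hc⟩ := scales_of_expB S h
      exact ⟨n, by rcases of_decide_eq_true hn with rfl | rfl <;> decide, hc⟩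
    · obtain ⟨n, hn, hc⟩ := scales_of_expB S h
      exact ⟨n, by rcases of_decide_eq_true hn with rfl | rfl <;> decide, hc⟩
  obtain ⟨n, hn, hc⟩ := hex
  obtain ⟨c, hc0, hc1⟩ := exists_zpow_ne hs hn
  obtain ⟨g, m, hg, em⟩ := hc c hc0
  exact exists_sect_torus hG hr hrr hg (by rw [em]; exact hc1)

/-- kernels without torsion at the characteristic -/
theorem sections_tors (h1 : chkOrder D X = true) (h : chkTors D = true) (hG : Good S) (hA : NoTors S)
    (hx : (∀ r < D.nroots, decoB D csOne r r = true) ∨ ∃ x : K, x ≠ 0 ∧ x ≠ 1) :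
    ∃ f : ℕ → K → E, (∀ r, r < D.nroots → ∀ t, S.π (f r t) = S.R.xe r t) ∧
      (∀ r t u, r < D.nroots → f r t * f r u = f r (t + u)) ∧
      (∀ r t, ¬ r < D.nroots → f r t = 1) ∧
      ∀ r s t u, r < D.nroots → s < D.nroots → s ≠ r → s ≠ D.neg r →
        f s u * f r t = f r t * f s u * ((D.commWord K r s t u).map fun p => f p.1 p.2).prod := by
  simp only [chkTors, Bool.and_eq_true, List.all_eq_true, List.mem_range, Bool.or_eq_true] at h
  have h3 := h
  refine sections_of S h1 (fun r _ s _ _ _ => Or.inl (Or.inl (kill_noTors S hA r s))) fun r hr => ?_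
  have hrr := cm_of_kill S hr hr (comm2_self S hr) (kill_noTors S hA r r)
  have hdec : ∀ cs : ℤ → Bool, (∀ C, cs C = true → (C : K) ≠ 0) → decoB D cs r r = true →
      ∃ φ, IsSect S r φ := by
    intro cs hcs h
    obtain ⟨a, b, C, ha, hb, g1, g2, hC, e, -, hrb⟩ := decoB_spec S h
    exact exists_sect_decomp S hA ha hb g1 g2 (hcs C hC) e hr fun t u => (hrb u t).symm
  rcases hx with hd | ⟨x, hx0, hx1⟩
  · exact hdec _ (fun C hC => csOne_ne hC) (hd r hr)
  rcases h3 r hr with (h | h) | ⟨h, h'⟩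
  · exact hdec _ (fun C hC => csOne_ne hC) h
  · obtain ⟨n, hn, hc⟩ := scales_of_expB S h
    obtain ⟨g, m, hg, em⟩ := hc (x ^ n) (zpow_ne_zero _ hx0)
    rw [zpow_pm_one (of_decide_eq_true hn)] at em
    exact exists_sect_torus hG hr hrr hg (em ▸ hx1)
  · by_cases h2 : (2 : K) = 0
    · obtain ⟨n, hn, hc⟩ := scales_of_expB S h
      obtain ⟨y, hy, ey⟩ := zpow_pm_two (of_decide_eq_true hn) (x := x)
      obtain ⟨g, m, hg, em⟩ := hc y (hy hx0)
      rw [ey] at em
      refine exists_sect_torus hG hr hrr hg (m0 := m) ?_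
      rw [em]
      intro e
      exact hx1 (sub_eq_zero.1 (mul_self_eq_zero.1 (show (x - 1) * (x - 1) = 0 by
        linear_combination e + (1 - x) * h2)))
    · exact hdec _ (fun C hC => csTwo_ne h2 hC) h'

end CfsgLib.Known.Univ
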