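import Cfsg.Agent.Lib.Known.UnivChk

/-!
# Commuting lifts from sign cycles over the field with three elements
-/

set_option autoImplicit false

namespace CfsgLib.Known.Univ

open Cfsg.Lie (ChevalleyDatum)
open CfsgLib.Lie.Chev
open scoped commutatorElement

/-- coefficient of a single term -/
def coefOf (D : ChevalleyDatum) (a b : ℕ) : ℤ :=
  match D.commTerms a b with
  | [(_, C, _, _)] => C
  | _ => 0

/-- label table -/
abbrev LabTab := List ((ℕ × ℕ) × (ℕ × ℕ) × ℤ)

/-- look up a pair in either order -/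
def lookLab (T : LabTab) (x y : ℕ) : Option ((ℕ × ℕ) × ℤ) :=
  match T.find? fun e => Nat.beq e.1.1 x && Nat.beq e.1.2 y with
  | some e => some e.2
  | none => match T.find? fun e => Nat.beq e.1.1 y && Nat.beq e.1.2 x with
    | some e => some (e.2.1, -e.2.2)
    | none => none

/-- validity of a step `(r, s, a, b, d)` -/
def cycStep (D : ChevalleyDatum) (e : ℕ × ℕ × ℕ × ℕ × ℕ) : Bool :=
  single D e.2.2.2.1 e.2.2.1 e.2.1 && commPair D e.1 e.2.2.2.1 && single D e.1 e.2.2.1 e.2.2.2.2 &&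
    commPair D e.1 e.2.2.2.2 && commPair D e.2.2.2.2 e.2.2.2.1

/-- sign of a step -/
def cycSign (D : ChevalleyDatum) (e : ℕ × ℕ × ℕ × ℕ × ℕ) : ℤ :=
  - (coefOf D e.1 e.2.2.1 * coefOf D e.2.2.2.1 e.2.2.1)

/-- extend the table along a step -/
def cycExt (D : ChevalleyDatum) (T : LabTab) (e : ℕ × ℕ × ℕ × ℕ × ℕ) : LabTab :=
  bif cycStep D e then
    match lookLab T e.2.2.2.2 e.2.2.2.1 with
    | some (i, g) => ((e.1, e.2.1), i, g * cycSign D e) :: T
    | none => T
  else T

/-- certificate: roots of the spanning forest, tree steps, one conflicting step per root -/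
structure CycCert where
  roots : List (ℕ × ℕ)
  tree : List (ℕ × ℕ × ℕ × ℕ × ℕ)
  confl : List (ℕ × ℕ × ℕ × ℕ × ℕ)

/-- the table -/
def cycTab (D : ChevalleyDatum) (W : CycCert) : LabTab :=
  W.tree.foldl (cycExt D) (W.roots.map fun p => (p, p, 1))

/-- all commuting pairs not moved by the torus are labelled, and all labels vanish -/
def chkCyc (D : ChevalleyDatum) (W : CycCert) (ok : ℤ → Bool) : Bool :=
  let T := cycTab D W
  (W.roots.all fun p => commPair D p.1 p.2) &&
  (W.roots.all fun p => W.confl.any fun e => cycStep D e &&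
    match lookLab T e.1 e.2.1, lookLab T e.2.2.2.2 e.2.2.2.1 with
    | some (i, g), some (j, g') => Nat.beq i.1 p.1 && Nat.beq i.2 p.2 && Nat.beq j.1 p.1 && Nat.beq j.2 p.2 &&
        decide (g - g' * cycSign D e = 2 ∨ g - g' * cycSign D e = -2)
    | _, _ => false) &&
  (List.range D.nroots).all fun r => (List.range D.nroots).all fun s =>
    Nat.beq s r || Nat.beq s (D.neg r) || killB D ok r s || killB D ok s r ||
      ((D.commTerms r s).isEmpty && commPair D r s && match lookLab T r s with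
        | some (i, _) => W.roots.any fun p => Nat.beq p.1 i.1 && Nat.beq p.2 i.2
        | none => false)

variable {D : ChevalleyDatum} {X : Aux} {K : Type*} [Field K]
variable {G E : Type*} [Group G] [Group E] (S : CentExt D X K G E)

/-- the basic value -/
noncomputable def c1 (p : ℕ × ℕ) : E := cm S p.1 p.2 1 1

theorem cm_add_left {r s : ℕ} (hr : r < D.nroots) (h : Comm2 S r s) (t t' u : K) :
    cm S r s t u * cm S r s t' u = cm S r s (t + t') u := by
  rw [← cm_inv S s r u t, ← cm_inv S s r u t', ← mul_inv_rev,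
    cm_add_right S hr (fun a b => (h b a).symm), cm_inv, add_comm]

theorem cm_sign {r s : ℕ} (hr : r < D.nroots) (h : Comm2 S r s) {σ : ℤ} (hσ : σ = 1 ∨ σ = -1) :
    cm S r s (σ : K) 1 = c1 S (r, s) ^ σ := by
  rcases hσ with rfl | rfl
  · rw [Int.cast_one, zpow_one]; rfl
  · rw [Int.cast_neg, Int.cast_one, zpow_neg_one]
    exact add_map_neg (φ := fun t => cm S r s t 1) (fun t t' => cm_add_left S hr h t t' 1) 1

theorem single_coef {a b k : ℕ} (h : single D a b k = true) :
    (coefOf D a b = 1 ∨ coefOf D a b = -1) ∧ D.commTerms a b = [(k, coefOf D a b, 1, 1)] := by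
  obtain ⟨-, -, -, -, C, hC, e⟩ := single_spec h
  have : coefOf D a b = C := by rw [coefOf, e]
  exact ⟨this ▸ hC, this ▸ e⟩

theorem cycSign_pm {e : ℕ × ℕ × ℕ × ℕ × ℕ} (h : cycStep D e = true) : cycSign D e = 1 ∨ cycSign D e = -1 := by
  simp only [cycStep, Bool.and_eq_true] at h
  obtain ⟨⟨⟨⟨h1, -⟩, h3⟩, -⟩, -⟩ := h
  unfold cycSign
  rcases (single_coef h1).1 with e1 | e1 <;> rcases (single_coef h3).1 with e3 | e3 <;> simp [e1, e3]

theorem cyc_step_eq {e : ℕ × ℕ × ℕ × ℕ × ℕ} (h : cycStep D e = true) :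
    c1 S (e.1, e.2.1) = c1 S (e.2.2.2.2, e.2.2.2.1) ^ cycSign D e := by
  have hsg := cycSign_pm h
  obtain ⟨r, s, a, b, d⟩ := e
  simp only [cycStep, Bool.and_eq_true] at h
  obtain ⟨⟨⟨⟨h1, h2⟩, h3⟩, h4⟩, h5⟩ := h
  simp only [cycSign] at hsg
  obtain ⟨hb, ha, hne, hne', -, -⟩ := single_spec h1
  obtain ⟨hC, e1⟩ := single_coef h1
  obtain ⟨hr, -, hra, hra', -, -⟩ := single_spec h3
  obtain ⟨-, e3⟩ := single_coef h3
  obtain ⟨hd, -, -, -⟩ := commPair_spec h5
  obtain ⟨C, hCdef⟩ : ∃ C, C = coefOf D b a := ⟨_, rfl⟩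
  obtain ⟨C', hC'def⟩ : ∃ C', C' = coefOf D r a := ⟨_, rfl⟩
  rw [← hCdef] at e1 hC hsg; rw [← hC'def] at e3 hsg
  obtain ⟨Z1, hZ1⟩ : ∃ A, A = lf S a (-(C : K)) := ⟨_, rfl⟩
  obtain ⟨Z2, hZ2⟩ : ∃ B, B = lf S b (1 : K) := ⟨_, rfl⟩
  obtain ⟨y, hy⟩ : ∃ y, y = lf S r (1 : K) := ⟨_, rfl⟩
  have hZ : S.π ⁅Z1, Z2⁆ = S.R.xe s 1 := by
    have := π_cm_single S hb ha hne hne' e1 (-1) (C : K)
    rw [neg_neg, mul_one, cast_mul_self hC] at this
    rw [hZ1, hZ2]; exact this
  have hB : S.π (y * Z2 * y⁻¹) = S.π Z2 := by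
    rw [map_mul, map_mul, map_inv, hy, hZ2, π_lf, π_lf, (comm2_of_commPair S h2 1 1).eq, mul_inv_cancel_right]
  have hA : S.π (y * Z1 * y⁻¹) = S.π (Z1 * lf S d ((-(C' * C) : ℤ) : K)) := by
    have := S.R.xe_comm r a 1 (-(C : K)) hr ha hra hra'
    rw [ChevalleyDatum.commWord, e3] at this
    simp only [List.map_cons, List.map_nil, List.prod_cons, List.prod_nil, mul_one, pow_one] at this
    rw [map_mul, map_mul, map_inv, map_mul, hy, hZ1, π_lf, π_lf, π_lf,
      show ((-(C' * C) : ℤ) : K) = -((C' : K) * -1 * -(C : K)) by push_cast; ring,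
      S.R.xe_neg ⟨d, hd⟩ ((C' : K) * -1 * -(C : K)), eq_mul_inv_iff_mul_eq, mul_assoc,
      ((comm2_of_commPair S h4 1 ((C' : K) * -1 * -(C : K))).inv_left).eq, ← mul_assoc,
      mul_inv_eq_iff_eq_mul, mul_assoc]
    rw [← mul_assoc]
    exact this.symm
  have hdb := comm2_of_commPair S h5
  obtain ⟨w, hw⟩ : ∃ w, w = cm S d b ((-(C' * C) : ℤ) : K) 1 := ⟨_, rfl⟩
  have hwc := S.central (cm_mem_ker S hdb ((-(C' * C) : ℤ) : K) 1)
  rw [← hw] at hwc
  have e1' : y * ⁅Z1, Z2⁆ * y⁻¹ = w * ⁅Z1, Z2⁆ := by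
    rw [show y * ⁅Z1, Z2⁆ * y⁻¹ = ⁅y * Z1 * y⁻¹, y * Z2 * y⁻¹⁆ by simp only [commutatorElement_def]; group,
      comm_congr S hA hB,
      show ⁅Z1 * lf S d ((-(C' * C) : ℤ) : K), Z2⁆ = Z1 * ⁅lf S d ((-(C' * C) : ℤ) : K), Z2⁆ * Z1⁻¹ * ⁅Z1, Z2⁆ by
        simp only [commutatorElement_def]; group,
      show ⁅lf S d ((-(C' * C) : ℤ) : K), Z2⁆ = w by rw [hw, hZ2]; rfl,
      Subgroup.mem_center_iff.1 hwc Z1, mul_inv_cancel_right]
  show c1 S (r, s) = c1 S (d, b) ^ (-(coefOf D r a * coefOf D b a))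
  rw [← hCdef, ← hC'def]
  unfold c1
  rw [← cm_eq S (hy ▸ π_lf S r (1 : K)) hZ, commutatorElement_def, e1', mul_inv_cancel_right, hw,
    cm_sign S hd hdb hsg]
  rfl

/-- every entry states a true relation -/
def TabOK (T : LabTab) : Prop := ∀ e ∈ T, c1 S e.1 = c1 S e.2.1 ^ e.2.2 ∧ (e.2.2 = 1 ∨ e.2.2 = -1)

theorem lookLab_spec {T : LabTab} (hT : TabOK S T) {x y : ℕ} {i : ℕ × ℕ} {g : ℤ}
    (h : lookLab T x y = some (i, g)) : c1 S (x, y) = c1 S i ^ g ∧ (g = 1 ∨ g = -1) := by
  unfold lookLab at h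
  split at h
  · next e he =>
    have hmem := List.mem_of_find?_eq_some he
    have hp := List.find?_some he
    simp only [Bool.and_eq_true, nat_beq_iff] at hp
    obtain ⟨hex, hey⟩ := hp
    obtain ⟨h1, h2⟩ := hT e hmem
    rw [Option.some.injEq] at h
    rw [show e.1 = (x, y) from Prod.ext hex hey, h] at h1
    rw [h] at h2
    exact ⟨h1, h2⟩
  · split at h
    · next e he =>
      have hmem := List.mem_of_find?_eq_some he
      have hp := List.find?_some he
      simp only [Bool.and_eq_true, nat_beq_iff] at hp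
      obtain ⟨hey, hex⟩ := hp
      obtain ⟨h1, h2⟩ := hT e hmem
      rw [Option.some.injEq, Prod.mk.injEq] at h
      obtain ⟨rfl, rfl⟩ := h
      rw [show e.1 = (y, x) from Prod.ext hey hex] at h1
      refine ⟨?_, by rcases h2 with h2 | h2 <;> simp [h2]⟩
      rw [zpow_neg, ← h1]
      exact (cm_inv S y x 1 1).symm
    · exact absurd h (by simp)

theorem cycTab_ok (W : CycCert) : TabOK S (cycTab D W) := by
  unfold cycTab
  suffices key : ∀ (l : List (ℕ × ℕ × ℕ × ℕ × ℕ)) (T : LabTab), TabOK S T → TabOK S (l.foldl (cycExt D) T) by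
    refine key _ _ fun e he => ?_
    obtain ⟨p, -, rfl⟩ := List.mem_map.1 he
    exact ⟨(zpow_one _).symm, Or.inl rfl⟩
  intro l
  induction l with
  | nil => exact fun T hT => hT
  | cons e l ih =>
    intro T hT
    rw [List.foldl_cons]
    refine ih _ ?_
    unfold cycExt
    cases hs : cycStep D e with
    | false => exact hT
    | true =>
      rw [cond_true]
      split
      · next i g h =>
        intro x hx
        rcases List.mem_cons.1 hx with rfl | hx
        · obtain ⟨h1, h2⟩ := lookLab_spec S hT h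
          refine ⟨?_, ?_⟩
          · show c1 S (e.1, e.2.1) = c1 S i ^ (g * cycSign D e)
            rw [zpow_mul, ← h1, cyc_step_eq S hs]
          · show g * cycSign D e = 1 ∨ g * cycSign D e = -1
            rcases h2 with rfl | rfl <;> rcases cycSign_pm hs with e' | e' <;> simp [e']
        · exact hT x hx
      · exact hT

theorem pairs_of_cyc {W : CycCert} {ok : ℤ → Bool} (hok : ∀ n, ok n = true → ∃ c : K, c ≠ 0 ∧ c ^ n ≠ 1)
    (h3 : (3 : K) = 0) (hK : ∀ x : K, ∃ n : ℕ, x = n) (h : chkCyc D W ok = true) :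
    ∀ r < D.nroots, ∀ s < D.nroots, s ≠ r → s ≠ D.neg r →
      (Kill S r s ∨ Kill S s r) ∨ (D.commTerms r s = [] ∧ ∀ t u, cm S r s t u = 1) := by
  simp only [chkCyc, Bool.and_eq_true, List.all_eq_true, List.mem_range, Bool.or_eq_true, nat_beq_iff,
    List.isEmpty_iff] at h
  obtain ⟨⟨hcomm, hconf⟩, hall⟩ := h
  have hT := cycTab_ok S W
  have hroot : ∀ p ∈ W.roots, c1 S p = 1 := by
    intro p hp
    obtain ⟨e, -, he⟩ := List.any_eq_true.1 (hconf p hp)
    rw [Bool.and_eq_true] at he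
    obtain ⟨hs, he⟩ := he
    split at he
    · next i g j g' h1 h2 =>
      simp only [Bool.and_eq_true, nat_beq_iff, decide_eq_true_iff] at he
      obtain ⟨⟨⟨⟨a1, a2⟩, a3⟩, a4⟩, a5⟩ := he
      obtain rfl : i = p := Prod.ext a1 a2
      obtain rfl : j = i := Prod.ext a3 a4
      have e1 := (lookLab_spec S hT h1).1
      rw [cyc_step_eq S hs, (lookLab_spec S hT h2).1, ← zpow_mul] at e1
      obtain ⟨hp1, -, -, -⟩ := commPair_spec (hcomm j hp)
      have h30 : c1 S j ^ (3 : ℕ) = 1 := by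
        have := add_map_nsmul (φ := fun t => cm S j.1 j.2 t 1)
          (fun t t' => cm_add_left S hp1 (comm2_of_commPair S (hcomm j hp)) t t' 1) 1 3
        rw [Nat.cast_ofNat, mul_one, h3,
          add_map_zero (φ := fun t => cm S j.1 j.2 t 1)
            (fun t t' => cm_add_left S hp1 (comm2_of_commPair S (hcomm j hp)) t t' 1)] at this
        exact this.symm
      have h20 : c1 S j ^ (2 : ℕ) = 1 := by
        rw [← zpow_natCast, Nat.cast_ofNat]
        rcases a5 with a | a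
        · rw [← a, zpow_sub, e1, mul_inv_cancel]
        · rw [show (2 : ℤ) = g' * cycSign D e - g by omega, zpow_sub, e1, mul_inv_cancel]
      rw [pow_succ, h20, one_mul] at h30
      exact h30
    · exact absurd he Bool.false_ne_true
  intro r hr s hs h1 h2
  rcases hall r hr s hs with (((h | h) | h) | h) | ⟨⟨he, hcp⟩, hl⟩
  · exact absurd h h1
  · exact absurd h h2
  · exact Or.inl (Or.inl (kill_of_killB S hok h))
  · exact Or.inl (Or.inr (kill_of_killB S hok h))
  refine Or.inr ⟨he, fun t u => ?_⟩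
  split at hl
  · next i g hlook =>
    obtain ⟨p, hp, hpi⟩ := List.any_eq_true.1 hl
    simp only [Bool.and_eq_true, nat_beq_iff] at hpi
    obtain rfl : p = i := Prod.ext hpi.1 hpi.2
    have hc := comm2_of_commPair S hcp
    have h11 : cm S r s (1 : K) 1 = 1 := by
      have := (lookLab_spec S hT hlook).1
      rw [hroot p hp, one_zpow] at this
      exact this
    obtain ⟨n, rfl⟩ := hK t
    obtain ⟨m, rfl⟩ := hK u
    have hn : cm S r s (n : K) 1 = 1 := by
      have := add_map_nsmul (φ := fun t => cm S r s t 1) (fun t t' => cm_add_left S hr hc t t' 1) 1 n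
      rwa [mul_one, h11, one_pow] at this
    have := add_map_nsmul (cm_add_right S hs hc (n : K)) 1 m
    rwa [mul_one, hn, one_pow] at this
  · exact absurd hl Bool.false_ne_true

end CfsgLib.Known.Univ
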