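import Cfsg.Agent.Lib.Known.UnivBasic

/-!
# Central extensions split over simply laced Steinberg groups of rank at least six
-/

set_option autoImplicit false

namespace CfsgLib.Known.Univ

open Cfsg.Lie (ChevalleyDatum)
open CfsgLib.Lie.Chev
open scoped commutatorElement

/-- distinct non-opposite roots -/
def okPair (D : ChevalleyDatum) (a b : ℕ) : Bool :=
  Nat.blt a D.nroots && Nat.blt b D.nroots && !Nat.beq b a && !Nat.beq b (D.neg a)

/-- the commutator of `(a, b)` is a single root element at `k` with coefficient a unit -/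
def single (D : ChevalleyDatum) (a b k : ℕ) : Bool :=
  okPair D a b && match D.commTerms a b with
  | [(u, C, 1, 1)] => Nat.beq u k && decide (C = 1 ∨ C = -1)
  | _ => false

/-- root elements at `a` and `b` commute -/
def commPair (D : ChevalleyDatum) (a b : ℕ) : Bool :=
  Nat.blt a D.nroots && Nat.blt b D.nroots && !Nat.beq b (D.neg a) && (Nat.beq a b || (D.commTerms a b).isEmpty)

/-- roots paired with `r` into the sum `k` -/
def partners (D : ChevalleyDatum) (k r : ℕ) : List ℕ :=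
  ((row D r).filter fun e => match e.2.toList with
    | q :: _ => Nat.beq q.1 k
    | [] => false).map Prod.fst

/-- a step `(s, r, a, b, d)`: `r = a + b`, `a + s = d`, `b + s` not a root -/
def chkStep (D : ChevalleyDatum) (q : ℕ) (done : List (ℕ × ℕ)) : ℕ × ℕ × ℕ × ℕ × ℕ → Bool :=
  fun e => single D e.2.2.2.1 e.2.2.1 e.2.1 && commPair D e.1 e.2.2.2.1 && single D e.1 e.2.2.1 e.2.2.2.2 &&
    commPair D e.1 e.2.2.2.2 && commPair D e.2.2.1 q &&
    done.any fun x => Nat.beq x.1 e.2.2.2.2 && Nat.beq x.2 e.2.2.2.1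

/-- pairs settled after a step -/
def stepDone (e : ℕ × ℕ × ℕ × ℕ × ℕ) : List (ℕ × ℕ) := [(e.1, e.2.1), (e.2.1, e.1)]

/-- all steps are valid in the given order -/
def chkSteps (D : ChevalleyDatum) (q : ℕ) : List (ℕ × ℕ) → List (ℕ × ℕ × ℕ × ℕ × ℕ) → Bool
  | _, [] => true
  | done, e :: P => chkStep D q done e && chkSteps D q (stepDone e ++ done) P

/-- the certificate -/
structure LacedCert where
  i0 : ℕ
  M : List (ℕ × ℕ)
  A : List (ℕ × ℕ)
  a0 : ℕ
  b0 : ℕ
  P : List (ℕ × ℕ × ℕ × ℕ × ℕ)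

/-- all hypotheses -/
def chkLaced (D : ChevalleyDatum) (X : Aux) (W : LacedCert) : Bool :=
  let q := D.simple W.i0
  chkReach D X W.i0 W.M &&
  ((List.range D.nroots).all fun s => Nat.beq s (D.neg q) ||
    match D.commTerms q s with
    | [] => let e := W.A.getD s (0, 0)
            single D e.1 e.2 s && commPair D q e.1 && commPair D q e.2
    | [(_, C, 1, 1)] => !Nat.beq s q && decide (C = 1 ∨ C = -1)
    | _ => false) &&
  single D W.b0 W.a0 q && commPair D W.a0 q &&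
  chkSteps D q [(W.a0, W.b0)] W.P &&
  (List.range D.nroots).all fun r => (partners D q r).all fun s =>
    (W.P.flatMap stepDone).any fun x => Nat.beq x.1 r && Nat.beq x.2 s

variable {D : ChevalleyDatum} {X : Aux} {K : Type*} [Field K]
variable {G E : Type*} [Group G] [Group E] (S : CentExt D X K G E)

theorem single_spec {a b k : ℕ} (h : single D a b k = true) :
    a < D.nroots ∧ b < D.nroots ∧ b ≠ a ∧ b ≠ D.neg a ∧
      ∃ C : ℤ, (C = 1 ∨ C = -1) ∧ D.commTerms a b = [(k, C, 1, 1)] := by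
  simp only [single, okPair, Bool.and_eq_true, nat_blt_iff, Bool.not_eq_true'] at h
  obtain ⟨⟨⟨⟨h1, h2⟩, h3⟩, h4⟩, h5⟩ := h
  rw [← Bool.not_eq_true, nat_beq_iff] at h3 h4
  split at h5
  · next u C e =>
    rw [Bool.and_eq_true, nat_beq_iff, decide_eq_true_iff] at h5
    exact ⟨h1, h2, h3, h4, C, h5.2, by rw [e, h5.1]⟩
  · exact absurd h5 Bool.false_ne_true

theorem commPair_spec {a b : ℕ} (h : commPair D a b = true) :
    a < D.nroots ∧ b < D.nroots ∧ b ≠ D.neg a ∧ (a = b ∨ D.commTerms a b = []) := by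
  simp only [commPair, Bool.and_eq_true, nat_blt_iff, Bool.not_eq_true', Bool.or_eq_true, nat_beq_iff,
    List.isEmpty_iff] at h
  obtain ⟨⟨⟨h1, h2⟩, h3⟩, h4⟩ := h
  rw [← Bool.not_eq_true, nat_beq_iff] at h3
  exact ⟨h1, h2, h3, h4⟩

theorem eta_mul_self (i r : ℕ) : (X.eta i r : K) * (X.eta i r : K) = 1 := X.eta_sq_cast i r

theorem cast_mul_self {C : ℤ} (h : C = 1 ∨ C = -1) : (C : K) * (C : K) = 1 := by
  rcases h with rfl | rfl <;> simp

/-- the commutator producing a single root element -/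
theorem π_cm_single {a b k : ℕ} (ha : a < D.nroots) (hb : b < D.nroots) (h1 : b ≠ a) (h2 : b ≠ D.neg a) {C : ℤ}
    (h : D.commTerms a b = [(k, C, 1, 1)]) (t u : K) :
    S.π (cm S b a (-u) (-t)) = S.R.xe k ((C : K) * (-t) * u) := by
  have := S.R.xe_comm a b t u ha hb h1 h2
  rw [ChevalleyDatum.commWord, h] at this
  simp only [List.map_cons, List.map_nil, List.prod_cons, List.prod_nil, mul_one, pow_one] at this
  rw [π_cm, S.R.xe_neg ⟨b, hb⟩, S.R.xe_neg ⟨a, ha⟩, commutatorElement_def, inv_inv, inv_inv, mul_assoc, this]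
  group

theorem π_cm_single' {a b k : ℕ} (h : single D b a k = true) :
    ∃ C : ℤ, (C = 1 ∨ C = -1) ∧ ∀ v : K, S.π (cm S a b (-((C : K) * v)) 1) = S.R.xe k v := by
  obtain ⟨hb, ha, h1, h2, C, hC, e⟩ := single_spec h
  refine ⟨C, hC, fun v => ?_⟩
  have := π_cm_single S hb ha h1 h2 e (-1) ((C : K) * v)
  rw [neg_neg] at this
  rw [this, mul_one, ← mul_assoc, cast_mul_self hC, one_mul]

variable {W : LacedCert} (hW : chkLaced D X W = true)
include hW

omit hW in
theorem commTerms_w_nil {i r s : ℕ} (C : Cert D X) (hi : i < D.rank) (hr : r < D.nroots) (hs : s < D.nroots) :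
    D.commTerms (X.w i r) (X.w i s) = [] ↔ D.commTerms r s = [] := by
  rw [C.commTerms_w hi hr hs, List.map_eq_nil_iff]

theorem base_props :
    W.i0 < D.rank ∧ chkReach D X W.i0 W.M = true ∧
    (∀ s < D.nroots, s ≠ D.neg (D.simple W.i0) → (D.commTerms (D.simple W.i0) s = [] ∧
        single D (W.A.getD s (0, 0)).1 (W.A.getD s (0, 0)).2 s = true ∧
          commPair D (D.simple W.i0) (W.A.getD s (0, 0)).1 = true ∧
            commPair D (D.simple W.i0) (W.A.getD s (0, 0)).2 = true) ∨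
      (s ≠ D.simple W.i0 ∧ ∃ k C, (C = 1 ∨ C = -1) ∧ D.commTerms (D.simple W.i0) s = [(k, C, 1, 1)])) ∧
    single D W.b0 W.a0 (D.simple W.i0) = true ∧ commPair D W.a0 (D.simple W.i0) = true ∧
    chkSteps D (D.simple W.i0) [(W.a0, W.b0)] W.P = true ∧
    ∀ r < D.nroots, ∀ s ∈ partners D (D.simple W.i0) r, ∃ x ∈ W.P.flatMap stepDone, x = (r, s) := by
  simp only [chkLaced, Bool.and_eq_true, List.all_eq_true, List.mem_range, List.any_eq_true, nat_beq_iff,
    Bool.or_eq_true] at hW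
  obtain ⟨⟨⟨⟨⟨h1, h2⟩, h3⟩, h4⟩, h5⟩, h6⟩ := hW
  have hi0 : W.i0 < D.rank := by
    have := h1
    simp only [chkReach, Bool.and_eq_true, nat_blt_iff] at this
    exact this.1.1.1
  refine ⟨hi0, h1, fun s hs hne => ?_, h3, h4, h5, fun r hr s hs => ?_⟩
  · have h := (h2 s hs).resolve_left hne
    split at h
    · next e =>
      simp only [Bool.and_eq_true] at h
      exact Or.inl ⟨e, h.1.1, h.1.2, h.2⟩
    · next u C e =>
      simp only [Bool.and_eq_true, Bool.not_eq_true', decide_eq_true_iff] at h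
      refine Or.inr ⟨fun hq => ?_, u, C, h.2, e⟩
      rw [hq] at h
      simp at h
    · exact absurd h Bool.false_ne_true
  · obtain ⟨x, hx, e1, e2⟩ := h6 r hr s hs
    exact ⟨x, hx, Prod.ext e1 e2⟩

omit hW in
theorem cm_self_eq_one {r s : ℕ} {t u : K} (h : cm S r s t u = 1) {a b : E} (ha : S.π a = S.R.xe r t)
    (hb : S.π b = S.R.xe s u) : Commute a b :=
  commutatorElement_eq_one_iff_mul_comm.1 ((cm_eq S ha hb).trans h)

/-- commuting root elements have commuting lifts -/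
theorem cm_eq_one : ∀ r < D.nroots, ∀ s < D.nroots, s ≠ D.neg r → (r = s ∨ D.commTerms r s = []) →
    ∀ t u : K, cm S r s t u = 1 := by
  have C := S.R.cert
  obtain ⟨hi0, hreach, hbase, -, -, -, -⟩ := base_props hW
  refine of_reach S hreach _ ?_ ?_
  · intro i hi k hk ih s hs hne hterm t u
    obtain ⟨n, hn⟩ := exists_move S hi
    have hws := C.w_lt hi hs
    have h1 := ih (X.w i s) hws (fun e => hne (by
        rw [← C.w_w hi hs, e, C.w_neg hi hk]))
      (hterm.imp (fun e => by rw [← e, C.w_w hi hk]) fun e => by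
        rw [← commTerms_w_nil C hi hk hws, C.w_w hi hs]; exact e)
      ((X.eta i k : K) * t) ((X.eta i (X.w i s) : K) * u)
    have h2 := conj_cm S hn hk hws ((X.eta i k : K) * t) ((X.eta i (X.w i s) : K) * u)
    rw [h1, mul_one, mul_inv_cancel, C.w_w hi hs, ← mul_assoc, eta_mul_self, one_mul, ← mul_assoc, eta_mul_self,
      one_mul] at h2
    exact h2.symm
  · intro s hs hne hterm t u
    rcases hbase s hs hne with ⟨-, h1, h2, h3⟩ | ⟨hsq, k, Cc, -, e⟩
    swap
    · rcases hterm with h | h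
      · exact absurd h.symm hsq
      · rw [e] at h; simp at h
    obtain ⟨a, b, hab⟩ : ∃ a b, W.A.getD s (0, 0) = (a, b) := ⟨_, _, rfl⟩
    rw [hab] at h1 h2 h3
    obtain ⟨Cc, -, hπ⟩ := π_cm_single' S h1
    obtain ⟨hq, hb, hbn, hbc⟩ := commPair_spec h3
    obtain ⟨-, ha, han, hac⟩ := commPair_spec h2
    simp only at hb hbn hbc ha han hac
    obtain ⟨Y, hY⟩ : ∃ Y, Y = lf S (D.simple W.i0) t := ⟨_, rfl⟩
    obtain ⟨A', hA⟩ : ∃ A', A' = lf S a 1 := ⟨_, rfl⟩
    obtain ⟨B', hB⟩ : ∃ B', B' = lf S b (-((Cc : K) * u)) := ⟨_, rfl⟩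
    have hZ : S.π ⁅B', A'⁆ = S.R.xe s u := by rw [hA, hB]; exact hπ u
    rw [← cm_eq S (π_lf S (D.simple W.i0) t) hZ, ← hY, commutatorElement_eq_one_iff_mul_comm]
    have fix : ∀ {x : ℕ} {v : K}, Commute (S.R.xe (D.simple W.i0) t) (S.R.xe x v) →
        S.π (Y * lf S x v * Y⁻¹) = S.π (lf S x v) := fun {x v} h => by
      rw [map_mul, map_mul, map_inv, hY, π_lf, π_lf, h.eq, mul_inv_cancel_right]
    have e : Y * ⁅B', A'⁆ * Y⁻¹ = ⁅B', A'⁆ := by
      rw [show Y * ⁅B', A'⁆ * Y⁻¹ = ⁅Y * B' * Y⁻¹, Y * A' * Y⁻¹⁆ by simp only [commutatorElement_def]; group]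
      refine comm_congr S ?_ ?_
      · rw [hB]; exact fix (xe_commute S hq hb hbn hbc t _)
      · rw [hA]; exact fix (xe_commute S hq ha han hac t _)
    exact mul_inv_eq_iff_eq_mul.1 e

/-- lifts of root elements at `a`, `b` commute -/
theorem lift_commute {a b : ℕ} (h : commPair D a b = true) {x y : E} {t u : K} (hx : S.π x = S.R.xe a t)
    (hy : S.π y = S.R.xe b u) : Commute x y := by
  obtain ⟨ha, hb, hne, hc⟩ := commPair_spec h
  exact cm_self_eq_one S (cm_eq_one S hW a ha b hb hne hc t u) hx hy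

/-- the canonical section at the base root -/
theorem exists_phi : ∃ Φ : K → E, (∀ v w, Φ v * Φ w = Φ (v + w)) ∧ (∀ v, S.π (Φ v) = S.R.xe (D.simple W.i0) v) ∧
    ∀ v, ∃ w, cm S W.a0 W.b0 v 1 = Φ w := by
  obtain ⟨hi0, -, -, h3, h4, -, -⟩ := base_props hW
  obtain ⟨C, hC, hπ⟩ := π_cm_single' S h3
  obtain ⟨ha0, -, -, -⟩ := commPair_spec h4
  refine ⟨fun v => cm S W.a0 W.b0 (-((C : K) * v)) 1, fun v w => ?_, hπ, fun v => ⟨-((C : K) * v), ?_⟩⟩
  · show _ = cm S W.a0 W.b0 (-((C : K) * (v + w))) 1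
    rw [show -((C : K) * (v + w)) = -((C : K) * w) + -((C : K) * v) by ring]
    rw [← cm_eq S (a := lf S W.a0 (-((C : K) * w)) * lf S W.a0 (-((C : K) * v)))
      (b := lf S W.b0 1) (by rw [map_mul, π_lf, π_lf, S.R.xe_add _ _ _ ha0]) (π_lf S W.b0 1)]
    have e : ∀ x y z : E, ⁅x * y, z⁆ = x * ⁅y, z⁆ * x⁻¹ * ⁅x, z⁆ := fun x y z => by
      simp only [commutatorElement_def]; group
    have hc := lift_commute S hW h4 (π_lf S W.a0 (-((C : K) * w))) (hπ v)
    rw [e, show ⁅lf S W.a0 (-((C : K) * v)), lf S W.b0 1⁆ = cm S W.a0 W.b0 (-((C : K) * v)) 1 from rfl, hc.eq,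
      mul_inv_cancel_right]
    rfl
  · show _ = cm S W.a0 W.b0 (-((C : K) * -((C : K) * v))) 1
    rw [mul_neg, neg_neg, ← mul_assoc, cast_mul_self hC, one_mul]

/-- all decompositions of the base root give the canonical section -/
theorem partners_spec {Φ : K → E} (hadd : ∀ v w, Φ v * Φ w = Φ (v + w))
    (hπ : ∀ v, S.π (Φ v) = S.R.xe (D.simple W.i0) v) (hΦ : ∀ v, ∃ w, cm S W.a0 W.b0 v 1 = Φ w) :
    ∀ x ∈ W.P.flatMap stepDone, ∀ t u : K, ∃ w, cm S x.1 x.2 t u = Φ w := by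
  obtain ⟨-, -, -, -, -, hsteps, -⟩ := base_props hW
  have hneg : ∀ v, (Φ v)⁻¹ = Φ (-v) := fun v => by
    rw [inv_eq_iff_mul_eq_one, hadd, add_neg_cancel]
    have := hadd 0 0
    rw [add_zero] at this
    exact mul_eq_left.1 this
  suffices key : ∀ (P : List (ℕ × ℕ × ℕ × ℕ × ℕ)) (done : List (ℕ × ℕ)),
      (∀ x ∈ done, ∀ v : K, ∃ w, cm S x.1 x.2 v 1 = Φ w) → chkSteps D (D.simple W.i0) done P = true →
      ∀ x ∈ P.flatMap stepDone, ∀ t u : K, ∃ w, cm S x.1 x.2 t u = Φ w from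
    key W.P _ (fun x hx => by rw [List.mem_singleton] at hx; subst hx; exact hΦ) hsteps
  intro P
  induction P with
  | nil => simp
  | cons e P ih =>
    intro done hdone hchk
    obtain ⟨s, r, a, b, d⟩ := e
    rw [chkSteps, Bool.and_eq_true] at hchk
    obtain ⟨he, hrest⟩ := hchk
    simp only [chkStep, Bool.and_eq_true, List.any_eq_true, nat_beq_iff] at he
    obtain ⟨⟨⟨⟨⟨h1, h2⟩, h3⟩, h4⟩, h5⟩, x, hx, ex1, ex2⟩ := he
    have hnew : ∀ t u : K, ∃ w, cm S s r t u = Φ w := by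
      intro t u
      obtain ⟨C, -, hZ⟩ := π_cm_single' S h1
      obtain ⟨hs, ha, hne1, hne2, C', -, hsa⟩ := single_spec h3
      obtain ⟨Z1, hZ1⟩ : ∃ A, A = lf S a (-((C : K) * u)) := ⟨_, rfl⟩
      obtain ⟨Z2, hZ2⟩ : ∃ B, B = lf S b 1 := ⟨_, rfl⟩
      obtain ⟨y, hy⟩ : ∃ y, y = lf S s t := ⟨_, rfl⟩
      obtain ⟨τ, hτ⟩ : ∃ τ : K, τ = -((C' : K) * -t * -((C : K) * u)) := ⟨_, rfl⟩
      have hZ' : S.π ⁅Z1, Z2⁆ = S.R.xe r u := by rw [hZ1, hZ2]; exact hZ u
      have hB : S.π (y * Z2 * y⁻¹) = S.π Z2 := by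
        obtain ⟨hs', hb', hbn, hbc⟩ := commPair_spec h2
        rw [map_mul, map_mul, map_inv, hy, hZ2, π_lf, π_lf, (xe_commute S hs' hb' hbn hbc t 1).eq,
          mul_inv_cancel_right]
      have hA : S.π (y * Z1 * y⁻¹) = S.π (Z1 * lf S d τ) := by
        obtain ⟨-, hd, hdn, hdc⟩ := commPair_spec h4
        have := S.R.xe_comm s a t (-((C : K) * u)) hs ha hne1 hne2
        rw [ChevalleyDatum.commWord, hsa] at this
        simp only [List.map_cons, List.map_nil, List.prod_cons, List.prod_nil, mul_one, pow_one] at this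
        rw [map_mul, map_mul, map_inv, map_mul, hy, hZ1, π_lf, π_lf, π_lf, hτ,
          S.R.xe_neg ⟨d, hd⟩ ((C' : K) * -t * -((C : K) * u)), eq_mul_inv_iff_mul_eq, mul_assoc,
          ((xe_commute S hs hd hdn hdc t ((C' : K) * -t * -((C : K) * u))).inv_left).eq, ← mul_assoc,
          mul_inv_eq_iff_eq_mul, mul_assoc]
        rw [← mul_assoc]
        exact this.symm
      have hD : ∃ w, ⁅lf S d τ, Z2⁆ = Φ w := by
        obtain ⟨w, hw⟩ := hdone x hx τ
        rw [ex1, ex2] at hw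
        exact ⟨w, (cm_eq S (π_lf S d τ) (hZ2 ▸ π_lf S b 1)).trans hw⟩
      obtain ⟨w, hw⟩ := hD
      refine ⟨w, ?_⟩
      have hyπ : S.π y = S.R.xe s t := hy ▸ π_lf S s t
      have hZ1π : S.π Z1 = S.R.xe a (-((C : K) * u)) := hZ1 ▸ π_lf S a _
      have hfix : Z1 * Φ w * Z1⁻¹ = Φ w :=
        mul_inv_eq_iff_eq_mul.2 (lift_commute S hW h5 hZ1π (hπ w)).eq
      have e1 : y * ⁅Z1, Z2⁆ * y⁻¹ = Φ w * ⁅Z1, Z2⁆ := by
        rw [show y * ⁅Z1, Z2⁆ * y⁻¹ = ⁅y * Z1 * y⁻¹, y * Z2 * y⁻¹⁆ by simp only [commutatorElement_def]; group,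
          comm_congr S hA hB,
          show ⁅Z1 * lf S d τ, Z2⁆ = Z1 * ⁅lf S d τ, Z2⁆ * Z1⁻¹ * ⁅Z1, Z2⁆ by
            simp only [commutatorElement_def]; group, hw, hfix]
      rw [← cm_eq S hyπ hZ', commutatorElement_def, e1, mul_inv_cancel_right]
    have hboth : ∀ x ∈ stepDone (s, r, a, b, d), ∀ t u : K, ∃ w, cm S x.1 x.2 t u = Φ w := by
      intro x hx t u
      simp only [stepDone, List.mem_cons, List.not_mem_nil, or_false] at hx
      rcases hx with rfl | rfl
      · exact hnew t u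
      · obtain ⟨w, hw⟩ := hnew u t
        exact ⟨-w, by rw [← cm_inv, hw, hneg]⟩
    intro x hx
    rw [List.flatMap_cons, List.mem_append] at hx
    rcases hx with hx | hx
    · exact hboth x hx
    · refine ih _ (fun y hy v => ?_) hrest x hx
      rcases List.mem_append.1 hy with hy | hy
      · exact hboth y hy v 1
      · exact hdone y hy v

omit hW in
theorem mem_partners {r s k : ℕ} {C : ℤ} (e : D.commTerms r s = [(k, C, 1, 1)]) : s ∈ partners D k r := by
  have h : (k, C, 1, 1) ∈ D.commTerms r s := by rw [e]; simp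
  have h1 : D.chainRoot r s 1 = some k := by
    simp only [ChevalleyDatum.commTerms, List.mem_filterMap, List.mem_cons, List.not_mem_nil, or_false,
      Option.map_eq_some_iff, Prod.mk.injEq] at h
    obtain ⟨c, hc, u, hu, rfl, hc2⟩ := h
    rcases hc with rfl | rfl | rfl | rfl | rfl | rfl | rfl <;> simp_all
  unfold ChevalleyDatum.chainRoot ChevalleyDatum.chainEntry at h1
  cases hf : (D.chain.getD r #[]).toList.find? (fun e => decide (e.1 = s)) with
  | none => rw [hf] at h1; simp at h1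
  | some x =>
    rw [hf] at h1
    refine List.mem_map.2 ⟨x, List.mem_filter.2 ⟨List.mem_of_find?_eq_some hf, ?_⟩,
      of_decide_eq_true (List.find?_some hf :)⟩
    cases hl : x.2.toList with
    | nil => simp [hl] at h1
    | cons q L => simp [hl] at h1; simp [h1]

/-- every root has a section compatible with all its decompositions -/
theorem exists_sect : ∀ k < D.nroots, ∃ f : K → E, (∀ v w, f v * f w = f (v + w)) ∧ (∀ v, S.π (f v) = S.R.xe k v) ∧
    ∀ r < D.nroots, ∀ s < D.nroots, ∀ C : ℤ, D.commTerms r s = [(k, C, 1, 1)] →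
      ∀ t u : K, ∃ w, cm S r s t u = f w := by
  have C := S.R.cert
  obtain ⟨hi0, hreach, -, -, -, -, hcov⟩ := base_props hW
  refine of_reach S hreach _ ?_ ?_
  · rintro i hi k hk ⟨f, hadd, hπ, hf⟩
    obtain ⟨n, hn⟩ := exists_move S hi
    refine ⟨fun v => n * f ((X.eta i k : K) * v) * n⁻¹, fun v w => ?_, fun v => ?_, fun r hr s hs Cc e t u => ?_⟩
    · simp only [conj_mul, hadd, mul_add]
    · rw [hn k hk _ _ (hπ _), ← mul_assoc, eta_mul_self, one_mul]
    · have hwr := C.w_lt hi hr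
      have hws := C.w_lt hi hs
      have e2 := C.commTerms_w hi hr hs
      rw [e, List.map_singleton] at e2
      have hk2 : X.w i (X.w i k) = k := C.w_w hi hk
      obtain ⟨C2, e3⟩ : ∃ C2, D.commTerms (X.w i r) (X.w i s) = [(k, C2, 1, 1)] :=
        ⟨(trTerm X i r s (X.w i k, Cc, 1, 1)).2.1, by rw [e2]; simp [trTerm, hk2]⟩
      obtain ⟨w, hw⟩ := hf _ hwr _ hws C2 e3 ((X.eta i (X.w i r) : K) * t) ((X.eta i (X.w i s) : K) * u)
      refine ⟨(X.eta i k : K) * w, ?_⟩
      have h2 := conj_cm S hn hwr hws ((X.eta i (X.w i r) : K) * t) ((X.eta i (X.w i s) : K) * u)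
      rw [hw, C.w_w hi hr, C.w_w hi hs, ← mul_assoc, eta_mul_self, one_mul, ← mul_assoc, eta_mul_self,
        one_mul] at h2
      show _ = n * f ((X.eta i k : K) * ((X.eta i k : K) * w)) * n⁻¹
      rw [← mul_assoc (X.eta i k : K), eta_mul_self, one_mul]
      exact h2.symm
  · obtain ⟨Φ, hadd, hπ, hΦ⟩ := exists_phi S hW
    refine ⟨Φ, hadd, hπ, fun r hr s hs Cc e t u => ?_⟩
    obtain ⟨x, hx, rfl⟩ := hcov r hr s (mem_partners e)
    exact partners_spec S hW hadd hπ hΦ _ hx t u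

include S in
/-- every pair gives at most one term, with coefficient a sign -/
theorem terms_shape : ∀ r < D.nroots, ∀ s < D.nroots, s ≠ r → s ≠ D.neg r →
    D.commTerms r s = [] ∨ ∃ k C, D.commTerms r s = [(k, C, 1, 1)] := by
  have C := S.R.cert
  obtain ⟨hi0, hreach, hbase, -, -, -, -⟩ := base_props hW
  refine of_reach S hreach _ ?_ ?_
  · intro i hi k hk ih s hs h1 h2
    have hws := C.w_lt hi hs
    have e := C.commTerms_w hi hk hws
    rw [C.w_w hi hs] at e
    rcases ih _ hws (fun h => h1 (by rw [← C.w_w hi hs, h]))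
      (fun h => h2 (by rw [← C.w_w hi hs, h, C.w_neg hi hk])) with h | ⟨u, Cc, h⟩
    · exact Or.inl (by rw [e, h]; rfl)
    · exact Or.inr ⟨X.w i u, _, by rw [e, h]; simp only [List.map_singleton, trTerm]; rfl⟩
  · intro s hs h1 h2
    rcases hbase s hs h2 with ⟨h, -⟩ | ⟨-, k, Cc, -, h⟩
    · exact Or.inl h
    · exact Or.inr ⟨k, Cc, h⟩

/-- sections satisfying (R1) and (R2) -/
theorem exists_sections : ∃ f : ℕ → K → E, (∀ r, r < D.nroots → ∀ t, S.π (f r t) = S.R.xe r t) ∧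
    (∀ r t u, r < D.nroots → f r t * f r u = f r (t + u)) ∧
    (∀ r t, ¬ r < D.nroots → f r t = 1) ∧
    ∀ r s t u, r < D.nroots → s < D.nroots → s ≠ r → s ≠ D.neg r →
      f s u * f r t = f r t * f s u * ((D.commWord K r s t u).map fun p => f p.1 p.2).prod := by
  classical
  choose g hadd hπ hg using exists_sect S hW
  let f : ℕ → K → E := fun r t => if h : r < D.nroots then g r h t else 1
  have hf : ∀ r (h : r < D.nroots) t, f r t = g r h t := fun r h t => dif_pos h
  have hfπ : ∀ r, r < D.nroots → ∀ t, S.π (f r t) = S.R.xe r t := fun r hr t => by rw [hf r hr]; exact hπ r hr t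
  refine ⟨f, hfπ, fun r t u hr => by rw [hf r hr, hf r hr, hf r hr]; exact hadd r hr t u,
    fun r t hr => dif_neg hr, fun r s t u hr hs h1 h2 => ?_⟩
  rcases terms_shape S hW r hr s hs h1 h2 with h | ⟨k, Cc, h⟩
  · rw [ChevalleyDatum.commWord, h, List.map_nil, List.map_nil, List.prod_nil, mul_one]
    exact (cm_self_eq_one S (cm_eq_one S hW r hr s hs h2 (Or.inr h) t u) (hfπ r hr t) (hfπ s hs u)).eq.symm
  · have hk : k < D.nroots := (S.R.cert.commTerms_props hr hs (k, Cc, 1, 1) (by rw [h]; simp)).1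
    rw [ChevalleyDatum.commWord, h, List.map_singleton, List.map_singleton, List.prod_singleton]
    simp only [pow_one]
    obtain ⟨w, hw⟩ := hg k hk r hr s hs Cc h (-t) (-u)
    have hx : (f s u)⁻¹ * (f r t)⁻¹ * (f s u) * (f r t) = f k (-w) := by
      have e := cm_eq S (r := s) (s := r) (t := -u) (u := -t) (a := (f s u)⁻¹) (b := (f r t)⁻¹)
        (by rw [map_inv, hfπ s hs, S.R.xe_neg ⟨s, hs⟩])
        (by rw [map_inv, hfπ r hr, S.R.xe_neg ⟨r, hr⟩])
      rw [commutatorElement_def, inv_inv, inv_inv] at e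
      rw [e, ← cm_inv S r s, hw, inv_eq_iff_mul_eq_one, hf k hk (-w), hadd k hk, add_neg_cancel]
      have := hadd k hk 0 0
      rw [add_zero] at this
      exact mul_eq_left.1 this
    have hval : -w = (Cc : K) * -t * u := by
      refine xe_inj S hk ?_
      rw [← hfπ k hk, ← hx, map_mul, map_mul, map_mul, map_inv, map_inv, hfπ s hs, hfπ r hr]
      have hh := S.R.xe_comm r s t u hr hs h1 h2
      rw [ChevalleyDatum.commWord, h, List.map_singleton, List.map_singleton, List.prod_singleton] at hh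
      simp only [pow_one] at hh
      rw [mul_assoc _ (S.R.xe s u), hh]
      group
    rw [← hval, ← hx]
    group

end CfsgLib.Known.Univ
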