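import Cfsg.Agent.Lib.Known.UnivLaced
import Cfsg.Agent.Lib.Lie.Chev.All
import Cfsg.Agent.Lib.Known.UnivSplit

/-!
# Certificates for universality in types E6, E7, E8
-/

set_option autoImplicit false

namespace CfsgLib.Known.Univ

open Cfsg.Lie
open CfsgLib.Lie.Chev

/-- certificate for type E6 -/
def lacedE6 : LacedCert where
  i0 := 0
  M := [(2, 0), (3, 2), (1, 3), (4, 3), (5, 4)]
  A :=
    [(1, 25), (0, 46), (0, 47), (0, 48), (0, 49), (0, 0), (0, 0), (0, 0), (0, 0), (0, 0), (0, 0), (0, 0),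
      (0, 0), (0, 0), (0, 0), (0, 0), (0, 61), (0, 62), (0, 63), (0, 64), (0, 65), (0, 66), (0, 67),
      (0, 68), (0, 69), (0, 70), (1, 64), (1, 65), (1, 66), (2, 66), (1, 67), (1, 68), (1, 69), (2, 67),
      (2, 68), (3, 67), (4, 68), (3, 69), (4, 69), (2, 70), (3, 70), (4, 70), (0, 0), (0, 0), (0, 0),
      (0, 0), (1, 71), (2, 71), (3, 71), (4, 71), (0, 0), (0, 0), (0, 0), (0, 0), (0, 0), (0, 0),
      (16, 66), (16, 69), (16, 70), (17, 70), (18, 70), (16, 71), (17, 71), (18, 71), (19, 71), (20, 71),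
      (21, 71), (22, 71), (23, 71), (24, 71), (25, 71), (46, 70)]
  a0 := 16
  b0 := 66
  P :=
    [(17, 65, 34, 66, 16), (18, 64, 33, 66, 16), (19, 63, 31, 66, 16), (20, 62, 30, 66, 16),
      (21, 61, 30, 65, 17), (26, 60, 23, 66, 16), (27, 59, 22, 66, 16), (28, 58, 22, 65, 17),
      (29, 57, 22, 63, 19), (66, 16, 0, 61, 21)]

theorem lacedE6_ok : chkLaced chevE6 auxE6 lacedE6 = true := by decide +kernel

/-- certificate for type E7 -/
def lacedE7 : LacedCert where
  i0 := 0
  M := [(2, 0), (3, 2), (1, 3), (4, 3), (5, 4), (6, 5)]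
  A :=
    [(0, 0), (2, 52), (3, 56), (2, 69), (2, 70), (2, 71), (2, 72), (2, 79), (2, 80), (2, 81), (2, 82),
      (3, 80), (3, 81), (3, 82), (4, 81), (4, 82), (5, 82), (0, 0), (0, 0), (0, 0), (0, 0), (0, 0),
      (0, 0), (0, 0), (0, 0), (0, 0), (0, 0), (0, 0), (0, 0), (0, 0), (0, 0), (0, 0), (0, 0), (1, 109),
      (1, 110), (1, 111), (1, 112), (1, 113), (1, 114), (1, 115), (1, 116), (1, 117), (1, 118), (2, 115),
      (2, 116), (2, 117), (2, 118), (3, 118), (1, 119), (1, 120), (1, 121), (1, 122), (1, 123), (2, 119),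
      (2, 120), (2, 121), (2, 122), (3, 119), (3, 120), (3, 121), (4, 119), (4, 120), (5, 119), (6, 120),
      (5, 121), (6, 121), (4, 122), (5, 122), (6, 122), (3, 123), (4, 123), (5, 123), (6, 123), (0, 0),
      (0, 0), (0, 0), (0, 0), (0, 0), (7, 122), (7, 123), (8, 123), (9, 123), (10, 123), (0, 0), (0, 0),
      (0, 0), (0, 0), (0, 0), (0, 0), (0, 0), (0, 0), (0, 0), (0, 0), (1, 125), (2, 125), (3, 125),
      (4, 125), (5, 125), (6, 125), (7, 125), (8, 125), (9, 125), (10, 125), (11, 125), (12, 125),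
      (13, 125), (14, 125), (15, 125), (16, 125), (43, 120), (43, 121), (44, 121), (43, 122), (44, 122),
      (45, 122), (43, 123), (44, 123), (45, 123), (46, 123), (53, 123), (54, 123), (55, 123), (56, 123),
      (69, 122), (0, 0), (94, 123)]
  a0 := 1
  b0 := 125
  P :=
    [(33, 108, 16, 125, 1), (34, 107, 15, 125, 1), (35, 106, 14, 125, 1), (36, 105, 13, 125, 1),
      (37, 104, 12, 125, 1), (38, 103, 11, 125, 1), (39, 102, 10, 125, 1), (40, 101, 9, 125, 1),
      (41, 100, 8, 125, 1), (42, 99, 7, 125, 1), (48, 98, 6, 125, 1), (49, 97, 5, 125, 1),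
      (50, 96, 4, 125, 1), (51, 95, 3, 125, 1), (52, 94, 2, 125, 1), (125, 1, 2, 52, 94)]

theorem lacedE7_ok : chkLaced chevE7 auxE7 lacedE7 = true := by decide +kernel

/-- certificate for type E8 -/
def lacedE8 : LacedCert where
  i0 := 0
  M := [(2, 0), (3, 2), (1, 3), (4, 3), (5, 4), (6, 5), (7, 6)]
  A :=
    [(1, 119), (0, 120), (0, 122), (0, 125), (0, 129), (0, 134), (0, 0), (0, 146), (0, 0), (0, 0),
      (0, 0), (0, 0), (0, 0), (0, 0), (0, 168), (0, 173), (0, 177), (0, 180), (0, 182), (0, 183),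
      (1, 183), (0, 187), (0, 190), (0, 192), (0, 193), (1, 193), (0, 196), (0, 198), (0, 199), (1, 199),
      (0, 201), (0, 202), (1, 202), (0, 203), (1, 203), (2, 203), (0, 206), (0, 208), (0, 209), (1, 209),
      (0, 211), (0, 212), (1, 212), (0, 213), (1, 213), (2, 213), (0, 215), (0, 216), (1, 216), (0, 217),
      (1, 217), (2, 217), (0, 218), (1, 218), (2, 218), (3, 218), (0, 0), (0, 0), (0, 0), (0, 0), (0, 0),
      (0, 0), (0, 0), (0, 0), (0, 0), (0, 0), (0, 0), (0, 0), (0, 0), (0, 0), (0, 0), (0, 0), (0, 0),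
      (0, 0), (0, 0), (0, 0), (0, 0), (0, 0), (0, 227), (0, 228), (1, 228), (0, 229), (1, 229), (2, 229),
      (0, 230), (1, 230), (2, 230), (3, 230), (0, 231), (1, 231), (2, 231), (3, 231), (4, 231), (0, 232),
      (1, 232), (2, 232), (3, 232), (4, 232), (5, 232), (0, 233), (1, 233), (2, 233), (3, 233), (4, 233),
      (5, 233), (0, 234), (1, 234), (2, 234), (3, 234), (4, 234), (0, 235), (1, 235), (2, 235), (3, 235),
      (0, 236), (1, 236), (2, 236), (0, 237), (1, 237), (0, 238), (1, 239), (2, 238), (2, 239), (3, 237),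
      (3, 238), (3, 239), (4, 236), (4, 237), (4, 238), (4, 239), (5, 235), (5, 236), (5, 237), (5, 238),
      (5, 239), (0, 0), (0, 0), (0, 0), (0, 0), (0, 0), (0, 0), (7, 234), (7, 235), (7, 236), (7, 237),
      (7, 238), (7, 239), (0, 0), (0, 0), (0, 0), (0, 0), (0, 0), (0, 0), (0, 0), (0, 0), (0, 0), (0, 0),
      (0, 0), (0, 0), (0, 0), (0, 0), (0, 0), (14, 233), (14, 234), (14, 235), (14, 236), (14, 237),
      (14, 238), (14, 239), (15, 235), (15, 236), (15, 237), (15, 238), (15, 239), (16, 236), (16, 237),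
      (16, 238), (16, 239), (17, 237), (17, 238), (17, 239), (18, 238), (18, 239), (19, 239), (21, 236),
      (21, 237), (21, 238), (21, 239), (22, 237), (22, 238), (22, 239), (23, 238), (23, 239), (24, 239),
      (26, 237), (26, 238), (26, 239), (27, 238), (27, 239), (28, 239), (30, 238), (30, 239), (31, 239),
      (33, 239), (36, 237), (36, 238), (36, 239), (37, 238), (37, 239), (38, 239), (40, 238), (40, 239),
      (41, 239), (43, 239), (46, 238), (46, 239), (47, 239), (49, 239), (52, 239), (0, 0), (0, 0), (0, 0),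
      (0, 0), (0, 0), (0, 0), (0, 0), (78, 238), (78, 239), (79, 239), (81, 239), (84, 239), (88, 239),
      (93, 239), (99, 239), (105, 239), (110, 239), (114, 239), (117, 239), (119, 239), (120, 238)]
  a0 := 14
  b0 := 233
  P :=
    [(15, 231, 98, 233, 14), (16, 230, 97, 233, 14), (17, 229, 96, 233, 14), (18, 228, 95, 233, 14),
      (19, 227, 94, 233, 14), (20, 226, 93, 233, 14), (78, 183, 35, 233, 14), (79, 182, 34, 233, 14),
      (80, 181, 33, 233, 14), (81, 180, 32, 233, 14), (82, 179, 31, 233, 14), (83, 178, 30, 233, 14),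
      (84, 177, 29, 233, 14), (85, 176, 28, 233, 14), (86, 175, 27, 233, 14), (87, 174, 26, 233, 14),
      (88, 173, 25, 233, 14), (89, 172, 24, 233, 14), (90, 171, 23, 233, 14), (91, 170, 22, 233, 14),
      (92, 169, 21, 233, 14), (99, 168, 25, 231, 15), (100, 167, 24, 231, 15), (101, 166, 23, 231, 15),
      (102, 165, 22, 231, 15), (103, 164, 21, 231, 15), (104, 163, 21, 230, 16), (233, 14, 0, 168, 99)]

theorem lacedE8_ok : chkLaced chevE8 auxE8 lacedE8 = true := by decide +kernel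

universe u

theorem hasSections_laced {D : ChevalleyDatum} {X : Aux} {W : LacedCert} (hW : chkLaced D X W = true)
    (K : Type u) [Field K] : HasSections (D := D) (X := X) K :=
  fun _ _ S _ => exists_sections S hW

end CfsgLib.Known.Univ
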