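import Cfsg.Agent.Lib.Known.UnivTorusData

/-!
# Lifting maps out of the cover
-/

set_option autoImplicit false

namespace CfsgLib.Known.Univ

open Cfsg.Lie (ChevalleyDatum)
open CfsgLib.Lie.Chev
open CfsgLib.Known

variable {D : ChevalleyDatum} {X : Aux} {K : Type*} [Field K] {G₁ E : Type*} [Group G₁] [Group E]

/-- two lifts of a map out of a perfect group agree -/
theorem lift_unique {St : Type*} [Group St] (hSt : commutator St = ⊤) (π₁ : E →* G₁)
    (hc : π₁.ker ≤ Subgroup.center E) (τ τ' : St →* E) (h : π₁.comp τ = π₁.comp τ') : τ = τ' := by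
  have hk : ∀ x, τ x * (τ' x)⁻¹ ∈ Subgroup.center E := fun x => hc (by
    rw [MonoidHom.mem_ker, map_mul, map_inv, mul_inv_eq_one]; exact DFunLike.congr_fun h x)
  let δ : St →* Subgroup.center E := MonoidHom.mk' (fun x => ⟨τ x * (τ' x)⁻¹, hk x⟩) fun a b => Subtype.ext (by
    show τ (a * b) * (τ' (a * b))⁻¹ = τ a * (τ' a)⁻¹ * (τ b * (τ' b)⁻¹)
    rw [map_mul, map_mul, mul_inv_rev, show τ a * τ b * ((τ' b)⁻¹ * (τ' a)⁻¹) = τ a * (τ b * (τ' b)⁻¹) * (τ' a)⁻¹
      by group, mul_assoc (τ a), ← Subgroup.mem_center_iff.1 (hk b) ((τ' a)⁻¹), mul_assoc (τ a)])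
  have hK : commutator St ≤ δ.ker := by
    rw [commutator_def, Subgroup.commutator_le]
    intro a _ b _
    rw [MonoidHom.mem_ker, map_commutatorElement, commutatorElement_eq_one_iff_mul_comm]
    exact Subtype.ext (Subgroup.mem_center_iff.1 (δ b).2 (δ a))
  ext x
  have h1 : δ x = 1 := MonoidHom.mem_ker.1 (hK (hSt ▸ Subgroup.mem_top x))
  exact mul_inv_eq_one.1 (congrArg Subtype.val h1)

/-- the lifting property from sections in pullbacks -/
theorem existsUnique_lift (C : Cert D X) {L : List (ℕ × ℕ × ℕ × List ℤ)} (hL : chkWits D X L = true)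
    (hp : Rel.PerfectData D K) (π₁ : E →* G₁) (hπ : Function.Surjective π₁) (hc : π₁.ker ≤ Subgroup.center E)
    (σ : D.SteinbergCover K →* G₁)
    (h : ∀ (P : Subgroup (E × D.SteinbergCover K)) (S : CentExt D X K (D.SteinbergCover K) P),
      Good S → (∀ a ∈ S.π.ker, π₁ (a : E × D.SteinbergCover K).1 = 1 ∧ (a : E × D.SteinbergCover K).2 = 1) →
      ∃ f : ℕ → K → P, (∀ r, r < D.nroots → ∀ t, S.π (f r t) = S.R.xe r t) ∧
        (∀ r t u, r < D.nroots → f r t * f r u = f r (t + u)) ∧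
        (∀ r t, ¬ r < D.nroots → f r t = 1) ∧
        ∀ r s t u, r < D.nroots → s < D.nroots → s ≠ r → s ≠ D.neg r →
          f s u * f r t = f r t * f s u * ((D.commWord K r s t u).map fun p => f p.1 p.2).prod) :
    ∃! τ : D.SteinbergCover K →* E, π₁.comp τ = σ := by
  have hperf := StCover.commutator_eq_top C hL hp
  let P : Subgroup (E × D.SteinbergCover K) :=
    (π₁.comp (MonoidHom.fst _ _)).eqLocus (σ.comp (MonoidHom.snd _ _))
  let π : P →* D.SteinbergCover K := (MonoidHom.snd _ _).comp P.subtype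
  have hmem : ∀ y : P, π₁ (y : E × D.SteinbergCover K).1 = σ (y : E × D.SteinbergCover K).2 := fun y => y.2
  have hπs : Function.Surjective π := fun x => by
    obtain ⟨g, hg⟩ := hπ (σ x)
    exact ⟨⟨(g, x), hg⟩, rfl⟩
  have hker : ∀ y ∈ π.ker, π₁ (y : E × D.SteinbergCover K).1 = 1 ∧ (y : E × D.SteinbergCover K).2 = 1 :=
    fun y hy => by
      have h2 : (y : E × D.SteinbergCover K).2 = 1 := hy
      exact ⟨by rw [hmem y, h2, map_one], h2⟩
  have hπc : π.ker ≤ Subgroup.center P := fun y hy => by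
    obtain ⟨h1, h2⟩ := hker y hy
    rw [Subgroup.mem_center_iff]
    intro z
    refine Subtype.ext (Prod.ext ?_ ?_)
    · exact Subgroup.mem_center_iff.1 (hc h1) _
    · show _ * (y : E × D.SteinbergCover K).2 = (y : E × D.SteinbergCover K).2 * _
      rw [h2, mul_one, one_mul]
  let S : CentExt D X K (D.SteinbergCover K) P :=
    { R := StCover.scRaw C K, L := L, hL := hL, π := π, surj := hπs, central := hπc }
  have hG : Good S :=
    ⟨StCover.closure_scGen (D := D) (K := K), hperf, fun r t hr => StCover.scGen_oob (D := D) (K := K) hr t⟩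
  obtain ⟨f, h0, h1, hoob, h2⟩ := h P S hG hker
  obtain ⟨τ, hτ⟩ := exists_split π h0 h1 hoob h2
  refine ⟨((MonoidHom.fst _ _).comp P.subtype).comp τ, ?_, fun τ' hτ' => ?_⟩
  · refine MonoidHom.ext fun x => ?_
    show π₁ (τ x : E × D.SteinbergCover K).1 = σ x
    rw [hmem]
    exact congrArg σ (DFunLike.congr_fun hτ x)
  · refine lift_unique hperf π₁ hc _ _ ?_
    rw [hτ']
    refine MonoidHom.ext fun x => ?_
    show σ x = π₁ (τ x : E × D.SteinbergCover K).1
    rw [hmem]
    exact (congrArg σ (DFunLike.congr_fun hτ x)).symm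

end CfsgLib.Known.Univ
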