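import Cfsg.Agent.Lib.Known.UnivLift

/-!
# Lifting for the seven tabulated data
-/

set_option autoImplicit false

namespace CfsgLib.Known.Univ

open Cfsg.Lie
open CfsgLib.Lie.Chev
open CfsgLib.Known

variable {K : Type*} [Field K] {G₁ E : Type*} [Group G₁] [Group E]

theorem laced_case {D : ChevalleyDatum} {X : Aux} {W : LacedCert} (hW : chkLaced D X W = true)
    {Q : ∀ {P : Subgroup (E × D.SteinbergCover K)}, CentExt D X K (D.SteinbergCover K) P → Prop} :
    ∀ (P : Subgroup (E × D.SteinbergCover K)) (S : CentExt D X K (D.SteinbergCover K) P), Good S → Q S →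
      ∃ f : ℕ → K → P, (∀ r, r < D.nroots → ∀ t, S.π (f r t) = S.R.xe r t) ∧
        (∀ r t u, r < D.nroots → f r t * f r u = f r (t + u)) ∧
        (∀ r t, ¬ r < D.nroots → f r t = 1) ∧
        ∀ r s t u, r < D.nroots → s < D.nroots → s ≠ r → s ≠ D.neg r →
          f s u * f r t = f r t * f s u * ((D.commWord K r s t u).map fun p => f p.1 p.2).prod :=
  fun _ S _ _ => exists_sections S hW

/-- large fields -/
theorem existsUnique_lift_large {s : Finset K} (hs : 4 < s.card) {D : ChevalleyDatum}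
    (hD : D ∈ [chevG2, chevB2, chevD4, chevF4, chevE6, chevE7, chevE8]) (π₁ : E →* G₁)
    (hπ : Function.Surjective π₁) (hc : π₁.ker ≤ Subgroup.center E) (σ : D.SteinbergCover K →* G₁) :
    ∃! τ : D.SteinbergCover K →* E, π₁.comp τ = σ := by
  classical
  have hx : ∃ a : K, a ≠ 0 ∧ a ≠ 1 := by
    obtain ⟨a, -, ha⟩ := Finset.exists_mem_notMem_of_card_lt_card (s := ({0, 1} : Finset K)) (t := s)
      (Finset.card_le_two.trans_lt (by omega))
    exact ⟨a, fun h => ha (by simp [h]), fun h => ha (by simp [h])⟩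
  have hp := perfectData_of_mem hD K fun _ => hx
  simp only [List.mem_cons, List.not_mem_nil, or_false] at hD
  rcases hD with rfl | rfl | rfl | rfl | rfl | rfl | rfl
  · exact existsUnique_lift certG2 witG2 hp π₁ hπ hc σ fun P S hG _ => sections_large S ordG2 largeG2 hG hs
  · exact existsUnique_lift certB2 witB2 hp π₁ hπ hc σ fun P S hG _ => sections_large S ordB2 largeB2 hG hs
  · exact existsUnique_lift certD4 witD4 hp π₁ hπ hc σ fun P S hG _ => sections_large S ordD4 largeD4 hG hs
  · exact existsUnique_lift certF4 witF4 hp π₁ hπ hc σ fun P S hG _ => sections_large S ordF4 largeF4 hG hs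
  · exact existsUnique_lift certE6 witE6 hp π₁ hπ hc σ (laced_case lacedE6_ok)
  · exact existsUnique_lift certE7 witE7 hp π₁ hπ hc σ (laced_case lacedE7_ok)
  · exact existsUnique_lift certE8 witE8 hp π₁ hπ hc σ (laced_case lacedE8_ok)

/-- kernels without torsion at the characteristic -/
theorem existsUnique_lift_tors {D : ChevalleyDatum}
    (hD : D ∈ [chevG2, chevB2, chevD4, chevF4, chevE6, chevE7, chevE8])
    (hx : D = chevG2 ∨ D = chevB2 → ∃ a : K, a ≠ 0 ∧ a ≠ 1) (π₁ : E →* G₁)
    (hπ : Function.Surjective π₁) (hc : π₁.ker ≤ Subgroup.center E) {p : ℕ} (hp0 : (p : K) = 0)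
    (hA : ∀ a ∈ π₁.ker, a ^ p = 1 → a = 1) (σ : D.SteinbergCover K →* G₁) :
    ∃! τ : D.SteinbergCover K →* E, π₁.comp τ = σ := by
  have hp := perfectData_of_mem hD K hx
  have hno : ∀ {D : ChevalleyDatum} {X : Aux} (P : Subgroup (E × D.SteinbergCover K))
      (S : CentExt D X K (D.SteinbergCover K) P),
      (∀ a ∈ S.π.ker, π₁ (a : E × D.SteinbergCover K).1 = 1 ∧ (a : E × D.SteinbergCover K).2 = 1) → NoTors S := by
    intro D X P S hker
    refine ⟨p, hp0, fun a ha hap => ?_⟩
    obtain ⟨h1, h2⟩ := hker a ha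
    have h3 : (a : E × D.SteinbergCover K).1 ^ p = 1 := congrArg Prod.fst (congrArg Subtype.val hap)
    exact Subtype.ext (Prod.ext (hA _ h1 h3) h2)
  simp only [List.mem_cons, List.not_mem_nil, or_false] at hD
  rcases hD with rfl | rfl | rfl | rfl | rfl | rfl | rfl
  · exact existsUnique_lift certG2 witG2 hp π₁ hπ hc σ fun P S hG hk =>
      sections_tors S ordG2 torsG2 hG (hno P S hk) (Or.inr (hx (Or.inl rfl)))
  · exact existsUnique_lift certB2 witB2 hp π₁ hπ hc σ fun P S hG hk =>
      sections_tors S ordB2 torsB2 hG (hno P S hk) (Or.inr (hx (Or.inr rfl)))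
  · exact existsUnique_lift certD4 witD4 hp π₁ hπ hc σ fun P S hG hk =>
      sections_tors S ordD4 torsD4 hG (hno P S hk) (Or.inl fun r hr => List.all_eq_true.1 decoD4 r (List.mem_range.2 hr))
  · exact existsUnique_lift certF4 witF4 hp π₁ hπ hc σ fun P S hG hk =>
      sections_tors S ordF4 torsF4 hG (hno P S hk) (Or.inl fun r hr => List.all_eq_true.1 decoF4 r (List.mem_range.2 hr))
  · exact existsUnique_lift certE6 witE6 hp π₁ hπ hc σ (laced_case lacedE6_ok)
  · exact existsUnique_lift certE7 witE7 hp π₁ hπ hc σ (laced_case lacedE7_ok)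
  · exact existsUnique_lift certE8 witE8 hp π₁ hπ hc σ (laced_case lacedE8_ok)

end CfsgLib.Known.Univ
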