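import Cfsg.Agent.Lib.Known.UnivChk
import Cfsg.Agent.Lib.Known.UnivLacedData

/-!
# Universality data for types G2, B2, D4, F4
-/

set_option autoImplicit false

namespace CfsgLib.Known.Univ

open Cfsg.Lie
open CfsgLib.Lie.Chev
open CfsgLib.Known

universe u

/-- exponents nontrivial on a cyclic group of order `k` -/
def okMod (k : ℕ) (n : ℤ) : Bool := decide (n % (k : ℤ) ≠ 0)

/-- check for the field with `k + 1` elements -/
def chkField (D : ChevalleyDatum) (k : ℕ) (cs : ℤ → Bool) : Bool :=
  chkKill D (okMod k) cs && (List.range D.nroots).all fun r =>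
    expB D (okMod k) r && decoB D cs r r

theorem ordG2 : chkOrder chevG2 auxG2 = true := by decide +kernel
theorem largeG2 : chkLarge chevG2 = true := by decide +kernel
theorem ordB2 : chkOrder chevB2 auxB2 = true := by decide +kernel
theorem largeB2 : chkLarge chevB2 = true := by decide +kernel
theorem ordD4 : chkOrder chevD4 auxD4 = true := by decide +kernel
theorem largeD4 : chkLarge chevD4 = true := by decide +kernel
theorem ordF4 : chkOrder chevF4 auxF4 = true := by decide +kernel
theorem largeF4 : chkLarge chevF4 = true := by decide +kernel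
theorem torsG2 : chkTors chevG2 = true := by decide +kernel
theorem torsB2 : chkTors chevB2 = true := by decide +kernel
theorem torsD4 : chkTors chevD4 = true := by decide +kernel
theorem torsF4 : chkTors chevF4 = true := by decide +kernel
theorem decoD4 : ((List.range chevD4.nroots).all fun r => decoB chevD4 csOne r r) = true := by decide +kernel
theorem decoF4 : ((List.range chevF4.nroots).all fun r => decoB chevF4 csOne r r) = true := by decide +kernel
theorem fourF4 : chkField chevF4 3 csOne = true := by decide +kernel
theorem threeF4 : chkField chevF4 2 csTwo = true := by decide +kernel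
theorem fourD4 : chkField chevD4 3 csOne = true := by decide +kernel

variable {D : ChevalleyDatum} {X : Aux} {K : Type*} [Field K]
variable {G E : Type*} [Group G] [Group E] (S : CentExt D X K G E)

/-- a given small field -/
theorem sections_field [Fintype K] {k : ℕ} (hk : Fintype.card K = k + 1) {cs : ℤ → Bool}
    (hcs : ∀ C, cs C = true → (C : K) ≠ 0) (h1 : chkOrder D X = true) (h : chkField D k cs = true) (hG : Good S) :
    ∃ f : ℕ → K → E, (∀ r, r < D.nroots → ∀ t, S.π (f r t) = S.R.xe r t) ∧
      (∀ r t u, r < D.nroots → f r t * f r u = f r (t + u)) ∧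
      (∀ r t, ¬ r < D.nroots → f r t = 1) ∧
      ∀ r s t u, r < D.nroots → s < D.nroots → s ≠ r → s ≠ D.neg r →
        f s u * f r t = f r t * f s u * ((D.commWord K r s t u).map fun p => f p.1 p.2).prod := by
  simp only [chkField, Bool.and_eq_true, List.all_eq_true, List.mem_range] at h
  obtain ⟨h2, h3⟩ := h
  have hok : ∀ n, okMod k n = true → ∃ c : K, c ≠ 0 ∧ c ^ n ≠ 1 := fun n hn =>
    exists_zpow_ne_finite (by
      rw [hk, Nat.add_sub_cancel, Int.dvd_iff_emod_eq_zero]; exact of_decide_eq_true hn)
  refine sections_of S h1 (pairs_of_chk S hok hcs h2) fun r hr => ?_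
  obtain ⟨n, hn, hc⟩ := scales_of_expB S (h3 r hr).1
  obtain ⟨c, hc0, hc1⟩ := hok n hn
  obtain ⟨g, m, hg, em⟩ := hc c hc0
  exact exists_sect_torus hG hr (cm_of_decoB S hcs (h3 r hr).2) hg (em ▸ hc1)

/-- the cover is perfect and generated by root elements -/
theorem good_cover {K : Type u} [Field K] (C : Cert D X) {L : List (ℕ × ℕ × ℕ × List ℤ)}
    (hL : chkWits D X L = true) (hp : Rel.PerfectData D K) {E : Type u} [Group E]
    (S : CentExt D X K (D.SteinbergCover K) E) (hS : S.R.xe = D.scGen K) : Good S where
  gen := by rw [hS]; exact StCover.closure_scGen (D := D) (K := K)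
  perfect := StCover.commutator_eq_top C hL hp
  oob r t hr := by rw [hS]; exact StCover.scGen_oob (D := D) (K := K) hr t

theorem exists_ne_zero_one {K : Type u} [Field K] [Fintype K] (hK : 3 ≤ Fintype.card K) : ∃ a : K, a ≠ 0 ∧ a ≠ 1 := by
  classical
  obtain ⟨a, -, ha⟩ := Finset.exists_mem_notMem_of_card_lt_card (s := ({0, 1} : Finset K)) (t := Finset.univ)
    (Finset.card_le_two.trans_lt (by rw [Finset.card_univ]; omega))
  exact ⟨a, fun h => ha (by simp [h]), fun h => ha (by simp [h])⟩

theorem hasSections_G2 {K : Type u} [Field K] [Fintype K] (hK : 5 ≤ Fintype.card K) :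
    HasSections (X := auxG2) (D := chevG2) K := fun E _ S hS =>
  sections_large S ordG2 largeG2 (good_cover certG2 witG2 (perfectData_of_mem (by simp) K fun _ => exists_ne_zero_one (le_trans (by norm_num) hK)) S hS) (s := Finset.univ) hK

theorem hasSections_F4 {K : Type u} [Field K] [Fintype K] (hK : 3 ≤ Fintype.card K) :
    HasSections (X := auxF4) (D := chevF4) K := fun E _ S hS => by
  have hG := good_cover certF4 witF4 (perfectData_of_chk (by decide +kernel) K) S hS
  by_cases h5 : 5 ≤ Fintype.card K
  · exact sections_large S ordF4 largeF4 hG (s := Finset.univ) h5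
  rcases (show Fintype.card K = 2 + 1 ∨ Fintype.card K = 3 + 1 by omega) with h | h
  · have : (2 : K) ≠ 0 := fun e => by
      have h3 := Nat.cast_card_eq_zero (R := K)
      rw [h] at h3
      exact one_ne_zero (α := K) (by linear_combination h3 - e)
    exact sections_field S h (fun C hC => csTwo_ne this hC) ordF4 threeF4 hG
  · exact sections_field S h (fun C hC => csOne_ne hC) ordF4 fourF4 hG

end CfsgLib.Known.Univ
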