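import Cfsg.Agent.Lib.Known.UnivSpecial
import Cfsg.Agent.Lib.Known.UnivTorusData

/-!
# Universality in types B2 and D4 over small fields
-/

set_option autoImplicit false

namespace CfsgLib.Known.Univ

open Cfsg.Lie
open CfsgLib.Lie.Chev
open CfsgLib.Known

universe u

/-- certificate of sign cycles for D4 -/
def cycD4 : CycCert where
  roots := [(0, 5), (0, 10), (0, 11), (0, 12), (0, 13), (0, 18), (1, 15), (1, 16), (1, 19), (2, 17), (2, 20), (3, 17), (3, 21), (4, 22), (5, 23), (6, 20), (6, 21), (7, 22), (8, 22), (10, 23), (11, 23), (12, 23), (13, 23), (18, 23)]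
  tree :=
    [(1, 4, 9, 5, 0), (2, 3, 8, 5, 0), (1, 7, 9, 10, 0), (2, 6, 8, 10, 0), (1, 8, 9, 11, 0), (3, 6, 7, 11, 0),
      (2, 9, 8, 12, 0), (4, 7, 6, 12, 0), (3, 9, 7, 13, 0), (4, 8, 6, 13, 0), (6, 9, 4, 18, 0), (7, 8, 3, 18, 0),
      (2, 14, 11, 15, 1), (5, 10, 6, 15, 1), (3, 14, 10, 16, 1), (5, 11, 6, 16, 1), (6, 14, 5, 19, 1), (10, 11, 3, 19, 1),
      (4, 15, 10, 17, 2), (5, 12, 7, 17, 2), (7, 15, 5, 20, 2), (10, 12, 4, 20, 2), (4, 16, 11, 17, 3), (5, 13, 8, 17, 3),
      (8, 16, 5, 21, 3), (11, 13, 4, 21, 3), (9, 17, 5, 22, 4), (12, 13, 3, 22, 4), (14, 17, 4, 23, 5), (15, 16, 3, 23, 5),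
      (7, 19, 11, 20, 6), (10, 18, 8, 20, 6), (8, 19, 10, 21, 6), (11, 18, 7, 21, 6), (9, 20, 10, 22, 7), (12, 18, 6, 22, 7),
      (9, 21, 11, 22, 8), (13, 18, 6, 22, 8), (14, 20, 7, 23, 10), (15, 19, 6, 23, 10), (14, 21, 8, 23, 11), (16, 19, 6, 23, 11),
      (15, 22, 9, 23, 12), (17, 20, 7, 23, 12), (16, 22, 9, 23, 13), (17, 21, 8, 23, 13), (19, 22, 9, 23, 18), (20, 21, 8, 23, 18)]
  confl := [(0, 5, 16, 2, 3), (0, 10, 19, 2, 6), (0, 11, 19, 3, 6), (0, 12, 20, 4, 7), (0, 13, 21, 4, 8), (0, 18, 21, 7, 8), (1, 15, 20, 5, 10), (1, 16, 21, 5, 11), (1, 19, 21, 10, 11), (2, 17, 22, 5, 12), (2, 20, 22, 10, 12), (3, 17, 22, 5, 13), (3, 21, 22, 11, 13), (4, 22, 21, 12, 13), (5, 23, 21, 15, 16), (6, 20, 22, 10, 18), (6, 21, 22, 11, 18), (7, 22, 21, 12, 18), (8, 22, 20, 13, 18), (10, 23, 21, 15, 19), (11, 23, 20, 16, 19), (12, 23, 19, 17, 20), (13, 23, 19, 17, 21), (18, 23, 16, 20, 21)]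

theorem cycD4_ok : chkCyc chevD4 cycD4 (okMod 2) = true := by decide +kernel
theorem threeD4 : ((List.range chevD4.nroots).all fun r => expB chevD4 (okMod 2) r) = true := by decide +kernel
theorem threeB2 : chkThree chevB2 auxB2 (okMod 2) = true := by decide +kernel
theorem fourB2 : chkFour chevB2 auxB2 (okMod 3) = true := by decide +kernel

theorem exists_nat_of_card_three {K : Type u} [Field K] [Fintype K] (hK : Fintype.card K = 3) :
    (3 : K) = 0 ∧ (2 : K) ≠ 0 ∧ ∀ x : K, ∃ n : ℕ, x = n := by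
  classical
  have h3 : (3 : K) = 0 := by
    have := Nat.cast_card_eq_zero (R := K); rw [hK] at this; exact_mod_cast this
  have h2 : (2 : K) ≠ 0 := fun h => one_ne_zero (α := K) (by linear_combination h3 - h)
  refine ⟨h3, h2, fun x => ?_⟩
  have h : ({0, 1, 2} : Finset K) = Finset.univ := Finset.eq_univ_of_card _ (by
    rw [hK, Finset.card_insert_of_notMem, Finset.card_insert_of_notMem, Finset.card_singleton]
    · simp only [Finset.mem_singleton]; exact fun h => h2 (by linear_combination -2 * h)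
    · simp only [Finset.mem_insert, Finset.mem_singleton, not_or]
      exact ⟨zero_ne_one, h2.symm⟩)
  have hx := Finset.mem_univ x
  rw [← h] at hx
  simp only [Finset.mem_insert, Finset.mem_singleton] at hx
  rcases hx with rfl | rfl | rfl
  · exact ⟨0, by simp⟩
  · exact ⟨1, by simp⟩
  · exact ⟨2, by simp⟩

theorem okMod_spec {K : Type u} [Field K] [Fintype K] {k : ℕ} (hk : Fintype.card K = k + 1) :
    ∀ n, okMod k n = true → ∃ c : K, c ≠ 0 ∧ c ^ n ≠ 1 := fun n hn =>
  exists_zpow_ne_finite (by rw [hk, Nat.add_sub_cancel, Int.dvd_iff_emod_eq_zero]; exact of_decide_eq_true hn)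

theorem hasSections_D4 {K : Type u} [Field K] [Fintype K] (hK : 3 ≤ Fintype.card K) :
    HasSections (X := auxD4) (D := chevD4) K := fun E _ S hS => by
  have hG := good_cover certD4 witD4 (perfectData_of_chk (by decide +kernel) K) S hS
  by_cases h5 : 5 ≤ Fintype.card K
  · exact sections_large S ordD4 largeD4 hG (s := Finset.univ) h5
  rcases (show Fintype.card K = 2 + 1 ∨ Fintype.card K = 3 + 1 by omega) with h | h
  · obtain ⟨h3, -, hn⟩ := exists_nat_of_card_three h
    have hok := okMod_spec h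
    refine sections_of S ordD4 (pairs_of_cyc S hok h3 hn cycD4_ok) fun r hr => ?_
    obtain ⟨n, hn', hc⟩ := scales_of_expB S (List.all_eq_true.1 threeD4 r (List.mem_range.2 hr))
    obtain ⟨c, hc0, hc1⟩ := hok n hn'
    obtain ⟨g, m, hg, em⟩ := hc c hc0
    exact exists_sect_torus hG hr (cm_self_prime S hr hn) hg (em ▸ hc1)
  · exact sections_field S h (fun C hC => csOne_ne hC) ordD4 fourD4 hG

theorem hasSections_B2 {K : Type u} [Field K] [Fintype K] (hK : 3 ≤ Fintype.card K) :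
    HasSections (X := auxB2) (D := chevB2) K := fun E _ S hS => by
  have hG := good_cover certB2 witB2 (perfectData_of_mem (by simp) K fun _ => exists_ne_zero_one hK) S hS
  by_cases h5 : 5 ≤ Fintype.card K
  · exact sections_large S ordB2 largeB2 hG (s := Finset.univ) h5
  rcases (show Fintype.card K = 2 + 1 ∨ Fintype.card K = 3 + 1 by omega) with h | h
  · obtain ⟨-, h2, hn⟩ := exists_nat_of_card_three h
    exact sections_three S h2 hn (okMod_spec h) threeB2 hG
  · have h2 : (2 : K) = 0 := by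
      have h4 := Nat.cast_card_eq_zero (R := K)
      rw [h] at h4
      exact mul_self_eq_zero.1 (show (2 : K) * 2 = 0 by norm_num at h4 ⊢; exact h4)
    exact sections_four S h2 (okMod_spec h) fourB2 hG

end CfsgLib.Known.Univ
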