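import Cfsg.Agent.Lib.Known.UnivCycles

/-!
# Universality over the fields with three and four elements in type B2
-/

set_option autoImplicit false

namespace CfsgLib.Known.Univ

open Cfsg.Lie (ChevalleyDatum)
open CfsgLib.Lie.Chev
open scoped commutatorElement

/-- root elements commute in characteristic two -/
def evenPair (D : ChevalleyDatum) (a b : ℕ) : Bool :=
  commPair D a b || (okPair D a b && (D.commTerms a b).all fun c => decide (c.2.1 % 2 = 0))

/-- lifts commute in characteristic two by the torus -/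
def evenKill (D : ChevalleyDatum) (ok : ℤ → Bool) (a b : ℕ) : Bool :=
  evenPair D a b && (killB D ok a b || killB D ok b a)

/-- `r` occurs in a two-term commutator of roots commuting with it -/
def twoB (D : ChevalleyDatum) (ok : ℤ → Bool) (r : ℕ) : Bool :=
  (List.range D.nroots).any fun p => evenKill D ok r p && (List.range D.nroots).any fun q =>
    evenKill D ok r q && okPair D p q && match D.commTerms p q with
      | [(k1, C1, _, 1), (k2, C2, _, 1)] => csOne C1 && csOne C2 &&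
          ((Nat.beq k1 r && evenKill D ok r k2) || (Nat.beq k2 r && evenKill D ok r k1))
      | _ => false

/-- `s = [a, b]` with `r` commuting with `a` and moving `b` by elements commuting with `a` -/
def shiftB (D : ChevalleyDatum) (ok : ℤ → Bool) (r s : ℕ) : Bool :=
  (List.range D.nroots).any fun a => commPair D r a && (partners D s a).any fun b =>
    okPair D a b && okPair D r b && (match D.commTerms a b with
      | [(u, C, 1, 1)] => Nat.beq u s && csTwo C
      | _ => false) &&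
    (termRoots D r b).all fun k => commPair D k a && (Nat.beq k a || killB D ok k a || killB D ok a k)

/-- the chosen decomposition of a root -/
def decPick (D : ChevalleyDatum) (k : ℕ) : ℕ × ℕ :=
  (((List.range D.nroots).flatMap fun a => (partners D k a).map fun b => (a, b)).filter fun p =>
    okPair D p.1 p.2 && commPair D k p.1 && commPair D k p.2 && (match D.commTerms p.1 p.2 with
      | [(u, C, 1, 1)] => Nat.beq u k && csTwo C
      | _ => false)).headD (0, 0)

/-- properties of the chosen decomposition -/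
def pickOK (D : ChevalleyDatum) (ok : ℤ → Bool) (k : ℕ) : Bool :=
  let p := decPick D k
  okPair D p.1 p.2 && commPair D k p.1 && commPair D k p.2 && (killB D ok k p.1 || killB D ok p.1 k) &&
    (killB D ok k p.2 || killB D ok p.2 k) && match D.commTerms p.1 p.2 with
      | [(u, C, 1, 1)] => Nat.beq u k && csTwo C
      | _ => false

/-- one term whose root has no torus section and whose section uses this pair -/
def tiedB (D : ChevalleyDatum) (ok : ℤ → Bool) (r s : ℕ) : Bool :=
  match D.commTerms r s with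
  | [(k, _, _, _)] => !expB D ok k &&
      ((Nat.beq (decPick D k).1 r && Nat.beq (decPick D k).2 s) ||
        (Nat.beq (decPick D k).1 s && Nat.beq (decPick D k).2 r && (termRoots D s r).all fun x => Nat.beq x k))
  | _ => false

/-- the field with three elements -/
def chkThree (D : ChevalleyDatum) (X : Aux) (ok : ℤ → Bool) : Bool :=
  chkOrder D X &&
  ((List.range D.nroots).all fun r => expB D ok r || pickOK D ok r) &&
  (List.range D.nroots).all fun r => (List.range D.nroots).all fun s =>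
    Nat.beq s r || Nat.beq s (D.neg r) || killB D ok r s || killB D ok s r ||
      ((D.commTerms r s).isEmpty && shiftB D ok r s) || tiedB D ok r s

/-- the field with four elements -/
def chkFour (D : ChevalleyDatum) (X : Aux) (ok : ℤ → Bool) : Bool :=
  chkOrder D X && chkKill D ok okNone && (List.range D.nroots).all fun r => expB D ok r && twoB D ok r

variable {D : ChevalleyDatum} {X : Aux} {K : Type*} [Field K]
variable {G E : Type*} [Group G] [Group E] (S : CentExt D X K G E)

theorem okPair_spec {a b : ℕ} (h : okPair D a b = true) :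
    a < D.nroots ∧ b < D.nroots ∧ b ≠ a ∧ b ≠ D.neg a := by
  simp only [okPair, Bool.and_eq_true, nat_blt_iff, Bool.not_eq_true'] at h
  obtain ⟨⟨⟨h1, h2⟩, h3⟩, h4⟩ := h
  rw [← Bool.not_eq_true, nat_beq_iff] at h3 h4
  exact ⟨h1, h2, h3, h4⟩

theorem comm2_of_even (h2 : (2 : K) = 0) {a b : ℕ} (h : evenPair D a b = true) :
    a < D.nroots ∧ b < D.nroots ∧ Comm2 S a b := by
  simp only [evenPair, Bool.or_eq_true, Bool.and_eq_true, List.all_eq_true, decide_eq_true_iff] at h
  rcases h with h | ⟨h, hev⟩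
  · exact ⟨(commPair_spec h).1, (commPair_spec h).2.1, comm2_of_commPair S h⟩
  obtain ⟨ha, hb, h1, h2'⟩ := okPair_spec h
  refine ⟨ha, hb, fun t u => ?_⟩
  have e := S.R.xe_comm a b t u ha hb h1 h2'
  rw [List.prod_eq_one fun x hx => ?_, mul_one] at e
  · exact e.symm
  · simp only [ChevalleyDatum.commWord, List.map_map, List.mem_map, Function.comp_apply] at hx
    obtain ⟨c, hc, rfl⟩ := hx
    obtain ⟨m, hm⟩ := Int.dvd_of_emod_eq_zero (hev c hc)
    rw [hm, Int.cast_mul, Int.cast_ofNat, h2, zero_mul, zero_mul, zero_mul]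
    exact RawRel.xe_zero S.R ⟨c.1, (S.R.cert.commTerms_props ha hb c hc).1⟩

theorem cm_of_evenKill (h2 : (2 : K) = 0) {ok : ℤ → Bool} (hok : ∀ n, ok n = true → ∃ c : K, c ≠ 0 ∧ c ^ n ≠ 1)
    {a b : ℕ} (h : evenKill D ok a b = true) : ∀ t u, cm S a b t u = 1 := by
  simp only [evenKill, Bool.and_eq_true, Bool.or_eq_true] at h
  obtain ⟨h1, h3⟩ := h
  obtain ⟨ha, hb, hc⟩ := comm2_of_even S h2 h1
  rcases h3 with h3 | h3
  · exact cm_of_kill S ha hb hc (kill_of_killB S hok h3)
  · exact cm_of_kill' S ha hb hc (kill_of_killB S hok h3)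

theorem cm_self_of_twoB (h2 : (2 : K) = 0) {ok : ℤ → Bool} (hok : ∀ n, ok n = true → ∃ c : K, c ≠ 0 ∧ c ^ n ≠ 1)
    {r : ℕ} (h : twoB D ok r = true) (t u : K) : cm S r r t u = 1 := by
  simp only [twoB, List.any_eq_true, List.mem_range, Bool.and_eq_true] at h
  obtain ⟨p, -, hrp, q, -, ⟨hrq, hpq⟩, hm⟩ := h
  obtain ⟨hp, hq, h1, h1'⟩ := okPair_spec hpq
  split at hm
  swap
  · exact absurd hm Bool.false_ne_true
  next k1 C1 i1 k2 C2 i2 e =>
  simp only [Bool.and_eq_true, Bool.or_eq_true, nat_beq_iff] at hm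
  obtain ⟨⟨hC1, hC2⟩, hk⟩ := hm
  obtain ⟨y, hy⟩ : ∃ y, y = lf S r t := ⟨_, rfl⟩
  have hyπ : S.π y = S.R.xe r t := hy ▸ π_lf S r t
  have hcp := fun {a : ℕ} (h : evenKill D ok r a = true) {x : E} {w : K} (hx : S.π x = S.R.xe a w) =>
    lifts_commute S (cm_of_evenKill S h2 hok h) hyπ hx
  have hall : ∀ v : K, Commute y (lf S k1 ((C1 : K) * v) * lf S k2 ((C2 : K) * v)) := by
    intro v
    have e' := S.R.xe_comm p q (-1) v hp hq h1 h1'
    rw [ChevalleyDatum.commWord, e] at e'
    simp only [List.map_cons, List.map_nil, List.prod_cons, List.prod_nil, mul_one, pow_one, neg_neg, one_pow] at e'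
    obtain ⟨Z, hZ⟩ : ∃ Z, Z = (lf S q v)⁻¹ * (lf S p (-1))⁻¹ * (lf S q v * lf S p (-1)) := ⟨_, rfl⟩
    have hZc : Commute y Z := by
      have a := hcp hrp (π_lf S p (-1))
      have b := hcp hrq (π_lf S q v)
      rw [hZ]
      exact ((b.inv_right.mul_right a.inv_right).mul_right (b.mul_right a))
    have hπ : S.π Z = S.π (lf S k1 ((C1 : K) * v) * lf S k2 ((C2 : K) * v)) := by
      rw [hZ]
      simp only [map_mul, map_inv, π_lf, e']
      group
    rw [← commutatorElement_eq_one_iff_commute] at hZc ⊢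
    rwa [← comm_congr S (rfl : S.π y = S.π y) hπ]
  rcases hk with ⟨hk, h'⟩ | ⟨hk, h'⟩
  · subst hk
    have h3 := hall (u / (C1 : K))
    rw [mul_div_cancel₀ _ (csOne_ne hC1)] at h3
    have h4 := h3.mul_right (hcp h' (π_lf S k2 ((C2 : K) * (u / (C1 : K))))).inv_right
    rw [mul_inv_cancel_right] at h4
    rw [← cm_eq S hyπ (π_lf S k1 u)]
    exact commutatorElement_eq_one_iff_commute.2 h4
  · subst hk
    have h3 := hall (u / (C2 : K))
    rw [mul_div_cancel₀ _ (csOne_ne hC2)] at h3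
    have h4 := (hcp h' (π_lf S k1 ((C1 : K) * (u / (C2 : K))))).inv_right.mul_right h3
    rw [inv_mul_cancel_left] at h4
    rw [← cm_eq S hyπ (π_lf S k2 u)]
    exact commutatorElement_eq_one_iff_commute.2 h4

theorem cm_of_shiftB (h2 : (2 : K) ≠ 0) (hK : ∀ x : K, ∃ n : ℕ, x = n) {ok : ℤ → Bool}
    (hok : ∀ n, ok n = true → ∃ c : K, c ≠ 0 ∧ c ^ n ≠ 1) {r s : ℕ} (h : shiftB D ok r s = true) (t u : K) :
    cm S r s t u = 1 := by
  simp only [shiftB, List.any_eq_true, List.mem_range, Bool.and_eq_true, List.all_eq_true] at h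
  obtain ⟨a, -, hra, b, -, ⟨⟨hab, hrb⟩, hm⟩, hterms⟩ := h
  obtain ⟨ha, hb, h1, h1'⟩ := okPair_spec hab
  obtain ⟨hr, -, hrb1, hrb2⟩ := okPair_spec hrb
  split at hm
  swap
  · exact absurd hm Bool.false_ne_true
  next k C e =>
  rw [Bool.and_eq_true, nat_beq_iff] at hm
  obtain ⟨rfl, hC⟩ := hm
  obtain ⟨A', hA⟩ : ∃ A', A' = lf S a (-(-1)) := ⟨_, rfl⟩
  obtain ⟨B', hB⟩ : ∃ B', B' = lf S b (-(u / (C : K))) := ⟨_, rfl⟩
  have hZ : S.π ⁅B', A'⁆ = S.R.xe k u := by
    have := π_cm_single S ha hb h1 h1' e (-1) (u / (C : K))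
    rw [neg_neg, mul_one, mul_div_cancel₀ _ (csTwo_ne h2 hC)] at this
    rw [hA, hB, neg_neg]; exact this
  obtain ⟨y, hy⟩ : ∃ y, y = lf S r t := ⟨_, rfl⟩
  obtain ⟨W, hW⟩ : ∃ W : E, W = ((D.commWord K r b (-t) (-(u / (C : K)))).map fun p => lf S p.1 p.2).prod :=
    ⟨_, rfl⟩
  have hWA : Commute W A' := by
    rw [hW]
    refine Commute.list_prod_left _ _ fun x hx => ?_
    simp only [ChevalleyDatum.commWord, List.map_map, List.mem_map, Function.comp_apply] at hx
    obtain ⟨c, hc, rfl⟩ := hx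
    have hk := hterms c.1 (List.mem_map.2 ⟨c, hc, rfl⟩)
    simp only [Bool.or_eq_true, nat_beq_iff] at hk
    obtain ⟨hk, hk'⟩ := hk
    obtain ⟨hk1, -, -, -⟩ := commPair_spec hk
    refine lifts_commute S (?_ : ∀ t u, cm S c.1 a t u = 1) (π_lf S _ _) (hA ▸ π_lf S a _)
    rcases hk' with (hk' | hk') | hk'
    · rw [hk']; exact cm_self_prime S ha hK
    · exact cm_of_kill S hk1 ha (comm2_of_commPair S hk) (kill_of_killB S hok hk')
    · exact cm_of_kill' S hk1 ha (comm2_of_commPair S hk) (kill_of_killB S hok hk')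
  have hBc : S.π (y * B' * y⁻¹) = S.π (B' * W) := by
    have e' := S.R.xe_comm r b (-t) (-(u / (C : K))) hr hb hrb1 hrb2
    have hπW : S.π W = ((D.commWord K r b (-t) (-(u / (C : K)))).map fun p => S.R.xe p.1 p.2).prod := by
      rw [hW, map_list_prod, List.map_map]
      exact congrArg List.prod (List.map_congr_left fun p _ => π_lf S p.1 p.2)
    rw [S.R.xe_neg ⟨r, hr⟩] at e'
    rw [map_mul, map_mul, map_inv, map_mul, hπW, hy, hB, π_lf, π_lf, mul_assoc, e']
    group
  have hAc : S.π (y * A' * y⁻¹) = S.π A' := by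
    rw [map_mul, map_mul, map_inv, hy, hA, π_lf, π_lf, (comm2_of_commPair S hra t _).eq, mul_inv_cancel_right]
  have h' : y * ⁅B', A'⁆ * y⁻¹ = ⁅B', A'⁆ := by
    rw [show y * ⁅B', A'⁆ * y⁻¹ = ⁅y * B' * y⁻¹, y * A' * y⁻¹⁆ by simp only [commutatorElement_def]; group,
      comm_congr S hBc hAc,
      show ⁅B' * W, A'⁆ = B' * ⁅W, A'⁆ * B'⁻¹ * ⁅B', A'⁆ by simp only [commutatorElement_def]; group,
      commutatorElement_eq_one_iff_commute.2 hWA, mul_one, mul_inv_cancel, one_mul]
  rw [← cm_eq S (hy ▸ π_lf S r t) hZ, commutatorElement_def, h', mul_inv_cancel]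

/-- properties of a section from a decomposition over the prime field -/
theorem exists_sect_pick (h2 : (2 : K) ≠ 0) (hK : ∀ x : K, ∃ n : ℕ, x = n) {ok : ℤ → Bool}
    (hok : ∀ n, ok n = true → ∃ c : K, c ≠ 0 ∧ c ^ n ≠ 1) {k : ℕ} (h : pickOK D ok k = true) :
    ∃ φ, IsSect S k φ ∧ ∀ t u, ∃ w, cm S (decPick D k).2 (decPick D k).1 t u = φ w := by
  unfold pickOK at h
  obtain ⟨⟨a, b⟩, hp⟩ : ∃ p, decPick D k = p := ⟨_, rfl⟩
  simp only [hp, Bool.and_eq_true, Bool.or_eq_true] at h
  obtain ⟨⟨⟨⟨⟨hab, hka⟩, hkb⟩, hla⟩, hlb⟩, hm⟩ := h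
  rw [hp]
  show ∃ φ, IsSect S k φ ∧ ∀ t u, ∃ w, cm S b a t u = φ w
  obtain ⟨ha, hb, h1, h1'⟩ := okPair_spec hab
  obtain ⟨hk, -, -, -⟩ := commPair_spec hka
  split at hm
  swap
  · exact absurd hm Bool.false_ne_true
  next k' C e =>
  rw [Bool.and_eq_true, nat_beq_iff] at hm
  obtain ⟨rfl, hC⟩ := hm
  have hC0 := csTwo_ne h2 hC
  have hca : ∀ t u, cm S k' a t u = 1 := by
    rcases hla with h | h
    · exact cm_of_kill S hk ha (comm2_of_commPair S hka) (kill_of_killB S hok h)
    · exact cm_of_kill' S hk ha (comm2_of_commPair S hka) (kill_of_killB S hok h)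
  have hcb : ∀ t u, cm S k' b t u = 1 := by
    rcases hlb with h | h
    · exact cm_of_kill S hk hb (comm2_of_commPair S hkb) (kill_of_killB S hok h)
    · exact cm_of_kill' S hk hb (comm2_of_commPair S hkb) (kill_of_killB S hok h)
  have hπ : ∀ x y, S.π (cm S b a x y) = S.R.xe k' ((C : K) * -(x * y)) := fun x y => by
    have := π_cm_single S ha hb h1 h1' e (-y) (-x)
    rw [neg_neg, neg_neg] at this
    rw [this]; congr 1; ring
  have hl : ∀ x x' y, cm S b a x' y * cm S b a x y = cm S b a (x + x') y := by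
    intro x x' y
    rw [← cm_eq S (t := x + x') (u := y) (a := lf S b x * lf S b x') (b := lf S a y)
      (by rw [map_mul, π_lf, π_lf, S.R.xe_add b _ _ hb]) (π_lf S a y)]
    have hc := lifts_commute S hcb (hπ x' y) (π_lf S b x)
    rw [show ⁅lf S b x * lf S b x', lf S a y⁆ = lf S b x * cm S b a x' y * (lf S b x)⁻¹ * cm S b a x y by
      simp only [cm, commutatorElement_def]; group, hc.symm.eq, mul_inv_cancel_right]
  have hr : ∀ x y y', cm S b a x y * cm S b a x y' = cm S b a x (y + y') := by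
    intro x y y'
    rw [← cm_eq S (t := x) (u := y + y') (a := lf S b x) (b := lf S a y * lf S a y') (π_lf S b x)
      (by rw [map_mul, π_lf, π_lf, S.R.xe_add a _ _ ha])]
    have hc := lifts_commute S hca (hπ x y') (π_lf S a y)
    rw [show ⁅lf S b x, lf S a y * lf S a y'⁆ = cm S b a x y * (lf S a y * cm S b a x y' * (lf S a y)⁻¹) by
      simp only [cm, commutatorElement_def]; group, hc.symm.eq, mul_inv_cancel_right]
  obtain ⟨φ, hφ⟩ : ∃ φ : K → E, φ = fun v => cm S b a (-(v / (C : K))) 1 := ⟨_, rfl⟩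
  have hprod : ∀ x y, cm S b a x y = cm S b a (x * y) 1 := by
    intro x y
    obtain ⟨n, rfl⟩ := hK y
    have e1 := add_map_nsmul (φ := fun y => cm S b a x y) (hr x) 1 n
    have hflip : ∀ u u', (fun x => cm S b a x 1) u * (fun x => cm S b a x 1) u' =
        (fun x => cm S b a x 1) (u + u') := fun u u' => by
      show cm S b a u 1 * cm S b a u' 1 = cm S b a (u + u') 1
      rw [hl u' u, add_comm]
    have e2 := add_map_nsmul (φ := fun x => cm S b a x 1) hflip x n
    rw [mul_one] at e1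
    rw [e1, mul_comm x (n : K)]
    exact e2.symm
  have hlift : ∀ v, S.π (φ v) = S.R.xe k' v := fun v => by
    rw [hφ, hπ, mul_one, neg_neg, mul_div_cancel₀ _ hC0]
  refine ⟨φ, ⟨hlift, fun v w => ?_, fun g m hg v => ?_⟩, fun x y => ⟨-((C : K) * (x * y)), ?_⟩⟩
  · rw [hφ]
    show _ = cm S b a (-((v + w) / (C : K))) 1
    rw [hl, show -(w / (C : K)) + -(v / (C : K)) = -((v + w) / (C : K)) by ring]
  · obtain ⟨x, hx⟩ : ∃ x, x = -(v / (C : K)) := ⟨_, rfl⟩
    have e1 : g * φ v * g⁻¹ = φ (m a * m b * v) := by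
      rw [hφ]
      show g * cm S b a (-(v / (C : K))) 1 * g⁻¹ = cm S b a (-(m a * m b * v / (C : K))) 1
      rw [← hx]
      have hh : g * cm S b a x 1 * g⁻¹ = ⁅g * lf S b x * g⁻¹, g * lf S a 1 * g⁻¹⁆ := by
        simp only [cm, commutatorElement_def]; group
      rw [hh, cm_eq S (hg b hb _ _ (π_lf S b x)) (hg a ha _ _ (π_lf S a 1)), mul_one, hprod,
        hx]
      congr 1
      ring
    have e2 : S.R.xe k' (m a * m b * v) = S.R.xe k' (m k' * v) := by
      rw [← hlift, ← e1, hg k' hk v _ (hlift v)]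
    rw [e1, xe_inj S hk e2]
  · rw [hφ]
    show _ = cm S b a (-(-((C : K) * (x * y)) / (C : K))) 1
    rw [neg_div, neg_neg, mul_div_cancel_left₀ _ hC0, ← hprod]

/-- the field with four elements -/
theorem sections_four (h2 : (2 : K) = 0) {ok : ℤ → Bool} (hok : ∀ n, ok n = true → ∃ c : K, c ≠ 0 ∧ c ^ n ≠ 1)
    (h : chkFour D X ok = true) (hG : Good S) :
    ∃ f : ℕ → K → E, (∀ r, r < D.nroots → ∀ t, S.π (f r t) = S.R.xe r t) ∧
      (∀ r t u, r < D.nroots → f r t * f r u = f r (t + u)) ∧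
      (∀ r t, ¬ r < D.nroots → f r t = 1) ∧
      ∀ r s t u, r < D.nroots → s < D.nroots → s ≠ r → s ≠ D.neg r →
        f s u * f r t = f r t * f s u * ((D.commWord K r s t u).map fun p => f p.1 p.2).prod := by
  simp only [chkFour, Bool.and_eq_true, List.all_eq_true, List.mem_range] at h
  obtain ⟨⟨h1, hk⟩, h3⟩ := h
  refine sections_of S h1 (pairs_of_chk S hok (fun C hC => by simp [okNone] at hC) hk) fun r hr => ?_
  obtain ⟨n, hn, hc⟩ := scales_of_expB S (h3 r hr).1
  obtain ⟨c, hc0, hc1⟩ := hok n hn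
  obtain ⟨g, m, hg, em⟩ := hc c hc0
  exact exists_sect_torus hG hr (cm_self_of_twoB S h2 hok (h3 r hr).2) hg (em ▸ hc1)

/-- the field with three elements -/
theorem sections_three (h2 : (2 : K) ≠ 0) (hK : ∀ x : K, ∃ n : ℕ, x = n) {ok : ℤ → Bool}
    (hok : ∀ n, ok n = true → ∃ c : K, c ≠ 0 ∧ c ^ n ≠ 1) (h : chkThree D X ok = true) (hG : Good S) :
    ∃ f : ℕ → K → E, (∀ r, r < D.nroots → ∀ t, S.π (f r t) = S.R.xe r t) ∧
      (∀ r t u, r < D.nroots → f r t * f r u = f r (t + u)) ∧
      (∀ r t, ¬ r < D.nroots → f r t = 1) ∧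
      ∀ r s t u, r < D.nroots → s < D.nroots → s ≠ r → s ≠ D.neg r →
        f s u * f r t = f r t * f s u * ((D.commWord K r s t u).map fun p => f p.1 p.2).prod := by
  classical
  simp only [chkThree, Bool.and_eq_true, List.all_eq_true, List.mem_range, Bool.or_eq_true, nat_beq_iff,
    List.isEmpty_iff] at h
  obtain ⟨⟨h1, hs⟩, hp⟩ := h
  have hsect : ∀ r < D.nroots, ∃ φ, IsSect S r φ ∧ (expB D ok r = false →
      ∀ t u, ∃ w, cm S (decPick D r).2 (decPick D r).1 t u = φ w) := by
    intro r hr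
    cases he : expB D ok r with
    | true =>
      obtain ⟨n, hn, hc⟩ := scales_of_expB S he
      obtain ⟨c, hc0, hc1⟩ := hok n hn
      obtain ⟨g, m, hg, em⟩ := hc c hc0
      obtain ⟨φ, hφ⟩ := exists_sect_torus hG hr (cm_self_prime S hr hK) hg (em ▸ hc1)
      exact ⟨φ, hφ, fun h => absurd h (by simp)⟩
    | false =>
      obtain ⟨φ, hφ, h'⟩ := exists_sect_pick S h2 hK hok ((hs r hr).resolve_left (by simp [he]))
      exact ⟨φ, hφ, fun _ => h'⟩
  choose φ hφ hφ' using hsect
  let f : ℕ → K → E := fun r t => if h : r < D.nroots then φ r h t else 1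
  have hfr : ∀ r (hr : r < D.nroots), f r = φ r hr := fun r hr => funext fun t => dif_pos hr
  have hf : AllSect S f := ⟨fun r hr => by rw [hfr r hr]; exact hφ r hr, fun r t hr => dif_neg hr⟩
  refine ⟨f, fun r hr => (hf.sect r hr).lift, fun r t u hr => (hf.sect r hr).add t u, hf.oob,
    sections_rel_goal hf (pairOK_of_chk h1) fun r hr s hs' e1 e2 => ?_⟩
  rcases hp r hr s hs' with (((((h | h) | h) | h) | ⟨hnil, h⟩) | h)
  · exact absurd h e1
  · exact absurd h e2
  · exact Or.inl (Or.inl (kill_of_killB S hok h))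
  · exact Or.inl (Or.inr (kill_of_killB S hok h))
  · exact Or.inr (goal_of_cm hf hr hs' (cm_of_shiftB S h2 hK hok h))
  refine Or.inr ?_
  unfold tiedB at h
  split at h
  swap
  · exact absurd h Bool.false_ne_true
  next k C i j e =>
  simp only [Bool.and_eq_true, Bool.or_eq_true, Bool.not_eq_true', nat_beq_iff, List.all_eq_true] at h
  obtain ⟨hnexp, hh⟩ := h
  have hk : k < D.nroots := (S.R.cert.commTerms_props hr hs' (k, C, i, j) (by rw [e]; simp)).1
  have hmem : k ∈ termRoots D r s := List.mem_map.2 ⟨(k, C, i, j), by rw [e]; simp, rfl⟩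
  have key : ∀ t u, ∃ w, cm S (decPick D k).2 (decPick D k).1 t u = f k w := by
    rw [hfr k hk]; exact hφ' k hk hnexp
  have hg : ∀ a b, a < D.nroots → b < D.nroots → (decPick D k).1 = a → (decPick D k).2 = b →
      ∀ t u, (f a t * f b u)⁻¹ * (f b u * f a t) ∈ US f (termRoots D r s).toFinset := by
    intro a b ha hb hpa hpb t u
    obtain ⟨w, hw⟩ := key (-u) (-t)
    rw [hpa, hpb] at hw
    have e3 : (f a t * f b u)⁻¹ * (f b u * f a t) = ⁅(f b u)⁻¹, (f a t)⁻¹⁆ := by
      simp only [commutatorElement_def]; group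
    rw [e3, cm_eq S (r := b) (s := a) (t := -u) (u := -t)
      (by rw [map_inv, (hf.sect b hb).lift, S.R.xe_neg ⟨b, hb⟩])
      (by rw [map_inv, (hf.sect a ha).lift, S.R.xe_neg ⟨a, ha⟩]), hw]
    exact mem_US (List.mem_toFinset.2 hmem) w
  rcases hh with ⟨ha, hb⟩ | ⟨⟨ha, hb⟩, -⟩
  · exact hg r s hr hs' ha hb
  · intro t u
    have := inv_mem (hg s r hs' hr ha hb u t)
    rwa [mul_inv_rev, inv_inv] at this

end CfsgLib.Known.Univ
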