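import Cfsg.Agent.Lib.Known.UnivBasic

/-!
# Sections of central extensions through torus elements
-/

set_option autoImplicit false

namespace CfsgLib.Known.Univ

open Cfsg.Lie (ChevalleyDatum)
open CfsgLib.Lie.Chev
open scoped commutatorElement

variable {D : ChevalleyDatum} {X : Aux} {K : Type*} [Field K]
variable {G E : Type*} [Group G] [Group E] (S : CentExt D X K G E)

/-- the base group is perfect and generated by its root elements -/
structure Good : Prop where
  gen : Subgroup.closure {g | ∃ r t, g = S.R.xe r t} = ⊤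
  perfect : commutator G = ⊤
  oob : ∀ r t, ¬ r < D.nroots → S.R.xe r t = 1

/-- `g` multiplies the parameter of each root element by `m` -/
def Scales (g : E) (m : ℕ → K) : Prop :=
  ∀ r < D.nroots, ∀ t : K, ∀ a : E, S.π a = S.R.xe r t → S.π (g * a * g⁻¹) = S.R.xe r (m r * t)

/-- the kernel has no torsion at the characteristic -/
def NoTors : Prop := ∃ p : ℕ, (p : K) = 0 ∧ ∀ a ∈ S.π.ker, a ^ p = 1 → a = 1

/-- an additive family of central elements invariant under the torus stabilising `r` is trivial -/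
def Kill (r s : ℕ) : Prop :=
  ∀ φ : K → E, (∀ u u', φ u * φ u' = φ (u + u')) → (∀ u, φ u ∈ S.π.ker) →
    (∀ g m, Scales S g m → m r = 1 → ∀ u, φ (m s * u) = φ u) → ∀ u, φ u = 1

/-- root elements at `r` and `s` commute -/
def Comm2 (r s : ℕ) : Prop := ∀ t u, Commute (S.R.xe r t) (S.R.xe s u)

theorem add_map_zero {φ : K → E} (hφ : ∀ u u', φ u * φ u' = φ (u + u')) : φ 0 = 1 := by
  have := hφ 0 0
  rw [add_zero] at this
  exact mul_eq_left.1 this

theorem add_map_neg {φ : K → E} (hφ : ∀ u u', φ u * φ u' = φ (u + u')) (u : K) : φ (-u) = (φ u)⁻¹ := by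
  rw [eq_inv_iff_mul_eq_one, hφ, neg_add_cancel, add_map_zero hφ]

theorem add_map_nsmul {φ : K → E} (hφ : ∀ u u', φ u * φ u' = φ (u + u')) (u : K) (n : ℕ) :
    φ ((n : K) * u) = φ u ^ n := by
  induction n with
  | zero => simp [add_map_zero hφ]
  | succ n ih => rw [Nat.cast_succ, add_mul, one_mul, ← hφ, ih, pow_succ]

theorem kill_noTors (h : NoTors S) (r s : ℕ) : Kill S r s := by
  obtain ⟨p, hp, hA⟩ := h
  intro φ hφ hk _ u
  refine hA _ (hk u) ?_
  rw [← add_map_nsmul hφ, hp, zero_mul, add_map_zero hφ]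

theorem kill_torus {g : E} {m : ℕ → K} (hg : Scales S g m) {r s : ℕ} (hr : m r = 1) (hs : m s ≠ 1) :
    Kill S r s := by
  intro φ hφ _ hinv u
  have h1 : m s - 1 ≠ 0 := sub_ne_zero.2 hs
  have h2 := hinv g m hg hr (u / (m s - 1))
  have h3 := hφ u (u / (m s - 1))
  rw [show u + u / (m s - 1) = m s * (u / (m s - 1)) by field_simp; ring, h2] at h3
  exact mul_eq_right.1 h3

section Good

variable {S} (hG : Good S)
include hG

theorem mem_center_of_map {d : E} (hd : S.π d ∈ Subgroup.center G) : d ∈ Subgroup.center E := by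
  have hker : ∀ x, ⁅d, x⁆ ∈ S.π.ker := fun x => by
    rw [MonoidHom.mem_ker, map_commutatorElement, commutatorElement_eq_one_iff_mul_comm]
    exact (Subgroup.mem_center_iff.1 hd _).symm
  let f : G →* Subgroup.center E :=
    MonoidHom.mk' (fun x => ⟨⁅d, Function.surjInv S.surj x⁆, S.central (hker _)⟩) fun x y => Subtype.ext (by
      show ⁅d, Function.surjInv S.surj (x * y)⁆ = ⁅d, Function.surjInv S.surj x⁆ * ⁅d, Function.surjInv S.surj y⁆
      rw [comm_congr S (rfl : S.π d = S.π d) (b' := Function.surjInv S.surj x * Function.surjInv S.surj y)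
        (by rw [map_mul, Function.surjInv_eq S.surj, Function.surjInv_eq S.surj, Function.surjInv_eq S.surj])]
      generalize Function.surjInv S.surj x = a, hy : Function.surjInv S.surj y = b
      have hz := Subgroup.mem_center_iff.1 (S.central (hker b)) a
      rw [show ⁅d, a * b⁆ = ⁅d, a⁆ * (a * ⁅d, b⁆ * a⁻¹) by simp only [commutatorElement_def]; group, hz,
        mul_inv_cancel_right])
  have hK : commutator G ≤ f.ker := by
    rw [commutator_def, Subgroup.commutator_le]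
    intro a _ b _
    rw [MonoidHom.mem_ker, map_commutatorElement, commutatorElement_eq_one_iff_mul_comm]
    exact Subtype.ext (Subgroup.mem_center_iff.1 (f b).2 (f a))
  rw [hG.perfect] at hK
  rw [Subgroup.mem_center_iff]
  intro x
  have h3 : f (S.π x) = 1 := MonoidHom.mem_ker.1 (hK (Subgroup.mem_top _))
  have h4 : ⁅d, Function.surjInv S.surj (S.π x)⁆ = 1 := congrArg Subtype.val h3
  rw [comm_congr S (rfl : S.π d = S.π d) (b' := x) (Function.surjInv_eq S.surj _),
    commutatorElement_eq_one_iff_mul_comm] at h4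
  exact h4.symm

theorem conj_eq_of_scales {g g' : E} {m : ℕ → K} (h : Scales S g m) (h' : Scales S g' m) (x : E) :
    g * x * g⁻¹ = g' * x * g'⁻¹ := by
  obtain ⟨d, hd⟩ : ∃ d, d = S.π (g'⁻¹ * g) := ⟨_, rfl⟩
  have hmem : ∀ r t, S.R.xe r t ∈ Subgroup.centralizer {d} := by
    intro r t
    rw [Subgroup.mem_centralizer_singleton_iff]
    by_cases hr : r < D.nroots
    swap
    · rw [hG.oob r t hr, one_mul, mul_one]
    have h1 := h r hr t _ (π_lf S r t)
    have h2 := h' r hr t _ (π_lf S r t)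
    rw [map_mul, map_mul, map_inv, π_lf, ← h2, map_mul, map_mul, map_inv, π_lf, mul_inv_eq_iff_eq_mul] at h1
    rw [hd, map_mul, map_inv, mul_assoc ((S.π g')⁻¹), h1]
    group
  have hc : d ∈ Subgroup.center G := by
    rw [Subgroup.mem_center_iff]
    intro y
    have hy : y ∈ Subgroup.centralizer {d} :=
      hG.gen.ge.trans ((Subgroup.closure_le _).2 (by rintro _ ⟨r, t, rfl⟩; exact hmem r t)) (Subgroup.mem_top y)
    exact Subgroup.mem_centralizer_singleton_iff.1 hy
  have hcE : g'⁻¹ * g ∈ Subgroup.center E := mem_center_of_map hG (hd ▸ hc)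
  have := Subgroup.mem_center_iff.1 hcE x
  calc g * x * g⁻¹ = g' * ((g'⁻¹ * g) * x) * g⁻¹ := by group
    _ = g' * (x * (g'⁻¹ * g)) * g⁻¹ := by rw [this]
    _ = g' * x * g'⁻¹ := by group

end Good

theorem Scales.mul {g g' : E} {m m' : ℕ → K} (h : Scales S g m) (h' : Scales S g' m') :
    Scales S (g * g') (fun r => m r * m' r) := by
  intro r hr t a ha
  rw [show g * g' * a * (g * g')⁻¹ = g * (g' * a * g'⁻¹) * g⁻¹ by group, h r hr _ _ (h' r hr t a ha), mul_assoc]

theorem scales_one : Scales S (1 : E) (fun _ => 1) := fun r _ t a ha => by simpa using ha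

/-- the exponent with which the torus element of `e` scales root `r` -/
def expo (D : ChevalleyDatum) (e : List ℤ) (r : ℕ) : ℤ :=
  ((List.range D.rank).map fun j => e.getD j 0 * D.cartan j r).sum

/-- torus elements lift -/
theorem exists_scales (e : List ℤ) {c : K} (hc : c ≠ 0) : ∃ g, Scales S g (fun r => c ^ expo D e r) := by
  suffices h : ∀ n ≤ D.rank, ∃ g, Scales S g
      (fun r => c ^ ((List.range n).map fun j => e.getD j 0 * D.cartan j r).sum) from h D.rank le_rfl
  intro n hn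
  induction n with
  | zero => exact ⟨1, by simpa using scales_one S⟩
  | succ n ih =>
    obtain ⟨g, hg⟩ := ih (by omega)
    obtain ⟨h, hh⟩ := S.surj (heOf D S.R.xe (D.simple n) (c ^ e.getD n 0))
    have hs : Scales S h (fun r => c ^ (e.getD n 0 * D.cartan n r)) := by
      intro r hr t a ha
      rw [map_mul, map_mul, map_inv, hh, ha, mul_inv_eq_iff_eq_mul,
        StCover.he_scale S.R S.hL ⟨n, by omega⟩ (zpow_ne_zero _ hc) hr, ← zpow_mul]
    refine ⟨g * h, ?_⟩
    convert Scales.mul S hg hs using 2 with r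
    rw [List.range_succ, List.map_append, List.sum_append, zpow_add₀ hc, List.map_singleton, List.sum_singleton]

/-! ### commutators of lifts of commuting root elements -/

theorem cm_mem_ker {r s : ℕ} (h : Comm2 S r s) (t u : K) : cm S r s t u ∈ S.π.ker := by
  rw [MonoidHom.mem_ker, π_cm, commutatorElement_eq_one_iff_commute]; exact h t u

theorem cm_add_right {r s : ℕ} (hs : s < D.nroots) (h : Comm2 S r s) (t u u' : K) :
    cm S r s t u * cm S r s t u' = cm S r s t (u + u') := by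
  rw [← cm_eq S (u := u + u') (π_lf S r t) (b := lf S s u * lf S s u') (by rw [map_mul, π_lf, π_lf, S.R.xe_add s _ _ hs])]
  have hz := Subgroup.mem_center_iff.1 (S.central (cm_mem_ker S h t u')) (lf S s u)
  rw [show ⁅lf S r t, lf S s u * lf S s u'⁆ = ⁅lf S r t, lf S s u⁆ * (lf S s u * ⁅lf S r t, lf S s u'⁆ * (lf S s u)⁻¹)
    by simp only [commutatorElement_def]; group]
  unfold cm at hz ⊢
  rw [hz, mul_inv_cancel_right]

theorem cm_scale {r s : ℕ} (hr : r < D.nroots) (hs : s < D.nroots) (h : Comm2 S r s) {g : E} {m : ℕ → K}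
    (hg : Scales S g m) (t u : K) : cm S r s (m r * t) (m s * u) = cm S r s t u := by
  have hz := Subgroup.mem_center_iff.1 (S.central (cm_mem_ker S h t u)) g
  rw [← cm_eq S (hg r hr t _ (π_lf S r t)) (hg s hs u _ (π_lf S s u))]
  rw [show ⁅g * lf S r t * g⁻¹, g * lf S s u * g⁻¹⁆ = g * ⁅lf S r t, lf S s u⁆ * g⁻¹ by
    simp only [commutatorElement_def]; group]
  unfold cm at hz ⊢
  rw [hz, mul_inv_cancel_right]

theorem cm_of_kill {r s : ℕ} (hr : r < D.nroots) (hs : s < D.nroots) (h : Comm2 S r s) (hk : Kill S r s)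
    (t u : K) : cm S r s t u = 1 :=
  hk (fun u => cm S r s t u) (cm_add_right S hs h t) (fun u => cm_mem_ker S h t u)
    (fun g m hg h1 u => by simpa [h1] using cm_scale S hr hs h hg t u) u

theorem cm_of_kill' {r s : ℕ} (hr : r < D.nroots) (hs : s < D.nroots) (h : Comm2 S r s) (hk : Kill S s r)
    (t u : K) : cm S r s t u = 1 := by
  rw [← cm_inv, cm_of_kill S hs hr (fun a b => (h b a).symm) hk, inv_one]

theorem lifts_commute {r s : ℕ} (h : ∀ t u, cm S r s t u = 1) {a b : E} {t u : K} (ha : S.π a = S.R.xe r t)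
    (hb : S.π b = S.R.xe s u) : Commute a b :=
  commutatorElement_eq_one_iff_mul_comm.1 ((cm_eq S ha hb).trans (h t u))

theorem comm2_self {r : ℕ} (hr : r < D.nroots) : Comm2 S r r :=
  fun t u => xe_commute S hr hr (S.R.cert.neg_ne hr).symm (Or.inl rfl) t u

/-- two multipliers summing to one -/
theorem cm_self_of_scales {r : ℕ} (hr : r < D.nroots) {g g' : E} {m m' : ℕ → K} (hg : Scales S g m)
    (hg' : Scales S g' m') (h1 : m r + m' r = 1) (h2 : m r * m' r ≠ 1) (ha : m r ≠ 0) (hb : m' r ≠ 0) :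
    ∀ t u, cm S r r t u = 1 := by
  intro t u
  have hc := comm2_self S hr
  have e1 : ∀ x, cm S r r (m r * t) x = cm S r r t (x / m r) := fun x => by
    rw [← cm_scale S hr hr hc hg t (x / m r), mul_div_cancel₀ _ ha]
  have e2 : ∀ x, cm S r r (m' r * t) x = cm S r r t (x / m' r) := fun x => by
    rw [← cm_scale S hr hr hc hg' t (x / m' r), mul_div_cancel₀ _ hb]
  have hl : ∀ a b x, cm S r r a x * cm S r r b x = cm S r r (a + b) x := fun a b x => by
    rw [← cm_inv S r r x a, ← cm_inv S r r x b, ← mul_inv_rev, cm_add_right S hr hc, cm_inv, add_comm]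
  have key : ∀ x, cm S r r t x = cm S r r t (x / m r + x / m' r) := fun x => by
    rw [← cm_add_right S hr hc, ← e1, ← e2, hl, ← add_mul, h1, one_mul]
  obtain ⟨d, hd⟩ : ∃ d, d = 1 / m r + 1 / m' r - 1 := ⟨_, rfl⟩
  have hd0 : d ≠ 0 := by
    intro h0
    apply h2
    rw [hd, sub_eq_zero, div_add_div _ _ ha hb, div_eq_one_iff_eq (mul_ne_zero ha hb)] at h0
    rw [← h0]; linear_combination h1
  have h3 := key (u / d)
  have e : u / d / m r + u / d / m' r = u / d + u := by
    rw [show u / d / m r + u / d / m' r = u / d * (d + 1) by rw [hd]; ring, mul_add, mul_one,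
      div_mul_cancel₀ _ hd0, add_comm]
  rw [e,
    ← cm_add_right S hr hc] at h3
  exact mul_eq_left.1 h3.symm

/-- over a prime field -/
theorem cm_self_prime {r : ℕ} (hr : r < D.nroots) (hK : ∀ x : K, ∃ n : ℕ, x = n) (t u : K) : cm S r r t u = 1 := by
  have hc := comm2_self S hr
  have h1 : ∀ a b : K, cm S r r a b = 1 → ∀ n : ℕ, cm S r r a ((n : K) * b) = 1 := fun a b h n => by
    rw [add_map_nsmul (cm_add_right S hr hc a), h, one_pow]
  have h11 : cm S r r (1 : K) 1 = 1 := commutatorElement_self _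
  obtain ⟨n, rfl⟩ := hK u
  obtain ⟨k, rfl⟩ := hK t
  have h := h1 1 1 h11 k
  rw [mul_one] at h
  have h' : cm S r r (k : K) 1 = 1 := by rw [← cm_inv, h, inv_one]
  simpa using h1 _ _ h' n

/-- a decomposition `s = [a, b]` with `r` commuting with both -/
theorem cm_of_decomp {r s a b : ℕ} (ha : a < D.nroots) (hb : b < D.nroots) (h1 : b ≠ a) (h2 : b ≠ D.neg a)
    (hra : Comm2 S r a) (hrb : Comm2 S r b) {C : ℤ} (hC : (C : K) ≠ 0) (h : D.commTerms a b = [(s, C, 1, 1)])
    (t u : K) : cm S r s t u = 1 := by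
  have hZ : ∀ t v, S.π ⁅lf S b (-v), lf S a (-t)⁆ = S.R.xe s ((C : K) * (-t) * v) := by
    intro t v
    have := S.R.xe_comm a b t v ha hb h1 h2
    rw [ChevalleyDatum.commWord, h] at this
    simp only [List.map_cons, List.map_nil, List.prod_cons, List.prod_nil, mul_one, pow_one] at this
    rw [map_commutatorElement, π_lf, π_lf, S.R.xe_neg ⟨b, hb⟩, S.R.xe_neg ⟨a, ha⟩, commutatorElement_def,
      inv_inv, inv_inv, mul_assoc, this]
    group
  obtain ⟨Y, hY⟩ : ∃ Y, Y = lf S r t := ⟨_, rfl⟩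
  have hu : S.π ⁅lf S b (-(u / (C : K))), lf S a (-(-1))⁆ = S.R.xe s u := by
    rw [hZ, neg_neg, mul_one, mul_div_cancel₀ _ hC]
  rw [← cm_eq S (π_lf S r t) hu, ← hY, commutatorElement_eq_one_iff_mul_comm]
  have fix : ∀ {x : ℕ} {v : K}, Commute (S.R.xe r t) (S.R.xe x v) →
      S.π (Y * lf S x v * Y⁻¹) = S.π (lf S x v) := fun {x v} h => by
    rw [map_mul, map_mul, map_inv, hY, π_lf, π_lf, h.eq, mul_inv_cancel_right]
  obtain ⟨B', hB⟩ : ∃ B', B' = lf S b (-(u / (C : K))) := ⟨_, rfl⟩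
  obtain ⟨A', hA⟩ : ∃ A', A' = lf S a (-(-1)) := ⟨_, rfl⟩
  rw [← hB, ← hA]
  have e : Y * ⁅B', A'⁆ * Y⁻¹ = ⁅B', A'⁆ := by
    rw [show Y * ⁅B', A'⁆ * Y⁻¹ = ⁅Y * B' * Y⁻¹, Y * A' * Y⁻¹⁆ by simp only [commutatorElement_def]; group]
    refine comm_congr S ?_ ?_
    · rw [hB]; exact fix (hrb t _)
    · rw [hA]; exact fix (hra t _)
  exact mul_inv_eq_iff_eq_mul.1 e

/-! ### sections at one root -/

/-- a lift commuting with the torus action -/
structure IsSect (r : ℕ) (φ : K → E) : Prop where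
  lift : ∀ t, S.π (φ t) = S.R.xe r t
  add : ∀ t u, φ t * φ u = φ (t + u)
  equiv : ∀ g m, Scales S g m → ∀ t, g * φ t * g⁻¹ = φ (m r * t)

variable {S} in
theorem exists_sect_torus (hG : Good S) {r : ℕ} (hr : r < D.nroots) (hrr : ∀ t u, cm S r r t u = 1) {h : E}
    {m0 : ℕ → K} (h0 : Scales S h m0) (hm : m0 r ≠ 1) : ∃ φ, IsSect S r φ := by
  obtain ⟨d, hd⟩ : ∃ d, d = m0 r - 1 := ⟨_, rfl⟩
  have hd0 : d ≠ 0 := hd ▸ sub_ne_zero.2 hm
  have key : ∀ a t, S.π a = S.R.xe r t → ⁅h, a⁆ = ⁅h, lf S r t⁆ := fun a t ha =>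
    comm_congr S rfl (ha.trans (π_lf S r t).symm)
  have hπ : ∀ t, S.π ⁅h, lf S r t⁆ = S.R.xe r (d * t) := fun t => by
    rw [commutatorElement_def, map_mul, h0 r hr t _ (π_lf S r t), map_inv, π_lf, ← S.R.xe_neg ⟨r, hr⟩,
      S.R.xe_add r _ _ hr, hd]
    congr 1; ring
  refine ⟨fun t => ⁅h, lf S r (t / d)⁆, fun t => by rw [hπ, mul_div_cancel₀ _ hd0], fun t u => ?_,
    fun g m hg t => ?_⟩
  · rw [add_div, ← key (lf S r (t / d) * lf S r (u / d)) (t / d + u / d) (by rw [map_mul, π_lf, π_lf, S.R.xe_add r _ _ hr])]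
    have hc := lifts_commute S hrr (π_lf S r (t / d)) (hπ (u / d))
    rw [show ⁅h, lf S r (t / d) * lf S r (u / d)⁆ =
      ⁅h, lf S r (t / d)⁆ * (lf S r (t / d) * ⁅h, lf S r (u / d)⁆ * (lf S r (t / d))⁻¹) by
      simp only [commutatorElement_def]; group, hc.eq, mul_inv_cancel_right]
  · obtain ⟨y, hy⟩ : ∃ y, y = lf S r (t / d) := ⟨_, rfl⟩
    have e1 : ∀ x, g * h * x * (g * h)⁻¹ = h * g * x * (h * g)⁻¹ := by
      intro x
      refine conj_eq_of_scales hG (Scales.mul S hg h0) (m := fun i => m i * m0 i) ?_ x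
      convert Scales.mul S h0 hg using 2 with i
      ring
    rw [← hy]
    show _ = ⁅h, lf S r (m r * t / d)⁆
    rw [← key (g * y * g⁻¹) (m r * t / d) (by rw [hg r hr _ _ (hy ▸ π_lf S r (t / d)), mul_div_assoc]),
      commutatorElement_def, commutatorElement_def,
      show g * (h * y * h⁻¹ * y⁻¹) * g⁻¹ = g * h * y * (g * h)⁻¹ * (g * y⁻¹ * g⁻¹) by group, e1]
    group

theorem exists_sect_decomp (hA : NoTors S) {r a b : ℕ} (ha : a < D.nroots) (hb : b < D.nroots) (h1 : b ≠ a)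
    (h2 : b ≠ D.neg a) {C : ℤ} (hC : (C : K) ≠ 0) (h : D.commTerms a b = [(r, C, 1, 1)]) (hr : r < D.nroots)
    (hrb : Comm2 S b r) : ∃ φ, IsSect S r φ := by
  have hcm := cm_of_kill S hb hr hrb (kill_noTors S hA b r)
  obtain ⟨A', hA'⟩ : ∃ A', A' = lf S a (-(-1)) := ⟨_, rfl⟩
  obtain ⟨φ, hφ⟩ : ∃ φ : K → E, φ = fun v => ⁅lf S b (-(v / (C : K))), A'⁆ := ⟨_, rfl⟩
  have hπ : ∀ v, S.π (φ v) = S.R.xe r v := by
    intro v
    have := S.R.xe_comm a b (-1) (v / (C : K)) ha hb h1 h2
    rw [ChevalleyDatum.commWord, h] at this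
    simp only [List.map_cons, List.map_nil, List.prod_cons, List.prod_nil, mul_one, pow_one, neg_neg] at this
    rw [mul_div_cancel₀ _ hC] at this
    rw [hφ, hA', map_commutatorElement, π_lf, π_lf, S.R.xe_neg ⟨b, hb⟩, neg_neg,
      show S.R.xe a 1 = (S.R.xe a (-1))⁻¹ by rw [← S.R.xe_neg ⟨a, ha⟩, neg_neg], commutatorElement_def,
      inv_inv, inv_inv, mul_assoc, this]
    group
  have hadd : ∀ v w, φ v * φ w = φ (v + w) := by
    intro v w
    have hB : S.π (lf S b (-(w / (C : K))) * lf S b (-(v / (C : K)))) = S.π (lf S b (-((v + w) / (C : K)))) := by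
      rw [map_mul, π_lf, π_lf, π_lf, S.R.xe_add b _ _ hb]; congr 1; ring
    rw [hφ]
    show _ = ⁅lf S b (-((v + w) / (C : K))), A'⁆
    rw [← comm_congr S hB (rfl : S.π A' = S.π A')]
    have e : ∀ x y z : E, ⁅x * y, z⁆ = x * ⁅y, z⁆ * x⁻¹ * ⁅x, z⁆ := fun x y z => by
      simp only [commutatorElement_def]; group
    have hv := hπ v
    rw [hφ] at hv
    have hc := lifts_commute S hcm (π_lf S b (-(w / (C : K)))) hv
    rw [e, hc.eq, mul_inv_cancel_right]
  refine ⟨φ, hπ, hadd, fun g m hg t => ?_⟩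
  obtain ⟨δ, hδ⟩ : ∃ δ : K → E, δ = fun t => g * φ t * g⁻¹ * (φ (m r * t))⁻¹ := ⟨_, rfl⟩
  have hk : ∀ t, δ t ∈ S.π.ker := fun t => by
    rw [hδ, MonoidHom.mem_ker, map_mul, hg r hr t _ (hπ t), map_inv, hπ, mul_inv_cancel]
  have hδadd : ∀ t u, δ t * δ u = δ (t + u) := by
    intro t u
    have hz := Subgroup.mem_center_iff.1 (S.central (hk t))
    have e : g * φ (t + u) * g⁻¹ = δ t * δ u * φ (m r * (t + u)) := by
      have et : ∀ t, g * φ t * g⁻¹ = δ t * φ (m r * t) := fun t => by rw [hδ]; simp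
      rw [← hadd t u, show g * (φ t * φ u) * g⁻¹ = (g * φ t * g⁻¹) * (g * φ u * g⁻¹) by group, et, et,
        mul_add, ← hadd (m r * t) (m r * u)]
      have hz' := Subgroup.mem_center_iff.1 (S.central (hk u)) (φ (m r * t))
      rw [mul_assoc (δ t), ← mul_assoc (φ (m r * t)), hz']
      group
    rw [hδ] at e ⊢
    rw [eq_mul_inv_iff_mul_eq]
    exact e.symm
  obtain ⟨p, hp, hA⟩ := hA
  have h1 : δ t = 1 := hA _ (hk t) (by rw [← add_map_nsmul hδadd, hp, zero_mul, add_map_zero hδadd])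
  rwa [hδ, mul_inv_eq_one] at h1

end CfsgLib.Known.Univ
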