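import Cfsg.Agent.Lib.Lie.Rel.WeylData
import Cfsg.Agent.Lib.Lie.Rel.Poincare

/-!
# The centre of the exceptional Weyl groups and generation by the Coxeter element and reflections
-/

set_option autoImplicit false

namespace CfsgLib.Known.WeylCoxElt

open Cfsg.Lie (ChevalleyDatum)
open CfsgLib.Lie.Chev
open CfsgLib.Lie.Exchange

/-- only `±p_i` are negated by the reflection in `p_i` -/
def chkFix (D : ChevalleyDatum) (X : Aux) : Bool :=
  (List.range D.rank).all fun i => (List.range D.nroots).all fun r =>
    Nat.beq r (D.simple i) || Nat.beq r (D.neg (D.simple i)) || !Nat.beq (X.w i r) (D.neg r)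

/-- vanishing of Cartan integers is symmetric -/
def chkSymm (D : ChevalleyDatum) : Bool :=
  (List.range D.rank).all fun i => (List.range D.rank).all fun j =>
    !decide (D.cartan j (D.simple i) = 0) || decide (D.cartan i (D.simple j) = 0)

/-- the `m`th power of the word negates every root -/
def chkNeg (D : ChevalleyDatum) (X : Aux) (w : List ℕ) (m : ℕ) : Bool :=
  (List.range D.nroots).all fun s => Nat.beq (wordPow X w m s) (D.neg s)

/-- the word maps positive roots to negative ones without negating all simple roots -/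
def chkNoNeg (D : ChevalleyDatum) (X : Aux) (w : List ℕ) : Bool :=
  (List.range D.nroots).all (fun s => Nat.blt s (half D) || Nat.blt (wordAct X w s) (half D)) &&
    (List.range D.rank).any fun i => !Nat.beq (wordAct X w (D.simple i)) (D.neg (D.simple i))

/-- expansion of a word in found generators and the Coxeter element (letter `n`) -/
def expand (n : ℕ) (w : List ℕ) : List ℕ := w.flatMap fun x => if Nat.beq x n then List.range n else [x]

/-- successive conjugation steps `(j, word, i)`, after which at most node `last` is missing -/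
def chkGen (D : ChevalleyDatum) (X : Aux) : List ℕ → List (ℕ × List ℕ × ℕ) → ℕ → Bool
  | found, [], last => (List.range D.rank).all fun j => Nat.beq j last || found.any (Nat.beq j)
  | found, (j, w, i) :: rest, last =>
      Nat.blt j D.rank && (found.all (fun k => Nat.blt k D.rank) && found.any (Nat.beq i)) &&
        w.all (fun x => Nat.beq x D.rank || found.any (Nat.beq x)) &&
        Nat.beq (wordAct X (expand D.rank w) (D.simple i)) (D.simple j) && chkGen D X (j :: found) rest last

variable {D : ChevalleyDatum} {X : Aux} {F : Type*} [Field F] {G : Type*} [Group G] (R : Rel D X F G)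

theorem qact_coef (w : R.WQ) (r : Fin D.nroots) : ∀ j, j < D.rank →
    X.coef j (R.qact w r : ℕ) = ∑ m : Fin D.rank, X.coef m (r : ℕ) * X.coef j (R.qact w (R.sroot m) : ℕ) := by
  obtain ⟨g, rfl⟩ := R.qmk_surjective w
  obtain ⟨l, hl⟩ := R.exists_word g
  rw [hl]
  clear hl
  induction l with
  | nil =>
    intro j hj
    simp only [wprod_nil, map_one, Equiv.Perm.one_apply]
    rw [Finset.sum_eq_single (⟨j, hj⟩ : Fin D.rank)]
    · show _ = X.coef j r * X.coef j (D.simple j)
      rw [R.cert.coef_simple hj hj, if_pos rfl, mul_one]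
    · intro m _ hm
      show _ * X.coef j (D.simple m) = 0
      rw [R.cert.coef_simple m.2 hj, if_neg (fun e => hm (Fin.ext e.symm)), mul_zero]
    · simp
  | cons i l ih =>
    intro j hj
    have hc : ∀ s : Fin D.nroots, X.coef j (R.qact (wprod R.qgen (i :: l)) s : ℕ) =
        if j = i then X.coef j (R.qact (wprod R.qgen l) s : ℕ) - D.cartan i (R.qact (wprod R.qgen l) s : ℕ)
        else X.coef j (R.qact (wprod R.qgen l) s : ℕ) := fun s => by
      simp only [wprod_cons, map_mul, Equiv.Perm.mul_apply, R.qact_qgen, Rel.wperm_apply]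
      exact R.cert.coef_w i.2 (R.qact (wprod R.qgen l) s).2 hj
    simp only [hc]
    split_ifs with hji
    · simp only [mul_sub]
      rw [Finset.sum_sub_distrib, ← ih j hj, sub_right_inj, R.cert.cartan_eq (R.qact _ r).2 i.2,
        Finset.sum_congr rfl fun m hm => by rw [ih m (Finset.mem_range.1 hm), Finset.sum_mul],
        Finset.sum_comm]
      refine Finset.sum_congr rfl fun m _ => ?_
      rw [R.cert.cartan_eq (R.qact _ (R.sroot m)).2 i.2, Finset.mul_sum]
      exact Finset.sum_congr rfl fun x _ => by ring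
    · exact ih j hj

theorem eq_of_simple_image {a b : R.WQ} (hb : ∀ w : R.WQ, Commute a w ∧ Commute b w)
    (h : ∀ i, R.qact a (R.sroot i) = R.qact b (R.sroot i)) : a = b := by
  refine R.qact_injective (Equiv.ext fun r => ?_)
  obtain ⟨g, hg, i, hi⟩ := R.exists_conj_simple r
  have hr : R.qact (R.qmk ⟨(g : G), R.Nw_le_NS hg⟩) (R.sroot i) = r := by rw [R.qact_qmk]; exact hi
  rw [← hr, ← Equiv.Perm.mul_apply, ← Equiv.Perm.mul_apply, ← map_mul, ← map_mul, (hb _).1.eq, (hb _).2.eq, map_mul,
    map_mul, Equiv.Perm.mul_apply, Equiv.Perm.mul_apply, h]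

theorem eq_one_or_neg (hf : chkFix D X = true) (hs : chkSymm D = true) (hc : Rel.Connected D) {z : R.WQ} (hz : z ∈ Subgroup.center R.WQ) :
    z = 1 ∨ ∀ i, R.qact z (R.sroot i) = R.negF (R.sroot i) := by
  simp only [chkFix, List.all_eq_true, List.mem_range, Bool.or_eq_true, nat_beq_iff, Bool.not_eq_true'] at hf
  have hz' := Subgroup.mem_center_iff.1 hz
  have hsign : ∀ i, R.qact z (R.sroot i) = R.sroot i ∨ R.qact z (R.sroot i) = R.negF (R.sroot i) := by
    intro i
    have h : R.wperm i (R.qact z (R.sroot i)) = R.negF (R.qact z (R.sroot i)) := by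
      rw [← R.qact_qgen, ← Equiv.Perm.mul_apply, ← map_mul, hz', map_mul, Equiv.Perm.mul_apply, R.qact_qgen,
        R.wperm_sroot]
      obtain ⟨g, rfl⟩ := R.qmk_surjective z
      exact R.nsPerm_negF g _
    rcases hf i i.2 _ (R.qact z (R.sroot i)).2 with (h1 | h1) | h1
    · exact Or.inl (Fin.ext h1)
    · exact Or.inr (Fin.ext h1)
    · have h2 : X.w i (R.qact z (R.sroot i) : ℕ) = D.neg (R.qact z (R.sroot i) : ℕ) := congrArg Fin.val h
      rw [h2, Nat.beq_refl] at h1
      exact absurd h1 (by simp)
  have adj : ∀ i j : Fin D.rank, D.cartan j (D.simple i) ≠ 0 → R.qact z (R.sroot i) = R.sroot i →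
      R.qact z (R.sroot j) = R.sroot j := by
    intro i j hne hi
    rcases hsign j with h | h
    · exact h
    exfalso
    by_cases hij : i = j
    · subst hij; exact R.negF_ne _ (h.symm.trans hi)
    have hfix : R.qact z (R.wperm j (R.sroot i)) = R.wperm j (R.sroot i) := by
      rw [← R.qact_qgen, ← Equiv.Perm.mul_apply, ← map_mul, ← hz', map_mul, Equiv.Perm.mul_apply, hi]
    have h1 := qact_coef R z (R.wperm j (R.sroot i)) j j.2
    rw [hfix, Finset.sum_eq_single j] at h1
    · rw [h] at h1
      change X.coef j (X.w j (D.simple i)) = X.coef j (X.w j (D.simple i)) * X.coef j (D.neg (D.simple j)) at h1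
      rw [R.cert.coef_neg (R.cert.simple_lt j.2) j.2, R.cert.coef_simple j.2 j.2, if_pos rfl,
        R.cert.coef_w j.2 (R.cert.simple_lt i.2) j.2, if_pos rfl, R.cert.coef_simple i.2 j.2,
        if_neg (fun e => hij (Fin.ext e.symm))] at h1
      omega
    · intro m _ hm
      rcases hsign m with h2 | h2 <;> rw [h2]
      · show _ * X.coef j (D.simple m) = 0
        rw [R.cert.coef_simple m.2 j.2, if_neg (fun e => hm (Fin.ext e.symm)), mul_zero]
      · show _ * X.coef j (D.neg (D.simple m)) = 0
        rw [R.cert.coef_neg (R.cert.simple_lt m.2) j.2, R.cert.coef_simple m.2 j.2,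
          if_neg (fun e => hm (Fin.ext e.symm)), neg_zero, mul_zero]
    · simp
  have h0 := R.cert.rank_pos
  by_cases hall : ∀ i, R.qact z (R.sroot i) = R.sroot i
  · exact Or.inl (eq_of_simple_image R (fun w => ⟨(hz' w).symm, Commute.one_left _⟩) fun i => by
      rw [hall, map_one, Equiv.Perm.one_apply])
  refine Or.inr fun j => (hsign j).resolve_left fun hj => hall fun i => ?_
  have symm : ∀ a b : Fin D.rank, D.cartan a (D.simple b) ≠ 0 → D.cartan b (D.simple a) ≠ 0 := by
    intro a b hab h0
    simp only [chkSymm, List.all_eq_true, List.mem_range, Bool.or_eq_true, Bool.not_eq_true',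
      decide_eq_false_iff_not, decide_eq_true_iff] at hs
    exact hab ((hs a a.2 b b.2).resolve_left (fun h => h h0))
  have hP := hc (fun k => ∀ hk : k < D.rank, R.qact z (R.sroot ⟨k, hk⟩) = R.sroot ⟨k, hk⟩)
    (fun a ha b hb hab => ⟨fun h _ => adj ⟨a, ha⟩ ⟨b, hb⟩ (symm ⟨a, ha⟩ ⟨b, hb⟩ hab) (h ha),
      fun h _ => adj ⟨b, hb⟩ ⟨a, ha⟩ hab (h hb)⟩)
  exact (hP i i.2).2 ((hP j j.2).1 fun _ => hj) i.2

variable (C : Cert D X) (M : CoxeterMatrix (Fin D.rank))
include C

theorem coxeter_iso (hM : chkCox D X M.M = true) :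
    ∃ e : (chevRel C ℚ).WQ ≃* M.Group, ∀ i, e ((chevRel C ℚ).qgen i) = M.simple i := by
  obtain ⟨cs, hcs⟩ := (chevRel C ℚ).exists_coxeterSystem M hM
  exact ⟨cs.mulEquiv, fun i => by rw [← hcs i]; exact cs.mulEquiv.apply_symm_apply _⟩

theorem map_wprod {e : (chevRel C ℚ).WQ ≃* M.Group} (he : ∀ i, e ((chevRel C ℚ).qgen i) = M.simple i)
    (l : List (Fin D.rank)) : e (wprod (chevRel C ℚ).qgen l) = (l.map M.simple).prod := by
  rw [wprod, map_list_prod, List.map_map]
  exact congrArg List.prod (List.map_congr_left fun i _ => he i)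

theorem center_neg (hf : chkFix D X = true) (hs : chkSymm D = true) (hc : Rel.Connected D) (hM : chkCox D X M.M = true) {m : ℕ}
    (hm : chkNeg D X ((List.finRange D.rank).map fun i : Fin D.rank => (i : ℕ)) m = true) :
    Nat.card (Subgroup.center M.Group) = 2 ∧
      Subgroup.center M.Group ≤ Subgroup.zpowers ((List.finRange D.rank).map M.simple).prod := by
  obtain ⟨e, he⟩ := coxeter_iso C M hM
  obtain ⟨R, hR⟩ : ∃ R, R = chevRel C ℚ := ⟨_, rfl⟩
  subst hR
  simp only [chkNeg, List.all_eq_true, List.mem_range, nat_beq_iff] at hm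
  obtain ⟨z0, hz0⟩ : ∃ z0, z0 = wprod (chevRel C ℚ).qgen (List.finRange D.rank) ^ m := ⟨_, rfl⟩
  have hact : ∀ r, (chevRel C ℚ).qact z0 r = (chevRel C ℚ).negF r := fun r => Fin.ext (by
    rw [hz0, (chevRel C ℚ).qact_pow_apply]; exact hm r r.2)
  have hcent : z0 ∈ Subgroup.center (chevRel C ℚ).WQ := by
    rw [Subgroup.mem_center_iff]
    intro w
    refine (chevRel C ℚ).qact_injective (Equiv.ext fun r => ?_)
    simp only [map_mul, Equiv.Perm.mul_apply, hact]
    obtain ⟨g, rfl⟩ := (chevRel C ℚ).qmk_surjective w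
    exact (chevRel C ℚ).nsPerm_negF g r
  have hne : z0 ≠ 1 := fun h => (chevRel C ℚ).negF_ne ((chevRel C ℚ).sroot ⟨0, C.rank_pos⟩) (by
    rw [← hact, h, map_one, Equiv.Perm.one_apply])
  have hz := fun z (hz : z ∈ Subgroup.center (chevRel C ℚ).WQ) =>
    (eq_one_or_neg (chevRel C ℚ) hf hs hc hz).imp_right fun h => eq_of_simple_image (chevRel C ℚ)
      (fun w => ⟨(Subgroup.mem_center_iff.1 hz w).symm, (Subgroup.mem_center_iff.1 hcent w).symm⟩)
      (fun i => (h i).trans (hact _).symm)
  have hset : ∀ x : M.Group, x ∈ Subgroup.center M.Group ↔ x = 1 ∨ x = e z0 := by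
    intro x
    constructor
    · intro hx
      have : e.symm x ∈ Subgroup.center (chevRel C ℚ).WQ := by
        rw [Subgroup.mem_center_iff] at hx ⊢
        intro w
        have := congrArg e.symm (hx (e w))
        simpa using this
      rcases hz _ this with h | h
      · exact Or.inl (by simpa using congrArg e h)
      · exact Or.inr (by simpa using congrArg e h)
    · rintro (rfl | rfl)
      · exact one_mem _
      · rw [Subgroup.mem_center_iff]
        intro y
        rw [← e.apply_symm_apply y, ← map_mul, ← map_mul, Subgroup.mem_center_iff.1 hcent]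
  refine ⟨?_, fun x hx => ?_⟩
  · have h2 : (Subgroup.center M.Group : Set M.Group) = {1, e z0} := Set.ext fun x => by
      simpa using hset x
    rw [show Nat.card (Subgroup.center M.Group) = Nat.card ({1, e z0} : Set M.Group) from
      Nat.card_congr (Equiv.setCongr h2), Nat.card_coe_set_eq, Set.ncard_pair]
    exact fun h => hne (e.injective (by rw [← h, map_one]))
  · rcases (hset x).1 hx with rfl | rfl
    · exact one_mem _
    · rw [hz0, map_pow, map_wprod C M he]
      exact pow_mem (Subgroup.mem_zpowers _) _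

theorem center_trivial (hf : chkFix D X = true) (hs : chkSymm D = true) (hc : Rel.Connected D) (hM : chkCox D X M.M = true)
    {w : List (Fin D.rank)} (hw : chkNoNeg D X (w.map fun i : Fin D.rank => (i : ℕ)) = true) :
    Nat.card (Subgroup.center M.Group) = 1 ∧
      Subgroup.center M.Group ≤ Subgroup.zpowers ((List.finRange D.rank).map M.simple).prod := by
  obtain ⟨e, -⟩ := coxeter_iso C M hM
  obtain ⟨R, hR⟩ : ∃ R, R = chevRel C ℚ := ⟨_, rfl⟩
  simp only [chkNoNeg, Bool.and_eq_true, List.all_eq_true, List.any_eq_true, List.mem_range, Bool.or_eq_true,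
    nat_blt_iff, Bool.not_eq_true'] at hw
  obtain ⟨hw1, i, hi, hw2⟩ := hw
  rw [← hR] at e
  have hbot : Subgroup.center R.WQ = ⊥ := by
    rw [eq_bot_iff]
    intro z hz
    rcases eq_one_or_neg R hf hs hc hz with h | h
    · exact Subgroup.mem_bot.2 h
    exfalso
    have h1 : wprod R.qgen w * z = 1 := by
      by_contra hne
      obtain ⟨k, hk⟩ := R.exists_descent hne
      rw [map_mul, Equiv.Perm.mul_apply, h] at hk
      obtain ⟨g, hg⟩ := R.qmk_surjective (wprod R.qgen w)
      rw [← hg, R.qact_qmk, R.nsPerm_negF, R.negF_pos_iff, not_not, ← R.qact_qmk, hg, R.qact_wprod_apply] at hk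
      rcases hw1 _ (R.sroot k).2 with h2 | h2
      · exact absurd (R.sroot_pos k) h2.not_ge
      · exact absurd hk h2.not_ge
    have hinv := eq_inv_of_mul_eq_one_left h1
    have h3 : R.qact (wprod R.qgen w) (R.negF (R.sroot ⟨i, hi⟩)) = R.sroot ⟨i, hi⟩ := by
      rw [← h, ← Equiv.Perm.mul_apply, ← map_mul, h1, map_one, Equiv.Perm.one_apply]
    obtain ⟨g, hg⟩ := R.qmk_surjective (wprod R.qgen w)
    rw [← hg, R.qact_qmk, R.nsPerm_negF, ← R.qact_qmk, hg] at h3
    have h4 : R.qact (wprod R.qgen w) (R.sroot ⟨i, hi⟩) = R.negF (R.sroot ⟨i, hi⟩) := by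
      conv_rhs => rw [← h3, R.negF_negF]
    have h5 := R.qact_wprod_apply w (R.sroot ⟨i, hi⟩)
    rw [h4] at h5
    rw [show wordAct X (w.map fun i : Fin D.rank => (i : ℕ)) (D.simple i) = D.neg (D.simple i) from h5.symm,
      Nat.beq_refl] at hw2
    exact absurd hw2 (by simp)
  have hM' : Subgroup.center M.Group = ⊥ := by
    rw [eq_bot_iff]
    intro x hx
    have h1 : e.symm x ∈ Subgroup.center R.WQ := by
      rw [Subgroup.mem_center_iff] at hx ⊢
      intro y
      simpa using congrArg e.symm (hx (e y))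
    rw [hbot, Subgroup.mem_bot] at h1
    exact Subgroup.mem_bot.2 (by simpa using congrArg e h1)
  rw [hM']
  exact ⟨Subgroup.card_bot, bot_le⟩

theorem gen_spec {e : (chevRel C ℚ).WQ ≃* M.Group} (he : ∀ i, e ((chevRel C ℚ).qgen i) = M.simple i)
    {H : Subgroup M.Group} (hH : ((List.finRange D.rank).map M.simple).prod ∈ H) :
    ∀ (steps : List (ℕ × List ℕ × ℕ)) (found : List ℕ) (last : ℕ), chkGen D X found steps last = true →
      (∀ k ∈ found, ∀ hk : k < D.rank, M.simple ⟨k, hk⟩ ∈ H) → ∀ i, M.simple i ∈ H := by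
  intro steps
  induction steps with
  | nil =>
    intro found last h hf i
    simp only [chkGen, List.all_eq_true, List.mem_range, Bool.or_eq_true, List.any_eq_true, nat_beq_iff] at h
    have hothers : ∀ k : Fin D.rank, (k : ℕ) ≠ last → M.simple k ∈ H := fun k hk => by
      obtain ⟨x, hx, hx'⟩ := (h k k.2).resolve_left hk
      exact hf _ (hx' ▸ hx) k.2
    by_cases hi : (i : ℕ) = last
    · obtain ⟨l₁, l₂, hl⟩ := List.append_of_mem (List.mem_finRange i)
      have hnd := List.nodup_finRange D.rank
      rw [hl, List.nodup_append, List.nodup_cons] at hnd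
      have hmem : ∀ k, k ∈ l₁ ∨ k ∈ l₂ → M.simple k ∈ H := fun k hk => hothers k fun e' => by
        have : k = i := Fin.ext (e'.trans hi.symm)
        subst this
        rcases hk with hk | hk
        · exact hnd.2.2 _ hk _ (List.mem_cons_self) rfl
        · exact hnd.2.1.1 hk
      have h1 : (l₁.map M.simple).prod ∈ H := list_prod_mem fun x hx => by
        obtain ⟨k, hk, rfl⟩ := List.mem_map.1 hx; exact hmem k (Or.inl hk)
      have h2 : (l₂.map M.simple).prod ∈ H := list_prod_mem fun x hx => by
        obtain ⟨k, hk, rfl⟩ := List.mem_map.1 hx; exact hmem k (Or.inr hk)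
      rw [hl, List.map_append, List.map_cons, List.prod_append, List.prod_cons] at hH
      have := mul_mem (mul_mem (inv_mem h1) hH) (inv_mem h2)
      rwa [show ((l₁.map M.simple).prod)⁻¹ * ((l₁.map M.simple).prod * (M.simple i * (l₂.map M.simple).prod)) *
        ((l₂.map M.simple).prod)⁻¹ = M.simple i by group] at this
    · exact hothers i hi
  | cons a rest ih =>
    obtain ⟨j, w, i⟩ := a
    intro found last h hf
    simp only [chkGen, Bool.and_eq_true, nat_blt_iff, List.any_eq_true, nat_beq_iff, List.all_eq_true,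
      Bool.or_eq_true] at h
    obtain ⟨⟨⟨⟨hj, hfr, x, hx, hix⟩, hwl⟩, hact⟩, hrest⟩ := h
    subst hix
    refine ih _ _ hrest fun k hk hkr => ?_
    rcases List.mem_cons.1 hk with rfl | hk
    swap
    · exact hf k hk hkr
    have hir : i < D.rank := hfr i hx
    obtain ⟨g, hg, hgact⟩ : ∃ g : (chevRel C ℚ).WQ, e g ∈ H ∧
        ∀ s, ((chevRel C ℚ).qact g s : ℕ) = wordAct X (expand D.rank w) s := by
      clear hact
      induction w with
      | nil => exact ⟨1, by rw [map_one]; exact one_mem _, fun s => by rw [map_one]; rfl⟩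
      | cons y w ihw =>
        obtain ⟨g, hg, hgact⟩ := ihw fun z hz => hwl z (List.mem_cons_of_mem _ hz)
        have happ : ∀ (a b : List ℕ) (s : ℕ), wordAct X (a ++ b) s = wordAct X a (wordAct X b s) := by
          intro a b s
          induction a with
          | nil => rfl
          | cons c a iha => exact congrArg (X.w c) iha
        have hexp : expand D.rank (y :: w) =
            (if Nat.beq y D.rank then List.range D.rank else [y]) ++ expand D.rank w := by simp [expand]
        by_cases hy : y = D.rank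
        · refine ⟨wprod (chevRel C ℚ).qgen (List.finRange D.rank) * g, ?_, fun s => ?_⟩
          · rw [map_mul, map_wprod C M he]; exact mul_mem hH hg
          · rw [map_mul, Equiv.Perm.mul_apply, (chevRel C ℚ).qact_wprod_apply, hgact, hexp,
              if_pos (nat_beq_iff.2 hy), happ, List.map_coe_finRange_eq_range]
        · obtain ⟨z, hz, hyz⟩ := (hwl y List.mem_cons_self).resolve_left hy
          subst hyz
          have hyr : y < D.rank := hfr y hz
          refine ⟨(chevRel C ℚ).qgen ⟨y, hyr⟩ * g, ?_, fun s => ?_⟩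
          · rw [map_mul, he]; exact mul_mem (hf y hz hyr) hg
          · rw [map_mul, Equiv.Perm.mul_apply, (chevRel C ℚ).qact_qgen, Rel.wperm_apply, hgact, hexp,
              if_neg (fun h => hy (nat_beq_iff.1 h)), happ]
            rfl
    have h1 : (chevRel C ℚ).qact g ((chevRel C ℚ).sroot ⟨i, hir⟩) = (chevRel C ℚ).sroot ⟨k, hkr⟩ :=
      Fin.ext ((hgact _).trans hact)
    have h2 := (chevRel C ℚ).rootPerm.conj g ⟨i, hir⟩ ⟨k, hkr⟩ h1
    have h3 := congrArg e h2
    rw [map_mul, map_mul, map_inv, he, he] at h3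
    rw [← h3]
    exact mul_mem (mul_mem hg (hf i hx hir)) (inv_mem hg)

end CfsgLib.Known.WeylCoxElt
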